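import Mathlib
import Groth.Prelude.Def_AlgGrp

/-!
# Pointwise calculus for actions of group objects (helper9)
-/

set_option autoImplicit false

universe u

open CategoryTheory MonoidalCategory CartesianMonoidalCategory MonObj AlgebraicGeometry

namespace Groth.Agent.H9.AlgGrpAct

variable {S : Scheme.{u}} {G X : Over S} [GrpObj G] (a : AlgGrp.Action G X)

/-- `(g h) · x = g · (h · x)` on `T`-valued points -/
lemma lift_mul_act {T : Over S} (g h : T ⟶ G) (x : T ⟶ X) :
    lift (g * h) x ≫ a.act = lift g (lift h x ≫ a.act) ≫ a.act := by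
  have h1 : lift (g * h) x = lift (lift g h) x ≫ (μ[G] ▷ X) := by
    rw [lift_whiskerRight]
    rfl
  rw [h1, Category.assoc, a.mul_act, lift_lift_associator_hom_assoc, lift_whiskerLeft_assoc]

/-- `1 · x = x` on `T`-valued points -/
lemma lift_one_act {T : Over S} (x : T ⟶ X) :
    lift (1 : T ⟶ G) x ≫ a.act = x := by
  have h1 : lift (1 : T ⟶ G) x = lift (toUnit T) x ≫ (η[G] ▷ X) := by
    rw [lift_whiskerRight]
    rfl
  rw [h1, Category.assoc, a.one_act, lift_leftUnitor_hom]

/-- the shear map `(g, x) ↦ (g, g · x)` -/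
noncomputable def shear : G ⊗ X ⟶ G ⊗ X := lift (fst G X) a.act

/-- the map `(g, x) ↦ g⁻¹ · x` -/
noncomputable def actInv : G ⊗ X ⟶ X := lift (fst G X)⁻¹ (snd G X) ≫ a.act

/-- the inverse shear map `(g, x) ↦ (g, g⁻¹ · x)` -/
noncomputable def shearInv : G ⊗ X ⟶ G ⊗ X := lift (fst G X) (actInv a)

lemma shear_snd : shear a ≫ snd G X = a.act := lift_snd _ _

lemma shear_actInv : shear a ≫ actInv a = snd G X := by
  unfold shear actInv
  rw [comp_lift_assoc, GrpObj.comp_inv, lift_fst, lift_snd]
  have h1 : lift (fst G X)⁻¹ a.act ≫ a.act =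
      lift (fst G X)⁻¹ (lift (fst G X) (snd G X) ≫ a.act) ≫ a.act := by
    rw [lift_fst_snd, Category.id_comp]
  rw [h1, ← lift_mul_act, inv_mul_cancel, lift_one_act]

lemma shearInv_act : shearInv a ≫ a.act = snd G X := by
  unfold shearInv actInv
  rw [← lift_mul_act, mul_inv_cancel, lift_one_act]

lemma shearInv_snd : shearInv a ≫ snd G X = actInv a := lift_snd _ _

end Groth.Agent.H9.AlgGrpAct

namespace Groth.Agent.H9.AlgGrpAct

variable {S : Scheme.{u}}

/-- whiskering a morphism is its base change along the second projection -/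
lemma isPullback_whiskerLeft (M : Over S) {Z X : Over S} (z : Z ⟶ X) :
    IsPullback (M ◁ z).left (snd M Z).left (snd M X).left z.left := by
  have hw₁ : (M ◁ z).left ≫ (snd M X).left = (snd M Z).left ≫ z.left := by
    rw [← Over.comp_left, ← Over.comp_left, whiskerLeft_snd]
  have hright : IsPullback (fst M X).left (snd M X).left M.hom X.hom :=
    IsPullback.of_hasPullback M.hom X.hom
  have houter : IsPullback ((M ◁ z).left ≫ (fst M X).left) (snd M Z).left M.hom
      (z.left ≫ X.hom) := by
    have h1 : (M ◁ z).left ≫ (fst M X).left = (fst M Z).left := by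
      rw [← Over.comp_left, whiskerLeft_fst]
    rw [h1, Over.w z]
    exact IsPullback.of_hasPullback M.hom Z.hom
  exact IsPullback.of_right houter hw₁ hright

variable {G X : Over S} [GrpObj G] (a : AlgGrp.Action G X)

/-- the saturation `G · U` described through the inverse action -/
lemma image_act_preimage_snd (U : Set ↥X.left) :
    a.act.left.base '' ((snd G X).left.base ⁻¹' U) =
      (snd G X).left.base '' ((actInv a).left.base ⁻¹' U) := by
  have e1 : (shear a).left ≫ (snd G X).left = a.act.left := by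
    rw [← Over.comp_left, shear_snd]
  have e2 : (shear a).left ≫ (actInv a).left = (snd G X).left := by
    rw [← Over.comp_left, shear_actInv]
  have e3 : (shearInv a).left ≫ a.act.left = (snd G X).left := by
    rw [← Over.comp_left, shearInv_act]
  have e4 : (shearInv a).left ≫ (snd G X).left = (actInv a).left := by
    rw [← Over.comp_left, shearInv_snd]
  ext y
  constructor
  · rintro ⟨p, hp, rfl⟩
    refine ⟨(shear a).left.base p, ?_, ?_⟩
    · change (actInv a).left.base ((shear a).left.base p) ∈ U
      rw [← Scheme.Hom.comp_apply, e2]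
      exact hp
    · rw [← Scheme.Hom.comp_apply, e1]
  · rintro ⟨p, hp, rfl⟩
    refine ⟨(shearInv a).left.base p, ?_, ?_⟩
    · change (snd G X).left.base ((shearInv a).left.base p) ∈ U
      rw [← Scheme.Hom.comp_apply, e4]
      exact hp
    · rw [← Scheme.Hom.comp_apply, e3]

/-- `U ⊆ G · U` -/
lemma subset_image_act (U : Set ↥X.left) :
    U ⊆ a.act.left.base '' ((snd G X).left.base ⁻¹' U) := by
  intro x hx
  have e1 : (lift (1 : X ⟶ G) (𝟙 X)).left ≫ (snd G X).left = 𝟙 _ := by
    rw [← Over.comp_left, lift_snd]; rfl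
  have e2 : (lift (1 : X ⟶ G) (𝟙 X)).left ≫ a.act.left = 𝟙 _ := by
    rw [← Over.comp_left, lift_one_act]; rfl
  refine ⟨(lift (1 : X ⟶ G) (𝟙 X)).left.base x, ?_, ?_⟩
  · change (snd G X).left.base ((lift (1 : X ⟶ G) (𝟙 X)).left.base x) ∈ U
    rw [← Scheme.Hom.comp_apply, e1]
    exact hx
  · rw [← Scheme.Hom.comp_apply, e2]
    rfl

/-- `G · (G · U) ⊆ G · U` -/
lemma image_act_image_act_subset (U : Set ↥X.left) :
    a.act.left.base '' ((snd G X).left.base ⁻¹'
        (a.act.left.base '' ((snd G X).left.base ⁻¹' U))) ⊆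
      a.act.left.base '' ((snd G X).left.base ⁻¹' U) := by
  rintro _ ⟨p, ⟨q, hq, hqp⟩, rfl⟩
  obtain ⟨r, hr₁, hr₂⟩ := Scheme.exists_preimage_of_isPullback
    (isPullback_whiskerLeft G a.act) p q hqp.symm
  let m : G ⊗ (G ⊗ X) ⟶ G ⊗ X := (α_ G G X).inv ≫ (μ[G] ▷ X)
  have hm₁ : m ≫ a.act = (G ◁ a.act) ≫ a.act := by
    change ((α_ G G X).inv ≫ (μ[G] ▷ X)) ≫ a.act = _
    rw [Category.assoc, a.mul_act, Iso.inv_hom_id_assoc]
  have hm₂ : m ≫ snd G X = snd G (G ⊗ X) ≫ snd G X := by
    change ((α_ G G X).inv ≫ (μ[G] ▷ X)) ≫ snd G X = _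
    rw [Category.assoc, whiskerRight_snd, associator_inv_snd]
  have hm₁' : m.left ≫ a.act.left = (G ◁ a.act).left ≫ a.act.left := by
    rw [← Over.comp_left, ← Over.comp_left, hm₁]
  have hm₂' : m.left ≫ (snd G X).left = (snd G (G ⊗ X)).left ≫ (snd G X).left := by
    rw [← Over.comp_left, ← Over.comp_left, hm₂]
  refine ⟨m.left.base r, ?_, ?_⟩
  · change (snd G X).left.base (m.left.base r) ∈ U
    rw [← Scheme.Hom.comp_apply, hm₂', Scheme.Hom.comp_apply, hr₂]
    exact hq
  · rw [← Scheme.Hom.comp_apply, hm₁', Scheme.Hom.comp_apply, hr₁]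

end Groth.Agent.H9.AlgGrpAct

namespace Groth.Agent.H9.AlgGrpAct

variable {S : Scheme.{u}} {G X : Over S} [GrpObj G] (a : AlgGrp.Action G X)

lemma shear_fst : shear a ≫ fst G X = fst G X := lift_fst _ _

lemma shearInv_fst : shearInv a ≫ fst G X = fst G X := lift_fst _ _

lemma shear_shearInv : shear a ≫ shearInv a = 𝟙 _ := by
  apply CartesianMonoidalCategory.hom_ext
  · rw [Category.assoc, shearInv_fst, shear_fst, Category.id_comp]
  · rw [Category.assoc, shearInv_snd, shear_actInv, Category.id_comp]

lemma shearInv_shear : shearInv a ≫ shear a = 𝟙 _ := by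
  apply CartesianMonoidalCategory.hom_ext
  · rw [Category.assoc, shear_fst, shearInv_fst, Category.id_comp]
  · rw [Category.assoc, shear_snd, shearInv_act, Category.id_comp]

/-- the shear isomorphism -/
noncomputable def shearIso : G ⊗ X ≅ G ⊗ X where
  hom := shear a
  inv := shearInv a
  hom_inv_id := shear_shearInv a
  inv_hom_id := shearInv_shear a

instance : IsIso (shear a) := (shearIso a).isIso_hom

instance : IsIso (shear a).left := inferInstanceAs (IsIso ((Over.forget S).map (shear a)))

/-- the action map is the second projection up to the shear isomorphism -/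
lemma act_left_eq : a.act.left = (shear a).left ≫ Limits.pullback.snd G.hom X.hom := by
  rw [← shear_snd a, Over.comp_left]
  rfl

/-- properties of `G → S` stable under base change and isomorphisms pass to the action map -/
lemma act_left_of_property (P : MorphismProperty Scheme.{u}) [P.IsStableUnderBaseChange]
    [P.RespectsIso] (h : P G.hom) : P a.act.left := by
  rw [act_left_eq, P.cancel_left_of_respectsIso]
  exact P.pullback_snd _ _ h

end Groth.Agent.H9.AlgGrpAct
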