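import Mathlib

/-!
# Chevalley's lemma for modules (helper9)

`R` complete Noetherian local, `P` a finite `R`-module, `N_s` a decreasing sequence of submodules
with zero intersection: then every `m^n P` contains some `N_s`.  (Module version of the lead's
`Groth.Agent.LD.Chev.chevalley`.)  Also: finite modules over complete Noetherian rings are complete.
-/

set_option autoImplicit false
set_option linter.style.haveILetI false
universe u v

namespace Groth.Agent.H9.ChevMod

open IsLocalRing

section Complete

/-- a finite module over a complete Noetherian ring is complete -/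
theorem isAdicComplete_of_finite (A : Type u) [CommRing A] [IsNoetherianRing A]
    (J : Ideal A) [IsAdicComplete J A] (M : Type v) [AddCommGroup M] [Module A M]
    [Module.Finite A M] : IsAdicComplete J M := by
  have : IsHausdorff J M := IsHausdorff.of_le_jacobson J M (IsAdicComplete.le_jacobson_bot J)
  rw [← AdicCompletion.of_bijective_iff]
  refine ⟨AdicCompletion.of_injective J M, ?_⟩
  intro y
  obtain ⟨t, rfl⟩ := AdicCompletion.ofTensorProduct_surjective_of_finite J M y
  induction t using TensorProduct.induction_on with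
  | zero => exact ⟨0, by simp⟩
  | tmul r x =>
    obtain ⟨a, rfl⟩ := AdicCompletion.of_surjective J A r
    refine ⟨a • x, ?_⟩
    rw [AdicCompletion.ofTensorProduct_tmul, map_smul]
    ext n
    rw [AdicCompletion.smul_eval, AdicCompletion.val_smul_apply]
    rfl
  | add t₁ t₂ h₁ h₂ =>
    obtain ⟨x₁, h₁⟩ := h₁
    obtain ⟨x₂, h₂⟩ := h₂
    exact ⟨x₁ + x₂, by rw [map_add, map_add, h₁, h₂]⟩

end Complete

variable (R : Type u) [CommRing R] [IsNoetherianRing R] [IsLocalRing R]
  (P : Type v) [AddCommGroup P] [Module R P] [Module.Finite R P]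

/-- `P / m^k P` is an Artinian module -/
theorem isArtinian_quotient (k : ℕ) :
    IsArtinian R (P ⧸ (maximalIdeal R ^ k • ⊤ : Submodule R P)) := by
  rcases Nat.eq_zero_or_pos k with rfl | hk
  · have : (maximalIdeal R ^ 0 • ⊤ : Submodule R P) = ⊤ := by simp
    haveI : Subsingleton (P ⧸ (maximalIdeal R ^ 0 • ⊤ : Submodule R P)) := by
      rw [this]
      infer_instance
    exact isArtinian_of_finite
  · have hmin : maximalIdeal R ∈ (maximalIdeal R ^ k).minimalPrimes := by
      refine ⟨⟨inferInstance, Ideal.pow_le_self hk.ne'⟩, fun q ⟨hq1, hq2⟩ _ => ?_⟩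
      exact hq1.le_of_pow_le hq2
    haveI : IsArtinianRing (R ⧸ maximalIdeal R ^ k) :=
      IsLocalRing.quotient_artinian_of_mem_minimalPrimes_of_isLocalRing _ hmin
    haveI : Module.Finite (R ⧸ maximalIdeal R ^ k)
        (P ⧸ (maximalIdeal R ^ k • ⊤ : Submodule R P)) :=
      Module.Finite.of_restrictScalars_finite R _ _
    haveI : IsArtinian (R ⧸ maximalIdeal R ^ k)
        (P ⧸ (maximalIdeal R ^ k • ⊤ : Submodule R P)) := inferInstance
    exact isArtinian_of_surjective_algebraMap (R := R ⧸ maximalIdeal R ^ k)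
      Ideal.Quotient.mk_surjective

/-- stabilization modulo `m^k P` -/
theorem exists_stab (N : ℕ → Submodule R P) (hN : Antitone N) (k : ℕ) :
    ∃ t : ℕ, ∀ s, t ≤ s → N t ≤ N s ⊔ (maximalIdeal R ^ k • ⊤ : Submodule R P) := by
  haveI := isArtinian_quotient R P k
  let q := (maximalIdeal R ^ k • ⊤ : Submodule R P).mkQ
  let f : ℕ →o (Submodule R (P ⧸ (maximalIdeal R ^ k • ⊤ : Submodule R P)))ᵒᵈ :=
    ⟨fun s => OrderDual.toDual ((N s).map q), fun a b hab => Submodule.map_mono (hN hab)⟩
  obtain ⟨t, ht⟩ := IsArtinian.monotone_stabilizes f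
  refine ⟨t, fun s hs => ?_⟩
  have h1 : (N t).map q = (N s).map q := congrArg OrderDual.ofDual (ht s hs)
  calc N t ≤ ((N t).map q).comap q := Submodule.le_comap_map _ _
    _ = ((N s).map q).comap q := by rw [h1]
    _ = N s ⊔ (maximalIdeal R ^ k • ⊤ : Submodule R P) := by
      rw [Submodule.comap_map_eq, Submodule.ker_mkQ]

/-- submodules are closed -/
theorem mem_of_forall_mem_sup (J : Submodule R P) (x : P)
    (h : ∀ k, x ∈ J ⊔ (maximalIdeal R ^ k • ⊤ : Submodule R P)) : x ∈ J := by
  have hH : IsHausdorff (maximalIdeal R) (P ⧸ J) := inferInstance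
  have : J.mkQ x = 0 := by
    apply hH.haus
    intro k
    rw [SModEq.zero]
    obtain ⟨a, ha, b, hb, rfl⟩ := Submodule.mem_sup.mp (h k)
    have ha0 : J.mkQ a = 0 := (Submodule.Quotient.mk_eq_zero J).mpr ha
    rw [map_add, ha0, zero_add]
    have hmap : (maximalIdeal R ^ k • ⊤ : Submodule R P).map J.mkQ ≤
        (maximalIdeal R ^ k • ⊤ : Submodule R (P ⧸ J)) := by
      rw [Submodule.map_smul'']
      exact Submodule.smul_mono le_rfl le_top
    exact hmap (Submodule.mem_map_of_mem hb)
  exact (Submodule.Quotient.mk_eq_zero J).mp this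

/-- **Chevalley's lemma** for finite modules over a complete Noetherian local ring -/
theorem chevalley [IsAdicComplete (maximalIdeal R) R] (N : ℕ → Submodule R P) (hN : Antitone N)
    (hinf : ⨅ s, N s = ⊥) (n : ℕ) :
    ∃ s : ℕ, N s ≤ (maximalIdeal R ^ n • ⊤ : Submodule R P) := by
  classical
  haveI : IsAdicComplete (maximalIdeal R) P := isAdicComplete_of_finite R (maximalIdeal R) P
  choose t0 ht0 using exists_stab R P N hN
  let t : ℕ → ℕ := fun k => (Finset.range (k + 1)).sup t0
  have ht_ge : ∀ k, t0 k ≤ t k := fun k =>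
    Finset.le_sup (f := t0) (Finset.mem_range.mpr (Nat.lt_succ_self k))
  have ht_mono : Monotone t := fun a b hab =>
    Finset.sup_mono (Finset.range_mono (Nat.succ_le_succ hab))
  have ht : ∀ k s, t k ≤ s → N (t k) ≤ N s ⊔ (maximalIdeal R ^ k • ⊤ : Submodule R P) :=
    fun k s hs => (hN (ht_ge k)).trans (ht0 k s ((ht_ge k).trans hs))
  refine ⟨t n, fun x hx => ?_⟩
  have step : ∀ j (y : {y : P // y ∈ N (t (n + j))}),
      ∃ z : {z : P // z ∈ N (t (n + (j + 1)))},
        y.1 - z.1 ∈ (maximalIdeal R ^ (n + j) • ⊤ : Submodule R P) := by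
    intro j y
    have := ht (n + j) (t (n + (j + 1))) (ht_mono (by omega)) y.2
    obtain ⟨a, ha, b, hb, hab⟩ := Submodule.mem_sup.mp this
    exact ⟨⟨a, ha⟩, by rw [← hab]; simpa using hb⟩
  choose nxt hnxt using step
  let g : (j : ℕ) → {y : P // y ∈ N (t (n + j))} := fun j =>
    Nat.rec (motive := fun j => {y : P // y ∈ N (t (n + j))}) ⟨x, hx⟩ (fun j y => nxt j y) j
  let gv : ℕ → P := fun j => (g j).1
  have hgv_mem : ∀ j, gv j ∈ N (t (n + j)) := fun j => (g j).2
  have hg0 : gv 0 = x := rfl
  have hgs : ∀ j, gv j - gv (j + 1) ∈ (maximalIdeal R ^ (n + j) • ⊤ : Submodule R P) :=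
    fun j => hnxt j (g j)
  clear_value gv
  let f : ℕ → P := fun i => gv (i - n)
  have hpow : ∀ {a b : ℕ}, a ≤ b → (maximalIdeal R ^ b • ⊤ : Submodule R P) ≤
      (maximalIdeal R ^ a • ⊤ : Submodule R P) := fun hab =>
    Submodule.smul_mono (Ideal.pow_le_pow_right hab) le_rfl
  have hf : ∀ {a b : ℕ}, a ≤ b → f a ≡ f b [SMOD (maximalIdeal R ^ a • ⊤ : Submodule R P)] := by
    intro a b hab
    induction b, hab using Nat.le_induction with
    | base => exact SModEq.refl _
    | succ b hab ih =>
      refine ih.trans ?_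
      rw [SModEq.sub_mem]
      by_cases hbn : b < n
      · have h1 : b - n = 0 := by omega
        have h2 : b + 1 - n = 0 := by omega
        simp only [f, h1, h2, sub_self, Submodule.zero_mem]
      · have h1 : b + 1 - n = (b - n) + 1 := by omega
        have h3 : n + (b - n) = b := by omega
        have := hgs (b - n)
        rw [h3] at this
        simp only [f, h1]
        exact hpow hab this
  obtain ⟨L, hL⟩ := IsPrecomplete.prec (I := maximalIdeal R) (M := P) inferInstance hf
  have hL' : ∀ i, f i - L ∈ (maximalIdeal R ^ i • ⊤ : Submodule R P) := by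
    intro i
    have := hL i
    rwa [SModEq.sub_mem] at this
  have hLs : ∀ s, L ∈ N s := by
    intro s
    apply mem_of_forall_mem_sup R P
    intro k
    have h1 : f (n + k) ∈ N s ⊔ (maximalIdeal R ^ k • ⊤ : Submodule R P) := by
      have hfi : f (n + k) ∈ N (t (n + k)) := by
        have : n + k - n = k := by omega
        simp only [f, this]
        exact hgv_mem k
      by_cases hts : t (n + k) ≤ s
      · have := ht (n + k) s hts hfi
        exact (sup_le_sup_left (hpow (Nat.le_add_left k n)) (N s)) this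
      · exact Submodule.mem_sup_left (hN (le_of_not_ge hts) hfi)
    have h2 : f (n + k) - L ∈ (maximalIdeal R ^ k • ⊤ : Submodule R P) :=
      hpow (by omega) (hL' (n + k))
    have : L = f (n + k) - (f (n + k) - L) := by abel
    rw [this]
    exact Submodule.sub_mem _ h1 (Submodule.mem_sup_right h2)
  have hL0 : L = 0 := by
    have : L ∈ ⨅ s, N s := (Submodule.mem_iInf _).mpr hLs
    rw [hinf] at this
    simpa using this
  have := hL' n
  have hfn : f n = x := by simp only [f, Nat.sub_self]; exact hg0
  rw [hfn, hL0, sub_zero] at this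
  exact this

end Groth.Agent.H9.ChevMod
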