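import Mathlib
import Groth.Prelude.Def_HopfRep
import Groth.Prelude.Def_Hoch
import Groth.Prelude.Def_ComodSub

/-!
# Comodules over a coalgebra over a field: slices, generated subcomodules, Schur (helper9)
-/

set_option autoImplicit false

universe u v v' w w' w''

open TensorProduct

namespace Groth.Agent.H9.Comod

section Lattice

variable {α : Type*} [CompleteLattice α] [IsModularLattice α] [IsCompactlyGenerated α]

/-- Variant of `exists_sSupIndep_isCompl_sSup_atoms` choosing the atoms from a given set. -/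
theorem exists_sSupIndep_isCompl_sSup_subset (T : Set α) (hT : ∀ a ∈ T, IsAtom a)
    (h : sSup T = ⊤) (b : α) :
    ∃ s : Set α, s ⊆ T ∧ sSupIndep s ∧ IsCompl b (sSup s) := by
  have zorn := zorn_subset
    (S := {s : Set α | sSupIndep s ∧ Disjoint b (sSup s) ∧ ∀ a ∈ s, a ∈ T})
    fun c hc1 hc2 =>
      ⟨⋃₀ c,
        ⟨iSupIndep_sUnion_of_directed hc2.directedOn fun s hs => (hc1 hs).1, ?_,
          fun a ⟨s, sc, as⟩ => (hc1 sc).2.2 a as⟩,
        fun _ => Set.subset_sUnion_of_mem⟩
  swap
  · rw [sSup_sUnion, ← sSup_image, DirectedOn.disjoint_sSup_right]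
    · rintro _ ⟨s, hs, rfl⟩
      exact (hc1 hs).2.1
    · rw [directedOn_image]
      exact hc2.directedOn.mono @fun s t => sSup_le_sSup
  simp_rw [maximal_subset_iff] at zorn
  obtain ⟨s, ⟨s_ind, b_inf_Sup_s, s_atoms⟩, s_max⟩ := zorn
  refine ⟨s, s_atoms, s_ind, b_inf_Sup_s, ?_⟩
  rw [codisjoint_iff, eq_top_iff, ← h, sSup_le_iff]
  intro a ha
  have haat : IsAtom a := hT a ha
  rw [← inf_eq_left]
  refine (haat.le_iff.mp inf_le_left).resolve_left fun con => haat.1 ?_
  rw [← con, eq_comm, inf_eq_left]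
  refine (le_sSup ?_).trans le_sup_right
  rw [← disjoint_iff] at con
  have a_dis_Sup_s : Disjoint a (sSup s) := con.mono_right le_sup_right
  rw [s_max ⟨fun x hx => ?_, ?_, fun x hx => ?_⟩ Set.subset_union_left]
  · exact Set.mem_union_right _ (Set.mem_singleton _)
  · rw [sSup_union, sSup_singleton]
    exact b_inf_Sup_s.disjoint_sup_right_of_disjoint_sup_left con.symm
  · rw [Set.mem_union, Set.mem_singleton_iff] at hx
    obtain rfl | xa := eq_or_ne x a
    · simp only [Set.mem_singleton, Set.insert_sdiff_of_mem, Set.union_singleton]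
      exact con.mono_right ((sSup_le_sSup Set.sdiff_subset).trans le_sup_right)
    · have h : (s ∪ {a}) \ {x} = s \ {x} ∪ {a} := by
        simp only [Set.union_singleton]
        rw [Set.insert_sdiff_of_notMem]
        rw [Set.mem_singleton_iff]
        exact Ne.symm xa
      rw [h, sSup_union, sSup_singleton]
      apply
        (s_ind (hx.resolve_right xa)).disjoint_sup_right_of_disjoint_sup_left
          (a_dis_Sup_s.mono_right _).symm
      rw [← sSup_insert, Set.insert_sdiff_singleton, Set.insert_eq_of_mem (hx.resolve_right xa)]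
  · rw [Set.mem_union, Set.mem_singleton_iff] at hx
    obtain hx | rfl := hx
    · exact s_atoms x hx
    · exact ha

/-- indexed version -/
theorem exists_set_iSupIndep_isCompl {ι : Type*} (a : ι → α) (ha : ∀ i, IsAtom (a i))
    (h : ⨆ i, a i = ⊤) (b : α) :
    ∃ J : Set ι, iSupIndep (fun j : J => a j) ∧ IsCompl b (⨆ j : J, a j) := by
  obtain ⟨s, hsT, hind, hcompl⟩ := exists_sSupIndep_isCompl_sSup_subset (Set.range a)
    (by rintro _ ⟨i, rfl⟩; exact ha i) (by rw [sSup_range]; exact h) b
  have hex : ∀ t : s, ∃ i, a i = t := fun t => hsT t.2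
  choose idx hidx using hex
  have hmem : ∀ j : Set.range idx, a j ∈ s := by
    rintro ⟨_, t, rfl⟩
    rw [hidx]
    exact t.2
  let f : Set.range idx → s := fun j => ⟨a j, hmem j⟩
  have hf : Function.Injective f := by
    rintro ⟨_, t, rfl⟩ ⟨_, t', rfl⟩ hjj'
    have h1 : a (idx t) = a (idx t') := congrArg Subtype.val hjj'
    rw [hidx, hidx] at h1
    have : t = t' := Subtype.ext h1
    subst this
    rfl
  refine ⟨Set.range idx, ?_, ?_⟩
  · have := ((sSupIndep_iff s).mp hind).comp hf
    exact this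
  · have hsup : (⨆ j : Set.range idx, a j) = sSup s := by
      apply le_antisymm
      · apply iSup_le
        intro j
        exact le_sSup (hmem j)
      · apply sSup_le
        intro t ht
        have : a (idx ⟨t, ht⟩) = t := hidx ⟨t, ht⟩
        rw [← this]
        exact le_iSup (fun j : Set.range idx => a j) ⟨idx ⟨t, ht⟩, ⟨t, ht⟩, rfl⟩
    rw [hsup]
    exact hcompl

end Lattice

section Slice

variable {k : Type u} [CommRing k] {A : Type v} [AddCommGroup A] [Module k A]
  {B : Type v'} [AddCommGroup B] [Module k B]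
  {V : Type w} [AddCommGroup V] [Module k V] {W : Type w'} [AddCommGroup W] [Module k W]

/-- The slice `V ⊗ A → V`, `v ⊗ a ↦ φ(a) v`. -/
noncomputable def slice (φ : A →ₗ[k] k) : V ⊗[k] A →ₗ[k] V :=
  (TensorProduct.rid k V).toLinearMap ∘ₗ LinearMap.lTensor V φ

@[simp] lemma slice_tmul (φ : A →ₗ[k] k) (v : V) (a : A) :
    slice φ (v ⊗ₜ[k] a) = φ a • v := by
  simp [slice]

lemma slice_rTensor (φ : A →ₗ[k] k) (f : V →ₗ[k] W) (x : V ⊗[k] A) :
    slice φ (f.rTensor A x) = f (slice φ x) := by
  induction x using TensorProduct.induction_on with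
  | zero => simp
  | tmul v a => simp
  | add x y hx hy => simp only [map_add, hx, hy]

lemma slice_lTensor (φ : B →ₗ[k] k) (g : A →ₗ[k] B) (x : V ⊗[k] A) :
    slice φ (g.lTensor V x) = slice (φ ∘ₗ g) x := by
  induction x using TensorProduct.induction_on with
  | zero => simp
  | tmul v a => simp
  | add x y hx hy => simp only [map_add, hx, hy]

lemma slice_mem_of_mem_range (U : Submodule k V) {x : V ⊗[k] A}
    (hx : x ∈ LinearMap.range (U.subtype.rTensor A)) (φ : A →ₗ[k] k) : slice φ x ∈ U := by
  obtain ⟨y, rfl⟩ := hx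
  rw [slice_rTensor]
  exact (slice φ y).2

theorem mem_range_rTensor_of_slice [Module.Free k A] (U : Submodule k V) (x : V ⊗[k] A)
    (h : ∀ φ : A →ₗ[k] k, slice φ x ∈ U) : x ∈ LinearMap.range (U.subtype.rTensor A) := by
  classical
  let b := Module.Free.chooseBasis k A
  obtain ⟨c, rfl⟩ := TensorProduct.eq_repr_basis_right b x
  have hc : ∀ j, c j ∈ U := by
    intro j
    have := h (b.coord j)
    rw [Finsupp.sum, map_sum] at this
    simp only [slice_tmul, Module.Basis.coord_apply, Module.Basis.repr_self] at this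
    rw [Finset.sum_eq_single j] at this
    · simpa using this
    · intro i _ hij
      rw [Finsupp.single_eq_of_ne hij.symm, zero_smul]
    · intro hj
      rw [Finsupp.notMem_support_iff.mp hj, smul_zero]
  refine ⟨c.sum fun i m => (if hm : m ∈ U then (⟨m, hm⟩ : U) else 0) ⊗ₜ[k] b i, ?_⟩
  rw [Finsupp.sum, map_sum, Finsupp.sum]
  refine Finset.sum_congr rfl fun i _ => ?_
  rw [dif_pos (hc i)]
  rfl

theorem mem_range_rTensor_iff_slice [Module.Free k A] (U : Submodule k V) (x : V ⊗[k] A) :
    x ∈ LinearMap.range (U.subtype.rTensor A) ↔ ∀ φ : A →ₗ[k] k, slice φ x ∈ U :=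
  ⟨fun hx φ => slice_mem_of_mem_range U hx φ, mem_range_rTensor_of_slice U x⟩

/-- the pairing `ψ ⊗ φ : A ⊗ A → k`. -/
noncomputable def pair (ψ φ : A →ₗ[k] k) : A ⊗[k] A →ₗ[k] k :=
  (TensorProduct.lid k k).toLinearMap ∘ₗ TensorProduct.map ψ φ

@[simp] lemma pair_tmul (ψ φ : A →ₗ[k] k) (a b : A) : pair ψ φ (a ⊗ₜ[k] b) = ψ a * φ b := by
  simp [pair]

lemma slice_pair_assoc (ψ φ : A →ₗ[k] k) (y : V ⊗[k] A) (b : A) :
    slice (pair ψ φ) (TensorProduct.assoc k V A A (y ⊗ₜ[k] b)) = φ b • slice ψ y := by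
  induction y using TensorProduct.induction_on with
  | zero => simp
  | tmul v a =>
    simp only [TensorProduct.assoc_tmul, slice_tmul, pair_tmul, smul_smul, mul_comm]
  | add x y hx hy => simp only [TensorProduct.add_tmul, map_add, hx, hy, smul_add]

end Slice

section Comodule

variable {k : Type u} [Field k] {A : Type v} [AddCommGroup A] [Module k A] [Coalgebra k A]
  {V : Type w} [AddCommGroup V] [Module k V] [HopfRep.Comod k A V]
  {W : Type w'} [AddCommGroup W] [Module k W] [HopfRep.Comod k A W]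

/-- the coaction (shorthand) -/
noncomputable abbrev coact : V →ₗ[k] V ⊗[k] A := HopfRep.Comod.coact (k := k) (A := A)

variable (A) in
theorem isSubcomod_iff_slice (U : Submodule k V) :
    HopfRep.IsSubcomod (k := k) (A := A) U ↔
      ∀ u ∈ U, ∀ φ : A →ₗ[k] k, slice φ (coact (A := A) u) ∈ U := by
  constructor
  · intro h u hu φ
    exact slice_mem_of_mem_range U (h u hu) φ
  · intro h u hu
    exact mem_range_rTensor_of_slice U _ (h u hu)

theorem isSubcomod_bot : HopfRep.IsSubcomod (k := k) (A := A) (⊥ : Submodule k V) := by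
  rw [isSubcomod_iff_slice]
  intro u hu φ
  rw [Submodule.mem_bot] at hu
  simp [hu]

theorem isSubcomod_top : HopfRep.IsSubcomod (k := k) (A := A) (⊤ : Submodule k V) := by
  rw [isSubcomod_iff_slice]
  intro u _ φ
  trivial

theorem isSubcomod_iSup {ι : Sort*} (S : ι → Submodule k V)
    (hS : ∀ i, HopfRep.IsSubcomod (k := k) (A := A) (S i)) :
    HopfRep.IsSubcomod (k := k) (A := A) (⨆ i, S i) := by
  rw [isSubcomod_iff_slice]
  intro u hu φ
  induction hu using Submodule.iSup_induction' with
  | mem i x hx =>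
    exact (le_iSup S i) ((isSubcomod_iff_slice A (S i)).mp (hS i) x hx φ)
  | zero => simp
  | add x y _ _ hx hy =>
    rw [map_add, map_add]
    exact Submodule.add_mem _ hx hy

theorem isSubcomod_sup (U U' : Submodule k V)
    (hU : HopfRep.IsSubcomod (k := k) (A := A) U) (hU' : HopfRep.IsSubcomod (k := k) (A := A) U') :
    HopfRep.IsSubcomod (k := k) (A := A) (U ⊔ U') := by
  rw [sup_eq_iSup]
  apply isSubcomod_iSup
  intro b
  cases b <;> assumption

theorem isSubcomod_sSup (s : Set (Submodule k V))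
    (hs : ∀ U ∈ s, HopfRep.IsSubcomod (k := k) (A := A) U) :
    HopfRep.IsSubcomod (k := k) (A := A) (sSup s) := by
  rw [sSup_eq_iSup']
  apply isSubcomod_iSup
  intro U
  exact hs U U.2

theorem isSubcomod_iInf {ι : Sort*} (S : ι → Submodule k V)
    (hS : ∀ i, HopfRep.IsSubcomod (k := k) (A := A) (S i)) :
    HopfRep.IsSubcomod (k := k) (A := A) (⨅ i, S i) := by
  rw [isSubcomod_iff_slice]
  intro u hu φ
  rw [Submodule.mem_iInf] at hu ⊢
  intro i
  exact (isSubcomod_iff_slice A (S i)).mp (hS i) u (hu i) φ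

theorem isSubcomod_inf (U U' : Submodule k V)
    (hU : HopfRep.IsSubcomod (k := k) (A := A) U) (hU' : HopfRep.IsSubcomod (k := k) (A := A) U') :
    HopfRep.IsSubcomod (k := k) (A := A) (U ⊓ U') := by
  rw [isSubcomod_iff_slice]
  intro u hu φ
  exact ⟨(isSubcomod_iff_slice A U).mp hU u hu.1 φ, (isSubcomod_iff_slice A U').mp hU' u hu.2 φ⟩

/-- comodule maps commute with slices of the coaction -/
lemma slice_coact_apply_of_isComodHom {f : V →ₗ[k] W} (hf : Hoch.IsComodHom A f) (v : V)
    (φ : A →ₗ[k] k) :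
    slice φ (coact (A := A) (f v)) = f (slice φ (coact (A := A) v)) := by
  have h := LinearMap.congr_fun hf v
  simp only [LinearMap.comp_apply] at h
  show slice φ (HopfRep.Comod.coact (k := k) (A := A) (f v)) = _
  rw [h, slice_rTensor]

theorem isSubcomod_map {f : V →ₗ[k] W} (hf : Hoch.IsComodHom A f) (U : Submodule k V)
    (hU : HopfRep.IsSubcomod (k := k) (A := A) U) :
    HopfRep.IsSubcomod (k := k) (A := A) (U.map f) := by
  rw [isSubcomod_iff_slice]
  rintro _ ⟨u, hu, rfl⟩ φ
  rw [slice_coact_apply_of_isComodHom hf]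
  exact ⟨_, (isSubcomod_iff_slice A U).mp hU u hu φ, rfl⟩

theorem isSubcomod_comap {f : V →ₗ[k] W} (hf : Hoch.IsComodHom A f) (U : Submodule k W)
    (hU : HopfRep.IsSubcomod (k := k) (A := A) U) :
    HopfRep.IsSubcomod (k := k) (A := A) (U.comap f) := by
  rw [isSubcomod_iff_slice]
  intro v hv φ
  rw [Submodule.mem_comap] at hv ⊢
  rw [← slice_coact_apply_of_isComodHom hf]
  exact (isSubcomod_iff_slice A U).mp hU _ hv φ

theorem isSubcomod_ker {f : V →ₗ[k] W} (hf : Hoch.IsComodHom A f) :
    HopfRep.IsSubcomod (k := k) (A := A) (LinearMap.ker f) := by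
  rw [← Submodule.comap_bot]
  exact isSubcomod_comap hf ⊥ isSubcomod_bot

theorem isSubcomod_range {f : V →ₗ[k] W} (hf : Hoch.IsComodHom A f) :
    HopfRep.IsSubcomod (k := k) (A := A) (LinearMap.range f) := by
  rw [← Submodule.map_top]
  exact isSubcomod_map hf ⊤ isSubcomod_top

/-- counit in slice form -/
lemma slice_counit_coact (v : V) :
    slice (Coalgebra.counit (R := k) (A := A)) (coact (A := A) v) = v := by
  have h := LinearMap.congr_fun (HopfRep.Comod.counit_comp (k := k) (A := A) (V := V)) v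
  simp only [LinearMap.comp_apply, LinearMap.flip_apply, TensorProduct.mk_apply] at h
  show (TensorProduct.rid k V) (LinearMap.lTensor V _ _) = v
  rw [h, TensorProduct.rid_tmul, one_smul]

/-- convolution of two functionals -/
noncomputable def conv (ψ φ : A →ₗ[k] k) : A →ₗ[k] k :=
  pair ψ φ ∘ₗ Coalgebra.comul (R := k) (A := A)

/-- coassociativity in slice form -/
lemma slice_coact_slice_coact (ψ φ : A →ₗ[k] k) (v : V) :
    slice ψ (coact (A := A) (slice φ (coact (A := A) v))) = slice (conv ψ φ) (coact (A := A) v) := by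
  have h := LinearMap.congr_fun (HopfRep.Comod.coassoc (k := k) (A := A) (V := V)) v
  simp only [LinearMap.comp_apply, LinearEquiv.coe_coe] at h
  have key : ∀ x : V ⊗[k] A,
      slice (pair ψ φ) (TensorProduct.assoc k V A A ((coact (A := A)).rTensor A x)) =
        slice ψ (coact (A := A) (slice φ x)) := by
    intro x
    induction x using TensorProduct.induction_on with
    | zero => simp
    | tmul v' b =>
      rw [LinearMap.rTensor_tmul, slice_pair_assoc, slice_tmul, map_smul, map_smul]
    | add x y hx hy => simp only [map_add, hx, hy]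
  rw [← key, conv, ← slice_lTensor]
  exact congrArg _ h

variable (A) in
/-- the subcomodule generated by a subspace -/
noncomputable def gen (M : Submodule k V) : Submodule k V :=
  Submodule.span k {x | ∃ m ∈ M, ∃ φ : A →ₗ[k] k, x = slice φ (coact (A := A) m)}

lemma slice_coact_mem_gen (M : Submodule k V) {m : V} (hm : m ∈ M) (φ : A →ₗ[k] k) :
    slice φ (coact (A := A) m) ∈ gen A M :=
  Submodule.subset_span ⟨m, hm, φ, rfl⟩

lemma le_gen (M : Submodule k V) : M ≤ gen A M := by
  intro m hm
  rw [← slice_counit_coact (k := k) (A := A) m]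
  exact slice_coact_mem_gen M hm _

theorem isSubcomod_gen (M : Submodule k V) :
    HopfRep.IsSubcomod (k := k) (A := A) (gen A M) := by
  rw [isSubcomod_iff_slice]
  intro u hu ψ
  induction hu using Submodule.span_induction with
  | mem x hx =>
    obtain ⟨m, hm, φ, rfl⟩ := hx
    rw [slice_coact_slice_coact]
    exact slice_coact_mem_gen M hm _
  | zero => simp
  | add x y _ _ hx hy =>
    rw [map_add, map_add]
    exact Submodule.add_mem _ hx hy
  | smul c x _ hx =>
    rw [map_smul, map_smul]
    exact Submodule.smul_mem _ _ hx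

lemma gen_le {M U : Submodule k V} (hU : HopfRep.IsSubcomod (k := k) (A := A) U) (h : M ≤ U) :
    gen A M ≤ U := by
  apply Submodule.span_le.mpr
  rintro _ ⟨m, hm, φ, rfl⟩
  exact (isSubcomod_iff_slice A U).mp hU m (h hm) φ

omit [Coalgebra k A] [HopfRep.Comod k A V] in
/-- the slices of a single tensor lie in a finite dimensional space -/
lemma exists_fg_slice_mem (x : V ⊗[k] A) :
    ∃ N : Submodule k V, N.FG ∧ ∀ φ : A →ₗ[k] k, slice φ x ∈ N := by
  induction x using TensorProduct.induction_on with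
  | zero => exact ⟨⊥, Submodule.fg_bot, fun φ => by simp⟩
  | tmul v a =>
    refine ⟨Submodule.span k {v}, Submodule.fg_span_singleton v, fun φ => ?_⟩
    rw [slice_tmul]
    exact Submodule.smul_mem _ _ (Submodule.mem_span_singleton_self v)
  | add x y hx hy =>
    obtain ⟨N, hN, hN'⟩ := hx
    obtain ⟨N', hN2, hN2'⟩ := hy
    refine ⟨N ⊔ N', hN.sup hN2, fun φ => ?_⟩
    rw [map_add]
    exact Submodule.add_mem _ (Submodule.mem_sup_left (hN' φ)) (Submodule.mem_sup_right (hN2' φ))

theorem fg_gen (M : Submodule k V) (hM : M.FG) : (gen A M).FG := by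
  classical
  obtain ⟨s, rfl⟩ := hM
  choose N hNfg hN using fun m : V => exists_fg_slice_mem (coact (k := k) (A := A) m)
  have hle : gen A (Submodule.span k (s : Set V)) ≤ ⨆ m ∈ s, N m := by
    apply Submodule.span_le.mpr
    rintro _ ⟨m, hm, φ, rfl⟩
    induction hm using Submodule.span_induction with
    | mem x hx =>
      exact (le_iSup₂ (f := fun m (_ : m ∈ s) => N m) x hx) (hN x φ)
    | zero => simp
    | add x y _ _ hx hy =>
      rw [map_add, map_add]
      exact Submodule.add_mem _ hx hy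
    | smul c x _ hx =>
      rw [map_smul, map_smul]
      exact Submodule.smul_mem _ _ hx
  have hfg : (⨆ m ∈ s, N m).FG := by
    rw [← Finset.sup_eq_iSup]
    exact Submodule.fg_finset_sup s N fun m _ => hNfg m
  exact Submodule.FG.of_le hfg hle

/-- fundamental theorem of comodules -/
theorem exists_finite_subcomod_mem (v : V) :
    ∃ U : Submodule k V, Module.Finite k U ∧ v ∈ U ∧ HopfRep.IsSubcomod (k := k) (A := A) U := by
  refine ⟨gen A (Submodule.span k {v}), ?_, le_gen _ (Submodule.mem_span_singleton_self v),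
    isSubcomod_gen _⟩
  exact Module.Finite.iff_fg.mpr (fg_gen _ (Submodule.fg_span_singleton v))

/-! ### The lattice of subcomodules -/

variable (k A V) in
/-- the complete sublattice of subcomodules -/
def subLat : CompleteSublattice (Submodule k V) :=
  CompleteSublattice.mk' {U | HopfRep.IsSubcomod (k := k) (A := A) U}
    (fun s hs => isSubcomod_sSup s fun U hU => hs hU)
    (fun s hs => by
      rw [sInf_eq_iInf']
      exact isSubcomod_iInf _ fun U => hs U.2)

lemma mem_subLat {U : Submodule k V} :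
    U ∈ subLat k A V ↔ HopfRep.IsSubcomod (k := k) (A := A) U := Iff.rfl

instance : IsModularLattice (subLat k A V) where
  sup_inf_le_assoc_of_le := by
    intro x y z hxz
    rw [← Subtype.coe_le_coe]
    show ((x : Submodule k V) ⊔ (y : Submodule k V)) ⊓ (z : Submodule k V) ≤
      (x : Submodule k V) ⊔ (y : Submodule k V) ⊓ (z : Submodule k V)
    exact IsModularLattice.sup_inf_le_assoc_of_le _ (Subtype.coe_le_coe.mpr hxz)

lemma isCompactElement_of_fg (U : subLat k A V) (hU : (U : Submodule k V).FG) :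
    IsCompactElement U := by
  rw [CompleteLattice.isCompactElement_iff_le_of_directed_sSup_le]
  intro s hs hdir hle
  have hcpt := (Submodule.fg_iff_compact _).mp hU
  rw [CompleteLattice.isCompactElement_iff_le_of_directed_sSup_le] at hcpt
  obtain ⟨x, ⟨y, hy, rfl⟩, hxy⟩ := hcpt ((fun a : subLat k A V => (a : Submodule k V)) '' s)
    (hs.image _) (by
      rintro _ ⟨a, ha, rfl⟩ _ ⟨b, hb, rfl⟩
      obtain ⟨c, hc, hac, hbc⟩ := hdir a ha b hb
      exact ⟨c, ⟨c, hc, rfl⟩, hac, hbc⟩) (by
      have := Subtype.coe_le_coe.mpr hle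
      rw [CompleteSublattice.coe_sSup] at this
      convert this using 2
      ext z
      simp only [Set.mem_image, Set.mem_setOf_eq])
  exact ⟨y, hy, Subtype.coe_le_coe.mp hxy⟩

instance : IsCompactlyGenerated (subLat k A V) where
  exists_sSup_eq := by
    intro U
    refine ⟨{X | ∃ u ∈ (U : Submodule k V),
      X = ⟨gen A (Submodule.span k {u}), isSubcomod_gen _⟩}, ?_, ?_⟩
    · rintro X ⟨u, _, rfl⟩
      exact isCompactElement_of_fg _ (fg_gen _ (Submodule.fg_span_singleton u))
    · apply le_antisymm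
      · apply sSup_le
        rintro X ⟨u, hu, rfl⟩
        rw [← Subtype.coe_le_coe]
        exact gen_le U.2 ((Submodule.span_singleton_le_iff_mem u _).mpr hu)
      · rw [← Subtype.coe_le_coe]
        intro u hu
        have h1 : u ∈ gen A (Submodule.span k {u}) :=
          le_gen _ (Submodule.mem_span_singleton_self u)
        have h2 : (⟨gen A (Submodule.span k {u}), isSubcomod_gen _⟩ : subLat k A V) ≤
            sSup {X | ∃ u ∈ (U : Submodule k V),
              X = ⟨gen A (Submodule.span k {u}), isSubcomod_gen _⟩} :=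
          le_sSup ⟨u, hu, rfl⟩
        exact (Subtype.coe_le_coe.mpr h2) h1

variable (A) in
/-- simple subcomodule -/
def IsSimpleSub (U : Submodule k V) : Prop :=
  HopfRep.IsSubcomod (k := k) (A := A) U ∧ U ≠ ⊥ ∧
    ∀ U' : Submodule k V, HopfRep.IsSubcomod (k := k) (A := A) U' → U' ≤ U → U' = ⊥ ∨ U' = U

lemma isAtom_iff (U : subLat k A V) : IsAtom U ↔ IsSimpleSub A (U : Submodule k V) := by
  constructor
  · intro h
    refine ⟨U.2, fun h0 => h.1 (Subtype.ext h0), fun U' hU' hle => ?_⟩
    by_cases h0 : U' = ⊥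
    · exact Or.inl h0
    · right
      by_contra hne
      have hlt : (⟨U', hU'⟩ : subLat k A V) < U :=
        lt_of_le_of_ne (Subtype.coe_le_coe.mp hle) fun h => hne (congrArg Subtype.val h)
      exact h0 (congrArg Subtype.val (h.2 _ hlt))
  · rintro ⟨_, hne, hmin⟩
    refine ⟨fun h => hne (congrArg Subtype.val h), fun X hX => ?_⟩
    rcases hmin X X.2 (Subtype.coe_le_coe.mpr hX.le) with h | h
    · exact Subtype.ext h
    · exact absurd (Subtype.ext h) hX.ne

theorem exists_simpleSub_le (U : Submodule k V) (hU : HopfRep.IsSubcomod (k := k) (A := A) U)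
    (hne : U ≠ ⊥) : ∃ S : Submodule k V, S ≤ U ∧ IsSimpleSub A S := by
  classical
  obtain ⟨u, huU, hu0⟩ := Submodule.exists_mem_ne_zero_of_ne_bot hne
  set N := gen A (Submodule.span k {u}) with hN
  have hNfg : N.FG := fg_gen _ (Submodule.fg_span_singleton u)
  haveI : Module.Finite k N := Module.Finite.iff_fg.mpr hNfg
  have hNle : N ≤ U := gen_le hU ((Submodule.span_singleton_le_iff_mem u _).mpr huU)
  have huN : u ∈ N := le_gen _ (Submodule.mem_span_singleton_self u)
  have hP : ∃ n : ℕ, ∃ T : Submodule k V, HopfRep.IsSubcomod (k := k) (A := A) T ∧ T ≠ ⊥ ∧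
      T ≤ N ∧ Module.finrank k T = n :=
    ⟨_, N, isSubcomod_gen _, fun h => hu0 (by rw [h] at huN; simpa using huN), le_rfl, rfl⟩
  obtain ⟨T, hTsub, hTne, hTN, hTn⟩ := Nat.find_spec hP
  haveI : FiniteDimensional k T := Submodule.finiteDimensional_of_le hTN
  refine ⟨T, hTN.trans hNle, hTsub, hTne, fun T' hT' hle => ?_⟩
  by_cases h0 : T' = ⊥
  · exact Or.inl h0
  · right
    have hmin : Nat.find hP ≤ Module.finrank k T' :=
      Nat.find_min' hP ⟨T', hT', h0, hle.trans hTN, rfl⟩
    rw [← hTn] at hmin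
    exact Submodule.eq_of_le_of_finrank_le hle hmin

variable (k A V) in
lemma isSemisimpleComod_iff :
    HopfRep.IsSemisimpleComod k A V ↔ ComplementedLattice (subLat k A V) := by
  rw [CompleteSublattice.isComplemented_iff]
  constructor
  · intro h U hU
    obtain ⟨U', hU', hc⟩ := h U hU
    exact ⟨U', hU', hc⟩
  · intro h U hU
    obtain ⟨U', hU', hc⟩ := h U hU
    exact ⟨U', hU', hc⟩

theorem exists_set_iSupIndep_isCompl_subcomod {ι : Type*} (S : ι → Submodule k V)
    (hS : ∀ i, IsSimpleSub A (S i)) (hsum : ⨆ i, S i = ⊤) (U : Submodule k V)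
    (hU : HopfRep.IsSubcomod (k := k) (A := A) U) :
    ∃ J : Set ι, iSupIndep (fun j : J => S j) ∧ IsCompl U (⨆ j : J, S j) := by
  let a : ι → subLat k A V := fun i => ⟨S i, (hS i).1⟩
  have ha : ∀ i, IsAtom (a i) := fun i => (isAtom_iff (a i)).mpr (hS i)
  have hsum' : ⨆ i, a i = ⊤ := by
    apply Subtype.ext
    rw [CompleteSublattice.coe_iSup, CompleteSublattice.coe_top]
    exact hsum
  obtain ⟨J, hind, hcompl⟩ := exists_set_iSupIndep_isCompl a ha hsum' ⟨U, hU⟩
  refine ⟨J, ?_, ?_⟩
  · intro j
    have := CompleteSublattice.disjoint_iff.mp (hind j)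
    simpa only [CompleteSublattice.coe_iSup] using this
  · have := CompleteSublattice.isCompl_iff.mp hcompl
    simpa only [CompleteSublattice.coe_iSup] using this

variable {X : Type w''} [AddCommGroup X] [Module k X] [HopfRep.Comod k A X]

theorem isSemisimpleComod_of_injective {i : X →ₗ[k] V} (hi : Hoch.IsComodHom A i)
    (hinj : Function.Injective i) (hV : HopfRep.IsSemisimpleComod k A V) :
    HopfRep.IsSemisimpleComod k A X := by
  intro Z hZ
  obtain ⟨Y', hY', hc⟩ := hV (Z.map i) (isSubcomod_map hi Z hZ)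
  refine ⟨Y'.comap i, isSubcomod_comap hi Y' hY', ?_, ?_⟩
  · rw [Submodule.disjoint_def]
    intro x hxZ hxY
    have : i x ∈ Z.map i ⊓ Y' := ⟨Submodule.mem_map_of_mem hxZ, hxY⟩
    rw [hc.inf_eq_bot, Submodule.mem_bot] at this
    exact hinj (by rw [this, map_zero])
  · rw [codisjoint_iff, eq_top_iff]
    intro x _
    have : i x ∈ Z.map i ⊔ Y' := by rw [hc.sup_eq_top]; trivial
    obtain ⟨z', ⟨z, hz, rfl⟩, y', hy', hsum⟩ := Submodule.mem_sup.mp this
    have hy : x - z ∈ Y'.comap i := by
      rw [Submodule.mem_comap, map_sub, ← hsum, add_sub_cancel_left]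
      exact hy'
    have : x = z + (x - z) := by abel
    rw [this]
    exact Submodule.add_mem _ (Submodule.mem_sup_left hz) (Submodule.mem_sup_right hy)

theorem isSemisimpleComod_of_surjective {p : V →ₗ[k] X} (hp : Hoch.IsComodHom A p)
    (hsurj : Function.Surjective p) (hV : HopfRep.IsSemisimpleComod k A V) :
    HopfRep.IsSemisimpleComod k A X := by
  intro Z hZ
  obtain ⟨Y', hY', hc⟩ := hV (Z.comap p) (isSubcomod_comap hp Z hZ)
  refine ⟨Y'.map p, isSubcomod_map hp Y' hY', ?_, ?_⟩
  · rw [Submodule.disjoint_def]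
    rintro q hqZ ⟨y', hy', rfl⟩
    have : y' ∈ Z.comap p ⊓ Y' := ⟨hqZ, hy'⟩
    rw [hc.inf_eq_bot, Submodule.mem_bot] at this
    rw [this, map_zero]
  · rw [codisjoint_iff, eq_top_iff]
    intro q _
    obtain ⟨v, rfl⟩ := hsurj q
    have : v ∈ Z.comap p ⊔ Y' := by rw [hc.sup_eq_top]; trivial
    obtain ⟨z', hz', y', hy', rfl⟩ := Submodule.mem_sup.mp this
    rw [map_add]
    exact Submodule.add_mem _ (Submodule.mem_sup_left hz')
      (Submodule.mem_sup_right (Submodule.mem_map_of_mem hy'))

end Comodule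

section Hom

variable {k : Type u} [CommRing k] {A : Type v} [AddCommGroup A] [Module k A] [Coalgebra k A]
  {V : Type w} [AddCommGroup V] [Module k V] [HopfRep.Comod k A V]
  {W : Type w'} [AddCommGroup W] [Module k W] [HopfRep.Comod k A W]
  {X : Type w''} [AddCommGroup X] [Module k X] [HopfRep.Comod k A X]

lemma isComodHom_iff (f : V →ₗ[k] W) :
    Hoch.IsComodHom A f ↔ ∀ v, HopfRep.Comod.coact (k := k) (A := A) (f v) =
      f.rTensor A (HopfRep.Comod.coact (k := k) (A := A) v) := by
  constructor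
  · intro h v
    exact LinearMap.congr_fun h v
  · intro h
    exact LinearMap.ext h

lemma isComodHom_id : Hoch.IsComodHom A (LinearMap.id : V →ₗ[k] V) := by
  rw [isComodHom_iff]
  intro v
  simp

lemma isComodHom_zero : Hoch.IsComodHom A (0 : V →ₗ[k] W) := by
  rw [isComodHom_iff]
  intro v
  simp

lemma isComodHom_add {f g : V →ₗ[k] W} (hf : Hoch.IsComodHom A f) (hg : Hoch.IsComodHom A g) :
    Hoch.IsComodHom A (f + g) := by
  rw [isComodHom_iff] at hf hg ⊢
  intro v
  rw [LinearMap.add_apply, map_add, hf, hg, LinearMap.rTensor_add, LinearMap.add_apply]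

lemma isComodHom_smul (c : k) {f : V →ₗ[k] W} (hf : Hoch.IsComodHom A f) :
    Hoch.IsComodHom A (c • f) := by
  rw [isComodHom_iff] at hf ⊢
  intro v
  rw [LinearMap.smul_apply, map_smul, hf, LinearMap.rTensor_smul, LinearMap.smul_apply]

lemma isComodHom_neg {f : V →ₗ[k] W} (hf : Hoch.IsComodHom A f) :
    Hoch.IsComodHom A (-f) := by
  rw [isComodHom_iff] at hf ⊢
  intro v
  rw [LinearMap.neg_apply, map_neg, hf, LinearMap.rTensor_neg, LinearMap.neg_apply]

lemma isComodHom_sub {f g : V →ₗ[k] W} (hf : Hoch.IsComodHom A f) (hg : Hoch.IsComodHom A g) :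
    Hoch.IsComodHom A (f - g) := by
  rw [sub_eq_add_neg]
  exact isComodHom_add hf (isComodHom_neg hg)

lemma isComodHom_comp {g : W →ₗ[k] X} {f : V →ₗ[k] W} (hg : Hoch.IsComodHom A g)
    (hf : Hoch.IsComodHom A f) : Hoch.IsComodHom A (g ∘ₗ f) := by
  rw [isComodHom_iff] at hf hg ⊢
  intro v
  rw [LinearMap.comp_apply, hg, hf, LinearMap.rTensor_comp, LinearMap.comp_apply]

lemma isComodHom_symm (e : V ≃ₗ[k] W) (he : Hoch.IsComodHom A (e : V →ₗ[k] W)) :
    Hoch.IsComodHom A (e.symm : W →ₗ[k] V) := by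
  rw [isComodHom_iff] at he ⊢
  intro w
  obtain ⟨v, rfl⟩ := e.surjective w
  have h := he v
  simp only [LinearEquiv.coe_coe] at h ⊢
  rw [h, LinearEquiv.symm_apply_apply, ← LinearMap.comp_apply, ← LinearMap.rTensor_comp]
  simp

end Hom

section Push

variable {k : Type u} [CommRing k] {C : Type v} [AddCommGroup C] [Module k C] [Coalgebra k C]
  {D : Type v'} [AddCommGroup D] [Module k D] [Coalgebra k D]
  {V : Type w} [AddCommGroup V] [Module k V]

/-- a candidate coaction `ρC` over `C` with `(id ⊗ i) ρC` equal to a `D`-comodule coaction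
and a retraction `r` of `i` is coassociative. -/
lemma coassoc_of_retraction [cD : HopfRep.Comod k D V] (i : C →ₗc[k] D) (r : D →ₗ[k] C)
    (hr : r ∘ₗ (i : C →ₗ[k] D) = LinearMap.id) (ρC : V →ₗ[k] V ⊗[k] C)
    (hρ : (i : C →ₗ[k] D).lTensor V ∘ₗ ρC = HopfRep.Comod.coact (k := k) (A := D)) :
    (TensorProduct.assoc k V C C).toLinearMap ∘ₗ ρC.rTensor C ∘ₗ ρC =
      (CoalgebraStruct.comul (R := k) (A := C)).lTensor V ∘ₗ ρC := by
  have hρ' : ρC = r.lTensor V ∘ₗ HopfRep.Comod.coact (k := k) (A := D) := by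
    rw [← hρ, ← LinearMap.comp_assoc, ← LinearMap.lTensor_comp, hr, LinearMap.lTensor_id,
      LinearMap.id_comp]
  have hD := HopfRep.Comod.coassoc (k := k) (A := D) (V := V)
  -- apply id ⊗ (r ⊗ r) to the D-coassociativity
  have h1 : (TensorProduct.map r r).lTensor V ∘ₗ (TensorProduct.assoc k V D D).toLinearMap ∘ₗ
      (HopfRep.Comod.coact (k := k) (A := D)).rTensor D ∘ₗ HopfRep.Comod.coact (k := k) (A := D) =
      (TensorProduct.map r r).lTensor V ∘ₗ
      (CoalgebraStruct.comul (R := k) (A := D)).lTensor V ∘ₗ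
        HopfRep.Comod.coact (k := k) (A := D) := by rw [hD]
  -- right hand side
  have hR : (TensorProduct.map r r).lTensor V ∘ₗ
      (CoalgebraStruct.comul (R := k) (A := D)).lTensor V ∘ₗ
        HopfRep.Comod.coact (k := k) (A := D) =
      (CoalgebraStruct.comul (R := k) (A := C)).lTensor V ∘ₗ ρC := by
    rw [← hρ, ← LinearMap.comp_assoc, ← LinearMap.comp_assoc,
      ← LinearMap.lTensor_comp, ← LinearMap.lTensor_comp]
    congr 2
    rw [LinearMap.comp_assoc, ← CoalgHomClass.map_comp_comul, ← LinearMap.comp_assoc,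
      ← TensorProduct.map_comp, hr, TensorProduct.map_id, LinearMap.id_comp]
  -- left hand side
  have hL : (TensorProduct.map r r).lTensor V ∘ₗ (TensorProduct.assoc k V D D).toLinearMap ∘ₗ
      (HopfRep.Comod.coact (k := k) (A := D)).rTensor D ∘ₗ HopfRep.Comod.coact (k := k) (A := D) =
      (TensorProduct.assoc k V C C).toLinearMap ∘ₗ ρC.rTensor C ∘ₗ ρC := by
    have e1 : (TensorProduct.map r r).lTensor V ∘ₗ (TensorProduct.assoc k V D D).toLinearMap =
        (TensorProduct.assoc k V C C).toLinearMap ∘ₗ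
          TensorProduct.map (TensorProduct.map (LinearMap.id : V →ₗ[k] V) r) r := by
      rw [← TensorProduct.map_map_comp_assoc_eq]
      rfl
    have e2 : TensorProduct.map (TensorProduct.map (LinearMap.id : V →ₗ[k] V) r) r ∘ₗ
        (HopfRep.Comod.coact (k := k) (A := D) (V := V)).rTensor D = TensorProduct.map ρC r := by
      rw [LinearMap.rTensor, ← TensorProduct.map_comp, LinearMap.comp_id, hρ']
      rfl
    have e3 : ρC.rTensor C ∘ₗ r.lTensor V = TensorProduct.map ρC r := by
      rw [LinearMap.rTensor, LinearMap.lTensor, ← TensorProduct.map_comp, LinearMap.comp_id,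
        LinearMap.id_comp]
    calc (TensorProduct.map r r).lTensor V ∘ₗ (TensorProduct.assoc k V D D).toLinearMap ∘ₗ
          (HopfRep.Comod.coact (k := k) (A := D)).rTensor D ∘ₗ
            HopfRep.Comod.coact (k := k) (A := D)
        = ((TensorProduct.map r r).lTensor V ∘ₗ (TensorProduct.assoc k V D D).toLinearMap) ∘ₗ
          (HopfRep.Comod.coact (k := k) (A := D)).rTensor D ∘ₗ
            HopfRep.Comod.coact (k := k) (A := D) := by rw [LinearMap.comp_assoc]
      _ = (TensorProduct.assoc k V C C).toLinearMap ∘ₗ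
          ((TensorProduct.map (TensorProduct.map (LinearMap.id : V →ₗ[k] V) r) r ∘ₗ
            (HopfRep.Comod.coact (k := k) (A := D) (V := V)).rTensor D) ∘ₗ
              HopfRep.Comod.coact (k := k) (A := D)) := by
          rw [e1, LinearMap.comp_assoc, LinearMap.comp_assoc]
      _ = (TensorProduct.assoc k V C C).toLinearMap ∘ₗ
          ((ρC.rTensor C ∘ₗ r.lTensor V) ∘ₗ HopfRep.Comod.coact (k := k) (A := D)) := by
          rw [e2, e3]
      _ = (TensorProduct.assoc k V C C).toLinearMap ∘ₗ ρC.rTensor C ∘ₗ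
          (r.lTensor V ∘ₗ HopfRep.Comod.coact (k := k) (A := D)) := by
          rw [LinearMap.comp_assoc]
      _ = (TensorProduct.assoc k V C C).toLinearMap ∘ₗ ρC.rTensor C ∘ₗ ρC := by rw [← hρ']
  rw [← hL, ← hR]
  exact h1

lemma counit_of_coalgHom [cD : HopfRep.Comod k D V] (i : C →ₗc[k] D) (ρC : V →ₗ[k] V ⊗[k] C)
    (hρ : (i : C →ₗ[k] D).lTensor V ∘ₗ ρC = HopfRep.Comod.coact (k := k) (A := D)) :
    (CoalgebraStruct.counit (R := k) (A := C)).lTensor V ∘ₗ ρC = (TensorProduct.mk k V k).flip 1 := by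
  rw [← HopfRep.Comod.counit_comp (k := k) (A := D) (V := V), ← hρ, ← LinearMap.comp_assoc,
    ← LinearMap.lTensor_comp, CoalgHomClass.counit_comp]

/-- push a comodule structure forward along a coalgebra map -/
@[reducible] noncomputable def pushComod (i : C →ₗc[k] D) (cC : HopfRep.Comod k C V) :
    HopfRep.Comod k D V where
  coact := (i : C →ₗ[k] D).lTensor V ∘ₗ cC.coact
  coassoc := by
    have hC := cC.coassoc
    have e1 : ((i : C →ₗ[k] D).lTensor V ∘ₗ cC.coact).rTensor D ∘ₗ (i : C →ₗ[k] D).lTensor V =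
        TensorProduct.map (TensorProduct.map (LinearMap.id : V →ₗ[k] V) (i : C →ₗ[k] D)) (i : C →ₗ[k] D) ∘ₗ
          cC.coact.rTensor C := by
      rw [LinearMap.rTensor, LinearMap.lTensor, LinearMap.rTensor, ← TensorProduct.map_comp,
        ← TensorProduct.map_comp, LinearMap.comp_id, LinearMap.id_comp, LinearMap.comp_id]
    have e2 : (TensorProduct.assoc k V D D).toLinearMap ∘ₗ
        TensorProduct.map (TensorProduct.map (LinearMap.id : V →ₗ[k] V) (i : C →ₗ[k] D)) (i : C →ₗ[k] D) =
        (TensorProduct.map (i : C →ₗ[k] D) (i : C →ₗ[k] D)).lTensor V ∘ₗ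
          (TensorProduct.assoc k V C C).toLinearMap := by
      rw [LinearMap.lTensor, TensorProduct.map_map_comp_assoc_eq]
    calc (TensorProduct.assoc k V D D).toLinearMap ∘ₗ
          ((i : C →ₗ[k] D).lTensor V ∘ₗ cC.coact).rTensor D ∘ₗ
            ((i : C →ₗ[k] D).lTensor V ∘ₗ cC.coact)
        = (TensorProduct.assoc k V D D).toLinearMap ∘ₗ
          ((((i : C →ₗ[k] D).lTensor V ∘ₗ cC.coact).rTensor D ∘ₗ (i : C →ₗ[k] D).lTensor V) ∘ₗ
            cC.coact) := by rw [LinearMap.comp_assoc]
      _ = ((TensorProduct.assoc k V D D).toLinearMap ∘ₗ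
          TensorProduct.map (TensorProduct.map (LinearMap.id : V →ₗ[k] V) (i : C →ₗ[k] D)) (i : C →ₗ[k] D)) ∘ₗ
            cC.coact.rTensor C ∘ₗ cC.coact := by
          rw [e1, LinearMap.comp_assoc, LinearMap.comp_assoc]
      _ = (TensorProduct.map (i : C →ₗ[k] D) (i : C →ₗ[k] D)).lTensor V ∘ₗ
          ((TensorProduct.assoc k V C C).toLinearMap ∘ₗ cC.coact.rTensor C ∘ₗ cC.coact) := by
          rw [e2, LinearMap.comp_assoc]
      _ = (TensorProduct.map (i : C →ₗ[k] D) (i : C →ₗ[k] D)).lTensor V ∘ₗ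
          ((CoalgebraStruct.comul (R := k) (A := C)).lTensor V ∘ₗ cC.coact) := by rw [hC]
      _ = (CoalgebraStruct.comul (R := k) (A := D)).lTensor V ∘ₗ
          ((i : C →ₗ[k] D).lTensor V ∘ₗ cC.coact) := by
          rw [← LinearMap.comp_assoc, ← LinearMap.comp_assoc, ← LinearMap.lTensor_comp,
            ← LinearMap.lTensor_comp, CoalgHomClass.map_comp_comul]
  counit_comp := by
    rw [← LinearMap.comp_assoc, ← LinearMap.lTensor_comp, CoalgHomClass.counit_comp]
    exact cC.counit_comp

end Push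

section PushField

variable {k : Type u} [Field k] {C : Type v} [AddCommGroup C] [Module k C] [Coalgebra k C]
  {D : Type v'} [AddCommGroup D] [Module k D] [Coalgebra k D]
  {V : Type w} [AddCommGroup V] [Module k V]

/-- over a field an injective linear map has a retraction -/
lemma exists_retraction (i : C →ₗ[k] D) (hi : Function.Injective i) :
    ∃ r : D →ₗ[k] C, r ∘ₗ i = LinearMap.id :=
  LinearMap.exists_leftInverse_of_injective i (LinearMap.ker_eq_bot.mpr hi)

theorem isSubcomod_of_isSubcomod_along_injective [cC : HopfRep.Comod k C V]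
    [cD : HopfRep.Comod k D V] (i : C →ₗc[k] D) (hi : Function.Injective i)
    (hcd : (i : C →ₗ[k] D).lTensor V ∘ₗ HopfRep.Comod.coact (k := k) (A := C) =
      HopfRep.Comod.coact (k := k) (A := D) (V := V))
    (U : Submodule k V) (hU : HopfRep.IsSubcomod (k := k) (A := D) U) :
    HopfRep.IsSubcomod (k := k) (A := C) U := by
  obtain ⟨r, hr⟩ := exists_retraction (i : C →ₗ[k] D) hi
  rw [isSubcomod_iff_slice] at hU ⊢
  intro u hu φ
  have h1 := hU u hu (φ ∘ₗ r)
  have h2 : coact (A := D) u = (i : C →ₗ[k] D).lTensor V (coact (A := C) u) :=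
    (LinearMap.congr_fun hcd u).symm
  rw [h2, slice_lTensor, LinearMap.comp_assoc, hr, LinearMap.comp_id] at h1
  exact h1

theorem isSubcomod_pushComod (cC : HopfRep.Comod k C V) (i : C →ₗc[k] D) (U : Submodule k V)
    (hU : @HopfRep.IsSubcomod k C _ _ _ _ V _ _ cC U) :
    @HopfRep.IsSubcomod k D _ _ _ _ V _ _ (pushComod i cC) U := by
  intro u hu
  obtain ⟨y, hy⟩ := hU u hu
  refine ⟨(i : C →ₗ[k] D).lTensor U y, ?_⟩
  show U.subtype.rTensor D ((i : C →ₗ[k] D).lTensor U y) =
    (i : C →ₗ[k] D).lTensor V (cC.coact u)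
  rw [← hy, ← LinearMap.comp_apply, ← LinearMap.comp_apply, LinearMap.rTensor_comp_lTensor,
    LinearMap.lTensor_comp_rTensor]

end PushField

section Iso

variable {k : Type u} [Field k] {A : Type v} [AddCommGroup A] [Module k A] [Coalgebra k A]
  {V : Type w} [AddCommGroup V] [Module k V] [HopfRep.Comod k A V]

omit [Coalgebra k A] [HopfRep.Comod k A V] in
/-- all slices vanish implies zero -/
lemma eq_zero_of_slice_eq_zero {B : Type v'} [AddCommGroup B] [Module k B]
    (x : V ⊗[k] B) (h : ∀ φ : B →ₗ[k] k, slice φ x = 0) : x = 0 := by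
  have hall : ∀ y : (⊥ : Submodule k V) ⊗[k] B, y = 0 := by
    intro y
    induction y using TensorProduct.induction_on with
    | zero => rfl
    | tmul u b =>
      have : u = 0 := Subsingleton.elim _ _
      rw [this, TensorProduct.zero_tmul]
    | add a b ha hb => rw [ha, hb, add_zero]
  have := mem_range_rTensor_of_slice (⊥ : Submodule k V) x (fun φ => by rw [h φ]; exact zero_mem _)
  obtain ⟨y, rfl⟩ := this
  rw [hall y, map_zero]

omit [Coalgebra k A] [HopfRep.Comod k A V] in
/-- membership in `Q ⊗ i(C)` by slices -/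
theorem mem_range_lTensor_iff_slice {C : Type v'} [AddCommGroup C] [Module k C]
    (i : C →ₗ[k] A) (hi : Function.Injective i) (x : V ⊗[k] A) :
    x ∈ LinearMap.range (i.lTensor V) ↔ ∀ φ : A →ₗ[k] k, φ ∘ₗ i = 0 → slice φ x = 0 := by
  constructor
  · rintro ⟨y, rfl⟩ φ hφ
    rw [slice_lTensor, hφ]
    induction y using TensorProduct.induction_on with
    | zero => simp
    | tmul v c => simp
    | add a b ha hb => rw [map_add, ha, hb, add_zero]
  · intro h
    obtain ⟨r, hr⟩ := LinearMap.exists_leftInverse_of_injective i (LinearMap.ker_eq_bot.mpr hi)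
    have h0 : (LinearMap.id - i ∘ₗ r).lTensor V x = 0 := by
      apply eq_zero_of_slice_eq_zero
      intro ψ
      rw [slice_lTensor]
      apply h
      rw [LinearMap.comp_assoc, LinearMap.sub_comp, LinearMap.id_comp, LinearMap.comp_assoc, hr,
        LinearMap.comp_id, sub_self, LinearMap.comp_zero]
    rw [LinearMap.lTensor_sub, LinearMap.sub_apply, LinearMap.lTensor_id, LinearMap.id_apply,
      sub_eq_zero, LinearMap.lTensor_comp, LinearMap.comp_apply] at h0
    exact ⟨r.lTensor V x, h0.symm⟩

variable {T : Type w'} [AddCommGroup T] [Module k T] [HopfRep.Comod k A T]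
  {U : Type w''} [AddCommGroup U] [Module k U] [HopfRep.Comod k A U]

/-- if `h ∘ e = s` with `h` an injective comodule map and `s` a comodule map then `e` is a
comodule map -/
lemma isComodHom_of_comp_injective {h : U →ₗ[k] V} (hh : Hoch.IsComodHom A h)
    (hinj : Function.Injective h) {s : T →ₗ[k] V} (hs : Hoch.IsComodHom A s) (e : T →ₗ[k] U)
    (he : h ∘ₗ e = s) : Hoch.IsComodHom A e := by
  rw [isComodHom_iff] at hh hs ⊢
  intro τ
  have hinj' : Function.Injective (h.rTensor A) :=
    Module.Flat.rTensor_preserves_injective_linearMap _ hinj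
  apply hinj'
  have h1 : h (e τ) = s τ := LinearMap.congr_fun he τ
  rw [← hh (e τ), h1, hs, ← LinearMap.comp_apply (h.rTensor A), ← LinearMap.rTensor_comp, he]

/-- a simple comodule mapping injectively into an image of a simple comodule is isomorphic to it -/
theorem exists_comodIso_of_range_le (hT : HopfRep.IsSimpleComod k A T)
    (hU : HopfRep.IsSimpleComod k A U) {s : T →ₗ[k] V} (hs : Hoch.IsComodHom A s) (hs0 : s ≠ 0)
    {h : U →ₗ[k] V} (hh : Hoch.IsComodHom A h) (hle : LinearMap.range s ≤ LinearMap.range h) :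
    ∃ e : T ≃ₗ[k] U, Hoch.IsComodHom A (e : T →ₗ[k] U) := by
  have hsinj : Function.Injective s := by
    rcases hT.2 _ (isSubcomod_ker hs) with h0 | h0
    · exact LinearMap.ker_eq_bot.mp h0
    · exact absurd (LinearMap.ker_eq_top.mp h0) hs0
  have hh0 : h ≠ 0 := by
    rintro rfl
    apply hs0
    rw [LinearMap.range_zero, le_bot_iff, LinearMap.range_eq_bot] at hle
    exact hle
  have hhinj : Function.Injective h := by
    rcases hU.2 _ (isSubcomod_ker hh) with h0 | h0
    · exact LinearMap.ker_eq_bot.mp h0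
    · exact absurd (LinearMap.ker_eq_top.mp h0) hh0
  -- e = h⁻¹ ∘ s
  obtain ⟨e, he⟩ : ∃ e : T →ₗ[k] U, h ∘ₗ e = s := by
    let hE : U ≃ₗ[k] LinearMap.range h := LinearEquiv.ofInjective h hhinj
    refine ⟨hE.symm.toLinearMap ∘ₗ
      LinearMap.codRestrict (LinearMap.range h) s (fun τ => hle ⟨τ, rfl⟩), ?_⟩
    apply LinearMap.ext
    intro τ
    have : (hE (hE.symm ⟨s τ, hle ⟨τ, rfl⟩⟩) : V) = s τ := by
      rw [LinearEquiv.apply_symm_apply]
    simpa [hE] using this
  have hecomod : Hoch.IsComodHom A e := isComodHom_of_comp_injective hh hhinj hs e he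
  have heinj : Function.Injective e := by
    intro a b hab
    apply hsinj
    rw [← he, LinearMap.comp_apply, LinearMap.comp_apply, hab]
  have hesurj : Function.Surjective e := by
    rcases hU.2 _ (isSubcomod_range hecomod) with h0 | h0
    · exfalso
      apply hs0
      rw [← he, LinearMap.range_eq_bot.mp h0, LinearMap.comp_zero]
    · exact LinearMap.range_eq_top.mp h0
  exact ⟨LinearEquiv.ofBijective e ⟨heinj, hesurj⟩, hecomod⟩

/-- a simple subcomodule is finitely generated -/
lemma IsSimpleSub.fg {S : Submodule k V} (hS : IsSimpleSub A S) : S.FG := by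
  obtain ⟨u, huS, hu0⟩ := Submodule.exists_mem_ne_zero_of_ne_bot hS.2.1
  have hle : gen A (Submodule.span k {u}) ≤ S :=
    gen_le hS.1 ((Submodule.span_singleton_le_iff_mem u _).mpr huS)
  rcases hS.2.2 _ (isSubcomod_gen _) hle with h | h
  · exfalso
    have : u ∈ gen A (Submodule.span k {u}) := le_gen _ (Submodule.mem_span_singleton_self u)
    rw [h] at this
    exact hu0 (by simpa using this)
  · rw [← h]
    exact fg_gen _ (Submodule.fg_span_singleton u)

/-- a simple subcomodule with its restricted structure is a simple comodule -/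
lemma IsSimpleSub.isSimpleComod_restr {S : Submodule k V} (hS : IsSimpleSub A S) :
    @HopfRep.IsSimpleComod k A _ _ _ _ S _ _ (ComodSub.Comod.restr inferInstance S hS.1) := by
  letI := ComodSub.Comod.restr (inferInstance : HopfRep.Comod k A V) S hS.1
  have hsub : Hoch.IsComodHom A S.subtype := ComodSub.isComodHom_subtype inferInstance S hS.1
  refine ⟨?_, fun X hX => ?_⟩
  · obtain ⟨u, huS, hu0⟩ := Submodule.exists_mem_ne_zero_of_ne_bot hS.2.1
    exact ⟨⟨⟨u, huS⟩, 0, fun h => hu0 (congrArg Subtype.val h)⟩⟩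
  · have h1 := isSubcomod_map hsub X hX
    have hle : X.map S.subtype ≤ S := by
      rintro _ ⟨x, _, rfl⟩
      exact x.2
    rcases hS.2.2 _ h1 hle with h | h
    · left
      apply Submodule.map_injective_of_injective S.injective_subtype
      rw [h, Submodule.map_bot]
    · right
      rw [eq_top_iff]
      intro x _
      have : (x : V) ∈ X.map S.subtype := by rw [h]; exact x.2
      obtain ⟨y, hy, hyx⟩ := this
      have : y = x := Subtype.ext hyx
      rwa [← this]

/-- a simple comodule mapping nontrivially into a finite sum of images of simple comodules is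
isomorphic to one of them -/
theorem exists_comodIso_of_le_iSup_finset {ι : Type*} (F : Finset ι) (K : ι → Type w'')
    [∀ i, AddCommGroup (K i)] [∀ i, Module k (K i)] [∀ i, HopfRep.Comod k A (K i)]
    (hK : ∀ i, HopfRep.IsSimpleComod k A (K i)) (g : ∀ i, K i →ₗ[k] V)
    (hg : ∀ i, Hoch.IsComodHom A (g i)) (hT : HopfRep.IsSimpleComod k A T)
    {s : T →ₗ[k] V} (hs : Hoch.IsComodHom A s) (hs0 : s ≠ 0)
    (hle : LinearMap.range s ≤ ⨆ i ∈ F, LinearMap.range (g i)) :
    ∃ i ∈ F, ∃ e : T ≃ₗ[k] K i, Hoch.IsComodHom A (e : T →ₗ[k] K i) := by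
  classical
  induction F using Finset.induction_on with
  | empty =>
    exfalso
    apply hs0
    simp only [Finset.notMem_empty, iSup_false, iSup_bot, le_bot_iff] at hle
    exact LinearMap.range_eq_bot.mp hle
  | insert a F' ha ih =>
    by_cases hB : LinearMap.range s ≤ ⨆ i ∈ F', LinearMap.range (g i)
    · obtain ⟨i, hi, e, he⟩ := ih hB
      exact ⟨i, Finset.mem_insert_of_mem hi, e, he⟩
    · refine ⟨a, Finset.mem_insert_self a F', ?_⟩
      set B : Submodule k V := ⨆ i ∈ F', LinearMap.range (g i) with hBdef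
      have hBsub : HopfRep.IsSubcomod (k := k) (A := A) B :=
        isSubcomod_iSup _ fun i => isSubcomod_iSup _ fun _ => isSubcomod_range (hg i)
      letI cQ : HopfRep.Comod k A (V ⧸ B) := ComodSub.Comod.quot inferInstance B hBsub
      have hq : Hoch.IsComodHom A B.mkQ := ComodSub.isComodHom_mkQ inferInstance B hBsub
      have hs' : Hoch.IsComodHom A (B.mkQ ∘ₗ s) := isComodHom_comp hq hs
      have hh' : Hoch.IsComodHom A (B.mkQ ∘ₗ g a) := isComodHom_comp hq (hg a)
      have hs0' : B.mkQ ∘ₗ s ≠ 0 := by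
        intro h0
        apply hB
        rintro _ ⟨τ, rfl⟩
        have := LinearMap.congr_fun h0 τ
        simpa using this
      have hle' : LinearMap.range (B.mkQ ∘ₗ s) ≤ LinearMap.range (B.mkQ ∘ₗ g a) := by
        rintro _ ⟨τ, rfl⟩
        have h1 : s τ ∈ ⨆ i ∈ insert a F', LinearMap.range (g i) := hle ⟨τ, rfl⟩
        rw [Finset.iSup_insert] at h1
        obtain ⟨y, ⟨u, rfl⟩, b, hb, hsum⟩ := Submodule.mem_sup.mp h1
        refine ⟨u, ?_⟩
        rw [LinearMap.comp_apply, LinearMap.comp_apply, ← hsum, map_add]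
        have : B.mkQ b = 0 := by simpa using hb
        rw [this, add_zero]
      exact exists_comodIso_of_range_le hT (hK a) hs' hs0' hh' hle'

/-- image of a simple subcomodule under an injective comodule map -/
lemma IsSimpleSub.map_of_injective {f : T →ₗ[k] V} (hf : Hoch.IsComodHom A f)
    (hinj : Function.Injective f) {S : Submodule k T} (hS : IsSimpleSub A S) :
    IsSimpleSub A (S.map f) := by
  refine ⟨isSubcomod_map hf S hS.1, fun h => hS.2.1 ?_, fun U' hU' hle => ?_⟩
  · apply Submodule.map_injective_of_injective hinj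
    rw [h, Submodule.map_bot]
  · have hS' : HopfRep.IsSubcomod (k := k) (A := A) (U'.comap f ⊓ S) :=
      isSubcomod_inf _ _ (isSubcomod_comap hf U' hU') hS.1
    rcases hS.2.2 _ hS' inf_le_right with h | h
    · left
      rw [eq_bot_iff]
      intro u hu
      obtain ⟨s, hs, rfl⟩ := hle hu
      have : s ∈ U'.comap f ⊓ S := ⟨hu, hs⟩
      rw [h, Submodule.mem_bot] at this
      rw [this, map_zero]
      exact zero_mem _
    · right
      apply le_antisymm hle
      rw [Submodule.map_le_iff_le_comap]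
      rw [← h]
      exact inf_le_left

/-- if finite-dimensional comodules (in the universe of `V`) are semisimple then `V` is the sum of
its simple subcomodules -/
theorem iSup_simpleSub_eq_top_of_fd_semisimple
    (hG : ∀ (X : Type w) [AddCommGroup X] [Module k X] [HopfRep.Comod k A X],
      Module.Finite k X → HopfRep.IsSemisimpleComod k A X) :
    (⨆ S : {S : Submodule k V // IsSimpleSub A S}, (S.1 : Submodule k V)) = ⊤ := by
  rw [eq_top_iff]
  intro v _
  obtain ⟨N, hNfin, hvN, hN⟩ := exists_finite_subcomod_mem (k := k) (A := A) v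
  letI cN : HopfRep.Comod k A N := ComodSub.Comod.restr (inferInstance : HopfRep.Comod k A V) N hN
  have hsub : Hoch.IsComodHom A N.subtype := ComodSub.isComodHom_subtype inferInstance N hN
  have hss : HopfRep.IsSemisimpleComod k A N := hG N hNfin
  have hc : ComplementedLattice (subLat k A N) := (isSemisimpleComod_iff k A N).mp hss
  have h1 : sSup {a : subLat k A N | IsAtom a} = ⊤ := sSup_atoms_eq_top
  have h2 := congrArg (fun a : subLat k A N => (a : Submodule k N)) h1
  simp only [CompleteSublattice.coe_sSup, CompleteSublattice.coe_top] at h2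
  have h3 : (⟨v, hvN⟩ : N) ∈ sSup {x : Submodule k N | ∃ s ∈ {a : subLat k A N | IsAtom a}, ↑s = x} := by
    rw [h2]; trivial
  have h4 : v ∈ (sSup {x : Submodule k N | ∃ s ∈ {a : subLat k A N | IsAtom a}, ↑s = x}).map
      N.subtype := ⟨⟨v, hvN⟩, h3, rfl⟩
  rw [sSup_eq_iSup', Submodule.map_iSup] at h4
  have hle : (⨆ i : {x : Submodule k N // ∃ s ∈ {a : subLat k A N | IsAtom a}, ↑s = x},
      Submodule.map N.subtype i.1) ≤
      ⨆ S : {S : Submodule k V // IsSimpleSub A S}, (S.1 : Submodule k V) := by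
    apply iSup_le
    rintro ⟨_, a, ha, rfl⟩
    have hs : IsSimpleSub A (a : Submodule k N) := (isAtom_iff a).mp ha
    exact le_iSup (fun S : {S : Submodule k V // IsSimpleSub A S} => (S.1 : Submodule k V))
      ⟨_, hs.map_of_injective hsub N.injective_subtype⟩
  exact hle h4

/-- if finite-dimensional comodules are semisimple then all comodules are -/
theorem isSemisimpleComod_of_fd_semisimple
    (hG : ∀ (X : Type w) [AddCommGroup X] [Module k X] [HopfRep.Comod k A X],
      Module.Finite k X → HopfRep.IsSemisimpleComod k A X) :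
    HopfRep.IsSemisimpleComod k A V := by
  intro U hU
  obtain ⟨J, -, hc⟩ := exists_set_iSupIndep_isCompl_subcomod (A := A)
    (fun S : {S : Submodule k V // IsSimpleSub A S} => (S.1 : Submodule k V)) (fun S => S.2)
    (iSup_simpleSub_eq_top_of_fd_semisimple hG) U hU
  exact ⟨_, isSubcomod_iSup _ fun j => j.1.2.1, hc⟩

/-- version for arbitrary families, for a simple subcomodule -/
theorem IsSimpleSub.exists_comodIso_of_le_iSup {ι : Type*} {S : Submodule k V}
    (hS : IsSimpleSub A S) (K : ι → Type w'')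
    [∀ i, AddCommGroup (K i)] [∀ i, Module k (K i)] [∀ i, HopfRep.Comod k A (K i)]
    (hK : ∀ i, HopfRep.IsSimpleComod k A (K i)) (g : ∀ i, K i →ₗ[k] V)
    (hg : ∀ i, Hoch.IsComodHom A (g i)) (hle : S ≤ ⨆ i, LinearMap.range (g i)) :
    ∃ i, ∃ e : @LinearEquiv k k _ _ (RingHom.id k) (RingHom.id k) _ _ S (K i) _ _ _ _,
      @Hoch.IsComodHom k _ A _ _ _ S _ _ (ComodSub.Comod.restr inferInstance S hS.1) (K i) _ _ _
        (e : S →ₗ[k] K i) := by
  letI := ComodSub.Comod.restr (inferInstance : HopfRep.Comod k A V) S hS.1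
  have hsub : Hoch.IsComodHom A S.subtype := ComodSub.isComodHom_subtype inferInstance S hS.1
  have hcpt := (Submodule.fg_iff_compact S).mp hS.fg
  obtain ⟨F, hF⟩ := CompleteLattice.IsCompactElement.exists_finset_of_le_iSup (Submodule k V) hcpt _ hle
  have hs0 : S.subtype ≠ 0 := by
    intro h
    apply hS.2.1
    rw [← Submodule.range_subtype S, h, LinearMap.range_zero]
  obtain ⟨i, -, e, he⟩ := exists_comodIso_of_le_iSup_finset F K hK g hg hS.isSimpleComod_restr
    hsub hs0 (by rw [Submodule.range_subtype]; exact hF)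
  exact ⟨i, e, he⟩

end Iso

end Groth.Agent.H9.Comod
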