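import Mathlib
import Groth.Agent.Lib.Helper9.Comod

/-!
# Left slices, matrix coefficients, coefficient spaces, subcoalgebras (helper9)
-/

set_option autoImplicit false

universe u v w w' w''

open TensorProduct

namespace Groth.Agent.H9.Comod

section SliceL

variable {k : Type u} [CommRing k] {A : Type v} [AddCommGroup A] [Module k A]
  {V : Type w} [AddCommGroup V] [Module k V] {W : Type w'} [AddCommGroup W] [Module k W]

/-- left slice `V ⊗ A → A`, `v ⊗ a ↦ ψ(v) a` -/
noncomputable def sliceL (ψ : V →ₗ[k] k) : V ⊗[k] A →ₗ[k] A :=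
  (TensorProduct.lid k A).toLinearMap ∘ₗ LinearMap.rTensor A ψ

@[simp] lemma sliceL_tmul (ψ : V →ₗ[k] k) (v : V) (a : A) : sliceL ψ (v ⊗ₜ[k] a) = ψ v • a := by
  simp [sliceL]

lemma sliceL_eq_slice_comm (ψ : V →ₗ[k] k) (x : V ⊗[k] A) :
    sliceL ψ x = slice ψ (TensorProduct.comm k V A x) := by
  induction x using TensorProduct.induction_on with
  | zero => simp
  | tmul v a => simp
  | add x y hx hy => simp only [map_add, hx, hy]

lemma sliceL_lTensor {B : Type*} [AddCommGroup B] [Module k B] (ψ : V →ₗ[k] k) (g : A →ₗ[k] B)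
    (x : V ⊗[k] A) : sliceL ψ (g.lTensor V x) = g (sliceL ψ x) := by
  induction x using TensorProduct.induction_on with
  | zero => simp
  | tmul v a => simp
  | add x y hx hy => simp only [map_add, hx, hy]

lemma sliceL_rTensor (ψ : W →ₗ[k] k) (f : V →ₗ[k] W) (x : V ⊗[k] A) :
    sliceL ψ (f.rTensor A x) = sliceL (ψ ∘ₗ f) x := by
  induction x using TensorProduct.induction_on with
  | zero => simp
  | tmul v a => simp
  | add x y hx hy => simp only [map_add, hx, hy]

theorem mem_range_lTensor_subtype_iff_sliceL [Module.Free k V] (D : Submodule k A)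
    (x : V ⊗[k] A) :
    x ∈ LinearMap.range (D.subtype.lTensor V) ↔ ∀ ψ : V →ₗ[k] k, sliceL ψ x ∈ D := by
  have hnat : ∀ y : V ⊗[k] D, TensorProduct.comm k V A (D.subtype.lTensor V y) =
      D.subtype.rTensor V (TensorProduct.comm k V D y) := by
    intro y
    induction y using TensorProduct.induction_on with
    | zero => simp
    | tmul v d => simp
    | add a b ha hb => simp only [map_add, ha, hb]
  have h1 : x ∈ LinearMap.range (D.subtype.lTensor V) ↔
      TensorProduct.comm k V A x ∈ LinearMap.range (D.subtype.rTensor V) := by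
    constructor
    · rintro ⟨y, rfl⟩
      exact ⟨TensorProduct.comm k V D y, (hnat y).symm⟩
    · rintro ⟨y, hy⟩
      refine ⟨(TensorProduct.comm k V D).symm y, ?_⟩
      apply (TensorProduct.comm k V A).injective
      rw [hnat, LinearEquiv.apply_symm_apply, hy]
  rw [h1, mem_range_rTensor_iff_slice]
  constructor
  · intro h ψ
    rw [sliceL_eq_slice_comm]
    exact h ψ
  · intro h ψ
    rw [← sliceL_eq_slice_comm]
    exact h ψ

end SliceL

section Coeff

variable {k : Type u} [Field k] {A : Type v} [AddCommGroup A] [Module k A] [Coalgebra k A]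
  {V : Type w} [AddCommGroup V] [Module k V] [HopfRep.Comod k A V]
  {W : Type w'} [AddCommGroup W] [Module k W] [HopfRep.Comod k A W]

variable (A) in
/-- matrix coefficient map `v ↦ (ψ ⊗ id)(ρ v)` -/
noncomputable def mcoef (ψ : V →ₗ[k] k) : V →ₗ[k] A :=
  sliceL ψ ∘ₗ HopfRep.Comod.coact (k := k) (A := A)

/-- matrix coefficient maps are comodule maps to the regular comodule -/
theorem isComodHom_mcoef (ψ : V →ₗ[k] k) : Hoch.IsComodHom A (mcoef A ψ) := by
  rw [isComodHom_iff]
  intro v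
  have h := LinearMap.congr_fun (HopfRep.Comod.coassoc (k := k) (A := A) (V := V)) v
  simp only [LinearMap.comp_apply, LinearEquiv.coe_coe] at h
  show CoalgebraStruct.comul (R := k) (sliceL ψ (HopfRep.Comod.coact (k := k) (A := A) v)) =
    (mcoef A ψ).rTensor A (HopfRep.Comod.coact (k := k) (A := A) v)
  rw [← sliceL_lTensor, ← h]
  generalize HopfRep.Comod.coact (k := k) (A := A) v = x
  induction x using TensorProduct.induction_on with
  | zero => simp
  | tmul v' a =>
    rw [LinearMap.rTensor_tmul, LinearMap.rTensor_tmul]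
    show sliceL ψ (TensorProduct.assoc k V A A
      (HopfRep.Comod.coact (k := k) (A := A) v' ⊗ₜ[k] a)) =
      sliceL ψ (HopfRep.Comod.coact (k := k) (A := A) v') ⊗ₜ[k] a
    generalize HopfRep.Comod.coact (k := k) (A := A) v' = y
    induction y using TensorProduct.induction_on with
    | zero => simp
    | tmul v'' a' =>
      simp only [TensorProduct.assoc_tmul, sliceL_tmul, TensorProduct.smul_tmul']
    | add y z hy hz => simp only [TensorProduct.add_tmul, map_add, hy, hz]
  | add x y hx hy => simp only [map_add, hx, hy]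

variable (k A V) in
/-- the coefficient space of a comodule -/
noncomputable def coeffSpace : Submodule k A := ⨆ ψ : V →ₗ[k] k, LinearMap.range (mcoef A ψ)

lemma mcoef_mem_coeffSpace (ψ : V →ₗ[k] k) (v : V) : mcoef A ψ v ∈ coeffSpace k A V :=
  (le_iSup (fun ψ : V →ₗ[k] k => LinearMap.range (mcoef A ψ)) ψ) ⟨v, rfl⟩

theorem coact_mem_coeffSpace (v : V) :
    HopfRep.Comod.coact (k := k) (A := A) v ∈
      LinearMap.range ((coeffSpace k A V).subtype.lTensor V) := by
  rw [mem_range_lTensor_subtype_iff_sliceL]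
  intro ψ
  exact mcoef_mem_coeffSpace ψ v

theorem coeffSpace_le (D : Submodule k A)
    (h : ∀ v : V, HopfRep.Comod.coact (k := k) (A := A) v ∈
      LinearMap.range (D.subtype.lTensor V)) : coeffSpace k A V ≤ D := by
  apply iSup_le
  rintro ψ _ ⟨v, rfl⟩
  exact (mem_range_lTensor_subtype_iff_sliceL D _).mp (h v) ψ

theorem isLeast_coeffSpace :
    IsLeast {D' : Submodule k A | ∀ e : V, HopfRep.Comod.coact (k := k) (A := A) e ∈
      LinearMap.range (LinearMap.lTensor V D'.subtype)} (coeffSpace k A V) :=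
  ⟨fun v => coact_mem_coeffSpace v, fun D hD => coeffSpace_le D hD⟩

end Coeff

section Subcoalg

variable {k : Type u} [Field k] {A : Type v} [AddCommGroup A] [Module k A]
  {V : Type w} [AddCommGroup V] [Module k V]

/-- `(U ⊗ A) ∩ (V ⊗ D) = U ⊗ D` inside `V ⊗ A` -/
theorem mem_range_map_subtype_iff (U : Submodule k V) (D : Submodule k A) (x : V ⊗[k] A) :
    x ∈ LinearMap.range (TensorProduct.map U.subtype D.subtype) ↔
      x ∈ LinearMap.range (U.subtype.rTensor A) ∧ x ∈ LinearMap.range (D.subtype.lTensor V) := by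
  constructor
  · rintro ⟨y, rfl⟩
    refine ⟨⟨D.subtype.lTensor U y, ?_⟩, ⟨U.subtype.rTensor D y, ?_⟩⟩
    · rw [← LinearMap.comp_apply, LinearMap.rTensor_comp_lTensor]
    · rw [← LinearMap.comp_apply, LinearMap.lTensor_comp_rTensor]
  · rintro ⟨⟨y, rfl⟩, ⟨z, hz⟩⟩
    obtain ⟨p, hp⟩ := LinearMap.exists_leftInverse_of_injective D.subtype
      (LinearMap.ker_eq_bot.mpr D.injective_subtype)
    refine ⟨p.lTensor U y, ?_⟩
    have h1 : TensorProduct.map U.subtype D.subtype (p.lTensor U y) =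
        (D.subtype ∘ₗ p).lTensor V (U.subtype.rTensor A y) := by
      rw [← LinearMap.comp_apply, ← LinearMap.comp_apply, LinearMap.lTensor_comp_rTensor]
      congr 1
      apply TensorProduct.ext'
      intro u a
      simp
    rw [h1, ← hz, ← LinearMap.comp_apply, ← LinearMap.lTensor_comp, LinearMap.comp_assoc, hp,
      LinearMap.comp_id]

theorem mem_range_map_subtype_iff_slice (U : Submodule k V) (D : Submodule k A) (x : V ⊗[k] A) :
    x ∈ LinearMap.range (TensorProduct.map U.subtype D.subtype) ↔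
      (∀ φ : A →ₗ[k] k, slice φ x ∈ U) ∧ (∀ ψ : V →ₗ[k] k, sliceL ψ x ∈ D) := by
  rw [mem_range_map_subtype_iff, mem_range_rTensor_iff_slice, mem_range_lTensor_subtype_iff_sliceL]

variable [Coalgebra k A]

variable (k) in
/-- subcoalgebra: comultiplication lands in `B ⊗ B` -/
def IsSubcoalg (B : Submodule k A) : Prop :=
  ∀ b ∈ B, CoalgebraStruct.comul (R := k) b ∈
    LinearMap.range (TensorProduct.map B.subtype B.subtype)

variable (k) in
/-- simple subcoalgebra -/
def IsSimpleSubcoalg (D : Submodule k A) : Prop :=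
  D ≠ ⊥ ∧ IsSubcoalg k D ∧ ∀ B : Submodule k A, B ≤ D → IsSubcoalg k B → B = ⊥ ∨ B = D

theorem isSubcoalg_iff (B : Submodule k A) :
    IsSubcoalg k B ↔ ∀ b ∈ B, (∀ φ : A →ₗ[k] k, slice φ (CoalgebraStruct.comul (R := k) b) ∈ B) ∧
      (∀ ψ : A →ₗ[k] k, sliceL ψ (CoalgebraStruct.comul (R := k) b) ∈ B) := by
  unfold IsSubcoalg
  simp only [mem_range_map_subtype_iff_slice]

theorem IsSubcoalg.isSubcomod {B : Submodule k A} (hB : IsSubcoalg k B) :
    HopfRep.IsSubcomod (k := k) (A := A) (V := A) B := by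
  intro b hb
  exact ((mem_range_map_subtype_iff B B _).mp (hB b hb)).1

theorem isSubcoalg_bot : IsSubcoalg k (⊥ : Submodule k A) := by
  rw [isSubcoalg_iff]
  intro b hb
  rw [Submodule.mem_bot] at hb
  subst hb
  simp

theorem isSubcoalg_top : IsSubcoalg k (⊤ : Submodule k A) := by
  rw [isSubcoalg_iff]
  intro b _
  exact ⟨fun _ => trivial, fun _ => trivial⟩

theorem isSubcoalg_inf {B B' : Submodule k A} (hB : IsSubcoalg k B) (hB' : IsSubcoalg k B') :
    IsSubcoalg k (B ⊓ B') := by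
  rw [isSubcoalg_iff] at hB hB' ⊢
  intro b hb
  exact ⟨fun φ => ⟨(hB b hb.1).1 φ, (hB' b hb.2).1 φ⟩, fun ψ => ⟨(hB b hb.1).2 ψ, (hB' b hb.2).2 ψ⟩⟩

theorem isSubcoalg_iSup {ι : Sort*} (S : ι → Submodule k A) (hS : ∀ i, IsSubcoalg k (S i)) :
    IsSubcoalg k (⨆ i, S i) := by
  rw [isSubcoalg_iff]
  intro b hb
  refine Submodule.iSup_induction S (motive := fun b =>
    (∀ φ : A →ₗ[k] k, slice φ (CoalgebraStruct.comul (R := k) b) ∈ ⨆ i, S i) ∧
      (∀ ψ : A →ₗ[k] k, sliceL ψ (CoalgebraStruct.comul (R := k) b) ∈ ⨆ i, S i)) hb ?_ ?_ ?_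
  · intro i x hx
    have := (isSubcoalg_iff _).mp (hS i) x hx
    exact ⟨fun φ => le_iSup S i (this.1 φ), fun ψ => le_iSup S i (this.2 ψ)⟩
  · simp
  · intro x y hx hy
    refine ⟨fun φ => ?_, fun ψ => ?_⟩
    · rw [map_add, map_add]; exact add_mem (hx.1 φ) (hy.1 φ)
    · rw [map_add, map_add]; exact add_mem (hx.2 ψ) (hy.2 ψ)

end Subcoalg

section CoeffCoalg

variable {k : Type u} [Field k] {A : Type v} [AddCommGroup A] [Module k A] [Coalgebra k A]
  {V : Type w} [AddCommGroup V] [Module k V] [HopfRep.Comod k A V]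
  {W : Type w'} [AddCommGroup W] [Module k W] [HopfRep.Comod k A W]

lemma mcoef_apply (ψ : V →ₗ[k] k) (v : V) :
    mcoef A ψ v = sliceL ψ (HopfRep.Comod.coact (k := k) (A := A) v) := rfl

lemma comul_mcoef (ψ : V →ₗ[k] k) (v : V) :
    CoalgebraStruct.comul (R := k) (mcoef A ψ v) =
      (mcoef A ψ).rTensor A (HopfRep.Comod.coact (k := k) (A := A) v) :=
  (isComodHom_iff (mcoef A ψ)).mp (isComodHom_mcoef ψ) v

omit [Coalgebra k A] [HopfRep.Comod k A V] in
lemma apply_sliceL (φ : A →ₗ[k] k) (ψ : V →ₗ[k] k) (x : V ⊗[k] A) :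
    φ (sliceL ψ x) = ψ (slice φ x) := by
  induction x using TensorProduct.induction_on with
  | zero => simp
  | tmul v a => simp [mul_comm]
  | add x y hx hy => simp only [map_add, hx, hy]

lemma counit_mcoef (ψ : V →ₗ[k] k) (v : V) :
    Coalgebra.counit (R := k) (A := A) (mcoef A ψ v) = ψ v := by
  rw [mcoef_apply, apply_sliceL, slice_counit_coact]

theorem isSubcoalg_coeffSpace : IsSubcoalg k (coeffSpace k A V) := by
  rw [isSubcoalg_iff]
  intro b hb
  refine Submodule.iSup_induction (fun ψ : V →ₗ[k] k => LinearMap.range (mcoef A ψ)) (motive := fun b =>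
    (∀ φ : A →ₗ[k] k, slice φ (CoalgebraStruct.comul (R := k) b) ∈ coeffSpace k A V) ∧
      (∀ ψ : A →ₗ[k] k, sliceL ψ (CoalgebraStruct.comul (R := k) b) ∈ coeffSpace k A V)) hb ?_ ?_ ?_
  · rintro ψ _ ⟨v, rfl⟩
    constructor
    · intro φ
      rw [comul_mcoef, slice_rTensor]
      exact mcoef_mem_coeffSpace ψ _
    · intro ψ'
      rw [comul_mcoef, sliceL_rTensor]
      exact mcoef_mem_coeffSpace (ψ' ∘ₗ mcoef A ψ) v
  · simp
  · intro x y hx hy
    refine ⟨fun φ => ?_, fun ψ => ?_⟩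
    · rw [map_add, map_add]; exact add_mem (hx.1 φ) (hy.1 φ)
    · rw [map_add, map_add]; exact add_mem (hx.2 ψ) (hy.2 ψ)

lemma mcoef_apply_of_isComodHom {f : V →ₗ[k] W} (hf : Hoch.IsComodHom A f) (ψ : W →ₗ[k] k)
    (v : V) : mcoef A ψ (f v) = mcoef A (ψ ∘ₗ f) v := by
  rw [mcoef_apply, mcoef_apply, (isComodHom_iff f).mp hf v, sliceL_rTensor]

theorem coeffSpace_le_of_surjective {f : V →ₗ[k] W} (hf : Hoch.IsComodHom A f)
    (hs : Function.Surjective f) : coeffSpace k A W ≤ coeffSpace k A V := by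
  apply iSup_le
  rintro ψ _ ⟨w, rfl⟩
  obtain ⟨v, rfl⟩ := hs w
  rw [mcoef_apply_of_isComodHom hf]
  exact mcoef_mem_coeffSpace _ v

theorem coeffSpace_le_of_injective {f : V →ₗ[k] W} (hf : Hoch.IsComodHom A f)
    (hi : Function.Injective f) : coeffSpace k A V ≤ coeffSpace k A W := by
  apply iSup_le
  rintro ψ _ ⟨v, rfl⟩
  obtain ⟨r, hr⟩ := LinearMap.exists_leftInverse_of_injective f (LinearMap.ker_eq_bot.mpr hi)
  have : mcoef A ψ v = mcoef A (ψ ∘ₗ r) (f v) := by
    rw [mcoef_apply_of_isComodHom hf, LinearMap.comp_assoc, hr, LinearMap.comp_id]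
  rw [this]
  exact mcoef_mem_coeffSpace _ _

theorem coeffSpace_eq_of_equiv (e : V ≃ₗ[k] W) (he : Hoch.IsComodHom A (e : V →ₗ[k] W)) :
    coeffSpace k A V = coeffSpace k A W :=
  le_antisymm (coeffSpace_le_of_injective he e.injective) (coeffSpace_le_of_surjective he e.surjective)

theorem coeffSpace_ne_bot [Nontrivial V] : coeffSpace k A V ≠ ⊥ := by
  intro h
  obtain ⟨v, hv⟩ := exists_ne (0 : V)
  apply hv
  rw [← Module.forall_dual_apply_eq_zero_iff k]
  intro ψ
  have h1 : mcoef A ψ v ∈ coeffSpace k A V := mcoef_mem_coeffSpace ψ v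
  rw [h, Submodule.mem_bot] at h1
  have h2 := counit_mcoef (A := A) ψ v
  rw [h1, map_zero] at h2
  exact h2.symm

lemma sliceL_counit_comul (a : A) :
    sliceL (Coalgebra.counit (R := k) (A := A)) (CoalgebraStruct.comul (R := k) a) = a := by
  show (TensorProduct.lid k A) (LinearMap.rTensor A _ _) = a
  rw [Coalgebra.rTensor_counit_comul, TensorProduct.lid_tmul, one_smul]

/-- the coefficient space of a subcomodule of the regular comodule contained in a subcoalgebra -/
theorem coeffSpace_restr_le {B : Submodule k A} (hB : IsSubcoalg k B) {F : Submodule k A}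
    (hF : HopfRep.IsSubcomod (k := k) (A := A) (V := A) F) (hFB : F ≤ B) :
    @coeffSpace k _ A _ _ _ F _ _ (ComodSub.Comod.restr inferInstance F hF) ≤ B := by
  letI := ComodSub.Comod.restr (inferInstance : HopfRep.Comod k A A) F hF
  have hsub : Hoch.IsComodHom A F.subtype := ComodSub.isComodHom_subtype inferInstance F hF
  apply iSup_le
  rintro ψ _ ⟨f, rfl⟩
  obtain ⟨r, hr⟩ := LinearMap.exists_leftInverse_of_injective F.subtype
    (LinearMap.ker_eq_bot.mpr F.injective_subtype)
  have h1 : mcoef A ψ f = mcoef A (ψ ∘ₗ r) (F.subtype f) := by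
    rw [mcoef_apply_of_isComodHom hsub, LinearMap.comp_assoc, hr, LinearMap.comp_id]
  rw [h1]
  exact ((isSubcoalg_iff B).mp hB _ (hFB f.2)).2 (ψ ∘ₗ r)

/-- a subcomodule of the regular comodule is contained in its coefficient space -/
theorem le_coeffSpace_restr {F : Submodule k A}
    (hF : HopfRep.IsSubcomod (k := k) (A := A) (V := A) F) :
    F ≤ @coeffSpace k _ A _ _ _ F _ _ (ComodSub.Comod.restr inferInstance F hF) := by
  letI := ComodSub.Comod.restr (inferInstance : HopfRep.Comod k A A) F hF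
  have hsub : Hoch.IsComodHom A F.subtype := ComodSub.isComodHom_subtype inferInstance F hF
  intro f hf
  have h1 : mcoef A (Coalgebra.counit (R := k) (A := A)) (F.subtype ⟨f, hf⟩) = f :=
    sliceL_counit_comul f
  rw [mcoef_apply_of_isComodHom hsub] at h1
  rw [← h1]
  exact mcoef_mem_coeffSpace _ _

lemma eq_zero_or_injective_of_isSimpleComod (hV : HopfRep.IsSimpleComod k A V) {f : V →ₗ[k] W}
    (hf : Hoch.IsComodHom A f) : f = 0 ∨ Function.Injective f := by
  rcases hV.2 _ (isSubcomod_ker hf) with h0 | h0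
  · exact Or.inr (LinearMap.ker_eq_bot.mp h0)
  · exact Or.inl (LinearMap.ker_eq_top.mp h0)

theorem isSimpleSubcoalg_coeffSpace (hE : HopfRep.IsSimpleComod k A V) :
    IsSimpleSubcoalg k (coeffSpace k A V) := by
  haveI := hE.1
  refine ⟨coeffSpace_ne_bot, isSubcoalg_coeffSpace, fun B hBD hB => ?_⟩
  by_cases hB0 : B = ⊥
  · exact Or.inl hB0
  right
  apply le_antisymm hBD
  obtain ⟨F, hFB, hF⟩ := exists_simpleSub_le (A := A) B hB.isSubcomod hB0
  obtain ⟨ψ, e, he⟩ := hF.exists_comodIso_of_le_iSup (fun _ : (V →ₗ[k] k) => V) (fun _ => hE)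
    (fun ψ => mcoef A ψ) (fun ψ => isComodHom_mcoef ψ) (hFB.trans hBD)
  letI := ComodSub.Comod.restr (inferInstance : HopfRep.Comod k A A) F hF.1
  rw [← coeffSpace_eq_of_equiv e he]
  exact coeffSpace_restr_le hB hF.1 hFB

/-- a simple comodule is finite-dimensional -/
lemma finite_of_isSimpleComod (hV : HopfRep.IsSimpleComod k A V) : Module.Finite k V := by
  haveI := hV.1
  obtain ⟨v, hv⟩ := exists_ne (0 : V)
  obtain ⟨N, hNfin, hvN, hN⟩ := exists_finite_subcomod_mem (k := k) (A := A) v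
  rcases hV.2 N hN with h | h
  · exfalso
    rw [h, Submodule.mem_bot] at hvN
    exact hv hvN
  · rw [h] at hNfin
    exact Module.Finite.equiv (Submodule.topEquiv : (⊤ : Submodule k V) ≃ₗ[k] V)

/-- a simple comodule mapping nontrivially into a sum of images of simple comodules is
isomorphic to one of them -/
theorem exists_comodIso_of_le_iSup {ι : Type*} {T : Type w'} [AddCommGroup T] [Module k T]
    [HopfRep.Comod k A T] (K : ι → Type w'')
    [∀ i, AddCommGroup (K i)] [∀ i, Module k (K i)] [∀ i, HopfRep.Comod k A (K i)]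
    (hK : ∀ i, HopfRep.IsSimpleComod k A (K i)) (g : ∀ i, K i →ₗ[k] V)
    (hg : ∀ i, Hoch.IsComodHom A (g i)) (hT : HopfRep.IsSimpleComod k A T)
    {s : T →ₗ[k] V} (hs : Hoch.IsComodHom A s) (hs0 : s ≠ 0)
    (hle : LinearMap.range s ≤ ⨆ i, LinearMap.range (g i)) :
    ∃ i, ∃ e : T ≃ₗ[k] K i, Hoch.IsComodHom A (e : T →ₗ[k] K i) := by
  haveI := finite_of_isSimpleComod hT
  have hfg : (LinearMap.range s).FG := by
    rw [← Submodule.map_top]
    exact Submodule.FG.map _ Module.Finite.fg_top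
  have hcpt := (Submodule.fg_iff_compact _).mp hfg
  obtain ⟨F, hF⟩ := CompleteLattice.IsCompactElement.exists_finset_of_le_iSup (Submodule k V) hcpt _ hle
  obtain ⟨i, -, e, he⟩ := exists_comodIso_of_le_iSup_finset F K hK g hg hT hs hs0 hF
  exact ⟨i, e, he⟩

/-- simple comodules with the same coefficient space are isomorphic -/
theorem exists_comodIso_of_coeffSpace_eq (hV : HopfRep.IsSimpleComod k A V)
    (hW : HopfRep.IsSimpleComod k A W) (h : coeffSpace k A V = coeffSpace k A W) :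
    ∃ e : V ≃ₗ[k] W, Hoch.IsComodHom A (e : V →ₗ[k] W) := by
  haveI := hW.1
  obtain ⟨w, hw⟩ := exists_ne (0 : W)
  obtain ⟨ψ, hψ⟩ : ∃ ψ : W →ₗ[k] k, ψ w ≠ 0 := by
    by_contra hcon
    push Not at hcon
    exact hw ((Module.forall_dual_apply_eq_zero_iff k w).mp hcon)
  have hs0 : mcoef A ψ ≠ 0 := by
    intro h0
    apply hψ
    rw [← counit_mcoef (A := A) ψ w, h0, LinearMap.zero_apply, map_zero]
  have hle : LinearMap.range (mcoef A ψ) ≤ ⨆ φ : V →ₗ[k] k, LinearMap.range (mcoef A φ) := by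
    show _ ≤ coeffSpace k A V
    rw [h]
    exact le_iSup (fun ψ : W →ₗ[k] k => LinearMap.range (mcoef A ψ)) ψ
  obtain ⟨φ, e, he⟩ := exists_comodIso_of_le_iSup (fun _ : (V →ₗ[k] k) => V) (fun _ => hV)
    (fun φ => mcoef A φ) (fun φ => isComodHom_mcoef φ) hW (isComodHom_mcoef ψ) hs0 hle
  exact ⟨e.symm, isComodHom_symm e he⟩

/-- characterisation of the coefficient space of a subcomodule of the regular comodule -/
theorem coeffSpace_restr_le_iff {F : Submodule k A}
    (hF : HopfRep.IsSubcomod (k := k) (A := A) (V := A) F) (D' : Submodule k A) :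
    @coeffSpace k _ A _ _ _ F _ _ (ComodSub.Comod.restr inferInstance F hF) ≤ D' ↔
      ∀ f ∈ F, CoalgebraStruct.comul (R := k) f ∈ LinearMap.range (D'.subtype.lTensor A) := by
  letI := ComodSub.Comod.restr (inferInstance : HopfRep.Comod k A A) F hF
  have hsub : Hoch.IsComodHom A F.subtype := ComodSub.isComodHom_subtype inferInstance F hF
  constructor
  · intro h f hf
    rw [mem_range_lTensor_subtype_iff_sliceL]
    intro ψ
    have h1 : mcoef A ψ (F.subtype ⟨f, hf⟩) = sliceL ψ (CoalgebraStruct.comul (R := k) f) := rfl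
    rw [← h1, mcoef_apply_of_isComodHom hsub]
    exact h (mcoef_mem_coeffSpace _ _)
  · intro h
    apply iSup_le
    rintro ψ _ ⟨f, rfl⟩
    obtain ⟨r, hr⟩ := LinearMap.exists_leftInverse_of_injective F.subtype
      (LinearMap.ker_eq_bot.mpr F.injective_subtype)
    have h1 : mcoef A ψ f = mcoef A (ψ ∘ₗ r) (F.subtype f) := by
      rw [mcoef_apply_of_isComodHom hsub, LinearMap.comp_assoc, hr, LinearMap.comp_id]
    rw [h1]
    exact (mem_range_lTensor_subtype_iff_sliceL D' _).mp (h f f.2) (ψ ∘ₗ r)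

/-- every simple subcoalgebra is the coefficient space of a simple subcomodule of the regular
comodule -/
theorem IsSimpleSubcoalg.exists_simpleSub {D : Submodule k A} (hD : IsSimpleSubcoalg k D) :
    ∃ (E : Submodule k A) (hE : IsSimpleSub A E), E ≤ D ∧
      @coeffSpace k _ A _ _ _ E _ _ (ComodSub.Comod.restr inferInstance E hE.1) = D := by
  obtain ⟨E, hED, hE⟩ := exists_simpleSub_le (A := A) D hD.2.1.isSubcomod hD.1
  refine ⟨E, hE, hED, ?_⟩
  letI := ComodSub.Comod.restr (inferInstance : HopfRep.Comod k A A) E hE.1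
  have hle := coeffSpace_restr_le hD.2.1 hE.1 hED
  rcases hD.2.2 _ hle isSubcoalg_coeffSpace with h | h
  · exfalso
    haveI := hE.isSimpleComod_restr.1
    exact coeffSpace_ne_bot h
  · exact h

theorem eq_zero_of_coact_mem_of_disjoint {D₁ D₂ : Submodule k A} (hdisj : D₁ ⊓ D₂ = ⊥) (v : V)
    (h1 : HopfRep.Comod.coact (k := k) (A := A) v ∈ LinearMap.range (D₁.subtype.lTensor V))
    (h2 : HopfRep.Comod.coact (k := k) (A := A) v ∈ LinearMap.range (D₂.subtype.lTensor V)) :
    v = 0 := by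
  rw [← Module.forall_dual_apply_eq_zero_iff k]
  intro ψ
  have h3 : mcoef A ψ v ∈ D₁ ⊓ D₂ :=
    ⟨(mem_range_lTensor_subtype_iff_sliceL D₁ _).mp h1 ψ,
      (mem_range_lTensor_subtype_iff_sliceL D₂ _).mp h2 ψ⟩
  rw [hdisj, Submodule.mem_bot] at h3
  have h4 := counit_mcoef (A := A) ψ v
  rw [h3, map_zero] at h4
  exact h4.symm

theorem IsSimpleSubcoalg.inf_eq_bot {D₁ D₂ : Submodule k A} (h₁ : IsSimpleSubcoalg k D₁)
    (h₂ : IsSimpleSubcoalg k D₂) (hne : D₁ ≠ D₂) : D₁ ⊓ D₂ = ⊥ := by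
  rcases h₁.2.2 _ inf_le_left (isSubcoalg_inf h₁.2.1 h₂.2.1) with h | h
  · exact h
  · exfalso
    have hle : D₁ ≤ D₂ := by rw [← h]; exact inf_le_right
    rcases h₂.2.2 _ hle h₁.2.1 with h' | h'
    · exact h₁.1 h'
    · exact hne h'

theorem coact_map_mem_range_lTensor {f : V →ₗ[k] W} (hf : Hoch.IsComodHom A f) (D : Submodule k A)
    (v : V) (h : HopfRep.Comod.coact (k := k) (A := A) v ∈ LinearMap.range (D.subtype.lTensor V)) :
    HopfRep.Comod.coact (k := k) (A := A) (f v) ∈ LinearMap.range (D.subtype.lTensor W) := by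
  obtain ⟨y, hy⟩ := h
  refine ⟨f.rTensor D y, ?_⟩
  rw [(isComodHom_iff f).mp hf v, ← hy, ← LinearMap.comp_apply, ← LinearMap.comp_apply,
    LinearMap.lTensor_comp_rTensor, LinearMap.rTensor_comp_lTensor]

end CoeffCoalg

end Groth.Agent.H9.Comod
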