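import Mathlib
import Groth.Agent.Lib.Helper9.ComodCoeff

/-!
# Cosemisimple coalgebras and semisimplicity of comodules (helper9)
-/

set_option autoImplicit false
set_option linter.style.haveILetI false

universe u v w w' w''

open TensorProduct

namespace Groth.Agent.H9.Comod

section IndRing

variable {k : Type u} [CommRing k] {A : Type v} [AddCommGroup A] [Module k A] [Coalgebra k A]
  {V : Type w} [AddCommGroup V] [Module k V] [HopfRep.Comod k A V]

/-- the coaction is a comodule map to the induced comodule -/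
theorem isComodHom_toInd : Hoch.IsComodHom A (Hoch.toInd k A V) := by
  rw [isComodHom_iff]
  intro v
  have h := LinearMap.congr_fun (HopfRep.Comod.coassoc (k := k) (A := A) (V := V)) v
  simp only [LinearMap.comp_apply, LinearEquiv.coe_coe] at h
  show (TensorProduct.assoc k V A A).symm ((CoalgebraStruct.comul (R := k) (A := A)).lTensor V
    (HopfRep.Comod.coact (k := k) (A := A) v)) =
    (HopfRep.Comod.coact (k := k) (A := A)).rTensor A (HopfRep.Comod.coact (k := k) (A := A) v)
  rw [← h, LinearEquiv.symm_apply_apply]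

theorem toInd_injective : Function.Injective (Hoch.toInd k A V) := by
  have hc : ∀ v : V, Hoch.Ind.counit k A V (Hoch.toInd k A V v) = v := by
    intro v
    have h := LinearMap.congr_fun (HopfRep.Comod.counit_comp (k := k) (A := A) (V := V)) v
    simp only [LinearMap.comp_apply, LinearMap.flip_apply, TensorProduct.mk_apply] at h
    show (TensorProduct.rid k V) ((CoalgebraStruct.counit (R := k) (A := A)).lTensor V
      (HopfRep.Comod.coact (k := k) (A := A) v)) = v
    rw [h, TensorProduct.rid_tmul, one_smul]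
  intro a b hab
  rw [← hc a, ← hc b, hab]

variable (k A) in
/-- `a ↦ v ⊗ a` as a map into the induced comodule -/
noncomputable def indMk (v : V) : A →ₗ[k] Hoch.Ind k A V :=
  (Hoch.Ind.equiv k A V).toLinearMap ∘ₗ TensorProduct.mk k V A v

omit [HopfRep.Comod k A V] in
theorem isComodHom_indMk (v : V) : Hoch.IsComodHom A (indMk k A v) := by
  rw [isComodHom_iff]
  intro a
  show (TensorProduct.assoc k V A A).symm (v ⊗ₜ[k] CoalgebraStruct.comul (R := k) a) =
    (indMk k A v).rTensor A (CoalgebraStruct.comul (R := k) a)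
  generalize CoalgebraStruct.comul (R := k) a = y
  induction y using TensorProduct.induction_on with
  | zero => rw [TensorProduct.tmul_zero, map_zero, map_zero]; rfl
  | tmul b c => rfl
  | add y z hy hz => rw [TensorProduct.tmul_add, map_add, map_add, hy, hz]; rfl

omit [Coalgebra k A] [HopfRep.Comod k A V] in
theorem iSup_range_indMk : (⨆ v : V, LinearMap.range (indMk k A v)) = ⊤ := by
  rw [eq_top_iff]
  intro x _
  have hx : (Hoch.Ind.equiv k A V).symm x ∈ (⊤ : Submodule k (V ⊗[k] A)) := trivial
  rw [← TensorProduct.span_tmul_eq_top] at hx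
  have hle : Submodule.span k {t : V ⊗[k] A | ∃ m n, m ⊗ₜ[k] n = t} ≤
      (⨆ v : V, LinearMap.range (indMk k A v)).comap (Hoch.Ind.equiv k A V).toLinearMap := by
    rw [Submodule.span_le]
    rintro _ ⟨m, n, rfl⟩
    exact (le_iSup (fun v : V => LinearMap.range (indMk k A v)) m) ⟨n, rfl⟩
  have := hle hx
  simpa using this

end IndRing

section Semisimple

variable {k : Type u} [Field k] {A : Type v} [AddCommGroup A] [Module k A] [Coalgebra k A]
  {V : Type w} [AddCommGroup V] [Module k V] [HopfRep.Comod k A V]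
  {W : Type w'} [AddCommGroup W] [Module k W] [HopfRep.Comod k A W]

lemma isSimpleSub_top (hV : HopfRep.IsSimpleComod k A V) : IsSimpleSub A (⊤ : Submodule k V) := by
  haveI := hV.1
  refine ⟨isSubcomod_top, top_ne_bot, fun U' hU' _ => ?_⟩
  exact hV.2 U' hU'

/-- the image of a simple subcomodule under a comodule map is zero or simple -/
lemma IsSimpleSub.map_eq_bot_or {f : V →ₗ[k] W} (hf : Hoch.IsComodHom A f) {S : Submodule k V}
    (hS : IsSimpleSub A S) : S.map f = ⊥ ∨ IsSimpleSub A (S.map f) := by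
  letI := ComodSub.Comod.restr (inferInstance : HopfRep.Comod k A V) S hS.1
  have hsub : Hoch.IsComodHom A S.subtype := ComodSub.isComodHom_subtype inferInstance S hS.1
  have hg : Hoch.IsComodHom A (f ∘ₗ S.subtype) := isComodHom_comp hf hsub
  have hmap : S.map f = (⊤ : Submodule k S).map (f ∘ₗ S.subtype) := by
    rw [Submodule.map_comp, Submodule.map_subtype_top]
  rcases eq_zero_or_injective_of_isSimpleComod hS.isSimpleComod_restr hg with h | h
  · left
    rw [hmap, h, Submodule.map_zero]
  · right
    rw [hmap]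
    exact (isSimpleSub_top hS.isSimpleComod_restr).map_of_injective hg h

theorem isSemisimpleComod_of_iSup_simpleSub {ι : Type*} (S : ι → Submodule k V)
    (hS : ∀ i, S i = ⊥ ∨ IsSimpleSub A (S i)) (htop : ⨆ i, S i = ⊤) :
    HopfRep.IsSemisimpleComod k A V := by
  intro U hU
  have htop' : (⨆ i : {i // IsSimpleSub A (S i)}, S i.1) = ⊤ := by
    rw [eq_top_iff, ← htop]
    apply iSup_le
    intro i
    rcases hS i with h | h
    · rw [h]; exact bot_le
    · exact le_iSup (fun i : {i // IsSimpleSub A (S i)} => S i.1) ⟨i, h⟩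
  obtain ⟨J, -, hc⟩ := exists_set_iSupIndep_isCompl_subcomod (A := A)
    (fun i : {i // IsSimpleSub A (S i)} => S i.1) (fun i => i.2) htop' U hU
  exact ⟨_, isSubcomod_iSup _ fun j => j.1.2.1, hc⟩

/-- if the regular comodule is a sum of simple subcomodules then every comodule is semisimple -/
theorem isSemisimpleComod_of_regular
    (hA : (⨆ S : {S : Submodule k A // IsSimpleSub A S}, (S.1 : Submodule k A)) = ⊤) :
    HopfRep.IsSemisimpleComod k A V := by
  apply isSemisimpleComod_of_injective (isComodHom_toInd (k := k) (A := A) (V := V)) toInd_injective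
  apply isSemisimpleComod_of_iSup_simpleSub
    (fun p : V × {S : Submodule k A // IsSimpleSub A S} => (p.2.1).map (indMk k A p.1))
  · intro p
    exact p.2.2.map_eq_bot_or (isComodHom_indMk p.1)
  · rw [iSup_prod]
    rw [eq_top_iff, ← iSup_range_indMk (k := k) (A := A) (V := V)]
    apply iSup_le
    intro v
    rw [LinearMap.range_eq_map, ← hA, Submodule.map_iSup]
    exact le_iSup (fun v : V => ⨆ S : {S : Submodule k A // IsSimpleSub A S},
      Submodule.map (indMk k A v) S.1) v

/-- a semisimple comodule is the sum of its simple subcomodules -/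
theorem iSup_simpleSub_eq_top_of_isSemisimpleComod (hV : HopfRep.IsSemisimpleComod k A V) :
    (⨆ S : {S : Submodule k V // IsSimpleSub A S}, (S.1 : Submodule k V)) = ⊤ := by
  have hc : ComplementedLattice (subLat k A V) := (isSemisimpleComod_iff k A V).mp hV
  have h1 : sSup {a : subLat k A V | IsAtom a} = ⊤ := sSup_atoms_eq_top
  have h2 := congrArg (fun a : subLat k A V => (a : Submodule k V)) h1
  simp only [CompleteSublattice.coe_sSup, CompleteSublattice.coe_top] at h2
  rw [eq_top_iff, ← h2]
  apply sSup_le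
  rintro _ ⟨a, ha, rfl⟩
  exact le_iSup (fun S : {S : Submodule k V // IsSimpleSub A S} => (S.1 : Submodule k V))
    ⟨_, (isAtom_iff a).mp ha⟩

end Semisimple

section Cosemi

variable {k : Type u} [Field k] {A : Type v} [AddCommGroup A] [Module k A] [Coalgebra k A]
  {V : Type w} [AddCommGroup V] [Module k V] [HopfRep.Comod k A V]

/-- image of a comodule map into the regular comodule lies in the coefficient space -/
theorem range_le_coeffSpace {f : V →ₗ[k] A} (hf : Hoch.IsComodHom A f) :
    LinearMap.range f ≤ coeffSpace k A V := by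
  rintro _ ⟨v, rfl⟩
  have h1 : mcoef A (Coalgebra.counit (R := k) (A := A)) (f v) = f v := sliceL_counit_comul (f v)
  rw [mcoef_apply_of_isComodHom hf] at h1
  rw [← h1]
  exact mcoef_mem_coeffSpace _ _

theorem coeffSpace_le_iSup_simpleSub (hV : HopfRep.IsSimpleComod k A V) :
    coeffSpace k A V ≤ ⨆ S : {S : Submodule k A // IsSimpleSub A S}, (S.1 : Submodule k A) := by
  apply iSup_le
  intro ψ
  rw [LinearMap.range_eq_map]
  rcases (isSimpleSub_top hV).map_eq_bot_or (isComodHom_mcoef (A := A) ψ) with h | h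
  · rw [h]; exact bot_le
  · exact le_iSup (fun S : {S : Submodule k A // IsSimpleSub A S} => (S.1 : Submodule k A)) ⟨_, h⟩

theorem IsSimpleSubcoalg.le_iSup_simpleSub {D : Submodule k A} (hD : IsSimpleSubcoalg k D) :
    D ≤ ⨆ S : {S : Submodule k A // IsSimpleSub A S}, (S.1 : Submodule k A) := by
  obtain ⟨E, hE, -, hcoef⟩ := hD.exists_simpleSub
  letI := ComodSub.Comod.restr (inferInstance : HopfRep.Comod k A A) E hE.1
  rw [← hcoef]
  exact coeffSpace_le_iSup_simpleSub hE.isSimpleComod_restr

/-- over a cosemisimple coalgebra every comodule is semisimple -/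
theorem isSemisimpleComod_of_cosemisimple {ι : Type*} (D : ι → Submodule k A)
    (htop : iSup D = ⊤) (hD : ∀ i, IsSimpleSubcoalg k (D i)) :
    HopfRep.IsSemisimpleComod k A V := by
  apply isSemisimpleComod_of_regular
  rw [eq_top_iff, ← htop]
  exact iSup_le fun i => (hD i).le_iSup_simpleSub

/-- the family of all simple subcoalgebras is independent -/
theorem iSupIndep_simpleSubcoalg :
    iSupIndep (fun D : {D : Submodule k A // IsSimpleSubcoalg k D} => (D.1 : Submodule k A)) := by
  intro D₀
  rw [disjoint_iff]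
  set B : Submodule k A := ⨆ (j : {D : Submodule k A // IsSimpleSubcoalg k D}) (_ : j ≠ D₀),
    (j.1 : Submodule k A) with hBdef
  have hBsub : IsSubcoalg k B := isSubcoalg_iSup _ fun j => isSubcoalg_iSup _ fun _ => j.2.2.1
  rcases D₀.2.2.2 _ inf_le_left (isSubcoalg_inf D₀.2.2.1 hBsub) with h | h
  · exact h
  · exfalso
    have hle : D₀.1 ≤ B := by rw [← h]; exact inf_le_right
    obtain ⟨E₀, hE₀, hE₀D, hcoef₀⟩ := D₀.2.exists_simpleSub
    choose E hE hED hcoef using
      fun j : {D : Submodule k A // IsSimpleSubcoalg k D} => j.2.exists_simpleSub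
    letI inst : ∀ j, HopfRep.Comod k A (E j) :=
      fun j => ComodSub.Comod.restr (inferInstance : HopfRep.Comod k A A) (E j) (hE j).1
    letI inst₀ : HopfRep.Comod k A E₀ :=
      ComodSub.Comod.restr (inferInstance : HopfRep.Comod k A A) E₀ hE₀.1
    have hBle : B ≤ ⨆ p : (Σ j : {j : {D : Submodule k A // IsSimpleSubcoalg k D} // j ≠ D₀},
        (E j.1 →ₗ[k] k)), LinearMap.range (mcoef A p.2) := by
      apply iSup_le
      intro j
      apply iSup_le
      intro hj
      rw [← hcoef j]
      apply iSup_le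
      intro ψ
      exact le_iSup (fun p : (Σ j : {j : {D : Submodule k A // IsSimpleSubcoalg k D} // j ≠ D₀},
        (E j.1 →ₗ[k] k)) => LinearMap.range (mcoef A p.2)) ⟨⟨j, hj⟩, ψ⟩
    obtain ⟨p, e, he⟩ := hE₀.exists_comodIso_of_le_iSup
      (fun p : (Σ j : {j : {D : Submodule k A // IsSimpleSubcoalg k D} // j ≠ D₀},
        (E j.1 →ₗ[k] k)) => E p.1.1)
      (fun p => (hE p.1.1).isSimpleComod_restr) (fun p => mcoef A p.2)
      (fun p => isComodHom_mcoef p.2) ((hE₀D.trans hle).trans hBle)
    have h1 := coeffSpace_eq_of_equiv e he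
    rw [hcoef₀, hcoef p.1.1] at h1
    exact p.1.2 (Subtype.ext h1.symm)

/-- if every comodule in the universe of the coalgebra is semisimple then the coalgebra is the
direct sum of its simple subcoalgebras -/
theorem iSup_simpleSubcoalg_eq_top (hA : HopfRep.IsSemisimpleComod k A A) :
    (⨆ D : {D : Submodule k A // IsSimpleSubcoalg k D}, (D.1 : Submodule k A)) = ⊤ := by
  rw [eq_top_iff, ← iSup_simpleSub_eq_top_of_isSemisimpleComod hA]
  apply iSup_le
  rintro ⟨S, hS⟩
  letI := ComodSub.Comod.restr (inferInstance : HopfRep.Comod k A A) S hS.1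
  exact (le_coeffSpace_restr hS.1).trans
    (le_iSup (fun D : {D : Submodule k A // IsSimpleSubcoalg k D} => (D.1 : Submodule k A))
      ⟨_, isSimpleSubcoalg_coeffSpace hS.isSimpleComod_restr⟩)

/-- a simple coalgebra is isotypic as a comodule over itself -/
theorem exists_isotypic_of_simple [Nontrivial A]
    (h : ∀ B : Submodule k A, IsSubcoalg k B → B = ⊥ ∨ B = ⊤) :
    ∃ (E : Type v) (_ : AddCommGroup E) (_ : Module k E) (_ : HopfRep.Comod k A E),
      HopfRep.IsSimpleComod k A E ∧
      ∃ (ι : Type v) (f : ι → (E →ₗ[k] A)),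
        (∀ i, Hoch.IsComodHom A (f i) ∧ Function.Injective (f i)) ∧
        iSupIndep (fun i => LinearMap.range (f i)) ∧ (⨆ i, LinearMap.range (f i)) = ⊤ := by
  have htop : IsSimpleSubcoalg k (⊤ : Submodule k A) :=
    ⟨top_ne_bot, isSubcoalg_top, fun B _ hB => h B hB⟩
  obtain ⟨E₀, hE₀, -, hcoef₀⟩ := htop.exists_simpleSub
  letI inst₀ : HopfRep.Comod k A E₀ :=
    ComodSub.Comod.restr (inferInstance : HopfRep.Comod k A A) E₀ hE₀.1
  refine ⟨E₀, inferInstance, inferInstance, inst₀, hE₀.isSimpleComod_restr, ?_⟩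
  have hsum : (⨆ S : {S : Submodule k A // IsSimpleSub A S}, (S.1 : Submodule k A)) = ⊤ :=
    eq_top_iff.mpr htop.le_iSup_simpleSub
  obtain ⟨J, hind, hc⟩ := exists_set_iSupIndep_isCompl_subcomod (A := A)
    (fun S : {S : Submodule k A // IsSimpleSub A S} => (S.1 : Submodule k A)) (fun S => S.2) hsum
    ⊥ isSubcomod_bot
  have hJtop : (⨆ j : J, (j.1.1 : Submodule k A)) = ⊤ := by
    have := hc.sup_eq_top
    rwa [bot_sup_eq] at this
  have hiso : ∀ S : {S : Submodule k A // IsSimpleSub A S},
      ∃ e : @LinearEquiv k k _ _ (RingHom.id k) (RingHom.id k) _ _ S.1 E₀ _ _ _ _,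
      @Hoch.IsComodHom k _ A _ _ _ S.1 _ _ (ComodSub.Comod.restr inferInstance S.1 S.2.1) E₀ _ _ _
        (e : S.1 →ₗ[k] E₀) := by
    intro S
    obtain ⟨_, e, he⟩ := S.2.exists_comodIso_of_le_iSup (fun _ : (E₀ →ₗ[k] k) => E₀)
      (fun _ => hE₀.isSimpleComod_restr) (fun ψ => mcoef A ψ) (fun ψ => isComodHom_mcoef ψ)
      (by
        show S.1 ≤ coeffSpace k A E₀
        rw [hcoef₀]
        exact le_top)
    exact ⟨e, he⟩
  choose e he using hiso
  refine ⟨J, fun j => (j.1.1).subtype ∘ₗ ((e j.1).symm : E₀ →ₗ[k] j.1.1), fun j => ⟨?_, ?_⟩, ?_, ?_⟩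
  · letI := ComodSub.Comod.restr (inferInstance : HopfRep.Comod k A A) j.1.1 j.1.2.1
    exact isComodHom_comp (ComodSub.isComodHom_subtype inferInstance j.1.1 j.1.2.1)
      (isComodHom_symm (e j.1) (he j.1))
  · exact (Submodule.injective_subtype _).comp (e j.1).symm.injective
  · have hr : ∀ j : J, LinearMap.range ((j.1.1).subtype ∘ₗ ((e j.1).symm : E₀ →ₗ[k] j.1.1)) =
        j.1.1 := by
      intro j
      rw [LinearMap.range_comp, LinearEquiv.range, Submodule.map_top, Submodule.range_subtype]
    simp only [hr]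
    exact hind
  · have hr : ∀ j : J, LinearMap.range ((j.1.1).subtype ∘ₗ ((e j.1).symm : E₀ →ₗ[k] j.1.1)) =
        j.1.1 := by
      intro j
      rw [LinearMap.range_comp, LinearEquiv.range, Submodule.map_top, Submodule.range_subtype]
    simp only [hr]
    exact hJtop

/-- an isotypic coalgebra is simple -/
theorem simple_of_isotypic (hV : HopfRep.IsSimpleComod k A V) {ι : Type*} (f : ι → (V →ₗ[k] A))
    (hf : ∀ i, Hoch.IsComodHom A (f i)) (htop : (⨆ i, LinearMap.range (f i)) = ⊤)
    (B : Submodule k A) (hB : IsSubcoalg k B) : B = ⊥ ∨ B = ⊤ := by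
  by_cases hB0 : B = ⊥
  · exact Or.inl hB0
  right
  obtain ⟨F, hFB, hF⟩ := exists_simpleSub_le (A := A) B hB.isSubcomod hB0
  letI := ComodSub.Comod.restr (inferInstance : HopfRep.Comod k A A) F hF.1
  obtain ⟨i, e, he⟩ := hF.exists_comodIso_of_le_iSup (fun _ : ι => V) (fun _ => hV) f hf
    (by rw [htop]; exact le_top)
  have h1 : coeffSpace k A V ≤ B := by
    rw [← coeffSpace_eq_of_equiv e he]
    exact coeffSpace_restr_le hB hF.1 hFB
  rw [eq_top_iff, ← htop]
  exact iSup_le fun i => (range_le_coeffSpace (hf i)).trans h1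

omit [Coalgebra k A] [HopfRep.Comod k A V] in
lemma exists_fg_sliceL_mem (x : V ⊗[k] A) :
    ∃ N : Submodule k A, N.FG ∧ ∀ ψ : V →ₗ[k] k, sliceL ψ x ∈ N := by
  induction x using TensorProduct.induction_on with
  | zero => exact ⟨⊥, Submodule.fg_bot, fun φ => by simp⟩
  | tmul v a =>
    refine ⟨Submodule.span k {a}, Submodule.fg_span_singleton a, fun φ => ?_⟩
    rw [sliceL_tmul]
    exact Submodule.smul_mem _ _ (Submodule.mem_span_singleton_self a)
  | add x y hx hy =>
    obtain ⟨N, hN, hN'⟩ := hx
    obtain ⟨N', hN2, hN2'⟩ := hy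
    refine ⟨N ⊔ N', hN.sup hN2, fun φ => ?_⟩
    rw [map_add]
    exact Submodule.add_mem _ (Submodule.mem_sup_left (hN' φ)) (Submodule.mem_sup_right (hN2' φ))

/-- the coefficient space of a finite-dimensional comodule is finite-dimensional -/
theorem fg_coeffSpace [Module.Finite k V] : (coeffSpace k A V).FG := by
  classical
  obtain ⟨s, hs⟩ := (Module.Finite.fg_top : (⊤ : Submodule k V).FG)
  choose N hNfg hN using fun m : V =>
    exists_fg_sliceL_mem (HopfRep.Comod.coact (k := k) (A := A) m)
  have hle : coeffSpace k A V ≤ ⨆ m ∈ s, N m := by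
    apply iSup_le
    rintro ψ _ ⟨v, rfl⟩
    have hv : v ∈ Submodule.span k (s : Set V) := by rw [hs]; trivial
    induction hv using Submodule.span_induction with
    | mem x hx =>
      exact (le_iSup₂ (f := fun m (_ : m ∈ s) => N m) x hx) (hN x ψ)
    | zero => simp
    | add x y _ _ hx hy =>
      rw [map_add]
      exact Submodule.add_mem _ hx hy
    | smul c x _ hx =>
      rw [map_smul]
      exact Submodule.smul_mem _ _ hx
  have hfg : (⨆ m ∈ s, N m).FG := by
    rw [← Finset.sup_eq_iSup]
    exact Submodule.fg_finset_sup s N fun m _ => hNfg m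
  exact Submodule.FG.of_le hfg hle

/-- a simple subcoalgebra is finite-dimensional -/
theorem IsSimpleSubcoalg.fg {D : Submodule k A} (hD : IsSimpleSubcoalg k D) : D.FG := by
  obtain ⟨E, hE, -, hcoef⟩ := hD.exists_simpleSub
  letI := ComodSub.Comod.restr (inferInstance : HopfRep.Comod k A A) E hE.1
  haveI : Module.Finite k E := Module.Finite.iff_fg.mpr hE.fg
  rw [← hcoef]
  exact fg_coeffSpace

end Cosemi

end Groth.Agent.H9.Comod
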