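import Mathlib

/-!
# The antipode of a commutative Hopf algebra reverses the comultiplication (helper9)
-/

set_option autoImplicit false

universe u v

open TensorProduct

namespace Groth.Agent.H9.Hopf

variable {R : Type u} {A : Type v} [CommRing R] [CommRing A] [HopfAlgebra R A]

/-- `Δ (S a) = Σ S a₂ ⊗ S a₁` -/
theorem comul_antipode (a : A) :
    Coalgebra.comul (R := R) (HopfAlgebra.antipode R a) =
      TensorProduct.map (HopfAlgebra.antipode R) (HopfAlgebra.antipode R)
        (TensorProduct.comm R A A (Coalgebra.comul (R := R) a)) := by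
  let i₁ : WithConv (A →ₐ[R] A ⊗[R] A) := WithConv.toConv Algebra.TensorProduct.includeLeft
  let i₂ : WithConv (A →ₐ[R] A ⊗[R] A) := WithConv.toConv Algebra.TensorProduct.includeRight
  let D : WithConv (A →ₐ[R] A ⊗[R] A) := WithConv.toConv (Bialgebra.comulAlgHom R A)
  have hD : D = i₁ * i₂ := by
    apply WithConv.ofConv_injective
    apply AlgHom.ext
    intro x
    have := AlgHom.convMul_apply i₁ i₂ x
    show Coalgebra.comul (R := R) x = (i₁ * i₂).ofConv x
    rw [show (i₁ * i₂).ofConv x = (i₁ * i₂) x from rfl, this]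
    show _ = Algebra.TensorProduct.lift Algebra.TensorProduct.includeLeft
      Algebra.TensorProduct.includeRight _ (Coalgebra.comul (R := R) x)
    rw [Algebra.TensorProduct.lift_includeLeft_includeRight]
    rfl
  have hinv : D⁻¹ = i₂⁻¹ * i₁⁻¹ := by rw [hD]; exact mul_inv_rev i₁ i₂
  have h1 : (D⁻¹).ofConv a = Coalgebra.comul (R := R) (HopfAlgebra.antipode R a) := rfl
  have h2 : (i₂⁻¹ * i₁⁻¹).ofConv a =
      Algebra.TensorProduct.lift (i₂⁻¹).ofConv (i₁⁻¹).ofConv (fun _ _ => .all ..)
        (Coalgebra.comul (R := R) a) := AlgHom.convMul_apply (i₂⁻¹) (i₁⁻¹) a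
  rw [← h1, hinv, h2]
  generalize Coalgebra.comul (R := R) a = x
  induction x using TensorProduct.induction_on with
  | zero => simp
  | tmul b c =>
    rw [Algebra.TensorProduct.lift_tmul, TensorProduct.comm_tmul, TensorProduct.map_tmul]
    show ((1 : A) ⊗ₜ[R] HopfAlgebra.antipode R b) * (HopfAlgebra.antipode R c ⊗ₜ[R] (1 : A)) = _
    rw [Algebra.TensorProduct.tmul_mul_tmul, one_mul, mul_one]
  | add x y hx hy => simp only [map_add, hx, hy]

/-- `Σ (1 ⊗ x₁) * Δ (S x₂) = S x ⊗ 1` -/
theorem lift_includeRight_comul_antipode (x : A) :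
    Algebra.TensorProduct.lift (Algebra.TensorProduct.includeRight : A →ₐ[R] A ⊗[R] A)
      ((Bialgebra.comulAlgHom R A).comp (HopfAlgebra.antipodeAlgHom R A))
      (fun _ _ => .all ..) (Coalgebra.comul (R := R) x) =
    HopfAlgebra.antipode R x ⊗ₜ[R] (1 : A) := by
  let i₁ : WithConv (A →ₐ[R] A ⊗[R] A) := WithConv.toConv Algebra.TensorProduct.includeLeft
  let i₂ : WithConv (A →ₐ[R] A ⊗[R] A) := WithConv.toConv Algebra.TensorProduct.includeRight
  let D : WithConv (A →ₐ[R] A ⊗[R] A) := WithConv.toConv (Bialgebra.comulAlgHom R A)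
  have hD : D = i₁ * i₂ := by
    apply WithConv.ofConv_injective
    apply AlgHom.ext
    intro x
    have := AlgHom.convMul_apply i₁ i₂ x
    show Coalgebra.comul (R := R) x = (i₁ * i₂).ofConv x
    rw [show (i₁ * i₂).ofConv x = (i₁ * i₂) x from rfl, this]
    show _ = Algebra.TensorProduct.lift Algebra.TensorProduct.includeLeft
      Algebra.TensorProduct.includeRight _ (Coalgebra.comul (R := R) x)
    rw [Algebra.TensorProduct.lift_includeLeft_includeRight]
    rfl
  have h1 : i₂ * D⁻¹ = i₁⁻¹ := by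
    rw [hD]
    have : (i₁ * i₂)⁻¹ = i₂⁻¹ * i₁⁻¹ := mul_inv_rev i₁ i₂
    rw [this]
    exact mul_inv_cancel_left i₂ i₁⁻¹
  have h2 := AlgHom.convMul_apply i₂ (D⁻¹) x
  have h3 : (i₂ * D⁻¹) x = (i₁⁻¹) x := by rw [h1]
  rw [h2] at h3
  exact h3

end Groth.Agent.H9.Hopf

namespace Groth.Agent.H9.Hopf

variable {R : Type u} {A : Type v} [CommRing R] [CommRing A] [HopfAlgebra R A]

/-- the antipode of a commutative Hopf algebra is an involution -/
theorem antipode_antipode (a : A) :
    HopfAlgebra.antipode R (HopfAlgebra.antipode R a) = a := by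
  let i : WithConv (A →ₐ[R] A) := WithConv.toConv (AlgHom.id R A)
  have h1 : (i⁻¹)⁻¹ = i := inv_inv i
  have h2 : ((i⁻¹)⁻¹).ofConv a = HopfAlgebra.antipode R (HopfAlgebra.antipode R a) := rfl
  rw [← h2, h1]
  rfl

end Groth.Agent.H9.Hopf
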