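import Mathlib
import Groth.Agent.Lib.Helper9.ComodCoeff

/-!
# Flags of subcomodules (helper9)
-/

set_option autoImplicit false
set_option linter.style.haveILetI false

universe u v w w' w''

open TensorProduct

namespace Groth.Agent.H9.Comod

section FinrankComap

variable {k : Type u} [Field k] {V : Type w} [AddCommGroup V] [Module k V]
  {Q : Type w'} [AddCommGroup Q] [Module k Q]

lemma finrank_comap_of_surjective [Module.Finite k V] (f : V →ₗ[k] Q) (hf : Function.Surjective f)
    (U : Submodule k Q) :
    Module.finrank k (U.comap f) = Module.finrank k U + Module.finrank k (LinearMap.ker f) := by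
  let g : U.comap f →ₗ[k] U := f.restrict (fun x hx => hx)
  have hg : Function.Surjective g := by
    rintro ⟨u, hu⟩
    obtain ⟨v, rfl⟩ := hf u
    exact ⟨⟨v, hu⟩, rfl⟩
  have hker : LinearMap.ker g = (LinearMap.ker f).comap (U.comap f).subtype := by
    ext x
    simp only [LinearMap.mem_ker, Submodule.mem_comap, Submodule.subtype_apply]
    constructor
    · intro h
      exact congrArg Subtype.val h
    · intro h
      exact Subtype.ext h
  have hle : LinearMap.ker f ≤ U.comap f := by
    intro x hx
    rw [Submodule.mem_comap, LinearMap.mem_ker.mp hx]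
    exact zero_mem _
  have h1 := LinearMap.finrank_range_add_finrank_ker g
  rw [LinearMap.range_eq_top.mpr hg, finrank_top, hker,
    LinearEquiv.finrank_eq (Submodule.comapSubtypeEquivOfLe hle)] at h1
  exact h1.symm

end FinrankComap

section Flag

variable {k : Type u} [Field k] {A : Type v} [AddCommGroup A] [Module k A] [Coalgebra k A]

/-- existence of flags of subcomodules from existence of subcomodule lines -/
theorem exists_flag
    (R : ∀ (X : Type w) [AddCommGroup X] [Module k X] (_ : HopfRep.Comod k A X),
      Submodule k X → Submodule k X → Prop)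
    (hR_top : ∀ (X : Type w) [AddCommGroup X] [Module k X] (c : HopfRep.Comod k A X), R X c ⊤ ⊤)
    (hR_pull : ∀ (X : Type w) [AddCommGroup X] [Module k X] (c : HopfRep.Comod k A X)
      (L : Submodule k X) (hL : @HopfRep.IsSubcomod k A _ _ _ _ X _ _ c L)
      (U U' : Submodule k (X ⧸ L)), R (X ⧸ L) (ComodSub.Comod.quot c L hL) U U' →
        R X c (U.comap L.mkQ) (U'.comap L.mkQ))
    (hstart : ∀ (X : Type w) [AddCommGroup X] [Module k X] (c : HopfRep.Comod k A X),
      Module.Finite k X → Nontrivial X → ∃ L : Submodule k X,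
        @HopfRep.IsSubcomod k A _ _ _ _ X _ _ c L ∧ Module.finrank k L = 1 ∧ R X c ⊥ L) :
    ∀ (n : ℕ) (V : Type w) [AddCommGroup V] [Module k V] (c : HopfRep.Comod k A V)
      [Module.Finite k V], Module.finrank k V = n →
      ∃ F : ℕ → Submodule k V, Monotone F ∧
        (∀ i, @HopfRep.IsSubcomod k A _ _ _ _ V _ _ c (F i)) ∧
        (∀ i, i ≤ n → Module.finrank k (F i) = i) ∧ (∀ i, n ≤ i → F i = ⊤) ∧
        ∀ i, R V c (F i) (F (i + 1)) := by
  intro n
  induction n with
  | zero =>
    intro V _ _ c _ hn
    refine ⟨fun _ => ⊤, fun _ _ _ => le_rfl, fun _ => ?_, fun i hi => ?_, fun _ _ => rfl,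
      fun _ => hR_top V c⟩
    · letI := c
      exact isSubcomod_top
    · rw [finrank_top, hn]
      omega
  | succ n ih =>
    intro V _ _ c _ hn
    letI := c
    have hnt : Nontrivial V := Module.nontrivial_of_finrank_pos (R := k) (by omega)
    obtain ⟨L, hL, hL1, hRL⟩ := hstart V c inferInstance hnt
    letI cQ : HopfRep.Comod k A (V ⧸ L) := ComodSub.Comod.quot c L hL
    have hq : Hoch.IsComodHom A L.mkQ := ComodSub.isComodHom_mkQ c L hL
    have hfin : Module.finrank k (V ⧸ L) = n := by
      have := Submodule.finrank_quotient_add_finrank L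
      omega
    obtain ⟨F', hmono, hsub, hrank, htop, hstep⟩ := ih (V ⧸ L) cQ hfin
    have hF0 : F' 0 = ⊥ := by
      have := hrank 0 (Nat.zero_le n)
      exact Submodule.finrank_eq_zero.mp this
    refine ⟨fun i => Nat.casesOn i ⊥ (fun j => (F' j).comap L.mkQ), ?_, ?_, ?_, ?_, ?_⟩
    · apply monotone_nat_of_le_succ
      intro i
      cases i with
      | zero => exact bot_le
      | succ j => exact Submodule.comap_mono (hmono (Nat.le_succ j))
    · intro i
      cases i with
      | zero => exact isSubcomod_bot
      | succ j => exact isSubcomod_comap hq _ (hsub j)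
    · intro i hi
      cases i with
      | zero => exact finrank_bot k V
      | succ j =>
        show Module.finrank k ((F' j).comap L.mkQ) = j + 1
        rw [finrank_comap_of_surjective L.mkQ (Submodule.mkQ_surjective L), hrank j (by omega),
          Submodule.ker_mkQ, hL1]
    · intro i hi
      cases i with
      | zero => omega
      | succ j =>
        show (F' j).comap L.mkQ = ⊤
        rw [htop j (by omega), Submodule.comap_top]
    · intro i
      cases i with
      | zero =>
        show R V c ⊥ ((F' 0).comap L.mkQ)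
        rw [hF0, Submodule.comap_bot, Submodule.ker_mkQ]
        exact hRL
      | succ j =>
        exact hR_pull V c L hL _ _ (hstep j)

end Flag

section Unip

variable {k : Type u} [Field k] {A : Type v} [CommRing A] [Bialgebra k A]

/-- the coaction is trivial on `U'` modulo `U` -/
def TrivStep (X : Type w) [AddCommGroup X] [Module k X] (c : HopfRep.Comod k A X)
    (U U' : Submodule k X) : Prop :=
  ∀ v ∈ U', c.coact v - v ⊗ₜ[k] (1 : A) ∈ LinearMap.range (U.subtype.rTensor A)

lemma trivStep_top (X : Type w) [AddCommGroup X] [Module k X] (c : HopfRep.Comod k A X) :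
    TrivStep X c ⊤ ⊤ := by
  intro v _
  rw [mem_range_rTensor_iff_slice]
  intro φ
  trivial

lemma trivStep_pull (X : Type w) [AddCommGroup X] [Module k X] (c : HopfRep.Comod k A X)
    (L : Submodule k X) (hL : @HopfRep.IsSubcomod k A _ _ _ _ X _ _ c L)
    (U U' : Submodule k (X ⧸ L)) (h : TrivStep (X ⧸ L) (ComodSub.Comod.quot c L hL) U U') :
    TrivStep X c (U.comap L.mkQ) (U'.comap L.mkQ) := by
  intro v hv
  rw [mem_range_rTensor_iff_slice]
  intro φ
  rw [Submodule.mem_comap, ← slice_rTensor]
  have h1 := h (L.mkQ v) hv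
  rw [mem_range_rTensor_iff_slice] at h1
  have h2 := h1 φ
  rw [map_sub, LinearMap.rTensor_tmul]
  exact h2

lemma exists_line_of_fixedPts_ne_bot (X : Type w) [AddCommGroup X] [Module k X]
    (c : HopfRep.Comod k A X) (h : @HopfRep.fixedPts k A _ _ _ X _ _ c ≠ ⊥) :
    ∃ L : Submodule k X, @HopfRep.IsSubcomod k A _ _ _ _ X _ _ c L ∧ Module.finrank k L = 1 ∧
      TrivStep X c ⊥ L := by
  letI := c
  obtain ⟨v, hv, hv0⟩ := Submodule.exists_mem_ne_zero_of_ne_bot h
  have hv' : HopfRep.Comod.coact (k := k) (A := A) v = v ⊗ₜ[k] (1 : A) := hv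
  have hL : ∀ w ∈ Submodule.span k {v}, HopfRep.Comod.coact (k := k) (A := A) w = w ⊗ₜ[k] (1 : A) := by
    intro w hw
    obtain ⟨a, rfl⟩ := Submodule.mem_span_singleton.mp hw
    rw [map_smul, hv', TensorProduct.smul_tmul']
  refine ⟨Submodule.span k {v}, ?_, finrank_span_singleton hv0, ?_⟩
  · intro w hw
    rw [hL w hw]
    exact ⟨(⟨w, hw⟩ : Submodule.span k {v}) ⊗ₜ[k] (1 : A), rfl⟩
  · intro w hw
    rw [hL w hw, sub_self]
    exact zero_mem _

/-- unipotent groups: every finite-dimensional comodule has a full flag with trivial steps -/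
theorem exists_flag_of_isUnipotent (hU : HopfRep.IsUnipotent k A) (V : Type v) [AddCommGroup V]
    [Module k V] [c : HopfRep.Comod k A V] [Module.Finite k V] :
    ∃ F : ℕ → Submodule k V, Monotone F ∧
      (∀ i, HopfRep.IsSubcomod (k := k) (A := A) (F i)) ∧
      (∀ i, i ≤ Module.finrank k V → Module.finrank k (F i) = i) ∧
      (∀ i, Module.finrank k V ≤ i → F i = ⊤) ∧
      ∀ i, ∀ v ∈ F (i + 1), HopfRep.Comod.coact (k := k) (A := A) v - v ⊗ₜ[k] (1 : A) ∈
        LinearMap.range ((F i).subtype.rTensor A) := by
  exact exists_flag (k := k) (A := A) (fun X _ _ c => TrivStep X c) trivStep_top trivStep_pull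
    (fun X _ _ c hfin hnt => exists_line_of_fixedPts_ne_bot X c (@hU X _ _ c hfin hnt))
    (Module.finrank k V) V c rfl

end Unip

end Groth.Agent.H9.Comod
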