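import Mathlib
import Groth.Agent.Lib.Helper9.UnipLie.Points
import Groth.Agent.Lib.Helper9.UnipFil.BaseChange
import Groth.Agent.Lib.Helper9.CocommDiag.PointDer

/-!
# Finite étale unipotent group schemes have `p`-power order (helper9)
-/

set_option autoImplicit false

universe u v

open TensorProduct WithConv

namespace Groth.Agent.H9.EtaleUnip

open Groth.Agent.H9 Groth.Agent.H9.UnipLie

section Count

variable {K : Type u} [Field K] {B : Type v} [CommRing B] [Algebra K B] [Module.Finite K B]

theorem finite_points : Finite (B →ₐ[K] K) :=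
  (linearIndependent_algHom_toLinearMap K B K).finite

theorem card_points_le : Nat.card (B →ₐ[K] K) ≤ Module.finrank K B := by
  have : Finite (B →ₐ[K] K) := finite_points
  have : Fintype (B →ₐ[K] K) := Fintype.ofFinite _
  rw [Nat.card_eq_fintype_card]
  have h := (linearIndependent_algHom_toLinearMap K B K).fintype_card_le_finrank
  rw [show Module.finrank K (B →ₗ[K] K) = Module.finrank K B from Subspace.dual_finrank_eq] at h
  exact h

theorem finrank_le_card_points [IsAlgClosed K] [IsReduced B] :
    Module.finrank K B ≤ Nat.card (B →ₐ[K] K) := by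
  have : Finite (B →ₐ[K] K) := finite_points
  have : Fintype (B →ₐ[K] K) := Fintype.ofFinite _
  rw [Nat.card_eq_fintype_card, ← Module.finrank_pi K (ι := (B →ₐ[K] K))]
  let ev : B →ₗ[K] ((B →ₐ[K] K) → K) :=
    { toFun := fun b χ => χ b
      map_add' := by intro b b'; funext χ; exact map_add χ b b'
      map_smul' := by intro c b; funext χ; exact map_smul χ c b }
  apply LinearMap.finrank_le_finrank_of_injective (f := ev)
  rw [← LinearMap.ker_eq_bot, LinearMap.ker_eq_bot']
  intro b hb
  apply CocommDiag.eq_zero_of_forall_character (K := K) b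
  intro χ
  exact congrFun hb χ

theorem card_points [IsAlgClosed K] [IsReduced B] :
    Nat.card (B →ₐ[K] K) = Module.finrank K B :=
  le_antisymm card_points_le finrank_le_card_points

end Count

section Nilp

variable {k : Type u} [Field k] {A : Type v} [CommRing A] [Bialgebra k A] [Module.Finite k A]

/-- `id - ε` is nilpotent in the convolution algebra of a finite unipotent group -/
theorem exists_xel_pow_eq_zero (hU : HopfRep.IsUnipotent k A) :
    ∃ N : ℕ, ∀ n, N ≤ n → xel k A ^ n = 0 := by
  classical
  let b := Module.finBasis k A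
  choose Ni hNi using fun i => exists_xel_pow_apply_eq_zero hU (b i)
  refine ⟨Finset.univ.sup Ni, fun n hn => ?_⟩
  apply WithConv.ofConv_injective
  apply b.ext
  intro i
  rw [hNi i n (le_trans (Finset.le_sup (Finset.mem_univ i)) hn)]
  rfl

/-- a point of a finite unipotent group in characteristic `p` has `p`-power order -/
theorem exists_pow_eq_one (hU : HopfRep.IsUnipotent k A) (p : ℕ) (hp : p.Prime) [CharP k p]
    (g : WithConv (A →ₐ[k] k)) : ∃ m : ℕ, g ^ (p ^ m) = 1 := by
  obtain ⟨N, hN⟩ := exists_xel_pow_eq_zero hU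
  refine ⟨N, ?_⟩
  set γ : WithConv (A →ₗ[k] k) := toConv g.ofConv.toLinearMap with hγ
  set u : WithConv (A →ₗ[k] k) := γ - 1 with hu
  have hu' : u = postAlg g.ofConv (xel k A) := (postAlg_xel g.ofConv).symm
  have hup : u ^ (p ^ N) = 0 := by
    rw [hu', ← map_pow, hN _ (Nat.lt_pow_self hp.one_lt).le, map_zero]
  have hp0 : ((p : ℕ) : WithConv (A →ₗ[k] k)) = 0 := by
    rw [← map_natCast (algebraMap k (WithConv (A →ₗ[k] k))), CharP.cast_eq_zero, map_zero]
  have hγp : γ ^ (p ^ N) = 1 := by
    have hγu : γ = u + 1 := by rw [hu]; abel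
    obtain ⟨r, hr⟩ := (Commute.one_right u).exists_add_pow_prime_pow_eq hp N
    rw [hγu, hr, hup, hp0, one_pow]
    simp
  apply WithConv.ofConv_injective
  apply AlgHom.toLinearMap_injective
  apply WithConv.toConv_injective
  rw [AlgHom.toLinearMap_convPow]
  exact hγp

end Nilp

section Main

variable {K : Type u} [Field K] [IsAlgClosed K] {B : Type v} [CommRing B] [HopfAlgebra K B]
  [Module.Finite K B]

theorem main_algClosed [IsReduced B] (hU : HopfRep.IsUnipotent K B) :
    ∃ n : ℕ, Module.finrank K B = ringExpChar K ^ n := by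
  have hfin : Finite (WithConv (B →ₐ[K] K)) :=
    Finite.of_equiv (B →ₐ[K] K) (WithConv.equiv _).symm
  have hcard : Nat.card (WithConv (B →ₐ[K] K)) = Module.finrank K B := by
    rw [← card_points (K := K) (B := B)]
    exact Nat.card_congr (WithConv.equiv _)
  obtain ⟨p, hp⟩ := CharP.exists K
  rcases CharP.char_is_prime_or_zero K p with hpp | hp0
  · have : Fact p.Prime := ⟨hpp⟩
    have hE : ExpChar K p := ExpChar.prime hpp
    rw [ringExpChar.eq K p]
    have hG : IsPGroup p (WithConv (B →ₐ[K] K)) := fun g => exists_pow_eq_one hU p hpp g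
    obtain ⟨n, hn⟩ := (IsPGroup.iff_card).1 hG
    exact ⟨n, by rw [← hcard, hn]⟩
  · subst hp0
    have hZ : CharZero K := CharP.charP_to_charZero K
    refine ⟨0, ?_⟩
    rw [pow_zero, ← hcard]
    have hsub : Subsingleton (WithConv (B →ₐ[K] K)) := by
      refine ⟨fun g g' => ?_⟩
      have h1 : ∀ g : WithConv (B →ₐ[K] K), g = 1 := by
        intro g
        apply eq_one_of_pow_eq_one hU g (Nat.card (WithConv (B →ₐ[K] K)))
        · rw [Nat.cast_ne_zero]
          exact Nat.card_pos.ne'
        · exact pow_card_eq_one'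
      rw [h1 g, h1 g']
    exact Nat.card_unique
  
end Main

section General

variable (k : Type u) (A : Type v) [Field k] [CommRing A] [HopfAlgebra k A] [Module.Finite k A]
  [Algebra.Etale k A]

theorem main (hU : HopfRep.IsUnipotent k A) :
    ∃ n : ℕ, Module.finrank k A = ringExpChar k ^ n := by
  let K := AlgebraicClosure k
  have hUK : HopfRep.IsUnipotent K (K ⊗[k] A) := UnipFil.isUnipotent_baseChange hU
  have hred : IsReduced (K ⊗[k] A) := Algebra.FormallyUnramified.isReduced_of_field K (K ⊗[k] A)
  obtain ⟨n, hn⟩ := main_algClosed (K := K) (B := K ⊗[k] A) hUK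
  refine ⟨n, ?_⟩
  rw [Module.finrank_baseChange] at hn
  rw [hn]
  have h1 : ExpChar k (ringExpChar k) := ringExpChar.of_eq rfl
  have h2 : ExpChar K (ringExpChar k) :=
    expChar_of_injective_algebraMap (algebraMap k K).injective (ringExpChar k)
  rw [ringExpChar.eq K (ringExpChar k)]

end General

end Groth.Agent.H9.EtaleUnip
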