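import Mathlib
import Groth.Prelude.Def_ComodDual
import Groth.Agent.Lib.Helper9.HopfAntipode

/-!
# Construction of the contragredient comodule (helper9)
-/

set_option autoImplicit false

universe u v w

open TensorProduct

namespace Groth.Agent.H9.Dual

variable {k : Type u} [CommRing k] {A : Type v} [CommRing A] [HopfAlgebra k A]
  {V : Type w} [AddCommGroup V] [Module k V]

local notation "S" => (HopfAlgebraStruct.antipode (R := k) (A := A))
local notation "Δ" => (CoalgebraStruct.comul (R := k) (A := A))
local notation "ε" => (CoalgebraStruct.counit (R := k) (A := A))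

/-- `f ↦ (v ↦ Σ f(v₀) S(v₁))` as a linear map -/
noncomputable def D (c : HopfRep.Comod k A V) : Module.Dual k V →ₗ[k] (V →ₗ[k] A) where
  toFun := ComodTens.dualCoactFun c
  map_add' := ComodTens.dualCoactFun_add c
  map_smul' := ComodTens.dualCoactFun_smul c

lemma D_apply (c : HopfRep.Comod k A V) (f : Module.Dual k V) (v : V) :
    D c f v = TensorProduct.lid k A (TensorProduct.map f S (c.coact v)) := rfl

/-- `Φ₂ (1 ⊗ Δ) = Δ ∘ Φ₁` -/
lemma dualTensorHom_lTensor_comul (x : Module.Dual k V ⊗[k] A) (v : V) :
    dualTensorHom k V (A ⊗[k] A) (LinearMap.lTensor (Module.Dual k V) Δ x) v =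
      Δ (dualTensorHom k V A x v) := by
  induction x using TensorProduct.induction_on with
  | zero => simp
  | tmul f a => simp
  | add x y hx hy => simp only [map_add, LinearMap.add_apply, hx, hy]

lemma dualTensorHom_lTensor_counit (x : Module.Dual k V ⊗[k] A) (v : V) :
    dualTensorHom k V k (LinearMap.lTensor (Module.Dual k V) ε x) v =
      ε (dualTensorHom k V A x v) := by
  induction x using TensorProduct.induction_on with
  | zero => simp
  | tmul f a => simp
  | add x y hx hy => simp only [map_add, LinearMap.add_apply, hx, hy]

lemma dualTensorHom_assoc_tmul (y : Module.Dual k V ⊗[k] A) (a : A) (v : V) :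
    dualTensorHom k V (A ⊗[k] A) (TensorProduct.assoc k (Module.Dual k V) A A (y ⊗ₜ[k] a)) v =
      (dualTensorHom k V A y v) ⊗ₜ[k] a := by
  induction y using TensorProduct.induction_on with
  | zero => simp
  | tmul f b => simp [TensorProduct.smul_tmul']
  | add x y hx hy => simp only [TensorProduct.add_tmul, map_add, LinearMap.add_apply, hx, hy]

/-- key computation for coassociativity -/
lemma key1 (c : HopfRep.Comod k A V) (dc : Module.Dual k V →ₗ[k] Module.Dual k V ⊗[k] A)
    (hdc : ∀ f, dualTensorHom k V A (dc f) = D c f) (x : Module.Dual k V ⊗[k] A) (v : V) :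
    dualTensorHom k V (A ⊗[k] A)
      (TensorProduct.assoc k (Module.Dual k V) A A (LinearMap.rTensor A dc x)) v =
    TensorProduct.map S (dualTensorHom k V A x) (TensorProduct.comm k V A (c.coact v)) := by
  induction x using TensorProduct.induction_on with
  | zero => simp
  | tmul g a =>
    rw [LinearMap.rTensor_tmul, dualTensorHom_assoc_tmul, hdc, D_apply]
    generalize c.coact v = w
    induction w using TensorProduct.induction_on with
    | zero => simp
    | tmul u b =>
      simp only [TensorProduct.map_tmul, TensorProduct.lid_tmul, TensorProduct.comm_tmul,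
        dualTensorHom_apply, TensorProduct.smul_tmul', TensorProduct.tmul_smul]
    | add w w' hw hw' => simp only [map_add, TensorProduct.add_tmul, hw, hw']
  | add x y hx hy => simp only [map_add, LinearMap.add_apply, TensorProduct.map_add_right, hx, hy]

/-- second key computation: `Σ S(v₁) ⊗ D f (v₀) = Δ (D f v)` -/
lemma key2 (c : HopfRep.Comod k A V) (f : Module.Dual k V) (v : V) :
    TensorProduct.map S (D c f) (TensorProduct.comm k V A (c.coact v)) = Δ (D c f v) := by
  have hco := LinearMap.congr_fun c.coassoc v
  simp only [LinearMap.comp_apply, LinearEquiv.coe_coe] at hco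
  -- Ω : (V ⊗ A) ⊗ A → A ⊗ A
  let Ω : (V ⊗[k] A) ⊗[k] A →ₗ[k] A ⊗[k] A :=
    TensorProduct.map S ((TensorProduct.lid k A).toLinearMap ∘ₗ TensorProduct.map f S) ∘ₗ
      (TensorProduct.comm k (V ⊗[k] A) A).toLinearMap
  have h1 : ∀ w : V ⊗[k] A, TensorProduct.map S (D c f) (TensorProduct.comm k V A w) =
      Ω (LinearMap.rTensor A c.coact w) := by
    intro w
    induction w using TensorProduct.induction_on with
    | zero => simp
    | tmul u b =>
      simp only [Ω, TensorProduct.comm_tmul, TensorProduct.map_tmul, LinearMap.rTensor_tmul,
        LinearMap.comp_apply, LinearEquiv.coe_coe]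
      rfl
    | add w w' hw hw' => simp only [map_add, hw, hw']
  have h2 : ∀ w : V ⊗[k] A, Ω ((TensorProduct.assoc k V A A).symm (LinearMap.lTensor V Δ w)) =
      Δ (TensorProduct.lid k A (TensorProduct.map f S w)) := by
    intro w
    induction w using TensorProduct.induction_on with
    | zero => simp
    | tmul u b =>
      rw [LinearMap.lTensor_tmul, TensorProduct.map_tmul, TensorProduct.lid_tmul, map_smul]
      have := Groth.Agent.H9.Hopf.comul_antipode (R := k) b
      rw [show Δ (S b) = _ from this]
      generalize Δ b = t
      induction t using TensorProduct.induction_on with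
      | zero => simp
      | tmul b₁ b₂ =>
        simp only [Ω, TensorProduct.assoc_symm_tmul, LinearMap.comp_apply, LinearEquiv.coe_coe,
          TensorProduct.comm_tmul, TensorProduct.map_tmul, TensorProduct.lid_tmul,
          TensorProduct.tmul_smul]
      | add t t' ht ht' => simp only [TensorProduct.tmul_add, map_add, smul_add, ht, ht']
    | add w w' hw hw' => simp only [map_add, hw, hw']
  rw [h1, show (LinearMap.rTensor A c.coact) (c.coact v) =
    (TensorProduct.assoc k V A A).symm (LinearMap.lTensor V Δ (c.coact v)) by
      rw [← hco, LinearEquiv.symm_apply_apply], h2, D_apply]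

lemma counit_D (c : HopfRep.Comod k A V) (f : Module.Dual k V) (v : V) :
    ε (D c f v) = f v := by
  have hcu := LinearMap.congr_fun c.counit_comp v
  simp only [LinearMap.comp_apply, LinearMap.flip_apply, TensorProduct.mk_apply] at hcu
  have h1 : ∀ w : V ⊗[k] A, ε (TensorProduct.lid k A (TensorProduct.map f S w)) =
      f (TensorProduct.rid k V (LinearMap.lTensor V ε w)) := by
    intro w
    induction w using TensorProduct.induction_on with
    | zero => simp
    | tmul u b =>
      simp only [TensorProduct.map_tmul, TensorProduct.lid_tmul, map_smul, LinearMap.lTensor_tmul,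
        TensorProduct.rid_tmul, smul_eq_mul, HopfAlgebra.counit_antipode]
      rw [mul_comm]
    | add w w' hw hw' => simp only [map_add, hw, hw']
  rw [D_apply, h1, hcu, TensorProduct.rid_tmul, one_smul]

set_option warn.classDefReducibility false in
/-- the contragredient comodule, from a coaction with the right values under `dualTensorHom` -/
noncomputable def dualOfCoact (c : HopfRep.Comod k A V)
    (dc : Module.Dual k V →ₗ[k] Module.Dual k V ⊗[k] A)
    (hdc : ∀ f, dualTensorHom k V A (dc f) = D c f)
    (h2 : Function.Injective (dualTensorHom k V (A ⊗[k] A)))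
    (h0 : Function.Injective (dualTensorHom k V k)) :
    HopfRep.Comod k A (Module.Dual k V) where
  coact := dc
  coassoc := by
    apply LinearMap.ext
    intro f
    simp only [LinearMap.comp_apply, LinearEquiv.coe_coe]
    apply h2
    apply LinearMap.ext
    intro v
    rw [key1 c dc hdc, hdc, key2, dualTensorHom_lTensor_comul, hdc]
  counit_comp := by
    apply LinearMap.ext
    intro f
    simp only [LinearMap.comp_apply, LinearMap.flip_apply, TensorProduct.mk_apply]
    apply h0
    apply LinearMap.ext
    intro v
    rw [dualTensorHom_lTensor_counit, hdc, counit_D, dualTensorHom_apply, smul_eq_mul, mul_one]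

theorem isDual_dualOfCoact (c : HopfRep.Comod k A V)
    (dc : Module.Dual k V →ₗ[k] Module.Dual k V ⊗[k] A)
    (hdc : ∀ f, dualTensorHom k V A (dc f) = D c f)
    (h2 : Function.Injective (dualTensorHom k V (A ⊗[k] A)))
    (h0 : Function.Injective (dualTensorHom k V k)) :
    ComodTens.Comod.IsDual c (dualOfCoact c dc hdc h2 h0) := hdc

/-- existence of the contragredient for finite projective modules -/
theorem exists_isDual [Module.Finite k V] [Module.Projective k V] (c : HopfRep.Comod k A V) :
    ∃ d : HopfRep.Comod k A (Module.Dual k V), ComodTens.Comod.IsDual c d := by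
  let dc : Module.Dual k V →ₗ[k] Module.Dual k V ⊗[k] A :=
    (dualTensorHomEquiv k V A).symm.toLinearMap ∘ₗ D c
  have hdc : ∀ f, dualTensorHom k V A (dc f) = D c f := by
    intro f
    exact (dualTensorHomEquiv k V A).apply_symm_apply (D c f)
  exact ⟨dualOfCoact c dc hdc (dualTensorHom_bijective).1 (dualTensorHom_bijective).1,
    isDual_dualOfCoact c dc hdc _ _⟩

end Groth.Agent.H9.Dual
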