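import Mathlib

/-!
# `M^* ⊗ N → Hom(M, N)` is bijective for `M` finitely presented and `N` flat (helper9)
-/

set_option autoImplicit false

universe u v w

open TensorProduct

namespace Groth.Agent.H9.DualFlat

variable {k : Type u} [CommRing k]

/-- naturality of `dualTensorHom` in the first variable -/
lemma dualTensorHom_rTensor_dualMap {M : Type v} [AddCommGroup M] [Module k M]
    {M' : Type*} [AddCommGroup M'] [Module k M'] {N : Type w} [AddCommGroup N] [Module k N]
    (f : M' →ₗ[k] M) (x : Module.Dual k M ⊗[k] N) :
    dualTensorHom k M' N (LinearMap.rTensor N f.dualMap x) = dualTensorHom k M N x ∘ₗ f := by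
  induction x using TensorProduct.induction_on with
  | zero => simp
  | tmul φ n =>
    apply LinearMap.ext
    intro v
    simp
  | add x y hx hy => simp only [map_add, hx, hy, LinearMap.add_comp]

theorem dualTensorHom_bijective_of_fp_flat (M : Type v) [AddCommGroup M] [Module k M]
    [Module.FinitePresentation k M] (N : Type w) [AddCommGroup N] [Module k N] [Module.Flat k N] :
    Function.Bijective (dualTensorHom k M N) := by
  obtain ⟨n, m, π, ι, hπ, hex⟩ := Module.FinitePresentation.exists_fin' k M
  have hbn : Function.Bijective (dualTensorHom k (Fin n → k) N) := dualTensorHom_bijective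
  have hbm : Function.Bijective (dualTensorHom k (Fin m → k) N) := dualTensorHom_bijective
  have hπinj : Function.Injective (LinearMap.rTensor N π.dualMap) :=
    Module.Flat.rTensor_preserves_injective_linearMap _
      (LinearMap.dualMap_injective_of_surjective hπ)
  have hexd : Function.Exact π.dualMap ι.dualMap := by
    rw [LinearMap.exact_iff, LinearMap.ker_dualMap_eq_dualAnnihilator_range,
      LinearMap.range_dualMap_eq_dualAnnihilator_ker_of_surjective _ hπ,
      (LinearMap.exact_iff.mp hex)]
  have hexN : Function.Exact (LinearMap.rTensor N π.dualMap) (LinearMap.rTensor N ι.dualMap) :=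
    Module.Flat.rTensor_exact N hexd
  constructor
  · rw [injective_iff_map_eq_zero]
    intro x hx
    apply hπinj
    rw [map_zero]
    apply hbn.1
    rw [dualTensorHom_rTensor_dualMap, hx, map_zero, LinearMap.zero_comp]
  · intro h
    obtain ⟨y, hy⟩ := hbn.2 (h ∘ₗ π)
    have hy0 : LinearMap.rTensor N ι.dualMap y = 0 := by
      apply hbm.1
      rw [dualTensorHom_rTensor_dualMap, hy, map_zero, LinearMap.comp_assoc]
      have : π ∘ₗ ι = 0 := by
        apply LinearMap.ext
        intro v
        exact hex.apply_apply_eq_zero v
      rw [this, LinearMap.comp_zero]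
    obtain ⟨x, rfl⟩ := (hexN y).mp hy0
    refine ⟨x, ?_⟩
    apply LinearMap.ext
    intro v
    obtain ⟨u, rfl⟩ := hπ v
    have := LinearMap.congr_fun hy u
    rw [dualTensorHom_rTensor_dualMap] at this
    exact this

end Groth.Agent.H9.DualFlat
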