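import Mathlib
import Groth.Prelude.Def_ComodDual
import Groth.Prelude.Def_ComodTens
import Groth.Prelude.Def_Hoch
import Groth.Agent.Lib.Helper9.ComodDual
import Groth.Agent.Lib.Helper9.DualTensorFlat

/-!
# Invariants of `B ⊗ M^*` are the comodule maps `M → B` (helper9)
-/

set_option autoImplicit false

universe u v w w'

open TensorProduct

namespace Groth.Agent.H9.ComodHom

variable {k : Type u} [CommRing k] {A : Type v} [CommRing A] [HopfAlgebra k A]
  {B : Type w} [AddCommGroup B] [Module k B] {M : Type w'} [AddCommGroup M] [Module k M]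

local notation "S" => (HopfAlgebraStruct.antipode (R := k) (A := A))
local notation "Δ" => (CoalgebraStruct.comul (R := k) (A := A))
local notation "ε" => (CoalgebraStruct.counit (R := k) (A := A))

variable (k A B) in
/-- right multiplication `(b ⊗ a) ⊗ a' ↦ b ⊗ a a'` -/
noncomputable def rmul : (B ⊗[k] A) ⊗[k] A →ₗ[k] B ⊗[k] A :=
  LinearMap.lTensor B (LinearMap.mul' k A) ∘ₗ (TensorProduct.assoc k B A A).toLinearMap

@[simp] lemma rmul_tmul (b : B) (a a' : A) :
    rmul k A B ((b ⊗ₜ[k] a) ⊗ₜ[k] a') = b ⊗ₜ[k] (a * a') := by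
  simp [rmul]

lemma rmul_one (y : B ⊗[k] A) : rmul k A B (y ⊗ₜ[k] (1 : A)) = y := by
  induction y using TensorProduct.induction_on with
  | zero => simp
  | tmul b a => simp
  | add x y hx hy => rw [TensorProduct.add_tmul, map_add, hx, hy]

lemma rmul_rmul (y : B ⊗[k] A) (a a' : A) :
    rmul k A B (rmul k A B (y ⊗ₜ[k] a) ⊗ₜ[k] a') = rmul k A B (y ⊗ₜ[k] (a * a')) := by
  induction y using TensorProduct.induction_on with
  | zero => simp
  | tmul b c => simp [mul_assoc]
  | add x y hx hy => simp only [TensorProduct.add_tmul, map_add, hx, hy]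

/-- `h ↦ (m ↦ Σ ρ_B(h m₀) · (1 ⊗ S m₁))` -/
noncomputable def Tw (cB : HopfRep.Comod k A B) (cM : HopfRep.Comod k A M) (h : M →ₗ[k] B) :
    M →ₗ[k] B ⊗[k] A :=
  rmul k A B ∘ₗ TensorProduct.map (cB.coact ∘ₗ h) S ∘ₗ cM.coact

lemma Tw_apply (cB : HopfRep.Comod k A B) (cM : HopfRep.Comod k A M) (h : M →ₗ[k] B) (m : M) :
    Tw cB cM h m = rmul k A B (TensorProduct.map (cB.coact ∘ₗ h) S (cM.coact m)) := rfl

lemma Tw_add (cB : HopfRep.Comod k A B) (cM : HopfRep.Comod k A M) (h₁ h₂ : M →ₗ[k] B) :
    Tw cB cM (h₁ + h₂) = Tw cB cM h₁ + Tw cB cM h₂ := by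
  apply LinearMap.ext
  intro m
  simp only [Tw_apply, LinearMap.add_apply, LinearMap.comp_add, TensorProduct.map_add_left, map_add]

lemma Tw_zero (cB : HopfRep.Comod k A B) (cM : HopfRep.Comod k A M) :
    Tw cB cM (0 : M →ₗ[k] B) = 0 := by
  apply LinearMap.ext
  intro m
  simp only [Tw_apply, LinearMap.comp_zero, TensorProduct.map_zero_left, LinearMap.zero_apply,
    map_zero]

/-- if `h` is a comodule map then `Tw h m = h m ⊗ 1` -/
theorem Tw_of_hom (cB : HopfRep.Comod k A B) (cM : HopfRep.Comod k A M) (h : M →ₗ[k] B)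
    (hh : cB.coact ∘ₗ h = h.rTensor A ∘ₗ cM.coact) (m : M) :
    Tw cB cM h m = h m ⊗ₜ[k] (1 : A) := by
  have hco := LinearMap.congr_fun cM.coassoc m
  have hcu := LinearMap.congr_fun cM.counit_comp m
  simp only [LinearMap.comp_apply, LinearEquiv.coe_coe] at hco
  simp only [LinearMap.comp_apply, LinearMap.flip_apply, TensorProduct.mk_apply] at hcu
  have L0 : ∀ (m' : M) (t : A ⊗[k] A),
      rmul k A B (TensorProduct.map (h.rTensor A) S
        ((TensorProduct.assoc k M A A).symm (m' ⊗ₜ[k] t))) =
      h m' ⊗ₜ[k] LinearMap.mul' k A (LinearMap.lTensor A S t) := by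
    intro m' t
    induction t using TensorProduct.induction_on with
    | zero => simp
    | tmul a₁ a₂ => simp
    | add x y hx hy => simp only [TensorProduct.tmul_add, map_add, hx, hy]
  have L1 : ∀ w : M ⊗[k] A,
      rmul k A B (TensorProduct.map (h.rTensor A) S
        ((TensorProduct.assoc k M A A).symm (LinearMap.lTensor M Δ w))) =
      h.rTensor A (LinearMap.lTensor M (Algebra.linearMap k A) (LinearMap.lTensor M ε w)) := by
    intro w
    induction w using TensorProduct.induction_on with
    | zero => simp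
    | tmul m' a =>
      rw [LinearMap.lTensor_tmul, L0, HopfAlgebra.mul_antipode_lTensor_comul_apply]
      simp
    | add x y hx hy => simp only [map_add, hx, hy]
  rw [Tw_apply, hh, ← LinearMap.map_rTensor,
    show (LinearMap.rTensor A cM.coact) (cM.coact m) =
      (TensorProduct.assoc k M A A).symm (LinearMap.lTensor M Δ (cM.coact m)) by
      rw [← hco, LinearEquiv.symm_apply_apply], L1, hcu]
  simp

/-- if `Tw h m = h m ⊗ 1` for all `m` then `h` is a comodule map -/
theorem hom_of_Tw (cB : HopfRep.Comod k A B) (cM : HopfRep.Comod k A M) (h : M →ₗ[k] B)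
    (hT : ∀ m, Tw cB cM h m = h m ⊗ₜ[k] (1 : A)) :
    cB.coact ∘ₗ h = h.rTensor A ∘ₗ cM.coact := by
  apply LinearMap.ext
  intro m
  have hco := LinearMap.congr_fun cM.coassoc m
  have hcu := LinearMap.congr_fun cM.counit_comp m
  simp only [LinearMap.comp_apply, LinearEquiv.coe_coe] at hco
  simp only [LinearMap.comp_apply, LinearMap.flip_apply, TensorProduct.mk_apply] at hcu
  -- (i)
  have G1 : ∀ w : M ⊗[k] A, rmul k A B (LinearMap.rTensor A (Tw cB cM h) w) = h.rTensor A w := by
    intro w
    induction w using TensorProduct.induction_on with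
    | zero => simp
    | tmul m' a => rw [LinearMap.rTensor_tmul, hT, rmul_tmul, one_mul, LinearMap.rTensor_tmul]
    | add x y hx hy => simp only [map_add, hx, hy]
  -- (ii)
  have L0 : ∀ (m' : M) (t : A ⊗[k] A),
      rmul k A B (LinearMap.rTensor A (rmul k A B ∘ₗ TensorProduct.map (cB.coact ∘ₗ h) S)
        ((TensorProduct.assoc k M A A).symm (m' ⊗ₜ[k] t))) =
      rmul k A B (cB.coact (h m') ⊗ₜ[k] LinearMap.mul' k A (LinearMap.rTensor A S t)) := by
    intro m' t
    induction t using TensorProduct.induction_on with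
    | zero => simp
    | tmul a₁ a₂ =>
      simp only [TensorProduct.assoc_symm_tmul, LinearMap.rTensor_tmul, LinearMap.comp_apply,
        TensorProduct.map_tmul, rmul_rmul, LinearMap.mul'_apply]
    | add x y hx hy => simp only [TensorProduct.tmul_add, map_add, hx, hy]
  have L2 : ∀ w : M ⊗[k] A,
      rmul k A B (LinearMap.rTensor A (rmul k A B ∘ₗ TensorProduct.map (cB.coact ∘ₗ h) S)
        ((TensorProduct.assoc k M A A).symm (LinearMap.lTensor M Δ w))) =
      rmul k A B (TensorProduct.map (cB.coact ∘ₗ h) (Algebra.linearMap k A)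
        (LinearMap.lTensor M ε w)) := by
    intro w
    induction w using TensorProduct.induction_on with
    | zero => simp
    | tmul m' a =>
      rw [LinearMap.lTensor_tmul, L0, HopfAlgebra.mul_antipode_rTensor_comul_apply]
      simp
    | add x y hx hy => simp only [map_add, hx, hy]
  have G2 : rmul k A B (LinearMap.rTensor A (Tw cB cM h) (cM.coact m)) = cB.coact (h m) := by
    have e1 : LinearMap.rTensor A (Tw cB cM h) (cM.coact m) =
        LinearMap.rTensor A (rmul k A B ∘ₗ TensorProduct.map (cB.coact ∘ₗ h) S)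
          (LinearMap.rTensor A cM.coact (cM.coact m)) := by
      rw [← LinearMap.comp_apply (LinearMap.rTensor A _) (LinearMap.rTensor A _),
        ← LinearMap.rTensor_comp]
      rfl
    rw [e1, show (LinearMap.rTensor A cM.coact) (cM.coact m) =
      (TensorProduct.assoc k M A A).symm (LinearMap.lTensor M Δ (cM.coact m)) by
      rw [← hco, LinearEquiv.symm_apply_apply], L2, hcu]
    simp [rmul_one]
  rw [LinearMap.comp_apply, LinearMap.comp_apply, ← G2, G1]

variable (k B M) in
/-- evaluation at `m`: `b ⊗ φ ↦ φ m • b` -/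
noncomputable def evB (m : M) : B ⊗[k] Module.Dual k M →ₗ[k] B :=
  (TensorProduct.rid k B).toLinearMap ∘ₗ LinearMap.lTensor B (Module.Dual.eval k M m)

@[simp] lemma evB_tmul (m : M) (b : B) (φ : Module.Dual k M) :
    evB k B M m (b ⊗ₜ[k] φ) = φ m • b := by
  simp [evB]

lemma dualTensorHom_comm_apply (x : B ⊗[k] Module.Dual k M) (m : M) :
    dualTensorHom k M B (TensorProduct.comm k B (Module.Dual k M) x) m = evB k B M m x := by
  induction x using TensorProduct.induction_on with
  | zero => simp
  | tmul b φ => simp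
  | add x y hx hy => simp only [map_add, LinearMap.add_apply, hx, hy]

/-- the coaction of `B ⊗ M^*`, evaluated at `m`, is the twist of the associated map -/
theorem rTensor_evB_tensor_coact (cB : HopfRep.Comod k A B) (cM : HopfRep.Comod k A M)
    (d : HopfRep.Comod k A (Module.Dual k M)) (hd : ComodTens.Comod.IsDual cM d)
    (x : B ⊗[k] Module.Dual k M) (m : M) :
    LinearMap.rTensor A (evB k B M m) ((ComodTens.Comod.tensor cB d).coact x) =
      Tw cB cM (dualTensorHom k M B (TensorProduct.comm k B (Module.Dual k M) x)) m := by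
  induction x using TensorProduct.induction_on with
  | zero => simp [Tw_zero]
  | add x y hx hy => simp only [map_add, Tw_add, LinearMap.add_apply, hx, hy]
  | tmul b φ =>
    have K1 : ∀ (y : B ⊗[k] A) (z : Module.Dual k M ⊗[k] A),
        LinearMap.rTensor A (evB k B M m) (TensorProduct.map LinearMap.id (LinearMap.mul' k A)
          (AlgebraTensorModule.tensorTensorTensorComm k k k k B A (Module.Dual k M) A
            (y ⊗ₜ[k] z))) = rmul k A B (y ⊗ₜ[k] dualTensorHom k M A z m) := by
      intro y z
      induction y using TensorProduct.induction_on with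
      | zero => simp
      | add y y' hy hy' => simp only [TensorProduct.add_tmul, map_add, hy, hy']
      | tmul b₀ b₁ =>
        induction z using TensorProduct.induction_on with
        | zero => simp
        | add z z' hz hz' => simp only [TensorProduct.tmul_add, map_add, LinearMap.add_apply, hz, hz']
        | tmul φ₀ φ₁ =>
          simp [TensorProduct.smul_tmul', TensorProduct.tmul_smul]
    have K2 : ∀ w : M ⊗[k] A,
        rmul k A B (TensorProduct.map (cB.coact ∘ₗ
          dualTensorHom k M B (φ ⊗ₜ[k] b)) S w) =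
        rmul k A B (cB.coact b ⊗ₜ[k] TensorProduct.lid k A (TensorProduct.map φ S w)) := by
      intro w
      induction w using TensorProduct.induction_on with
      | zero => simp
      | add w w' hw hw' => simp only [map_add, TensorProduct.tmul_add, hw, hw']
      | tmul m' a =>
        simp [TensorProduct.smul_tmul', TensorProduct.tmul_smul]
    rw [ComodTens.tensor_coact_tmul, K1, hd φ, TensorProduct.comm_tmul, Tw_apply, K2]
    rfl

/-- an invariant of `B ⊗ M^*` gives a comodule map `M → B` -/
theorem isComodHom_of_coact_eq (cB : HopfRep.Comod k A B) (cM : HopfRep.Comod k A M)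
    (d : HopfRep.Comod k A (Module.Dual k M)) (hd : ComodTens.Comod.IsDual cM d)
    (x : B ⊗[k] Module.Dual k M)
    (hx : (ComodTens.Comod.tensor cB d).coact x = x ⊗ₜ[k] (1 : A)) :
    cB.coact ∘ₗ dualTensorHom k M B (TensorProduct.comm k B (Module.Dual k M) x) =
      (dualTensorHom k M B (TensorProduct.comm k B (Module.Dual k M) x)).rTensor A ∘ₗ
        cM.coact := by
  apply hom_of_Tw
  intro m
  rw [← rTensor_evB_tensor_coact cB cM d hd, hx, LinearMap.rTensor_tmul, dualTensorHom_comm_apply]

/-- joint injectivity of the evaluations -/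
def JointInj (k : Type u) [CommRing k] (A : Type v) [CommRing A] [Algebra k A]
    (B : Type w) [AddCommGroup B] [Module k B] (M : Type w') [AddCommGroup M] [Module k M] :
    Prop :=
  ∀ y : (B ⊗[k] Module.Dual k M) ⊗[k] A,
    (∀ m, LinearMap.rTensor A (evB k B M m) y = 0) → y = 0

omit [HopfAlgebra k A] in
lemma jointInj_of_injective [Algebra k A]
    (hinj : Function.Injective (dualTensorHom k M (B ⊗[k] A))) : JointInj k A B M := by
  intro y hy
  let σ : (B ⊗[k] Module.Dual k M) ⊗[k] A ≃ₗ[k] Module.Dual k M ⊗[k] (B ⊗[k] A) :=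
    (TensorProduct.congr (TensorProduct.comm k B (Module.Dual k M)) (LinearEquiv.refl k A)).trans
      (TensorProduct.assoc k (Module.Dual k M) B A)
  have key : ∀ (y : (B ⊗[k] Module.Dual k M) ⊗[k] A) (m : M),
      dualTensorHom k M (B ⊗[k] A) (σ y) m = LinearMap.rTensor A (evB k B M m) y := by
    intro y m
    induction y using TensorProduct.induction_on with
    | zero => simp
    | add y y' hy hy' => simp only [map_add, LinearMap.add_apply, hy, hy']
    | tmul x a =>
      induction x using TensorProduct.induction_on with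
      | zero => simp
      | add x x' hx hx' => simp only [TensorProduct.add_tmul, map_add, LinearMap.add_apply, hx, hx']
      | tmul b φ => simp [σ, TensorProduct.smul_tmul']
  have h0 : dualTensorHom k M (B ⊗[k] A) (σ y) = 0 := by
    apply LinearMap.ext
    intro m
    rw [key, hy, LinearMap.zero_apply]
  have := hinj (h0.trans (map_zero _).symm)
  exact σ.injective (this.trans (map_zero _).symm)

/-- a comodule map `M → B` comes from an invariant of `B ⊗ M^*` -/
theorem coact_eq_of_isComodHom (cB : HopfRep.Comod k A B) (cM : HopfRep.Comod k A M)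
    (d : HopfRep.Comod k A (Module.Dual k M)) (hd : ComodTens.Comod.IsDual cM d)
    (hJ : JointInj k A B M) (x : B ⊗[k] Module.Dual k M)
    (hx : cB.coact ∘ₗ dualTensorHom k M B (TensorProduct.comm k B (Module.Dual k M) x) =
      (dualTensorHom k M B (TensorProduct.comm k B (Module.Dual k M) x)).rTensor A ∘ₗ
        cM.coact) :
    (ComodTens.Comod.tensor cB d).coact x = x ⊗ₜ[k] (1 : A) := by
  rw [← sub_eq_zero]
  apply hJ
  intro m
  rw [map_sub, rTensor_evB_tensor_coact cB cM d hd, Tw_of_hom cB cM _ hx, LinearMap.rTensor_tmul,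
    dualTensorHom_comm_apply, sub_self]

end Groth.Agent.H9.ComodHom
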