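import Mathlib
import Groth.Agent.Lib.Helper9.Comod

/-!
# Invariants and Reynolds operators for comodules over a bialgebra over a field (helper9)
-/

set_option autoImplicit false

universe u v w w'

open TensorProduct

namespace Groth.Agent.H9.Comod

section Fixed

variable {k : Type u} [Field k] {A : Type v} [Ring A] [Bialgebra k A]
  {V : Type w} [AddCommGroup V] [Module k V] [HopfRep.Comod k A V]
  {W : Type w'} [AddCommGroup W] [Module k W] [HopfRep.Comod k A W]

lemma mem_fixedPts_iff (v : V) :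
    v ∈ HopfRep.fixedPts k A V ↔ HopfRep.Comod.coact (k := k) (A := A) v = v ⊗ₜ[k] (1 : A) :=
  Iff.rfl

theorem isSubcomod_fixedPts :
    HopfRep.IsSubcomod (k := k) (A := A) (HopfRep.fixedPts k A V) := by
  intro v hv
  refine ⟨(⟨v, hv⟩ : HopfRep.fixedPts k A V) ⊗ₜ[k] (1 : A), ?_⟩
  rw [LinearMap.rTensor_tmul]
  exact ((mem_fixedPts_iff v).mp hv).symm

lemma map_mem_fixedPts {g : V →ₗ[k] W} (hg : Hoch.IsComodHom A g) {v : V}
    (hv : v ∈ HopfRep.fixedPts k A V) : g v ∈ HopfRep.fixedPts k A W := by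
  rw [mem_fixedPts_iff] at hv ⊢
  rw [(isComodHom_iff g).mp hg, hv, LinearMap.rTensor_tmul]

/-- a comodule map injective on a subcomodule reflects invariants there -/
lemma mem_fixedPts_of_map_mem {g : V →ₗ[k] W} (hg : Hoch.IsComodHom A g) (K : Submodule k V)
    (hK : HopfRep.IsSubcomod (k := k) (A := A) K) (hinj : K ⊓ LinearMap.ker g = ⊥) {v : V}
    (hvK : v ∈ K) (hv : g v ∈ HopfRep.fixedPts k A W) : v ∈ HopfRep.fixedPts k A V := by
  obtain ⟨y, hy⟩ := hK v hvK
  have hginj : Function.Injective (g ∘ₗ K.subtype) := by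
    rw [← LinearMap.ker_eq_bot, eq_bot_iff]
    intro x hx
    have : (x : V) ∈ K ⊓ LinearMap.ker g := ⟨x.2, hx⟩
    rw [hinj, Submodule.mem_bot] at this
    exact Subtype.ext this
  have hinj' : Function.Injective ((g ∘ₗ K.subtype).rTensor A) :=
    Module.Flat.rTensor_preserves_injective_linearMap _ hginj
  have hz : y = (⟨v, hvK⟩ : K) ⊗ₜ[k] (1 : A) := by
    apply hinj'
    have e1 : (g ∘ₗ K.subtype).rTensor A y = g v ⊗ₜ[k] (1 : A) := by
      rw [LinearMap.rTensor_comp, LinearMap.comp_apply, hy, ← (isComodHom_iff g).mp hg,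
        (mem_fixedPts_iff _).mp hv]
    have e2 : (g ∘ₗ K.subtype).rTensor A ((⟨v, hvK⟩ : K) ⊗ₜ[k] (1 : A)) = g v ⊗ₜ[k] (1 : A) := by
      rw [LinearMap.rTensor_tmul]
      rfl
    exact e1.trans e2.symm
  rw [mem_fixedPts_iff, ← hy, hz, LinearMap.rTensor_tmul]
  rfl

/-- a comodule map sending a subcomodule without invariants into the invariants kills it -/
theorem map_eq_zero_of_no_invariants (hV : HopfRep.IsSemisimpleComod k A V)
    {g : V →ₗ[k] W} (hg : Hoch.IsComodHom A g) (K : Submodule k V)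
    (hK : HopfRep.IsSubcomod (k := k) (A := A) K) (hKF : K ⊓ HopfRep.fixedPts k A V = ⊥)
    (hgK : ∀ v ∈ K, g v ∈ HopfRep.fixedPts k A W) : ∀ v ∈ K, g v = 0 := by
  have hK₀ : HopfRep.IsSubcomod (k := k) (A := A) (K ⊓ LinearMap.ker g) :=
    isSubcomod_inf _ _ hK (isSubcomod_ker hg)
  obtain ⟨Y, hY, hc⟩ := hV _ hK₀
  have hK₁ : HopfRep.IsSubcomod (k := k) (A := A) (K ⊓ Y) := isSubcomod_inf _ _ hK hY
  have hK₁bot : K ⊓ Y = ⊥ := by
    rw [eq_bot_iff]
    intro v hv
    have hinj : (K ⊓ Y) ⊓ LinearMap.ker g = ⊥ := by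
      rw [eq_bot_iff]
      intro x hx
      have : x ∈ (K ⊓ LinearMap.ker g) ⊓ Y := ⟨⟨hx.1.1, hx.2⟩, hx.1.2⟩
      rw [hc.inf_eq_bot] at this
      exact this
    have hfix : v ∈ HopfRep.fixedPts k A V :=
      mem_fixedPts_of_map_mem hg (K ⊓ Y) hK₁ hinj hv (hgK v hv.1)
    have : v ∈ K ⊓ HopfRep.fixedPts k A V := ⟨hv.1, hfix⟩
    rw [hKF] at this
    exact this
  intro v hv
  have hsum : v ∈ (K ⊓ LinearMap.ker g) ⊔ Y := by rw [hc.sup_eq_top]; trivial
  obtain ⟨a, ha, b, hb, rfl⟩ := Submodule.mem_sup.mp hsum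
  have hbK : b ∈ K := by
    have : b = (a + b) - a := by abel
    rw [this]
    exact K.sub_mem hv ha.1
  have hb0 : b = 0 := by
    have : b ∈ K ⊓ Y := ⟨hbK, hb⟩
    rw [hK₁bot] at this
    exact this
  rw [hb0, add_zero]
  exact ha.2

/-- existence of a Reynolds operator on a semisimple comodule -/
theorem exists_reynolds (hV : HopfRep.IsSemisimpleComod k A V) :
    ∃ E : V →ₗ[k] V, Hoch.IsComodHom A E ∧ E ∘ₗ E = E ∧
      ∀ x : V, E x = x ↔ x ∈ HopfRep.fixedPts k A V := by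
  obtain ⟨K, hK, hc⟩ := hV _ (isSubcomod_fixedPts (k := k) (A := A) (V := V))
  let P := Submodule.linearProjOfIsCompl _ _ hc
  let E : V →ₗ[k] V := (HopfRep.fixedPts k A V).subtype ∘ₗ P
  have hEF : ∀ x ∈ HopfRep.fixedPts k A V, E x = x := by
    intro x hx
    have := Submodule.linearProjOfIsCompl_apply_left hc ⟨x, hx⟩
    simp only [E, LinearMap.comp_apply, Submodule.subtype_apply]
    exact congrArg Subtype.val this
  have hEK : ∀ x ∈ K, E x = 0 := by
    intro x hx
    have := (Submodule.linearProjOfIsCompl_apply_eq_zero_iff hc).mpr hx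
    simp only [E, LinearMap.comp_apply, Submodule.subtype_apply]
    exact congrArg Subtype.val this
  have hEmem : ∀ x, E x ∈ HopfRep.fixedPts k A V := fun x => (P x).2
  refine ⟨E, ?_, ?_, ?_⟩
  · rw [isComodHom_iff]
    intro v
    have hsum : v ∈ HopfRep.fixedPts k A V ⊔ K := by rw [hc.sup_eq_top]; trivial
    obtain ⟨a, ha, b, hb, rfl⟩ := Submodule.mem_sup.mp hsum
    obtain ⟨y, hy⟩ := hK b hb
    have h0 : E ∘ₗ K.subtype = 0 := by
      apply LinearMap.ext
      intro x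
      exact hEK x x.2
    rw [map_add, hEF a ha, hEK b hb, add_zero, map_add, map_add, (mem_fixedPts_iff a).mp ha,
      LinearMap.rTensor_tmul, hEF a ha, ← hy, ← LinearMap.comp_apply, ← LinearMap.rTensor_comp,
      h0, LinearMap.rTensor_zero, LinearMap.zero_apply, add_zero]
  · apply LinearMap.ext
    intro x
    exact hEF _ (hEmem x)
  · intro x
    constructor
    · intro h
      rw [← h]
      exact hEmem x
    · exact hEF x

/-- naturality of Reynolds operators -/
theorem reynolds_comm (hV : HopfRep.IsSemisimpleComod k A V)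
    (E : V →ₗ[k] V) (hE₁ : Hoch.IsComodHom A E) (hE₂ : E ∘ₗ E = E)
    (hE₃ : ∀ x : V, E x = x ↔ x ∈ HopfRep.fixedPts k A V)
    (E' : W →ₗ[k] W) (hE'₁ : Hoch.IsComodHom A E') (hE'₂ : E' ∘ₗ E' = E')
    (hE'₃ : ∀ y : W, E' y = y ↔ y ∈ HopfRep.fixedPts k A W)
    (u : V →ₗ[k] W) (hu : Hoch.IsComodHom A u) : E' ∘ₗ u = u ∘ₗ E := by
  have hEmem : ∀ x, E x ∈ HopfRep.fixedPts k A V := fun x =>
    (hE₃ _).mp (LinearMap.congr_fun hE₂ x)
  have hE'mem : ∀ y, E' y ∈ HopfRep.fixedPts k A W := fun y =>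
    (hE'₃ _).mp (LinearMap.congr_fun hE'₂ y)
  have hker : ∀ v ∈ LinearMap.ker E, (E' ∘ₗ u) v = 0 := by
    apply map_eq_zero_of_no_invariants hV (isComodHom_comp hE'₁ hu) _ (isSubcomod_ker hE₁)
    · rw [eq_bot_iff]
      intro x hx
      have h1 : E x = 0 := hx.1
      have h2 : E x = x := (hE₃ x).mpr hx.2
      rw [Submodule.mem_bot, ← h2, h1]
    · intro v _
      exact hE'mem _
  apply LinearMap.ext
  intro v
  have h1 : v - E v ∈ LinearMap.ker E := by
    rw [LinearMap.mem_ker, map_sub]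
    have := LinearMap.congr_fun hE₂ v
    simp only [LinearMap.comp_apply] at this
    rw [this, sub_self]
  have h2 := hker _ h1
  rw [map_sub, sub_eq_zero] at h2
  rw [h2, LinearMap.comp_apply, LinearMap.comp_apply]
  exact (hE'₃ _).mpr (map_mem_fixedPts hu (hEmem v))

/-- lifting invariants along surjective comodule maps out of a semisimple comodule -/
theorem exists_fixedPts_map_eq (hV : HopfRep.IsSemisimpleComod k A V)
    {φ : V →ₗ[k] W} (hφ : Hoch.IsComodHom A φ) (hsurj : Function.Surjective φ)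
    {w : W} (hw : w ∈ HopfRep.fixedPts k A W) :
    ∃ v ∈ HopfRep.fixedPts k A V, φ v = w := by
  obtain ⟨K, hK, hc⟩ := hV _ (isSubcomod_ker hφ)
  obtain ⟨v₀, rfl⟩ := hsurj w
  have hsum : v₀ ∈ LinearMap.ker φ ⊔ K := by rw [hc.sup_eq_top]; trivial
  obtain ⟨a, ha, b, hb, rfl⟩ := Submodule.mem_sup.mp hsum
  have hab : φ (a + b) = φ b := by
    rw [map_add, LinearMap.mem_ker.mp ha, zero_add]
  refine ⟨b, ?_, hab.symm⟩
  apply mem_fixedPts_of_map_mem hφ K hK _ hb
  · rw [← hab]; exact hw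
  · rw [inf_comm]; exact hc.inf_eq_bot

end Fixed

end Groth.Agent.H9.Comod
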