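import Mathlib
import Groth.Prelude.Def_ComodDual
import Groth.Prelude.Def_ComodTens
import Groth.Prelude.Def_ComodSub
import Groth.Prelude.Def_Hoch
import Groth.Agent.Lib.Helper9.Comod
import Groth.Agent.Lib.Helper9.ComodHom
import Groth.Agent.Lib.Helper9.ComodReynolds

/-!
# Linear reductivity from the invariant-section criterion (helper9)
-/

set_option autoImplicit false
set_option linter.style.haveILetI false

universe u v w w' w₂ w₃

open TensorProduct

namespace Groth.Agent.H9.ComodHomLR

open Groth.Agent.H9.ComodHom Groth.Agent.H9.DualFlat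

section TensorHom

variable {k : Type u} [CommRing k] {A : Type v} [CommRing A] [Bialgebra k A]
  {V : Type w} [AddCommGroup V] [Module k V] {W : Type w'} [AddCommGroup W] [Module k W]
  {V' : Type w₂} [AddCommGroup V'] [Module k V'] {W' : Type w₃} [AddCommGroup W'] [Module k W']

/-- the tensor product of two comodule maps is a comodule map -/
theorem tensor_map_hom (c : HopfRep.Comod k A V) (c' : HopfRep.Comod k A V')
    (d : HopfRep.Comod k A W) (d' : HopfRep.Comod k A W') (f : V →ₗ[k] V') (g : W →ₗ[k] W')
    (hf : c'.coact ∘ₗ f = f.rTensor A ∘ₗ c.coact) (hg : d'.coact ∘ₗ g = g.rTensor A ∘ₗ d.coact) :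
    (ComodTens.Comod.tensor c' d').coact ∘ₗ TensorProduct.map f g =
      (TensorProduct.map f g).rTensor A ∘ₗ (ComodTens.Comod.tensor c d).coact := by
  have K : ∀ (y : V ⊗[k] A) (z : W ⊗[k] A),
      LinearMap.rTensor A (TensorProduct.map f g) (TensorProduct.map LinearMap.id (LinearMap.mul' k A)
        (AlgebraTensorModule.tensorTensorTensorComm k k k k V A W A (y ⊗ₜ[k] z))) =
      TensorProduct.map LinearMap.id (LinearMap.mul' k A)
        (AlgebraTensorModule.tensorTensorTensorComm k k k k V' A W' A
          (f.rTensor A y ⊗ₜ[k] g.rTensor A z)) := by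
    intro y z
    induction y using TensorProduct.induction_on with
    | zero => simp
    | add y y' hy hy' => simp only [TensorProduct.add_tmul, map_add, hy, hy']
    | tmul v a =>
      induction z using TensorProduct.induction_on with
      | zero => simp
      | add z z' hz hz' => simp only [TensorProduct.tmul_add, map_add, hz, hz']
      | tmul w b => simp
  apply TensorProduct.ext'
  intro v w
  have e1 := LinearMap.congr_fun hf v
  have e2 := LinearMap.congr_fun hg w
  simp only [LinearMap.comp_apply] at e1 e2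
  rw [LinearMap.comp_apply, LinearMap.comp_apply, TensorProduct.map_tmul,
    ComodTens.tensor_coact_tmul, ComodTens.tensor_coact_tmul, K, e1, e2]

end TensorHom

section Transpose

variable {k : Type u} [CommRing k] {A : Type v} [CommRing A] [HopfAlgebra k A]
  {V : Type w} [AddCommGroup V] [Module k V] {W : Type w'} [AddCommGroup W] [Module k W]

/-- the transpose of a comodule map is a comodule map between the contragredients -/
theorem dualMap_hom (cW : HopfRep.Comod k A W) (cV : HopfRep.Comod k A V) (i : W →ₗ[k] V)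
    (hi : cV.coact ∘ₗ i = i.rTensor A ∘ₗ cW.coact)
    (dW : HopfRep.Comod k A (Module.Dual k W)) (hdW : ComodTens.Comod.IsDual cW dW)
    (dV : HopfRep.Comod k A (Module.Dual k V)) (hdV : ComodTens.Comod.IsDual cV dV)
    (hinj : Function.Injective (dualTensorHom k W A)) :
    dW.coact ∘ₗ i.dualMap = i.dualMap.rTensor A ∘ₗ dV.coact := by
  apply LinearMap.ext
  intro f
  apply hinj
  rw [LinearMap.comp_apply, LinearMap.comp_apply, hdW, dualTensorHom_rTensor_dualMap, hdV]
  apply LinearMap.ext
  intro w
  have e1 := LinearMap.congr_fun hi w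
  simp only [LinearMap.comp_apply] at e1
  rw [LinearMap.comp_apply, ComodTens.dualCoactFun_apply, ComodTens.dualCoactFun_apply, e1,
    LinearMap.map_rTensor]
  rfl

omit [HopfAlgebra k A] in
/-- naturality of `x ↦ (m ↦ x(m))` under restriction -/
lemma dualTensorHom_comm_lTensor_dualMap {B : Type w₂} [AddCommGroup B] [Module k B]
    (i : W →ₗ[k] V) (x : B ⊗[k] Module.Dual k V) :
    dualTensorHom k W B (TensorProduct.comm k B (Module.Dual k W)
      (LinearMap.lTensor B i.dualMap x)) =
    dualTensorHom k V B (TensorProduct.comm k B (Module.Dual k V) x) ∘ₗ i := by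
  induction x using TensorProduct.induction_on with
  | zero => simp
  | tmul b φ =>
    apply LinearMap.ext
    intro v
    simp
  | add x y hx hy => simp only [map_add, hx, hy, LinearMap.add_comp]

/-- the coevaluation element is invariant -/
theorem exists_coev (cW : HopfRep.Comod k A W) (dW : HopfRep.Comod k A (Module.Dual k W))
    (hdW : ComodTens.Comod.IsDual cW dW) (hs : Function.Surjective (dualTensorHom k W W))
    (hJ : JointInj k A W W) :
    ∃ y : W ⊗[k] Module.Dual k W,
      dualTensorHom k W W (TensorProduct.comm k W (Module.Dual k W) y) = LinearMap.id ∧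
      (ComodTens.Comod.tensor cW dW).coact y = y ⊗ₜ[k] (1 : A) := by
  obtain ⟨z, hz⟩ := hs LinearMap.id
  refine ⟨(TensorProduct.comm k W (Module.Dual k W)).symm z, ?_, ?_⟩
  · rw [LinearEquiv.apply_symm_apply, hz]
  · apply coact_eq_of_isComodHom cW cW dW hdW hJ
    rw [LinearEquiv.apply_symm_apply, hz, LinearMap.comp_id, LinearMap.rTensor_id,
      LinearMap.id_comp]

end Transpose

section Crit

variable {k : Type u} [Field k] {A : Type v} [CommRing A] [HopfAlgebra k A]

/-- the invariant-section criterion, for comodules in the universe of `A` -/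
def Crit (k : Type u) [Field k] (A : Type v) [CommRing A] [HopfAlgebra k A] : Prop :=
  ∀ (V : Type v) [AddCommGroup V] [Module k V] [HopfRep.Comod k A V], Module.Finite k V →
    ∀ π : V →ₗ[k] k, Function.Surjective π →
      LinearMap.rTensor A π ∘ₗ HopfRep.Comod.coact (k := k) (A := A) (V := V) =
        (TensorProduct.mk k k A).flip (1 : A) ∘ₗ π →
      ∃ v ∈ HopfRep.fixedPts k A V, π v ≠ 0

omit [HopfAlgebra k A] in
lemma small_of_finite [Algebra k A] [Nontrivial A] (X : Type w) [AddCommGroup X] [Module k X]
    [Module.Finite k X] : Small.{v} X := by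
  haveI : Small.{v} k := small_of_injective (algebraMap k A).injective
  have e := (Module.finBasis k X).equivFun
  exact small_map e.toEquiv

/-- the criterion in any universe -/
theorem crit_lift (crit : Crit k A) {X : Type w} [AddCommGroup X] [Module k X]
    (cX : HopfRep.Comod k A X) [Module.Finite k X] (π : X →ₗ[k] k) (hπ : Function.Surjective π)
    (hπc : LinearMap.rTensor A π ∘ₗ cX.coact = (TensorProduct.mk k k A).flip (1 : A) ∘ₗ π) :
    ∃ x : X, cX.coact x = x ⊗ₜ[k] (1 : A) ∧ π x ≠ 0 := by
  haveI : Nontrivial A := by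
    refine ⟨⟨0, 1, fun h => ?_⟩⟩
    have := congrArg (CoalgebraStruct.counit (R := k) (A := A)) h
    rw [map_zero, Bialgebra.counit_one] at this
    exact zero_ne_one this
  haveI : Small.{v} X := small_of_finite (k := k) (A := A) X
  let e : Shrink.{v} X ≃ₗ[k] X := Shrink.linearEquiv k X
  letI c' : HopfRep.Comod k A (Shrink.{v} X) := ComodTens.Comod.ofEquiv e.symm cX
  have hfin : Module.Finite k (Shrink.{v} X) := Module.Finite.equiv e.symm
  have hco : ∀ y : Shrink.{v} X, c'.coact y = LinearMap.rTensor A e.symm.toLinearMap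
      (cX.coact (e y)) := by
    intro y
    rw [ComodTens.ofEquiv_coact, LinearEquiv.symm_symm]
  obtain ⟨y, hy, hy2⟩ := crit (Shrink.{v} X) hfin (π ∘ₗ e.toLinearMap)
    (hπ.comp e.surjective) (by
      apply LinearMap.ext
      intro y
      rw [LinearMap.comp_apply, LinearMap.comp_apply]
      show LinearMap.rTensor A (π ∘ₗ e.toLinearMap) (c'.coact y) = _
      rw [hco, ← LinearMap.comp_apply (LinearMap.rTensor A _) (LinearMap.rTensor A _),
        ← LinearMap.rTensor_comp]
      have : (π ∘ₗ e.toLinearMap) ∘ₗ e.symm.toLinearMap = π := by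
        apply LinearMap.ext
        intro x
        simp
      rw [this]
      exact LinearMap.congr_fun hπc (e y))
  refine ⟨e y, ?_, hy2⟩
  have h1 : c'.coact y = y ⊗ₜ[k] (1 : A) := hy
  rw [hco] at h1
  have h2 := congrArg (LinearMap.rTensor A e.toLinearMap) h1
  rw [← LinearMap.comp_apply (LinearMap.rTensor A _) (LinearMap.rTensor A _),
    ← LinearMap.rTensor_comp, LinearMap.rTensor_tmul] at h2
  have : e.toLinearMap ∘ₗ e.symm.toLinearMap = LinearMap.id := by
    apply LinearMap.ext
    intro x
    simp
  rw [this, LinearMap.rTensor_id, LinearMap.id_apply] at h2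
  exact h2

end Crit

section Main

variable {k : Type u} [Field k] {A : Type v} [CommRing A] [HopfAlgebra k A]

open Groth.Agent.H9.Comod in
/-- the span of an invariant vector is a subcomodule -/
lemma isSubcomod_span_singleton {Y : Type w} [AddCommGroup Y] [Module k Y]
    [HopfRep.Comod k A Y] (y : Y) (hy : HopfRep.Comod.coact (k := k) (A := A) y = y ⊗ₜ[k] (1 : A)) :
    HopfRep.IsSubcomod (k := k) (A := A) (Submodule.span k {y}) := by
  intro x hx
  obtain ⟨c, rfl⟩ := Submodule.mem_span_singleton.mp hx
  refine ⟨c • ((⟨y, Submodule.mem_span_singleton_self y⟩ : Submodule.span k {y}) ⊗ₜ[k] (1 : A)), ?_⟩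
  rw [map_smul, LinearMap.rTensor_tmul, map_smul, hy]
  rfl

open Groth.Agent.H9.Comod in
/-- a finite-dimensional comodule is semisimple if the invariant-section criterion holds -/
theorem isSemisimpleComod_of_crit (crit : Crit k A) (V : Type w) [AddCommGroup V] [Module k V]
    [cV : HopfRep.Comod k A V] [Module.Finite k V] : HopfRep.IsSemisimpleComod k A V := by
  intro W hW
  letI cW : HopfRep.Comod k A W := ComodSub.Comod.restr cV W hW
  have hi : cV.coact ∘ₗ W.subtype = W.subtype.rTensor A ∘ₗ cW.coact :=
    ComodSub.isComodHom_subtype cV W hW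
  obtain ⟨dV, hdV⟩ := Groth.Agent.H9.Dual.exists_isDual cV
  obtain ⟨dW, hdW⟩ := Groth.Agent.H9.Dual.exists_isDual cW
  -- the two Hom comodules
  letI cH : HopfRep.Comod k A (W ⊗[k] Module.Dual k V) := ComodTens.Comod.tensor cW dV
  letI cY : HopfRep.Comod k A (W ⊗[k] Module.Dual k W) := ComodTens.Comod.tensor cW dW
  let res : W ⊗[k] Module.Dual k V →ₗ[k] W ⊗[k] Module.Dual k W :=
    LinearMap.lTensor W W.subtype.dualMap
  have hres : Hoch.IsComodHom A res := by
    have h1 := dualMap_hom cW cV W.subtype hi dW hdW dV hdV (dualTensorHom_bijective).1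
    have h2 := tensor_map_hom cW cW dV dW LinearMap.id W.subtype.dualMap
      (by rw [LinearMap.comp_id, LinearMap.rTensor_id, LinearMap.id_comp]) h1
    exact h2
  have hres_surj : Function.Surjective res :=
    LinearMap.lTensor_surjective W
      (LinearMap.dualMap_surjective_of_injective W.injective_subtype)
  obtain ⟨coev, hcoev1, hcoev2⟩ := exists_coev cW dW hdW (dualTensorHom_bijective).2
    (jointInj_of_injective (dualTensorHom_bijective).1)
  by_cases h0 : coev = 0
  · -- then `W = 0`
    have hid : (LinearMap.id : W →ₗ[k] W) = 0 := by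
      rw [← hcoev1, h0, map_zero, map_zero]
    have hWbot : W = ⊥ := by
      rw [eq_bot_iff]
      intro w hw
      have := LinearMap.congr_fun hid ⟨w, hw⟩
      rw [LinearMap.id_apply, LinearMap.zero_apply] at this
      rw [Submodule.mem_bot]
      exact congrArg Subtype.val this
    refine ⟨⊤, isSubcomod_top, ?_⟩
    rw [hWbot]
    exact isCompl_bot_top
  -- a functional with `λ coev = 1`
  obtain ⟨lam, hlam⟩ := LinearMap.exists_leftInverse_of_injective
    (LinearMap.toSpanSingleton k (W ⊗[k] Module.Dual k W) coev)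
    (LinearMap.ker_eq_bot.mpr (by
      intro a b hab
      simp only [LinearMap.toSpanSingleton_apply] at hab
      exact smul_left_injective k h0 hab))
  have hlam1 : lam coev = 1 := by
    have := LinearMap.congr_fun hlam 1
    simpa using this
  have hU : HopfRep.IsSubcomod (k := k) (A := A) (Submodule.span k {coev}) :=
    isSubcomod_span_singleton coev hcoev2
  let H' : Submodule k (W ⊗[k] Module.Dual k V) := (Submodule.span k {coev}).comap res
  have hH' : HopfRep.IsSubcomod (k := k) (A := A) H' := isSubcomod_comap hres _ hU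
  let cH' : HopfRep.Comod k A H' := ComodSub.Comod.restr cH H' hH'
  let π : H' →ₗ[k] k := lam ∘ₗ res ∘ₗ H'.subtype
  -- `res x = π x • coev` on `H'`
  have hresx : ∀ x : H', res x = π x • coev := by
    intro x
    obtain ⟨c, hc⟩ := Submodule.mem_span_singleton.mp x.2
    show res x = lam (res x) • coev
    rw [← hc, map_smul, hlam1, smul_eq_mul, mul_one]
  have hπsurj : Function.Surjective π := by
    obtain ⟨x₀, hx₀⟩ := hres_surj coev
    have hx₀' : x₀ ∈ H' := by
      show res x₀ ∈ Submodule.span k {coev}
      rw [hx₀]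
      exact Submodule.mem_span_singleton_self coev
    intro c
    refine ⟨c • ⟨x₀, hx₀'⟩, ?_⟩
    rw [map_smul]
    show c • lam (res x₀) = c
    rw [hx₀, hlam1, smul_eq_mul, mul_one]
  have hπc : LinearMap.rTensor A π ∘ₗ cH'.coact = (TensorProduct.mk k k A).flip (1 : A) ∘ₗ π := by
    apply LinearMap.ext
    intro x
    rw [LinearMap.comp_apply, LinearMap.comp_apply, LinearMap.flip_apply, TensorProduct.mk_apply]
    have e1 : LinearMap.rTensor A π (cH'.coact x) =
        LinearMap.rTensor A lam (LinearMap.rTensor A res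
          (LinearMap.rTensor A H'.subtype (cH'.coact x))) := by
      rw [← LinearMap.comp_apply (LinearMap.rTensor A res), ← LinearMap.rTensor_comp,
        ← LinearMap.comp_apply (LinearMap.rTensor A lam), ← LinearMap.rTensor_comp]
    have e2 : LinearMap.rTensor A H'.subtype (cH'.coact x) = cH.coact (x : _) :=
      ComodSub.restr_coact_coe cH H' hH' x
    have e3 : LinearMap.rTensor A res (cH.coact (x : _)) = cY.coact (res x) :=
      (LinearMap.congr_fun hres (x : _)).symm
    rw [e1, e2, e3, hresx, map_smul, hcoev2, map_smul, LinearMap.rTensor_tmul, hlam1,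
      TensorProduct.smul_tmul', smul_eq_mul, mul_one]
  obtain ⟨x, hx1, hx2⟩ := crit_lift crit cH' π hπsurj hπc
  -- `x` is invariant in `H`
  have hx3 : cH.coact (x : W ⊗[k] Module.Dual k V) =
      (x : W ⊗[k] Module.Dual k V) ⊗ₜ[k] (1 : A) := by
    rw [← ComodSub.restr_coact_coe cH H' hH' x]
    show LinearMap.rTensor A H'.subtype (cH'.coact x) = _
    rw [hx1, LinearMap.rTensor_tmul]
    rfl
  let h : V →ₗ[k] W := dualTensorHom k V W (TensorProduct.comm k W (Module.Dual k V) (x : _))
  have hh : cW.coact ∘ₗ h = h.rTensor A ∘ₗ cV.coact :=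
    isComodHom_of_coact_eq cW cV dV hdV (x : _) hx3
  have hhi : h ∘ₗ W.subtype = π x • LinearMap.id := by
    show dualTensorHom k V W (TensorProduct.comm k W (Module.Dual k V) (x : _)) ∘ₗ W.subtype = _
    rw [← dualTensorHom_comm_lTensor_dualMap]
    show dualTensorHom k W W (TensorProduct.comm k W (Module.Dual k W) (res x)) = _
    rw [hresx, map_smul, map_smul, hcoev1]
  let r : V →ₗ[k] W := (π x)⁻¹ • h
  have hr1 : ∀ w : W, r w = w := by
    intro w
    have := LinearMap.congr_fun hhi w
    rw [LinearMap.comp_apply, LinearMap.smul_apply, LinearMap.id_apply] at this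
    show (π x)⁻¹ • h (W.subtype w) = w
    rw [this, smul_smul, inv_mul_cancel₀ hx2, one_smul]
  have hr2 : Hoch.IsComodHom A r := isComodHom_smul _ hh
  exact ⟨LinearMap.ker r, isSubcomod_ker hr2, LinearMap.isCompl_of_proj hr1⟩

/-- the criterion implies linear reductivity -/
theorem isLinearlyReductive_of_crit (crit : Crit k A) : HopfRep.IsLinearlyReductive k A := by
  intro V _ _ _ hfin
  exact isSemisimpleComod_of_crit crit V

end Main

section Exact

variable {k : Type u} [Field k] {A : Type v} [CommRing A] [HopfAlgebra k A]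

open Groth.Agent.H9.Comod in
/-- invariants lift along surjective comodule maps out of a semisimple comodule -/
theorem exists_fixed_lift {V : Type w} [AddCommGroup V] [Module k V] [HopfRep.Comod k A V]
    {W : Type w'} [AddCommGroup W] [Module k W] [HopfRep.Comod k A W]
    (hV : HopfRep.IsSemisimpleComod k A V) {φ : V →ₗ[k] W} (hφ : Hoch.IsComodHom A φ)
    (hs : Function.Surjective φ) {w : W} (hw : w ∈ HopfRep.fixedPts k A W) :
    ∃ v ∈ HopfRep.fixedPts k A V, φ v = w := by
  obtain ⟨K, hK, hc⟩ := hV _ (isSubcomod_ker hφ)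
  obtain ⟨v₀, rfl⟩ := hs w
  have hsum : v₀ ∈ LinearMap.ker φ ⊔ K := by rw [hc.sup_eq_top]; trivial
  obtain ⟨a, ha, b, hb, rfl⟩ := Submodule.mem_sup.mp hsum
  have hφb : φ b = φ (a + b) := by
    rw [map_add, LinearMap.mem_ker.mp ha, zero_add]
  refine ⟨b, ?_, hφb⟩
  apply mem_fixedPts_of_map_mem hφ K hK _ hb
  · rw [hφb]
    exact hw
  · rw [inf_comm]
    exact hc.inf_eq_bot

/-- linear reductivity implies the invariant-section criterion -/
theorem crit_of_isLinearlyReductive (hG : HopfRep.IsLinearlyReductive k A) : Crit k A := by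
  intro V _ _ _ hfin π hπ hπc
  letI : HopfRep.Comod k A k := HopfRep.Comod.trivial k A k
  have hπ' : Hoch.IsComodHom A π := hπc.symm
  have h1 : (1 : k) ∈ HopfRep.fixedPts k A k := rfl
  obtain ⟨v, hv, hv1⟩ := exists_fixed_lift (hG V hfin) hπ' hπ h1
  exact ⟨v, hv, by rw [hv1]; exact one_ne_zero⟩

/-- exactness of invariants implies the invariant-section criterion -/
theorem crit_of_exact
    (h : ∀ (V W : Type v) [AddCommGroup V] [Module k V] [HopfRep.Comod k A V]
      [AddCommGroup W] [Module k W] [HopfRep.Comod k A W] (φ : V →ₗ[k] W),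
      LinearMap.rTensor A φ ∘ₗ HopfRep.Comod.coact (k := k) (A := A) (V := V) =
          HopfRep.Comod.coact (k := k) (A := A) (V := W) ∘ₗ φ →
        Function.Surjective φ →
          ∀ w ∈ HopfRep.fixedPts k A W, ∃ v ∈ HopfRep.fixedPts k A V, φ v = w) :
    Crit k A := by
  intro V _ _ _ hfin π hπ hπc
  haveI : Nontrivial A := by
    refine ⟨⟨0, 1, fun h => ?_⟩⟩
    have := congrArg (CoalgebraStruct.counit (R := k) (A := A)) h
    rw [map_zero, Bialgebra.counit_one] at this
    exact zero_ne_one this
  haveI : Small.{v} k := small_of_injective (algebraMap k A).injective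
  let e : Shrink.{v} k ≃ₗ[k] k := Shrink.linearEquiv k k
  letI : HopfRep.Comod k A (Shrink.{v} k) := HopfRep.Comod.trivial k A (Shrink.{v} k)
  obtain ⟨v, hv, hv1⟩ := h V (Shrink.{v} k) (e.symm.toLinearMap ∘ₗ π) (by
      apply LinearMap.ext
      intro x
      have e1 := LinearMap.congr_fun hπc x
      simp only [LinearMap.comp_apply, LinearMap.flip_apply, TensorProduct.mk_apply] at e1
      rw [LinearMap.comp_apply, LinearMap.comp_apply, LinearMap.rTensor_comp, LinearMap.comp_apply,
        e1, LinearMap.rTensor_tmul]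
      rfl) (e.symm.surjective.comp hπ) (e.symm 1) rfl
  refine ⟨v, hv, ?_⟩
  have := congrArg e hv1
  rw [LinearMap.comp_apply, LinearEquiv.coe_coe, LinearEquiv.apply_symm_apply,
    LinearEquiv.apply_symm_apply] at this
  rw [this]
  exact one_ne_zero

open Groth.Agent.H9.Comod in
/-- complements of codimension-one subcomodules give the invariant-section criterion -/
theorem crit_of_codim_one
    (h : ∀ (V : Type v) [AddCommGroup V] [Module k V] [HopfRep.Comod k A V], Module.Finite k V →
      ∀ W : Submodule k V, HopfRep.IsSubcomod (k := k) (A := A) W →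
        Module.finrank k V = Module.finrank k ↥W + 1 →
        ∃ W' : Submodule k V, HopfRep.IsSubcomod (k := k) (A := A) W' ∧ IsCompl W W') :
    Crit k A := by
  intro V _ _ _ hfin π hπ hπc
  letI : HopfRep.Comod k A k := HopfRep.Comod.trivial k A k
  have hπ' : Hoch.IsComodHom A π := hπc.symm
  have hrank : Module.finrank k V = Module.finrank k ↥(LinearMap.ker π) + 1 := by
    have := LinearMap.finrank_range_add_finrank_ker π
    rw [LinearMap.range_eq_top.mpr hπ, finrank_top, Module.finrank_self] at this
    omega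
  obtain ⟨K, hK, hc⟩ := h V hfin _ (isSubcomod_ker hπ') hrank
  obtain ⟨v₀, hv₀⟩ := hπ 1
  have hsum : v₀ ∈ LinearMap.ker π ⊔ K := by rw [hc.sup_eq_top]; trivial
  obtain ⟨a, ha, b, hb, rfl⟩ := Submodule.mem_sup.mp hsum
  have hπb : π b = 1 := by
    rw [← hv₀, map_add, LinearMap.mem_ker.mp ha, zero_add]
  refine ⟨b, ?_, by rw [hπb]; exact one_ne_zero⟩
  apply mem_fixedPts_of_map_mem hπ' K hK _ hb
  · rw [hπb]
    rfl
  · rw [inf_comm]
    exact hc.inf_eq_bot

end Exact

end Groth.Agent.H9.ComodHomLR
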