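import Mathlib
import Groth.Prelude.Def_ComodDual
import Groth.Prelude.Def_ComodTens
import Groth.Prelude.Def_Hoch
import Groth.Prelude.Def_ComodSub
import Groth.Prelude.Def_GLin5
import Groth.Agent.Lib.Helper9.Comod
import Groth.Agent.Lib.Helper9.ComodCoeff
import Groth.Agent.Lib.Helper9.ComodHomLR

/-!
# Subquotients of sums of tensor powers (helper9)

Comodule maps between explicitly given comodule structures, maps into and out of finite direct sums,
the subquotient produced by a comodule map whose image contains an embedded comodule, and monomial maps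
`T^m X → A`.
-/

set_option autoImplicit false
set_option linter.style.haveILetI false

universe u v w w' w₂ w₃

open TensorProduct

namespace Groth.Agent.H9.Subquot

open Groth.Agent.H9.Comod

section Hom

variable {k : Type u} [CommRing k] {A : Type v} [AddCommGroup A] [Module k A] [Coalgebra k A]
  {V : Type w} [AddCommGroup V] [Module k V] {W : Type w'} [AddCommGroup W] [Module k W]
  {X : Type w₂} [AddCommGroup X] [Module k X]

/-- comodule maps between explicitly given structures -/
def Hom (c : HopfRep.Comod k A V) (c' : HopfRep.Comod k A W) (f : V →ₗ[k] W) : Prop :=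
  c'.coact ∘ₗ f = f.rTensor A ∘ₗ c.coact

lemma Hom.apply {c : HopfRep.Comod k A V} {c' : HopfRep.Comod k A W} {f : V →ₗ[k] W}
    (h : Hom c c' f) (v : V) : c'.coact (f v) = f.rTensor A (c.coact v) :=
  LinearMap.congr_fun h v

lemma hom_iff_isComodHom (c : HopfRep.Comod k A V) (c' : HopfRep.Comod k A W) (f : V →ₗ[k] W) :
    Hom c c' f ↔ @Hoch.IsComodHom k _ A _ _ _ V _ _ c W _ _ c' f := Iff.rfl

lemma hom_id (c : HopfRep.Comod k A V) : Hom c c LinearMap.id := by
  unfold Hom
  rw [LinearMap.comp_id, LinearMap.rTensor_id, LinearMap.id_comp]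

lemma Hom.comp {c : HopfRep.Comod k A V} {c' : HopfRep.Comod k A W} {c'' : HopfRep.Comod k A X}
    {g : W →ₗ[k] X} {f : V →ₗ[k] W} (hg : Hom c' c'' g) (hf : Hom c c' f) : Hom c c'' (g ∘ₗ f) := by
  unfold Hom at *
  rw [← LinearMap.comp_assoc, hg, LinearMap.comp_assoc, hf, ← LinearMap.comp_assoc,
    LinearMap.rTensor_comp]

lemma Hom.add {c : HopfRep.Comod k A V} {c' : HopfRep.Comod k A W} {f g : V →ₗ[k] W}
    (hf : Hom c c' f) (hg : Hom c c' g) : Hom c c' (f + g) := by
  unfold Hom at *
  rw [LinearMap.comp_add, hf, hg, LinearMap.rTensor_add, LinearMap.add_comp]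

lemma hom_ofEquiv (e : V ≃ₗ[k] W) (c : HopfRep.Comod k A V) :
    Hom c (ComodTens.Comod.ofEquiv e c) e.toLinearMap := by
  apply LinearMap.ext
  intro v
  exact ComodTens.ofEquiv_coact_apply e c v

lemma hom_ofEquiv_symm (e : V ≃ₗ[k] W) (c : HopfRep.Comod k A V) :
    Hom (ComodTens.Comod.ofEquiv e c) c e.symm.toLinearMap := by
  apply LinearMap.ext
  intro w
  obtain ⟨v, rfl⟩ := e.surjective w
  simp only [LinearMap.comp_apply, LinearEquiv.coe_coe, LinearEquiv.symm_apply_apply]
  rw [ComodTens.ofEquiv_coact_apply, ← LinearMap.comp_apply, ← LinearMap.rTensor_comp]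
  have : e.symm.toLinearMap ∘ₗ (e : V →ₗ[k] W) = LinearMap.id := by
    apply LinearMap.ext; intro x; simp
  rw [this, LinearMap.rTensor_id, LinearMap.id_apply]

end Hom

section Pi

variable {k : Type u} [CommRing k] {A : Type v} [AddCommGroup A] [Module k A] [Coalgebra k A]
  {V : Type w₂} [AddCommGroup V] [Module k V]
  {ι : Type w'} [Fintype ι] [DecidableEq ι] {X : ι → Type w} [∀ i, AddCommGroup (X i)]
  [∀ i, Module k (X i)]

omit [Coalgebra k A] in
/-- elements of `(Π i, X i) ⊗ A` are determined by their components -/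
lemma pi_tensor_ext {z z' : (∀ i, X i) ⊗[k] A}
    (h : ∀ i, (LinearMap.proj (R := k) (φ := X) i).rTensor A z =
      (LinearMap.proj (R := k) (φ := X) i).rTensor A z') : z = z' := by
  have hid : (∑ i, (LinearMap.single k X i) ∘ₗ (LinearMap.proj (R := k) (φ := X) i)) =
      LinearMap.id := by
    apply LinearMap.ext; intro f
    funext j
    simp [LinearMap.sum_apply, Finset.sum_apply]
  have key : ∀ y : (∀ i, X i) ⊗[k] A,
      y = ∑ i, (LinearMap.single k X i).rTensor A ((LinearMap.proj (R := k) (φ := X) i).rTensor A y) := by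
    intro y
    conv_lhs => rw [← LinearMap.id_apply (R := k) y, ← LinearMap.rTensor_id, ← hid]
    induction y using TensorProduct.induction_on with
    | zero => simp
    | tmul f a =>
      simp only [LinearMap.rTensor_tmul, LinearMap.sum_apply, LinearMap.comp_apply,
        TensorProduct.sum_tmul]
    | add y y' hy hy' =>
      simp only [map_add, Finset.sum_add_distrib] at hy hy' ⊢
      rw [hy, hy']
  rw [key z, key z']
  simp only [h]

/-- the components of the coaction of a direct sum -/
lemma proj_pi_coact (c : ∀ i, HopfRep.Comod k A (X i)) (i : ι) (f : ∀ i, X i) :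
    (LinearMap.proj (R := k) (φ := X) i).rTensor A ((ComodTens.Comod.pi c).coact f) =
      (c i).coact (f i) := by
  rw [ComodTens.pi_coact, map_sum, Finset.sum_eq_single i]
  · rw [← LinearMap.comp_apply, ← LinearMap.rTensor_comp]
    have : (LinearMap.proj (R := k) (φ := X) i) ∘ₗ LinearMap.single k X i = LinearMap.id := by
      apply LinearMap.ext; intro x; simp
    rw [this, LinearMap.rTensor_id, LinearMap.id_apply]
  · intro j _ hj
    rw [← LinearMap.comp_apply, ← LinearMap.rTensor_comp]
    have : (LinearMap.proj (R := k) (φ := X) i) ∘ₗ LinearMap.single k X j = 0 := by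
      apply LinearMap.ext; intro x
      simp [hj]
    rw [this, LinearMap.rTensor_zero, LinearMap.zero_apply]
  · intro hi; exact absurd (Finset.mem_univ i) hi

lemma hom_proj (c : ∀ i, HopfRep.Comod k A (X i)) (i : ι) :
    Hom (ComodTens.Comod.pi c) (c i) (LinearMap.proj (R := k) (φ := X) i) := by
  apply LinearMap.ext
  intro f
  simp only [LinearMap.comp_apply]
  rw [proj_pi_coact]
  rfl

lemma hom_single (c : ∀ i, HopfRep.Comod k A (X i)) (i : ι) :
    Hom (c i) (ComodTens.Comod.pi c) (LinearMap.single k X i) := by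
  apply LinearMap.ext
  intro x
  simp only [LinearMap.comp_apply]
  exact ComodTens.pi_coact_single c i x

/-- a map into a direct sum is a comodule map when its components are -/
lemma hom_pi (cV : HopfRep.Comod k A V) (c : ∀ i, HopfRep.Comod k A (X i)) (f : V →ₗ[k] ∀ i, X i)
    (h : ∀ i, Hom cV (c i) (LinearMap.proj (R := k) (φ := X) i ∘ₗ f)) :
    Hom cV (ComodTens.Comod.pi c) f := by
  apply LinearMap.ext
  intro v
  simp only [LinearMap.comp_apply]
  apply pi_tensor_ext
  intro i
  rw [proj_pi_coact, ← LinearMap.comp_apply, ← LinearMap.rTensor_comp]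
  exact (h i).apply v

end Pi

section Subquot

variable {k : Type u} [Field k] {A : Type v} [AddCommGroup A] [Module k A] [Coalgebra k A]
  {E : Type w} [AddCommGroup E] [Module k E] {F : Type w'} [AddCommGroup F] [Module k F]
  {W : Type w₂} [AddCommGroup W] [Module k W]

/-- A comodule map `Φ : E → F` whose image contains the image of an injective comodule map `ι : W → F`
exhibits `W` as a quotient of a subcomodule of `E`. -/
theorem exists_subquot (cE : HopfRep.Comod k A E) (cF : HopfRep.Comod k A F)
    (σ : HopfRep.Comod k A W) (Φ : E →ₗ[k] F) (hΦ : Hom cE cF Φ) (ι : W →ₗ[k] F)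
    (hι : Hom σ cF ι) (hinj : Function.Injective ι)
    (hle : LinearMap.range ι ≤ LinearMap.range Φ) :
    ∃ (E' : Submodule k E) (τ : E' →ₗ[k] E' ⊗[k] A) (q : E' →ₗ[k] W),
      Function.Surjective q ∧ (E'.subtype.rTensor A) ∘ₗ τ = cE.coact ∘ₗ E'.subtype ∧
      (q.rTensor A) ∘ₗ τ = σ.coact ∘ₗ q := by
  have hsub : @HopfRep.IsSubcomod k A _ _ _ _ E _ _ cE ((LinearMap.range ι).comap Φ) := by
    letI := cE; letI := cF; letI := σ
    exact isSubcomod_comap (A := A) hΦ _ (isSubcomod_range (A := A) hι)
  set E' : Submodule k E := (LinearMap.range ι).comap Φ with hE'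
  let τ : E' →ₗ[k] E' ⊗[k] A := ComodSub.restrCoact cE E' hsub
  have hτ : (E'.subtype.rTensor A) ∘ₗ τ = cE.coact ∘ₗ E'.subtype :=
    ComodSub.rTensor_subtype_comp_restrCoact cE E' hsub
  let q : E' →ₗ[k] W := (LinearEquiv.ofInjective ι hinj).symm.toLinearMap ∘ₗ
    LinearMap.codRestrict (LinearMap.range ι) (Φ ∘ₗ E'.subtype) (fun e => e.2)
  have hq : ∀ e : E', ι (q e) = Φ (e : E) := by
    intro e
    have h1 : ∀ x : LinearMap.range ι, ι ((LinearEquiv.ofInjective ι hinj).symm x) = (x : F) := by
      intro x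
      have := LinearEquiv.ofInjective_apply (f := ι) (h := hinj)
        ((LinearEquiv.ofInjective ι hinj).symm x)
      rw [← this, LinearEquiv.apply_symm_apply]
    exact h1 _
  have hq' : ι ∘ₗ q = Φ ∘ₗ E'.subtype := LinearMap.ext hq
  refine ⟨E', τ, q, ?_, hτ, ?_⟩
  · intro w
    obtain ⟨e, he⟩ := hle ⟨w, rfl⟩
    have heE : e ∈ E' := by
      rw [hE', Submodule.mem_comap, he]; exact ⟨w, rfl⟩
    refine ⟨⟨e, heE⟩, hinj ?_⟩
    rw [hq]; exact he
  · apply LinearMap.ext
    intro e
    have hflat : Function.Injective (ι.rTensor A) :=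
      Module.Flat.rTensor_preserves_injective_linearMap _ hinj
    apply hflat
    simp only [LinearMap.comp_apply]
    rw [← LinearMap.comp_apply (ι.rTensor A), ← LinearMap.rTensor_comp, hq', LinearMap.rTensor_comp,
      LinearMap.comp_apply]
    have h1 := LinearMap.congr_fun hτ e
    simp only [LinearMap.comp_apply] at h1
    rw [h1, ← hΦ.apply, ← hι.apply, hq]
    rfl

end Subquot

section HomMore

variable {k : Type u} [CommRing k] {A : Type v} [AddCommGroup A] [Module k A] [Coalgebra k A]
  {V : Type w} [AddCommGroup V] [Module k V] {W : Type w'} [AddCommGroup W] [Module k W]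

lemma hom_zero (c : HopfRep.Comod k A V) (c' : HopfRep.Comod k A W) :
    Hom c c' (0 : V →ₗ[k] W) := by
  unfold Hom
  rw [LinearMap.comp_zero, LinearMap.rTensor_zero, LinearMap.zero_comp]

lemma Hom.symm {c : HopfRep.Comod k A V} {c' : HopfRep.Comod k A W} (e : V ≃ₗ[k] W)
    (h : Hom c c' e.toLinearMap) : Hom c' c e.symm.toLinearMap := by
  apply LinearMap.ext
  intro w
  obtain ⟨v, rfl⟩ := e.surjective w
  simp only [LinearMap.comp_apply, LinearEquiv.coe_coe, LinearEquiv.symm_apply_apply]
  have h1 := h.apply v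
  rw [show e.toLinearMap v = e v from rfl] at h1
  rw [h1, ← LinearMap.comp_apply, ← LinearMap.rTensor_comp]
  have : e.symm.toLinearMap ∘ₗ e.toLinearMap = LinearMap.id := by
    apply LinearMap.ext; intro x; simp
  rw [this, LinearMap.rTensor_id, LinearMap.id_apply]

end HomMore

section Good

variable {k : Type u} [CommRing k] {A : Type v} [CommRing A] [Bialgebra k A]
  {X : Type w} [AddCommGroup X] [Module k X] (cX : HopfRep.Comod k A X)
  {F : Type w'} [AddCommGroup F] [Module k F] (cF : HopfRep.Comod k A F)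

/-- `P` is contained in the image of a comodule map from a finite direct sum of tensor powers of `X` -/
def Good (P : Submodule k F) : Prop :=
  ∃ (ι : Type) (_ : Fintype ι) (_ : DecidableEq ι) (m : ι → ℕ)
    (Φ : (∀ i : ι, TensorPower k (m i) X) →ₗ[k] F),
    Hom (ComodTens.Comod.pi fun i => ComodTens.Comod.tpow cX (m i)) cF Φ ∧ P ≤ LinearMap.range Φ

variable {cX cF}

lemma Good.mono {P Q : Submodule k F} (h : P ≤ Q) (hQ : Good cX cF Q) : Good cX cF P := by
  obtain ⟨ι, i1, i2, m, Φ, hΦ, hle⟩ := hQ
  exact ⟨ι, i1, i2, m, Φ, hΦ, h.trans hle⟩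

lemma good_bot : Good cX cF (⊥ : Submodule k F) :=
  ⟨Empty, inferInstance, inferInstance, fun _ => 0, 0, hom_zero _ _, bot_le⟩

lemma Good.sup {P Q : Submodule k F} (hP : Good cX cF P) (hQ : Good cX cF Q) :
    Good cX cF (P ⊔ Q) := by
  obtain ⟨ι₁, i1, i2, m₁, Φ₁, h₁, hP⟩ := hP
  obtain ⟨ι₂, j1, j2, m₂, Φ₂, h₂, hQ⟩ := hQ
  let m : ι₁ ⊕ ι₂ → ℕ := Sum.elim m₁ m₂
  let R₁ : (∀ i, TensorPower k (m i) X) →ₗ[k] (∀ i, TensorPower k (m₁ i) X) :=
    LinearMap.pi fun i => LinearMap.proj (R := k) (φ := fun i => TensorPower k (m i) X) (Sum.inl i)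
  let R₂ : (∀ i, TensorPower k (m i) X) →ₗ[k] (∀ i, TensorPower k (m₂ i) X) :=
    LinearMap.pi fun i => LinearMap.proj (R := k) (φ := fun i => TensorPower k (m i) X) (Sum.inr i)
  refine ⟨ι₁ ⊕ ι₂, inferInstance, inferInstance, m, Φ₁ ∘ₗ R₁ + Φ₂ ∘ₗ R₂, ?_, ?_⟩
  · apply Hom.add
    · apply Hom.comp h₁
      apply hom_pi
      intro i
      exact hom_proj (fun j => ComodTens.Comod.tpow cX (m j)) (Sum.inl i)
    · apply Hom.comp h₂
      apply hom_pi
      intro i
      exact hom_proj (fun j => ComodTens.Comod.tpow cX (m j)) (Sum.inr i)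
  · intro x hx
    obtain ⟨p, hp, q, hq, rfl⟩ := Submodule.mem_sup.mp hx
    obtain ⟨f₁, rfl⟩ := hP hp
    obtain ⟨f₂, rfl⟩ := hQ hq
    refine ⟨fun i => Sum.rec (motive := fun i => TensorPower k (m i) X) f₁ f₂ i, ?_⟩
    rfl

variable (cX cF) in
/-- the elements generating a good submodule -/
def goodSub : Submodule k F where
  carrier := {x | Good cX cF (Submodule.span k {x})}
  add_mem' := by
    intro a b ha hb
    refine (Good.sup ha hb).mono ?_
    rw [Submodule.span_singleton_le_iff_mem]
    exact add_mem (Submodule.mem_sup_left (Submodule.mem_span_singleton_self a))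
      (Submodule.mem_sup_right (Submodule.mem_span_singleton_self b))
  zero_mem' := by
    show Good cX cF (Submodule.span k {0})
    rw [Submodule.span_zero_singleton]
    exact good_bot
  smul_mem' := by
    intro c x hx
    refine Good.mono ?_ hx
    rw [Submodule.span_singleton_le_iff_mem]
    exact Submodule.smul_mem _ c (Submodule.mem_span_singleton_self x)

lemma mem_goodSub {x : F} : x ∈ goodSub cX cF ↔ Good cX cF (Submodule.span k {x}) := Iff.rfl

/-- a value of a comodule map from a single tensor power is good -/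
lemma mem_goodSub_of_mon (m : ℕ) (μ : TensorPower k m X →ₗ[k] F)
    (hμ : Hom (ComodTens.Comod.tpow cX m) cF μ) (t : TensorPower k m X) :
    μ t ∈ goodSub cX cF := by
  refine ⟨Unit, inferInstance, inferInstance, fun _ => m,
    μ ∘ₗ LinearMap.proj (R := k) (φ := fun _ : Unit => TensorPower k m X) (), ?_, ?_⟩
  · exact Hom.comp hμ (hom_proj (fun _ : Unit => ComodTens.Comod.tpow cX m) ())
  · rw [Submodule.span_singleton_le_iff_mem]
    exact ⟨fun _ => t, rfl⟩

/-- every finitely generated submodule is good as soon as every element is -/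
lemma good_of_fg (h : goodSub cX cF = ⊤) (P : Submodule k F) (hP : P.FG) : Good cX cF P := by
  refine Submodule.fg_induction (motive := fun P _ => Good cX cF P) ?_ ?_ P hP
  · intro x
    have : x ∈ goodSub cX cF := by rw [h]; trivial
    exact this
  · intro M₁ M₂ _ _ h₁ h₂
    exact Good.sup h₁ h₂

/-- reindexing by `Fin b` -/
lemma Good.fin {P : Submodule k F} (h : Good cX cF P) :
    ∃ (b : ℕ) (m : Fin b → ℕ) (Φ : (∀ i : Fin b, TensorPower k (m i) X) →ₗ[k] F),
      Hom (ComodTens.Comod.pi fun i => ComodTens.Comod.tpow cX (m i)) cF Φ ∧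
        P ≤ LinearMap.range Φ := by
  obtain ⟨ι, i1, i2, m, Φ, hΦ, hle⟩ := h
  let e : ι ≃ Fin (Fintype.card ι) := Fintype.equivFin ι
  let L : (∀ i : ι, TensorPower k (m i) X) ≃ₗ[k]
      (∀ j : Fin (Fintype.card ι), TensorPower k (m (e.symm j)) X) :=
    LinearEquiv.piCongrLeft' k (fun i => TensorPower k (m i) X) e
  have hL : Hom (ComodTens.Comod.pi fun i => ComodTens.Comod.tpow cX (m i))
      (ComodTens.Comod.pi fun j => ComodTens.Comod.tpow cX (m (e.symm j))) L.toLinearMap := by
    apply hom_pi
    intro j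
    exact hom_proj (fun i => ComodTens.Comod.tpow cX (m i)) (e.symm j)
  refine ⟨Fintype.card ι, fun j => m (e.symm j), Φ ∘ₗ L.symm.toLinearMap, Hom.comp hΦ (Hom.symm L hL), ?_⟩
  intro x hx
  obtain ⟨f, rfl⟩ := hle hx
  exact ⟨L f, by simp⟩

end Good

section Mon

variable {k : Type u} [CommRing k] {A : Type v} [CommRing A] [Bialgebra k A]
  {X : Type w} [AddCommGroup X] [Module k X] (cX : HopfRep.Comod k A X)

/-- multiplication `A ⊗ A → A` is a comodule map -/
lemma hom_mul' : Hom (ComodTens.Comod.tensor (HopfRep.Comod.regular k A) (HopfRep.Comod.regular k A))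
    (HopfRep.Comod.regular k A) (LinearMap.mul' k A) := by
  apply TensorProduct.ext'
  intro a b
  simp only [LinearMap.comp_apply, LinearMap.mul'_apply]
  rw [ComodTens.tensor_coact_tmul]
  show CoalgebraStruct.comul (R := k) (a * b) = _
  rw [Bialgebra.comul_mul]
  show CoalgebraStruct.comul (R := k) a * CoalgebraStruct.comul (R := k) b =
    LinearMap.rTensor A (LinearMap.mul' k A) (TensorProduct.map LinearMap.id (LinearMap.mul' k A)
      (AlgebraTensorModule.tensorTensorTensorComm k k k k A A A A
        (CoalgebraStruct.comul (R := k) a ⊗ₜ[k] CoalgebraStruct.comul (R := k) b)))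
  generalize CoalgebraStruct.comul (R := k) a = y
  generalize CoalgebraStruct.comul (R := k) b = z
  induction y using TensorProduct.induction_on with
  | zero => simp
  | add y y' hy hy' => simp only [TensorProduct.add_tmul, map_add, add_mul, hy, hy']
  | tmul a₁ a₂ =>
    induction z using TensorProduct.induction_on with
    | zero => simp
    | add z z' hz hz' => simp only [TensorProduct.tmul_add, map_add, mul_add, hz, hz']
    | tmul b₁ b₂ => simp

/-- the unit `k → A` is a comodule map from the trivial comodule -/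
lemma hom_algebraMap : Hom (HopfRep.Comod.trivial k A k) (HopfRep.Comod.regular k A)
    (Algebra.linearMap k A) := by
  apply LinearMap.ext
  intro r
  simp only [LinearMap.comp_apply]
  show CoalgebraStruct.comul (R := k) (algebraMap k A r) =
    (Algebra.linearMap k A).rTensor A (r ⊗ₜ[k] (1 : A))
  rw [LinearMap.rTensor_tmul, Algebra.linearMap_apply, Bialgebra.comul_algebraMap,
    Algebra.TensorProduct.algebraMap_apply]

/-- values of comodule maps from tensor powers of `X` to the regular comodule -/
def Mon (a : A) : Prop :=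
  ∃ (m : ℕ) (μ : TensorPower k m X →ₗ[k] A),
    Hom (ComodTens.Comod.tpow cX m) (HopfRep.Comod.regular k A) μ ∧ a ∈ LinearMap.range μ

lemma mon_one : Mon cX (1 : A) := by
  let e := PiTensorProduct.isEmptyEquiv (Fin 0) (R := k) (s := fun _ : Fin 0 => X)
  refine ⟨0, Algebra.linearMap k A ∘ₗ e.toLinearMap, ?_, ?_⟩
  · refine Hom.comp hom_algebraMap ?_
    have := hom_ofEquiv_symm e.symm (HopfRep.Comod.trivial k A k)
    exact this
  · refine ⟨e.symm 1, ?_⟩
    simp

lemma mon_mul {a : A} (ha : Mon cX a) (f : X →ₗ[k] A) (hf : Hom cX (HopfRep.Comod.regular k A) f)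
    (x : X) : Mon cX (a * f x) := by
  obtain ⟨m, μ, hμ, t, rfl⟩ := ha
  let se := PiTensorProduct.subsingletonEquiv (R := k) (s := fun _ : Fin 1 => X) (0 : Fin 1)
  let me := TensorPower.mulEquiv (R := k) (M := X) (n := m) (m := 1)
  have hse : Hom (ComodTens.Comod.tpowOne cX) (HopfRep.Comod.regular k A) (f ∘ₗ se.toLinearMap) := by
    refine Hom.comp hf ?_
    have := hom_ofEquiv_symm se.symm cX
    exact this
  refine ⟨m + 1, LinearMap.mul' k A ∘ₗ TensorProduct.map μ (f ∘ₗ se.toLinearMap) ∘ₗ me.symm.toLinearMap,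
    ?_, ?_⟩
  · refine Hom.comp hom_mul' (Hom.comp
      (c' := ComodTens.Comod.tensor (ComodTens.Comod.tpow cX m) (ComodTens.Comod.tpowOne cX)) ?_ ?_)
    · exact Groth.Agent.H9.ComodHomLR.tensor_map_hom _ _ _ _ μ (f ∘ₗ se.toLinearMap) hμ hse
    · exact hom_ofEquiv_symm me _
  · refine ⟨me (t ⊗ₜ[k] se.symm x), ?_⟩
    simp only [LinearMap.comp_apply, LinearEquiv.coe_coe, LinearEquiv.symm_apply_apply,
      TensorProduct.map_tmul, LinearEquiv.apply_symm_apply, LinearMap.mul'_apply]

/-- everything in the subalgebra generated by values of comodule maps `X → A` is a combination of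
values of monomial maps -/
lemma adjoin_le_span_mon :
    Subalgebra.toSubmodule (Algebra.adjoin k
      {a : A | ∃ (f : X →ₗ[k] A) (x : X), Hom cX (HopfRep.Comod.regular k A) f ∧ f x = a}) ≤
      Submodule.span k {a : A | Mon cX a} := by
  rw [Algebra.adjoin_eq_span]
  apply Submodule.span_mono
  intro a ha
  induction ha using Submonoid.closure_induction_right with
  | one => exact mon_one cX
  | mul_right x _ y hy ih =>
    obtain ⟨f, v, hf, rfl⟩ := hy
    exact mon_mul cX ih f hf v

end Mon

section Coef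

variable {k : Type u} [Field k] {A : Type v} [AddCommGroup A] [Module k A] [Coalgebra k A]
  {M : Type w} [AddCommGroup M] [Module k M] {N : Type w'} [AddCommGroup N] [Module k N]

/-- coefficient map `m ↦ (ψ ⊗ id)(ρ m)` for an explicitly given structure -/
noncomputable def coef (c : HopfRep.Comod k A M) (ψ : M →ₗ[k] k) : M →ₗ[k] A :=
  sliceL ψ ∘ₗ c.coact

lemma coef_apply (c : HopfRep.Comod k A M) (ψ : M →ₗ[k] k) (m : M) :
    coef c ψ m = sliceL ψ (c.coact m) := rfl

lemma hom_coef (c : HopfRep.Comod k A M) (ψ : M →ₗ[k] k) :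
    Hom c (HopfRep.Comod.regular k A) (coef c ψ) := by
  letI := c
  exact isComodHom_mcoef (A := A) ψ

lemma counit_coef (c : HopfRep.Comod k A M) (ψ : M →ₗ[k] k) (m : M) :
    Coalgebra.counit (R := k) (A := A) (coef c ψ m) = ψ m := by
  letI := c
  exact counit_mcoef (A := A) ψ m

lemma hom_fst (c : HopfRep.Comod k A M) (d : HopfRep.Comod k A N) :
    Hom (ComodTens.Comod.prod c d) c (LinearMap.fst k M N) := by
  apply LinearMap.ext
  rintro ⟨m, n⟩
  simp only [LinearMap.comp_apply, LinearMap.fst_apply]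
  have e1 : ∀ z : M ⊗[k] A,
      (LinearMap.fst k M N).rTensor A ((LinearMap.inl k M N).rTensor A z) = z := by
    intro z
    rw [← LinearMap.comp_apply, ← LinearMap.rTensor_comp, LinearMap.fst_comp_inl,
      LinearMap.rTensor_id, LinearMap.id_apply]
  have e2 : ∀ z : N ⊗[k] A,
      (LinearMap.fst k M N).rTensor A ((LinearMap.inr k M N).rTensor A z) = 0 := by
    intro z
    rw [← LinearMap.comp_apply, ← LinearMap.rTensor_comp, LinearMap.fst_comp_inr,
      LinearMap.rTensor_zero, LinearMap.zero_apply]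
  rw [ComodTens.prod_coact, map_add, e1, e2, add_zero]

lemma hom_snd (c : HopfRep.Comod k A M) (d : HopfRep.Comod k A N) :
    Hom (ComodTens.Comod.prod c d) d (LinearMap.snd k M N) := by
  apply LinearMap.ext
  rintro ⟨m, n⟩
  simp only [LinearMap.comp_apply, LinearMap.snd_apply]
  have e1 : ∀ z : M ⊗[k] A,
      (LinearMap.snd k M N).rTensor A ((LinearMap.inl k M N).rTensor A z) = 0 := by
    intro z
    rw [← LinearMap.comp_apply, ← LinearMap.rTensor_comp, LinearMap.snd_comp_inl,
      LinearMap.rTensor_zero, LinearMap.zero_apply]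
  have e2 : ∀ z : N ⊗[k] A,
      (LinearMap.snd k M N).rTensor A ((LinearMap.inr k M N).rTensor A z) = z := by
    intro z
    rw [← LinearMap.comp_apply, ← LinearMap.rTensor_comp, LinearMap.snd_comp_inr,
      LinearMap.rTensor_id, LinearMap.id_apply]
  rw [ComodTens.prod_coact, map_add, e1, e2, zero_add]

end Coef

section Main

variable {k : Type u} [Field k] {A : Type v} [CommRing A] [Bialgebra k A]
  {X : Type w} [AddCommGroup X] [Module k X] (cX : HopfRep.Comod k A X)

/-- If the values of comodule maps `X → A` generate `A` as an algebra, every finite-dimensional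
comodule is a subquotient of a finite direct sum of tensor powers of `X`. -/
theorem exists_subquot_pi_tpow
    (hgen : Algebra.adjoin k
      {a : A | ∃ (f : X →ₗ[k] A) (x : X), Hom cX (HopfRep.Comod.regular k A) f ∧ f x = a} = ⊤)
    {W : Type w'} [AddCommGroup W] [Module k W] [Module.Finite k W] (σ : HopfRep.Comod k A W) :
    ∃ (b : ℕ) (m : Fin b → ℕ) (E' : Submodule k ((i : Fin b) → TensorPower k (m i) X))
      (τ : E' →ₗ[k] E' ⊗[k] A) (q : E' →ₗ[k] W),
      Function.Surjective q ∧
      (E'.subtype.rTensor A) ∘ₗ τ =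
        (ComodTens.Comod.pi fun i : Fin b => ComodTens.Comod.tpow cX (m i)).coact ∘ₗ E'.subtype ∧
      (q.rTensor A) ∘ₗ τ = σ.coact ∘ₗ q := by
  classical
  have hspan : Submodule.span k {a : A | Mon cX a} = ⊤ := by
    have h := adjoin_le_span_mon cX
    rw [hgen] at h
    exact top_le_iff.mp (by simpa using h)
  let r := Module.finrank k W
  let bW : Module.Basis (Fin r) k W := Module.finBasis k W
  let cF : HopfRep.Comod k A (Fin r → A) :=
    ComodTens.Comod.pi fun _ : Fin r => HopfRep.Comod.regular k A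
  let ι : W →ₗ[k] (Fin r → A) := LinearMap.pi fun i => coef σ (bW.coord i)
  have hι : Hom σ cF ι := by
    apply hom_pi
    intro i
    exact hom_coef σ (bW.coord i)
  have hinj : Function.Injective ι := by
    rw [← LinearMap.ker_eq_bot, LinearMap.ker_eq_bot']
    intro w hw
    apply bW.repr.injective
    ext i
    have h1 : coef σ (bW.coord i) w = 0 := congrFun hw i
    have h2 := counit_coef σ (bW.coord i) w
    rw [h1, map_zero] at h2
    simpa using h2.symm
  have hgood : goodSub cX cF = ⊤ := by
    rw [eq_top_iff]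
    intro x _
    have hx : x = ∑ j, Pi.single j (x j) := (Finset.univ_sum_single x).symm
    rw [hx]
    refine Submodule.sum_mem _ fun j _ => ?_
    have hle : Submodule.span k {a : A | Mon cX a} ≤
        (goodSub cX cF).comap (LinearMap.single k (fun _ : Fin r => A) j) := by
      rw [Submodule.span_le]
      rintro a ⟨m, μ, hμ, t, rfl⟩
      show LinearMap.single k (fun _ : Fin r => A) j (μ t) ∈ goodSub cX cF
      exact mem_goodSub_of_mon m (LinearMap.single k (fun _ : Fin r => A) j ∘ₗ μ)
        (Hom.comp (hom_single (fun _ : Fin r => HopfRep.Comod.regular k A) j) hμ) t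
    have : x j ∈ Submodule.span k {a : A | Mon cX a} := by rw [hspan]; trivial
    exact hle this
  have hfg : (LinearMap.range ι).FG := by
    rw [LinearMap.range_eq_map]
    exact Submodule.FG.map _ Module.Finite.fg_top
  obtain ⟨b, m, Φ, hΦ, hle⟩ := (good_of_fg hgood _ hfg).fin
  obtain ⟨E', τ, q, h1, h2, h3⟩ := exists_subquot _ cF σ Φ hΦ ι hι hinj hle
  exact ⟨b, m, E', τ, q, h1, h2, h3⟩

end Main

section SliceEval

variable {k : Type u} [CommRing k] {A : Type v} [AddCommGroup A] [Module k A]
  {V : Type w} [AddCommGroup V] [Module k V]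

lemma sliceL_eval (v : V) (z : Module.Dual k V ⊗[k] A) :
    sliceL (Module.Dual.eval k V v) z = dualTensorHom k V A z v := by
  induction z using TensorProduct.induction_on with
  | zero => simp
  | tmul φ a => simp [dualTensorHom_apply]
  | add x y hx hy => simp only [map_add, hx, hy, LinearMap.add_apply]

end SliceEval

section GLnGen

open CoordGrp

variable {k : Type u} [Field k] {A : Type v} [CommRing A] [HopfAlgebra k A] (n : ℕ)
  (π : CoordGrp.GLn n k →ₐc[k] A)

/-- the standard representation of a closed subgroup of `GL_n` -/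
noncomputable abbrev stdAlong : HopfRep.Comod k A (Fin n → k) :=
  GLin.comodAlong π (GLin.comodAlong (CoordGrp.Mat.toGLn n k) (ComodTens.stdVec n k))

lemma stdAlong_coact_single (j : Fin n) :
    (stdAlong n π).coact (Pi.single j 1) =
      ∑ l : Fin n, (Pi.single l (1 : k) : Fin n → k) ⊗ₜ[k] π (GLn.X l j) := by
  show TensorProduct.map LinearMap.id (π : GLn n k →ₗ[k] A)
    (TensorProduct.map LinearMap.id (CoordGrp.Mat.toGLn n k : Mat n k →ₗ[k] GLn n k)
      ((ComodTens.stdVec n k).coact (Pi.single j 1))) = _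
  rw [ComodTens.stdVec_coact_single, map_sum, map_sum]
  refine Finset.sum_congr rfl fun l _ => ?_
  rw [TensorProduct.map_tmul, TensorProduct.map_tmul]
  simp only [LinearMap.id_apply]
  congr 1
  show π (CoordGrp.Mat.toGLn n k (Mat.X l j)) = _
  rw [Mat.toGLn_X]

lemma coef_stdAlong (i j : Fin n) :
    coef (stdAlong n π) (LinearMap.proj (R := k) (φ := fun _ : Fin n => k) i) (Pi.single j 1) =
      π (GLn.X i j) := by
  rw [coef_apply, stdAlong_coact_single, map_sum, Finset.sum_eq_single i]
  · simp
  · intro l _ hl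
    simp [Ne.symm hl]
  · intro hi; exact absurd (Finset.mem_univ i) hi

lemma coef_dual (d : HopfRep.Comod k A (Module.Dual k (Fin n → k)))
    (hd : ComodTens.Comod.IsDual (stdAlong n π) d) (i j : Fin n) :
    coef d (Module.Dual.eval k (Fin n → k) (Pi.single j 1))
      (LinearMap.proj (R := k) (φ := fun _ : Fin n => k) i) =
      HopfAlgebraStruct.antipode (R := k) (π (GLn.X i j)) := by
  rw [coef_apply, sliceL_eval, hd, ComodTens.dualCoactFun_apply, stdAlong_coact_single, map_sum,
    map_sum, Finset.sum_eq_single i]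
  · simp
  · intro l _ hl
    simp [Ne.symm hl]
  · intro hi; exact absurd (Finset.mem_univ i) hi

omit [Field k] in
lemma det_mem_subalgebra {k : Type u} [CommRing k] {A : Type v} [CommRing A] [Algebra k A]
    (B : Subalgebra k A) (M : Matrix (Fin n) (Fin n) A) (h : ∀ i j, M i j ∈ B) : M.det ∈ B := by
  let M' : Matrix (Fin n) (Fin n) B := fun i j => ⟨M i j, h i j⟩
  have hM : M = B.val.mapMatrix M' := by
    ext i j; rfl
  rw [hM, ← AlgHom.map_det]
  exact (M'.det).2

/-- a subalgebra containing the images of the matrix entries and of the inverse determinant is everything -/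
lemma subalgebra_eq_top (hπ : Function.Surjective π) (B : Subalgebra k A)
    (hX : ∀ i j, π (GLn.X i j) ∈ B) (hD : π GLn.Dinv ∈ B) : B = ⊤ := by
  let M' : Matrix (Fin n) (Fin n) B := fun i j => ⟨π (GLn.X i j), hX i j⟩
  let d' : B := ⟨π GLn.Dinv, hD⟩
  have hdet : B.val M'.det = π GLn.det := by
    rw [AlgHom.map_det, GLn.det_eq]
    have : (π : GLn n k →ₐ[k] A) (GLn.genMat n k).det =
        ((π : GLn n k →ₐ[k] A).mapMatrix (GLn.genMat n k)).det := AlgHom.map_det _ _
    rw [show π (GLn.genMat n k).det = (π : GLn n k →ₐ[k] A) (GLn.genMat n k).det from rfl, this]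
    rfl
  have h1 : M'.det * d' = 1 := by
    apply Subtype.ext
    show B.val (M'.det * d') = 1
    rw [map_mul, hdet]
    show π GLn.det * π GLn.Dinv = 1
    rw [← map_mul, GLn.det_mul_Dinv, map_one]
  let ψ : GLn n k →ₐ[k] B := GLn.pt n k M' d' h1
  have hψ : B.val.comp ψ = (π : GLn n k →ₐ[k] A) := by
    apply GLn.algHom_ext
    · intro i j
      show B.val (ψ (GLn.X i j)) = π (GLn.X i j)
      rw [GLn.pt_X]
      rfl
    · show B.val (ψ GLn.Dinv) = π GLn.Dinv
      rw [GLn.pt_Dinv]
      rfl
  rw [eq_top_iff]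
  intro a _
  obtain ⟨g, rfl⟩ := hπ a
  have := congrArg (fun f => f g) hψ
  simp only [AlgHom.comp_apply] at this
  show π g ∈ B
  rw [show π g = (π : GLn n k →ₐ[k] A) g from rfl, ← this]
  exact (ψ g).2

/-- the values of comodule maps from `V ⊕ V^*` generate the coordinate ring of a closed subgroup of `GL_n` -/
theorem adjoin_values_eq_top (hπ : Function.Surjective π)
    (d : HopfRep.Comod k A (Module.Dual k (Fin n → k)))
    (hd : ComodTens.Comod.IsDual (stdAlong n π) d) :
    Algebra.adjoin k
      {a : A | ∃ (f : ((Fin n → k) × Module.Dual k (Fin n → k)) →ₗ[k] A)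
        (x : (Fin n → k) × Module.Dual k (Fin n → k)),
        Hom (ComodTens.Comod.prod (stdAlong n π) d) (HopfRep.Comod.regular k A) f ∧ f x = a} = ⊤ := by
  set B := Algebra.adjoin k
      {a : A | ∃ (f : ((Fin n → k) × Module.Dual k (Fin n → k)) →ₗ[k] A)
        (x : (Fin n → k) × Module.Dual k (Fin n → k)),
        Hom (ComodTens.Comod.prod (stdAlong n π) d) (HopfRep.Comod.regular k A) f ∧ f x = a} with hB
  have hX : ∀ i j, π (GLn.X i j) ∈ B := by
    intro i j
    apply Algebra.subset_adjoin
    refine ⟨coef (stdAlong n π) (LinearMap.proj (R := k) (φ := fun _ : Fin n => k) i) ∘ₗ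
      LinearMap.fst k _ _, (Pi.single j 1, 0), Hom.comp (hom_coef _ _) (hom_fst _ _), ?_⟩
    simp only [LinearMap.comp_apply, LinearMap.fst_apply]
    exact coef_stdAlong n π i j
  have hS : ∀ i j, HopfAlgebraStruct.antipode (R := k) (π (GLn.X i j)) ∈ B := by
    intro i j
    apply Algebra.subset_adjoin
    refine ⟨coef d (Module.Dual.eval k (Fin n → k) (Pi.single j 1)) ∘ₗ
      LinearMap.snd k _ _, (0, LinearMap.proj (R := k) (φ := fun _ : Fin n => k) i),
      Hom.comp (hom_coef _ _) (hom_snd _ _), ?_⟩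
    simp only [LinearMap.comp_apply, LinearMap.snd_apply]
    exact coef_dual n π d hd i j
  have hdetg : IsGroupLikeElem k (π (GLn.det : GLn n k)) :=
    (IsGroupLikeElem.mk GLn.counit_det GLn.comul_det).map π
  have hDinv : π (GLn.Dinv : GLn n k) = HopfAlgebraStruct.antipode (R := k) (π (GLn.det : GLn n k)) := by
    have h1 : π (GLn.Dinv : GLn n k) * π (GLn.det : GLn n k) = 1 := by
      rw [← map_mul, GLn.Dinv_mul_det, map_one]
    have h2 := hdetg.mul_antipode_cancel
    calc π (GLn.Dinv : GLn n k) = π GLn.Dinv * (π GLn.det * HopfAlgebraStruct.antipode (R := k) (π GLn.det)) := by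
          rw [h2, mul_one]
      _ = HopfAlgebraStruct.antipode (R := k) (π GLn.det) := by rw [← mul_assoc, h1, one_mul]
  have hD : π (GLn.Dinv : GLn n k) ∈ B := by
    rw [hDinv, GLn.det_eq]
    have e1 : π (GLn.genMat n k).det = ((π : GLn n k →ₐ[k] A).mapMatrix (GLn.genMat n k)).det :=
      AlgHom.map_det (π : GLn n k →ₐ[k] A) _
    rw [e1]
    have e2 : HopfAlgebraStruct.antipode (R := k)
        ((π : GLn n k →ₐ[k] A).mapMatrix (GLn.genMat n k)).det =
        ((HopfAlgebra.antipodeAlgHom k A).mapMatrix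
          ((π : GLn n k →ₐ[k] A).mapMatrix (GLn.genMat n k))).det :=
      AlgHom.map_det (HopfAlgebra.antipodeAlgHom k A) _
    rw [e2]
    apply det_mem_subalgebra
    intro i j
    exact hS i j
  exact subalgebra_eq_top n π hπ B hX hD

end GLnGen

end Groth.Agent.H9.Subquot
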