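import Mathlib
import Groth.Prelude.Def_GLin5
import Groth.Prelude.Def_ComodSub
import Groth.Agent.Lib.Helper9.Comod
import Groth.Agent.Lib.Helper9.ComodCoeff
import Groth.Agent.Lib.Helper9.ComodSubquot

/-!
# The matrix of a finite-dimensional comodule in a basis, and the induced map from `GL_n` (helper9)
-/

set_option autoImplicit false
set_option linter.style.haveILetI false

universe u v w

open TensorProduct

namespace Groth.Agent.H9.MatCoef

open Groth.Agent.H9.Comod Groth.Agent.H9.Subquot CoordGrp

section Expand

variable {k : Type u} [CommRing k] {A : Type v} [AddCommGroup A] [Module k A]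
  {V : Type w} [AddCommGroup V] [Module k V] {n : ℕ} (b : Module.Basis (Fin n) k V)

/-- expansion of an element of `V ⊗ A` in a finite basis of `V` -/
lemma tensor_basis_expand (z : V ⊗[k] A) : z = ∑ l, b l ⊗ₜ[k] sliceL (b.coord l) z := by
  induction z using TensorProduct.induction_on with
  | zero => simp
  | tmul v a =>
    simp only [sliceL_tmul, Module.Basis.coord_apply]
    conv_lhs => rw [← b.sum_repr v, TensorProduct.sum_tmul]
    refine Finset.sum_congr rfl fun l _ => ?_
    rw [TensorProduct.smul_tmul]
  | add x y hx hy =>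
    conv_lhs => rw [hx, hy]
    rw [← Finset.sum_add_distrib]
    refine Finset.sum_congr rfl fun l _ => ?_
    rw [map_add, TensorProduct.tmul_add]

end Expand

section Mat

variable {k : Type u} [Field k] {A : Type v} [CommRing A] [HopfAlgebra k A]
  {V : Type w} [AddCommGroup V] [Module k V] (c : HopfRep.Comod k A V) {n : ℕ}
  (b : Module.Basis (Fin n) k V)

/-- the matrix of a comodule in a basis: `ρ(b_j) = Σ_i b_i ⊗ a_ij` -/
noncomputable def mat : Matrix (Fin n) (Fin n) A := fun i j => coef c (b.coord i) (b j)

lemma coact_basis (j : Fin n) : c.coact (b j) = ∑ l, b l ⊗ₜ[k] mat c b l j :=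
  tensor_basis_expand b (c.coact (b j))

lemma comul_mat (i j : Fin n) :
    CoalgebraStruct.comul (R := k) (mat c b i j) = ∑ l, mat c b i l ⊗ₜ[k] mat c b l j := by
  have h := (hom_coef c (b.coord i)).apply (b j)
  change CoalgebraStruct.comul (R := k) (coef c (b.coord i) (b j)) = _ at h
  change CoalgebraStruct.comul (R := k) (coef c (b.coord i) (b j)) = _
  rw [h, coact_basis, map_sum]
  refine Finset.sum_congr rfl fun l _ => ?_
  rw [LinearMap.rTensor_tmul]
  rfl

lemma counit_mat (i j : Fin n) :
    CoalgebraStruct.counit (R := k) (mat c b i j) = if i = j then 1 else 0 := by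
  have h := counit_coef c (b.coord i) (b j)
  change CoalgebraStruct.counit (R := k) (coef c (b.coord i) (b j)) = _
  rw [h, Module.Basis.coord_apply, Module.Basis.repr_self, Finsupp.single_apply]
  simp [eq_comm]

lemma mat_mul_antipode :
    mat c b * (mat c b).map (HopfAlgebraStruct.antipode (R := k)) = 1 := by
  ext i j
  rw [Matrix.mul_apply]
  have h := HopfAlgebra.mul_antipode_lTensor_comul_apply (R := k) (mat c b i j)
  rw [comul_mat, map_sum, map_sum] at h
  simp only [LinearMap.lTensor_tmul, LinearMap.mul'_apply] at h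
  simp only [Matrix.map_apply]
  rw [h, counit_mat, Matrix.one_apply]
  split_ifs <;> simp

lemma comul_det :
    CoalgebraStruct.comul (R := k) (mat c b).det = (mat c b).det ⊗ₜ[k] (mat c b).det := by
  have h1 : CoalgebraStruct.comul (R := k) (mat c b).det =
      ((Bialgebra.comulAlgHom k A).mapMatrix (mat c b)).det :=
    AlgHom.map_det (Bialgebra.comulAlgHom k A) _
  have h2 : (Bialgebra.comulAlgHom k A).mapMatrix (mat c b) =
      (Algebra.TensorProduct.includeLeft (R := k) (S := k) (A := A) (B := A)).mapMatrix (mat c b) *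
      (Algebra.TensorProduct.includeRight (R := k) (A := A) (B := A)).mapMatrix (mat c b) := by
    ext i j
    rw [Matrix.mul_apply]
    simp only [AlgHom.mapMatrix_apply, Matrix.map_apply, Bialgebra.comulAlgHom_apply,
      Algebra.TensorProduct.includeLeft_apply, Algebra.TensorProduct.includeRight_apply,
      Algebra.TensorProduct.tmul_mul_tmul, mul_one, one_mul]
    exact comul_mat c b i j
  rw [h1, h2, Matrix.det_mul, ← AlgHom.map_det, ← AlgHom.map_det,
    Algebra.TensorProduct.includeLeft_apply, Algebra.TensorProduct.includeRight_apply,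
    Algebra.TensorProduct.tmul_mul_tmul, mul_one, one_mul]

lemma counit_det : CoalgebraStruct.counit (R := k) (mat c b).det = 1 := by
  have h1 : CoalgebraStruct.counit (R := k) (mat c b).det =
      ((Bialgebra.counitAlgHom k A).mapMatrix (mat c b)).det :=
    AlgHom.map_det (Bialgebra.counitAlgHom k A) _
  have h2 : (Bialgebra.counitAlgHom k A).mapMatrix (mat c b) = 1 := by
    ext i j
    simp only [AlgHom.mapMatrix_apply, Matrix.map_apply, Bialgebra.counitAlgHom_apply]
    rw [counit_mat, Matrix.one_apply]
  rw [h1, h2, Matrix.det_one]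

lemma isGroupLikeElem_det : IsGroupLikeElem k (mat c b).det :=
  ⟨counit_det c b, comul_det c b⟩

/-- the homomorphism to `GL_n` defined by a comodule with a basis, on coordinate rings -/
noncomputable def toGLnAlg : GLn n k →ₐ[k] A :=
  GLn.pt n k (mat c b) (HopfAlgebraStruct.antipode (R := k) (mat c b).det)
    (isGroupLikeElem_det c b).mul_antipode_cancel

@[simp] lemma toGLnAlg_X (i j : Fin n) : toGLnAlg c b (GLn.X i j) = mat c b i j :=
  GLn.pt_X _ _ _ i j

@[simp] lemma toGLnAlg_Dinv :
    toGLnAlg c b GLn.Dinv = HopfAlgebraStruct.antipode (R := k) (mat c b).det :=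
  GLn.pt_Dinv _ _ _

/-- the homomorphism to `GL_n` defined by a comodule with a basis, as a bialgebra map -/
noncomputable def toGLn : GLn n k →ₐc[k] A :=
  BialgHom.ofAlgHom (toGLnAlg c b)
    (by
      apply GLn.algHom_ext
      · intro i j
        simp only [AlgHom.comp_apply, toGLnAlg_X, Bialgebra.counitAlgHom_apply]
        rw [counit_mat, GLn.counit_X]
      · simp only [AlgHom.comp_apply, toGLnAlg_Dinv, Bialgebra.counitAlgHom_apply]
        rw [GLn.counit_Dinv, (isGroupLikeElem_det c b).antipode.counit_eq_one])
    (by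
      apply GLn.algHom_ext
      · intro i j
        simp only [AlgHom.comp_apply, toGLnAlg_X, Bialgebra.comulAlgHom_apply]
        rw [GLn.comul_X, map_sum, comul_mat]
        simp only [Algebra.TensorProduct.map_tmul, toGLnAlg_X]
      · simp only [AlgHom.comp_apply, toGLnAlg_Dinv, Bialgebra.comulAlgHom_apply]
        rw [GLn.comul_Dinv, Algebra.TensorProduct.map_tmul, toGLnAlg_Dinv,
          (isGroupLikeElem_det c b).antipode.comul_eq_tmul_self])

@[simp] lemma toGLn_X (i j : Fin n) : toGLn c b (GLn.X i j) = mat c b i j :=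
  toGLnAlg_X c b i j

end Mat

end Groth.Agent.H9.MatCoef
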