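import Mathlib
import Groth.Prelude.Def_ComodTens
import Groth.Agent.Lib.Helper9.Comod
import Groth.Agent.Lib.Helper9.ComodCoeff
import Groth.Agent.Lib.Helper9.ComodSubquot

/-!
# Stabilizers of subspaces under points of an affine group (helper9)
-/

set_option autoImplicit false
set_option linter.style.haveILetI false

universe u v w w' w₂

open TensorProduct

namespace Groth.Agent.H9.Stab

open Groth.Agent.H9.Comod Groth.Agent.H9.Subquot

section Slice

variable {k : Type u} [Field k] {R : Type v} [AddCommGroup R] [Module k R]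
  {V : Type w} [AddCommGroup V] [Module k V]

lemma sliceL_zero (y : V ⊗[k] R) : sliceL (0 : V →ₗ[k] k) y = 0 := by
  induction y using TensorProduct.induction_on with
  | zero => simp
  | tmul v a => simp
  | add x y hx hy => simp only [map_add, hx, hy, add_zero]

/-- an element of `V ⊗ R` all of whose left slices vanish is zero -/
lemma eq_zero_of_sliceL_eq_zero (y : V ⊗[k] R) (h : ∀ ψ : V →ₗ[k] k, sliceL ψ y = 0) : y = 0 := by
  have h1 : TensorProduct.comm k V R y = 0 := by
    apply eq_zero_of_slice_eq_zero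
    intro φ
    rw [← sliceL_eq_slice_comm]
    exact h φ
  exact (TensorProduct.comm k V R).injective (by rw [h1, map_zero])

/-- membership in `U ⊗ R` tested by functionals vanishing on `U` -/
lemma mem_range_rTensor_iff_sliceL (U : Submodule k V) (y : V ⊗[k] R) :
    y ∈ LinearMap.range (U.subtype.rTensor R) ↔
      ∀ ψ : V →ₗ[k] k, (∀ u ∈ U, ψ u = 0) → sliceL ψ y = 0 := by
  constructor
  · rintro ⟨y', rfl⟩ ψ hψ
    rw [sliceL_rTensor]
    have : ψ ∘ₗ U.subtype = 0 := by
      apply LinearMap.ext; intro u; exact hψ u u.2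
    rw [this, sliceL_zero]
  · intro h
    apply mem_range_rTensor_of_slice
    intro φ
    rw [← Subspace.forall_mem_dualAnnihilator_apply_eq_zero_iff]
    intro ψ hψ
    rw [← apply_sliceL, h ψ (fun u hu => (Submodule.mem_dualAnnihilator ψ).mp hψ u hu), map_zero]

end Slice

section Act

variable {k : Type u} [CommRing k] {A : Type v} [CommRing A] [Bialgebra k A]
  {R : Type w₂} [CommRing R] [Algebra k R] (g : A →ₐ[k] R)
  {V : Type w} [AddCommGroup V] [Module k V] {V' : Type w'} [AddCommGroup V'] [Module k V']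

/-- multiplication `(V ⊗ R) ⊗ (V' ⊗ R) → (V ⊗ V') ⊗ R` -/
noncomputable def mulR (V : Type w) [AddCommGroup V] [Module k V] (V' : Type w') [AddCommGroup V']
    [Module k V'] (R : Type w₂) [CommRing R] [Algebra k R] :
    (V ⊗[k] R) ⊗[k] (V' ⊗[k] R) →ₗ[k] (V ⊗[k] V') ⊗[k] R :=
  TensorProduct.map LinearMap.id (LinearMap.mul' k R) ∘ₗ
    (AlgebraTensorModule.tensorTensorTensorComm k k k k V R V' R).toLinearMap

@[simp] lemma mulR_tmul (v : V) (r : R) (v' : V') (r' : R) :
    mulR (k := k) V V' R ((v ⊗ₜ[k] r) ⊗ₜ[k] (v' ⊗ₜ[k] r')) = (v ⊗ₜ[k] v') ⊗ₜ[k] (r * r') := by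
  simp [mulR]

/-- the action of a point on a tensor product is the product of the actions -/
lemma lTensor_tensor_coact_tmul (c : HopfRep.Comod k A V) (c' : HopfRep.Comod k A V') (v : V)
    (v' : V') :
    g.toLinearMap.lTensor (V ⊗[k] V') ((ComodTens.Comod.tensor c c').coact (v ⊗ₜ[k] v')) =
      mulR V V' R ((g.toLinearMap.lTensor V (c.coact v)) ⊗ₜ[k]
        (g.toLinearMap.lTensor V' (c'.coact v'))) := by
  rw [ComodTens.tensor_coact_tmul]
  generalize c.coact v = y
  generalize c'.coact v' = y'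
  induction y using TensorProduct.induction_on with
  | zero => simp
  | add y z hy hz => simp only [TensorProduct.add_tmul, map_add, hy, hz]
  | tmul v a =>
    induction y' using TensorProduct.induction_on with
    | zero => simp
    | add y z hy hz => simp only [TensorProduct.tmul_add, map_add, hy, hz]
    | tmul v' a' => simp

/-- the functional `ψ ⊗ ψ'` on `V ⊗ V'` -/
noncomputable def pairL (ψ : V →ₗ[k] k) (ψ' : V' →ₗ[k] k) : V ⊗[k] V' →ₗ[k] k :=
  (TensorProduct.lid k k).toLinearMap ∘ₗ TensorProduct.map ψ ψ'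

@[simp] lemma pairL_tmul (ψ : V →ₗ[k] k) (ψ' : V' →ₗ[k] k) (v : V) (v' : V') :
    pairL ψ ψ' (v ⊗ₜ[k] v') = ψ v * ψ' v' := by
  simp [pairL]

lemma sliceL_pairL_mulR (ψ : V →ₗ[k] k) (ψ' : V' →ₗ[k] k) (y : V ⊗[k] R) (y' : V' ⊗[k] R) :
    sliceL (pairL ψ ψ') (mulR V V' R (y ⊗ₜ[k] y')) = sliceL ψ y * sliceL ψ' y' := by
  induction y using TensorProduct.induction_on with
  | zero => simp
  | add y z hy hz => simp only [TensorProduct.add_tmul, map_add, hy, hz, add_mul]
  | tmul v a =>
    induction y' using TensorProduct.induction_on with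
    | zero => simp
    | add y z hy hz => simp only [TensorProduct.tmul_add, map_add, hy, hz, mul_add]
    | tmul v' a' =>
      simp only [mulR_tmul, sliceL_tmul, pairL_tmul]
      rw [mul_smul, smul_mul_smul_comm]
      rw [← mul_smul]

/-- naturality of `mulR` -/
lemma mulR_rTensor {U : Type*} [AddCommGroup U] [Module k U] {U' : Type*} [AddCommGroup U']
    [Module k U'] (f : U →ₗ[k] V) (f' : U' →ₗ[k] V') (y : U ⊗[k] R) (y' : U' ⊗[k] R) :
    mulR V V' R ((f.rTensor R y) ⊗ₜ[k] (f'.rTensor R y')) =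
      (TensorProduct.map f f').rTensor R (mulR U U' R (y ⊗ₜ[k] y')) := by
  induction y using TensorProduct.induction_on with
  | zero => simp
  | add y z hy hz => simp only [TensorProduct.add_tmul, map_add, hy, hz]
  | tmul v a =>
    induction y' using TensorProduct.induction_on with
    | zero => simp
    | add y z hy hz => simp only [TensorProduct.tmul_add, map_add, hy, hz]
    | tmul v' a' => simp

end Act

section Inverse

variable {k : Type u} [Field k] {A : Type v} [CommRing A] [HopfAlgebra k A]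
  {R : Type w₂} [CommRing R] [Algebra k R] (g : A →ₐ[k] R)
  {V : Type w} [AddCommGroup V] [Module k V] (c : HopfRep.Comod k A V)

/-- `v ⊗ a ↦ S(coef ψ v) a` -/
noncomputable def omega (ψ : V →ₗ[k] k) : V ⊗[k] A →ₗ[k] A :=
  LinearMap.mul' k A ∘ₗ TensorProduct.map
    ((HopfAlgebraStruct.antipode (R := k) (A := A)) ∘ₗ coef c ψ) LinearMap.id

lemma omega_coact (ψ : V →ₗ[k] k) (v : V) : omega c ψ (c.coact v) = algebraMap k A (ψ v) := by
  have h := (hom_coef c ψ).apply v
  change CoalgebraStruct.comul (R := k) (coef c ψ v) = _ at h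
  have h2 := HopfAlgebra.mul_antipode_rTensor_comul_apply (R := k) (coef c ψ v)
  rw [h, counit_coef] at h2
  rw [← h2, omega, LinearMap.comp_apply]
  congr 1
  generalize c.coact v = y
  induction y using TensorProduct.induction_on with
  | zero => simp
  | add y z hy hz => simp only [map_add, hy, hz]
  | tmul v a => simp

/-- `v ⊗ r ↦ g(S(coef ψ v)) r` -/
noncomputable def xi (ψ : V →ₗ[k] k) : V ⊗[k] R →ₗ[k] R :=
  LinearMap.mul' k R ∘ₗ TensorProduct.map
    (g.toLinearMap ∘ₗ (HopfAlgebraStruct.antipode (R := k) (A := A)) ∘ₗ coef c ψ) LinearMap.id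

lemma xi_lTensor (ψ : V →ₗ[k] k) (y : V ⊗[k] A) :
    xi g c ψ (g.toLinearMap.lTensor V y) = g (omega c ψ y) := by
  induction y using TensorProduct.induction_on with
  | zero => simp
  | add y z hy hz => simp only [map_add, hy, hz]
  | tmul v a => simp [xi, omega]

lemma xi_act (ψ : V →ₗ[k] k) (v : V) :
    xi g c ψ (g.toLinearMap.lTensor V (c.coact v)) = algebraMap k R (ψ v) := by
  rw [xi_lTensor, omega_coact, AlgHom.commutes]

lemma xi_mulLeft (ψ : V →ₗ[k] k) (r : R) (y : V ⊗[k] R) :
    xi g c ψ ((LinearMap.mulLeft k r).lTensor V y) = r * xi g c ψ y := by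
  induction y using TensorProduct.induction_on with
  | zero => simp
  | add y z hy hz => simp only [map_add, hy, hz, mul_add]
  | tmul v a =>
    simp only [xi, LinearMap.lTensor_tmul, LinearMap.mulLeft_apply, LinearMap.comp_apply,
      TensorProduct.map_tmul, LinearMap.id_apply, LinearMap.mul'_apply]
    ring

/-- if `r` kills all coordinates of `g · v` for a nonzero vector `v` then `r = 0` -/
lemma eq_zero_of_mul_sliceL_act_eq_zero {v : V} (hv : v ≠ 0) (r : R)
    (h : ∀ ψ : V →ₗ[k] k, r * sliceL ψ (g.toLinearMap.lTensor V (c.coact v)) = 0) : r = 0 := by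
  obtain ⟨ψ₀, hψ₀⟩ : ∃ ψ₀ : V →ₗ[k] k, ψ₀ v = 1 := by
    obtain ⟨f, hf⟩ := Module.Projective.exists_dual_ne_zero k hv
    refine ⟨(f v)⁻¹ • f, ?_⟩
    simp [hf]
  have h0 : (LinearMap.mulLeft k r).lTensor V (g.toLinearMap.lTensor V (c.coact v)) = 0 := by
    apply eq_zero_of_sliceL_eq_zero
    intro ψ
    rw [sliceL_lTensor, LinearMap.mulLeft_apply]
    exact h ψ
  have h1 := xi_mulLeft g c ψ₀ r (g.toLinearMap.lTensor V (c.coact v))
  rw [h0, map_zero, xi_act, hψ₀, map_one, mul_one] at h1
  exact h1.symm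

end Inverse

section Main

variable {k : Type u} [Field k] {A : Type v} [CommRing A] [HopfAlgebra k A]
  {R : Type w₂} [CommRing R] [Algebra k R] (g : A →ₐ[k] R)
  {V : Type w} [AddCommGroup V] [Module k V] (c : HopfRep.Comod k A V)
  {V' : Type w'} [AddCommGroup V'] [Module k V'] (c' : HopfRep.Comod k A V')

/-- if `g` stabilizes `W ⊗ W'` and `W' ≠ 0` then `g` stabilizes `W` -/
lemma stab_left (W : Submodule k V) (W' : Submodule k V') (hW' : W' ≠ ⊥)
    (hT : ∀ x ∈ LinearMap.range (TensorProduct.mapIncl W W'),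
      g.toLinearMap.lTensor (V ⊗[k] V') ((ComodTens.Comod.tensor c c').coact x) ∈
        LinearMap.range ((LinearMap.range (TensorProduct.mapIncl W W')).subtype.rTensor R))
    (x : V) (hx : x ∈ W) :
    g.toLinearMap.lTensor V (c.coact x) ∈ LinearMap.range (W.subtype.rTensor R) := by
  rw [mem_range_rTensor_iff_sliceL]
  intro ψ hψ
  obtain ⟨w', hw', hw'0⟩ := Submodule.exists_mem_ne_zero_of_ne_bot hW'
  apply eq_zero_of_mul_sliceL_act_eq_zero g c' hw'0
  intro ψ'
  have hmem : x ⊗ₜ[k] w' ∈ LinearMap.range (TensorProduct.mapIncl W W') :=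
    ⟨(⟨x, hx⟩ : W) ⊗ₜ[k] (⟨w', hw'⟩ : W'), by simp [TensorProduct.mapIncl]⟩
  have h1 := (mem_range_rTensor_iff_sliceL _ _).mp (hT _ hmem) (pairL ψ ψ') (by
    rintro _ ⟨z, rfl⟩
    induction z using TensorProduct.induction_on with
    | zero => simp
    | add y z hy hz => simp only [map_add, hy, hz, add_zero]
    | tmul u u' =>
      simp only [TensorProduct.mapIncl, TensorProduct.map_tmul, Submodule.subtype_apply, pairL_tmul]
      rw [hψ u u.2, zero_mul])
  rw [lTensor_tensor_coact_tmul, sliceL_pairL_mulR] at h1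
  exact h1

/-- the mirror statement -/
lemma stab_right (W : Submodule k V) (W' : Submodule k V') (hW : W ≠ ⊥)
    (hT : ∀ x ∈ LinearMap.range (TensorProduct.mapIncl W W'),
      g.toLinearMap.lTensor (V ⊗[k] V') ((ComodTens.Comod.tensor c c').coact x) ∈
        LinearMap.range ((LinearMap.range (TensorProduct.mapIncl W W')).subtype.rTensor R))
    (x : V') (hx : x ∈ W') :
    g.toLinearMap.lTensor V' (c'.coact x) ∈ LinearMap.range (W'.subtype.rTensor R) := by
  rw [mem_range_rTensor_iff_sliceL]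
  intro ψ' hψ'
  obtain ⟨w, hw, hw0⟩ := Submodule.exists_mem_ne_zero_of_ne_bot hW
  apply eq_zero_of_mul_sliceL_act_eq_zero g c hw0
  intro ψ
  have hmem : w ⊗ₜ[k] x ∈ LinearMap.range (TensorProduct.mapIncl W W') :=
    ⟨(⟨w, hw⟩ : W) ⊗ₜ[k] (⟨x, hx⟩ : W'), by simp [TensorProduct.mapIncl]⟩
  have h1 := (mem_range_rTensor_iff_sliceL _ _).mp (hT _ hmem) (pairL ψ ψ') (by
    rintro _ ⟨z, rfl⟩
    induction z using TensorProduct.induction_on with
    | zero => simp
    | add y z hy hz => simp only [map_add, hy, hz, add_zero]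
    | tmul u u' =>
      simp only [TensorProduct.mapIncl, TensorProduct.map_tmul, Submodule.subtype_apply, pairL_tmul]
      rw [hψ' u' u'.2, mul_zero])
  rw [lTensor_tensor_coact_tmul, sliceL_pairL_mulR, mul_comm] at h1
  exact h1

/-- if `g` stabilizes `W` and `W'` then it stabilizes `W ⊗ W'` -/
lemma stab_tensor (W : Submodule k V) (W' : Submodule k V')
    (hW : ∀ x ∈ W, g.toLinearMap.lTensor V (c.coact x) ∈ LinearMap.range (W.subtype.rTensor R))
    (hW' : ∀ x ∈ W', g.toLinearMap.lTensor V' (c'.coact x) ∈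
      LinearMap.range (W'.subtype.rTensor R))
    (x : V ⊗[k] V') (hx : x ∈ LinearMap.range (TensorProduct.mapIncl W W')) :
    g.toLinearMap.lTensor (V ⊗[k] V') ((ComodTens.Comod.tensor c c').coact x) ∈
      LinearMap.range ((LinearMap.range (TensorProduct.mapIncl W W')).subtype.rTensor R) := by
  obtain ⟨z, rfl⟩ := hx
  induction z using TensorProduct.induction_on with
  | zero => simp
  | add y z hy hz =>
    simp only [map_add]
    exact Submodule.add_mem _ hy hz
  | tmul u u' =>
    obtain ⟨y, hy⟩ := hW u u.2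
    obtain ⟨y', hy'⟩ := hW' u' u'.2
    have e : TensorProduct.mapIncl W W' (u ⊗ₜ[k] u') = (u : V) ⊗ₜ[k] (u' : V') := by
      simp [TensorProduct.mapIncl]
    rw [e, lTensor_tensor_coact_tmul, ← hy, ← hy', mulR_rTensor]
    have e2 : TensorProduct.map W.subtype W'.subtype =
        (LinearMap.range (TensorProduct.mapIncl W W')).subtype ∘ₗ
          (TensorProduct.mapIncl W W').rangeRestrict := by
      apply LinearMap.ext; intro t; rfl
    rw [e2, LinearMap.rTensor_comp, LinearMap.comp_apply]
    exact ⟨_, rfl⟩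

end Main

end Groth.Agent.H9.Stab
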