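import Mathlib
import Groth.Prelude.Def_ComodSub
import Groth.Prelude.Def_ComodTens
import Groth.Agent.Lib.Helper9.Comod
import Groth.Agent.Lib.Helper9.ComodCoeff
import Groth.Agent.Lib.Helper9.ComodSubquot
import Groth.Agent.Lib.Helper9.ComodStab

/-!
# Matrix comodules, tensor powers in matrix form, and lines with a given stabilizer (helper9)
-/

set_option autoImplicit false
set_option linter.style.haveILetI false

universe u v w w' w₂

open TensorProduct

namespace Groth.Agent.H9.MatLine

open Groth.Agent.H9.Comod Groth.Agent.H9.Subquot Groth.Agent.H9.Stab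

section Expand

variable {k : Type u} [CommRing k] {A : Type v} [AddCommGroup A] [Module k A]
  {V : Type w} [AddCommGroup V] [Module k V] {ι : Type w'} [Fintype ι]
  (b : Module.Basis ι k V)

/-- expansion of an element of `V ⊗ A` in a finite basis of `V` -/
lemma tensor_basis_expand (z : V ⊗[k] A) : z = ∑ l, b l ⊗ₜ[k] sliceL (b.coord l) z := by
  induction z using TensorProduct.induction_on with
  | zero => simp
  | tmul v a =>
    simp only [sliceL_tmul, Module.Basis.coord_apply]
    conv_lhs => rw [← b.sum_repr v, TensorProduct.sum_tmul]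
    refine Finset.sum_congr rfl fun l _ => ?_
    rw [TensorProduct.smul_tmul]
  | add x y hx hy =>
    conv_lhs => rw [hx, hy]
    rw [← Finset.sum_add_distrib]
    refine Finset.sum_congr rfl fun l _ => ?_
    rw [map_add, TensorProduct.tmul_add]

/-- two elements of `V ⊗ A` with the same coordinates are equal -/
lemma tensor_ext_coord {z z' : V ⊗[k] A}
    (h : ∀ l, sliceL (b.coord l) z = sliceL (b.coord l) z') : z = z' := by
  rw [tensor_basis_expand b z, tensor_basis_expand b z']
  simp only [h]

end Expand

section Multiplicative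

variable {k : Type u} [CommRing k] {A : Type v} [CommRing A] [Bialgebra k A]
  {ι : Type w'} [Fintype ι] [DecidableEq ι]

/-- a multiplicative matrix: `Δ M_ij = Σ_l M_il ⊗ M_lj`, `ε M_ij = δ_ij` -/
structure IsMult (M : Matrix ι ι A) : Prop where
  comul : ∀ i j, CoalgebraStruct.comul (R := k) (M i j) = ∑ l, M i l ⊗ₜ[k] M l j
  counit : ∀ i j, CoalgebraStruct.counit (R := k) (M i j) = if i = j then 1 else 0

/-- the comodule on `ι → k` defined by a multiplicative matrix: `e_j ↦ Σ_i e_i ⊗ M_ij` -/
@[reducible] noncomputable def matComod (M : Matrix ι ι A) (hM : IsMult (k := k) M) :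
    HopfRep.Comod k A (ι → k) where
  coact := (Pi.basisFun k ι).constr k fun j => ∑ i, (Pi.basisFun k ι i) ⊗ₜ[k] M i j
  coassoc := by
    apply (Pi.basisFun k ι).ext
    intro j
    simp only [LinearMap.coe_comp, Function.comp_apply, LinearEquiv.coe_coe,
      Module.Basis.constr_basis, map_sum, LinearMap.rTensor_tmul, TensorProduct.sum_tmul,
      TensorProduct.assoc_tmul, LinearMap.lTensor_tmul, hM.comul, TensorProduct.tmul_sum]
    exact Finset.sum_comm
  counit_comp := by
    apply (Pi.basisFun k ι).ext
    intro j
    simp only [LinearMap.coe_comp, Function.comp_apply, Module.Basis.constr_basis, map_sum,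
      LinearMap.lTensor_tmul, hM.counit, LinearMap.flip_apply, TensorProduct.mk_apply]
    simp [TensorProduct.tmul_ite, eq_comm]

lemma matComod_coact_basis (M : Matrix ι ι A) (hM : IsMult (k := k) M) (j : ι) :
    (matComod M hM).coact (Pi.basisFun k ι j) = ∑ i, (Pi.basisFun k ι i) ⊗ₜ[k] M i j :=
  Module.Basis.constr_basis _ _ _ _

/-- coordinates of the coaction of a matrix comodule -/
lemma sliceL_matComod_coact (M : Matrix ι ι A) (hM : IsMult (k := k) M) (x : ι → k) (i : ι) :
    sliceL ((Pi.basisFun k ι).coord i) ((matComod M hM).coact x) = ∑ j, x j • M i j := by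
  have hx : x = ∑ j, x j • Pi.basisFun k ι j := by
    have := (Pi.basisFun k ι).sum_repr x
    simpa using this.symm
  conv_lhs => rw [hx]
  rw [map_sum, map_sum]
  refine Finset.sum_congr rfl fun j _ => ?_
  rw [map_smul, map_smul, matComod_coact_basis, map_sum, Finset.sum_eq_single i]
  · simp
  · intro l _ hl
    simp [hl]
  · intro hi; exact absurd (Finset.mem_univ i) hi

end Multiplicative

section TMat

variable {k : Type u} [CommRing k] {A : Type v} [CommRing A] [Bialgebra k A]
  {ι : Type w'} [Fintype ι] [DecidableEq ι]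

omit [Fintype ι] [DecidableEq ι] in
lemma prod_tmul_prod {κ : Type*} (s : Finset κ) (x y : κ → A) :
    ∏ t ∈ s, (x t ⊗ₜ[k] y t) = (∏ t ∈ s, x t) ⊗ₜ[k] (∏ t ∈ s, y t) := by
  classical
  induction s using Finset.induction_on with
  | empty => simp [Algebra.TensorProduct.one_def]
  | insert a s ha ih =>
    rw [Finset.prod_insert ha, Finset.prod_insert ha, Finset.prod_insert ha, ih,
      Algebra.TensorProduct.tmul_mul_tmul]

/-- the matrix of the `d`-th tensor power -/
def tmat (a : Matrix ι ι A) (d : ℕ) : Matrix (Fin d → ι) (Fin d → ι) A :=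
  fun I J => ∏ t, a (I t) (J t)

lemma isMult_tmat {a : Matrix ι ι A} (ha : IsMult (k := k) a) (d : ℕ) :
    IsMult (k := k) (tmat a d) where
  comul := by
    intro I J
    have h1 : CoalgebraStruct.comul (R := k) (tmat a d I J) =
        ∏ t, CoalgebraStruct.comul (R := k) (a (I t) (J t)) := by
      unfold tmat
      exact map_prod (Bialgebra.comulAlgHom k A) _ _
    rw [h1]
    simp only [ha.comul]
    rw [Finset.prod_univ_sum]
    simp only [Fintype.piFinset_univ]
    refine Finset.sum_congr rfl fun L _ => ?_
    rw [prod_tmul_prod]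
    rfl
  counit := by
    intro I J
    have h1 : CoalgebraStruct.counit (R := k) (tmat a d I J) =
        ∏ t, CoalgebraStruct.counit (R := k) (a (I t) (J t)) := by
      unfold tmat
      exact map_prod (Bialgebra.counitAlgHom k A) _ _
    rw [h1]
    simp only [ha.counit]
    split_ifs with h
    · subst h
      simp
    · have : ∃ t, I t ≠ J t := by
        by_contra hcon
        exact h (funext fun t => not_not.mp fun ht => hcon ⟨t, ht⟩)
      obtain ⟨t, ht⟩ := this
      exact Finset.prod_eq_zero (Finset.mem_univ t) (by simp [ht])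

end TMat

section MatOfBasis

variable {k : Type u} [Field k] {A : Type v} [CommRing A] [Bialgebra k A]
  {V : Type w} [AddCommGroup V] [Module k V] (c : HopfRep.Comod k A V)
  {ι : Type w'} [Fintype ι] [DecidableEq ι] (b : Module.Basis ι k V)

/-- the matrix of a comodule in a basis -/
noncomputable def mat : Matrix ι ι A := fun i j => coef c (b.coord i) (b j)

omit [DecidableEq ι] in
lemma coact_basis (j : ι) : c.coact (b j) = ∑ l, b l ⊗ₜ[k] mat c b l j :=
  tensor_basis_expand b (c.coact (b j))

lemma isMult_mat : IsMult (k := k) (mat c b) where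
  comul := by
    intro i j
    have h := (hom_coef c (b.coord i)).apply (b j)
    change CoalgebraStruct.comul (R := k) (coef c (b.coord i) (b j)) = _ at h
    change CoalgebraStruct.comul (R := k) (coef c (b.coord i) (b j)) = _
    rw [h, coact_basis, map_sum]
    refine Finset.sum_congr rfl fun l _ => ?_
    rw [LinearMap.rTensor_tmul]
    rfl
  counit := by
    intro i j
    have h := counit_coef c (b.coord i) (b j)
    change CoalgebraStruct.counit (R := k) (coef c (b.coord i) (b j)) = _
    rw [h, Module.Basis.coord_apply, Module.Basis.repr_self, Finsupp.single_apply]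
    simp [eq_comm]

end MatOfBasis

section Unit

variable {k : Type u} [Field k] {A : Type v} [CommRing A] [HopfAlgebra k A]
  {R : Type w₂} [CommRing R] [Algebra k R] (g : A →ₐ[k] R)
  {V : Type w} [AddCommGroup V] [Module k V] (c : HopfRep.Comod k A V)

/-- the scalar by which a point acts on a stable line is a unit -/
lemma isUnit_of_act_eq {v : V} (hv : v ≠ 0) {r : R}
    (h : g.toLinearMap.lTensor V (c.coact v) = v ⊗ₜ[k] r) : IsUnit r := by
  obtain ⟨ψ₀, hψ₀⟩ : ∃ ψ₀ : V →ₗ[k] k, ψ₀ v = 1 := by
    obtain ⟨f, hf⟩ := Module.Projective.exists_dual_ne_zero k hv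
    refine ⟨(f v)⁻¹ • f, ?_⟩
    simp [hf]
  have h1 := xi_act g c ψ₀ v
  rw [h, hψ₀, map_one] at h1
  have h2 : xi g c ψ₀ (v ⊗ₜ[k] r) =
      g (HopfAlgebraStruct.antipode (R := k) (coef c ψ₀ v)) * r := by
    simp [xi]
  rw [h2] at h1
  exact IsUnit.of_mul_eq_one _ (by rw [mul_comm]; exact h1)

end Unit

section Line

variable {k : Type u} [Field k] {A : Type v} [CommRing A] [HopfAlgebra k A]
  {R : Type w₂} [CommRing R] [Algebra k R] (g : A →ₐ[k] R)
  {V : Type w} [AddCommGroup V] [Module k V] (c : HopfRep.Comod k A V)
  {d e : ℕ} (b : Module.Basis (Fin d ⊕ Fin e) k V)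

/-- the subspace spanned by the first part of the basis -/
def firstSpan : Submodule k V := Submodule.span k (Set.range fun j : Fin d => b (Sum.inl j))

lemma coord_inr_firstSpan (i : Fin e) (u : V) (hu : u ∈ firstSpan b) :
    b.coord (Sum.inr i) u = 0 := by
  induction hu using Submodule.span_induction with
  | mem x hx =>
    obtain ⟨j, rfl⟩ := hx
    simp
  | zero => simp
  | add x y _ _ hx hy => rw [map_add, hx, hy, add_zero]
  | smul a x _ hx => rw [map_smul, hx, smul_zero]

/-- a point stabilizes the span of the first part of the basis iff it kills the lower left block -/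
lemma stab_iff_entries :
    (∀ x ∈ firstSpan b, g.toLinearMap.lTensor V (c.coact x) ∈
      LinearMap.range ((firstSpan b).subtype.rTensor R)) ↔
      ∀ (i : Fin e) (j : Fin d), g (mat c b (Sum.inr i) (Sum.inl j)) = 0 := by
  constructor
  · intro h i j
    have hmem : b (Sum.inl j) ∈ firstSpan b := Submodule.subset_span ⟨j, rfl⟩
    have h1 := (mem_range_rTensor_iff_sliceL _ _).mp (h _ hmem) (b.coord (Sum.inr i))
      (coord_inr_firstSpan b i)
    rw [sliceL_lTensor] at h1
    exact h1
  · intro h
    have hle : firstSpan b ≤ (LinearMap.range ((firstSpan b).subtype.rTensor R)).comap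
        (g.toLinearMap.lTensor V ∘ₗ c.coact) := by
      unfold firstSpan
      rw [Submodule.span_le]
      rintro _ ⟨j, rfl⟩
      rw [SetLike.mem_coe, Submodule.mem_comap, mem_range_rTensor_iff_sliceL]
      intro ψ hψ
      rw [LinearMap.comp_apply, coact_basis, map_sum, map_sum]
      simp only [LinearMap.lTensor_tmul, sliceL_tmul]
      rw [Fintype.sum_sum_type]
      have e1 : ∀ j' : Fin d, ψ (b (Sum.inl j')) = 0 := fun j' =>
        hψ _ (Submodule.subset_span ⟨j', rfl⟩)
      simp only [e1, zero_smul, Finset.sum_const_zero, zero_add]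
      refine Finset.sum_eq_zero fun i _ => ?_
      have := h i j
      simp only [AlgHom.toLinearMap_apply]
      rw [this, smul_zero]
    intro x hx
    exact hle hx

/-- the antisymmetrized tensor of the first part of the basis, in coordinates -/
noncomputable def vT (k : Type u) [Field k] (d e : ℕ) : (Fin d → Fin d ⊕ Fin e) → k :=
  ∑ σ : Equiv.Perm (Fin d),
    ((Equiv.Perm.sign σ : ℤ) : k) • Pi.single (fun t => Sum.inl (σ t)) (1 : k)

omit [Field k] in
lemma vT_inl_perm {k : Type u} [Field k] (σ : Equiv.Perm (Fin d)) :
    vT k d e (fun t => Sum.inl (σ t)) = ((Equiv.Perm.sign σ : ℤ) : k) := by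
  unfold vT
  rw [Finset.sum_apply, Finset.sum_eq_single σ]
  · simp
  · intro τ _ hτ
    have hne : (fun t => (Sum.inl (σ t) : Fin d ⊕ Fin e)) ≠ fun t => Sum.inl (τ t) := by
      intro h
      apply hτ
      ext t
      have := congrFun h t
      simp only [Sum.inl.injEq] at this
      rw [this]
    simp [hne]
  · intro h; exact absurd (Finset.mem_univ σ) h

omit [Field k] in
lemma vT_of_not_perm {k : Type u} [Field k] (I : Fin d → Fin d ⊕ Fin e)
    (h : ∀ σ : Equiv.Perm (Fin d), I ≠ fun t => Sum.inl (σ t)) : vT k d e I = 0 := by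
  unfold vT
  rw [Finset.sum_apply]
  refine Finset.sum_eq_zero fun σ _ => ?_
  simp [h σ]

omit [Field k] in
lemma vT_ne_zero {k : Type u} [Field k] : vT k d e ≠ 0 := by
  intro h
  have h1 := vT_inl_perm (k := k) (e := e) (1 : Equiv.Perm (Fin d))
  rw [h] at h1
  simp at h1

/-- the `d × d` matrix of values of `g` on the rows `I` and the first `d` columns -/
noncomputable def nmat (I : Fin d → Fin d ⊕ Fin e) : Matrix (Fin d) (Fin d) R :=
  fun s t => g (mat c b (I s) (Sum.inl t))

/-- the comodule structure of the `d`-th tensor power in coordinates -/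
@[reducible] noncomputable def tComod : HopfRep.Comod k A ((Fin d → Fin d ⊕ Fin e) → k) :=
  matComod (tmat (mat c b) d) (isMult_tmat (isMult_mat c b) d)

lemma sliceL_tComod_single (I J : Fin d → Fin d ⊕ Fin e) :
    sliceL ((Pi.basisFun k _).coord I) ((tComod c b).coact (Pi.single J 1)) =
      tmat (mat c b) d I J := by
  rw [sliceL_matComod_coact, Finset.sum_eq_single J]
  · simp
  · intro L _ hL
    simp [hL]
  · intro h; exact absurd (Finset.mem_univ J) h

/-- the coordinates of `g · vT` are the minors -/
lemma coord_act_vT (I : Fin d → Fin d ⊕ Fin e) :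
    sliceL ((Pi.basisFun k _).coord I)
      (g.toLinearMap.lTensor _ ((tComod c b).coact (vT k d e))) = (nmat g c b I).det := by
  rw [sliceL_lTensor]
  unfold vT
  rw [map_sum, map_sum, map_sum]
  rw [← Matrix.det_transpose, Matrix.det_apply]
  refine Finset.sum_congr rfl fun σ _ => ?_
  rw [map_smul, map_smul, sliceL_tComod_single, AlgHom.toLinearMap_apply, map_smul]
  unfold tmat
  rw [map_prod]
  simp only [Matrix.transpose_apply, nmat]
  rw [Units.smul_def, ← Int.cast_smul_eq_zsmul k]

/-- the line through `vT` is stable iff all minors are proportional to the coordinates of `vT` -/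
lemma stabLine_vT_iff :
    (∃ r : R, g.toLinearMap.lTensor _ ((tComod c b).coact (vT k d e)) = vT k d e ⊗ₜ[k] r) ↔
      ∃ r : R, ∀ I, (nmat g c b I).det = vT k d e I • r := by
  constructor
  · rintro ⟨r, hr⟩
    refine ⟨r, fun I => ?_⟩
    rw [← coord_act_vT, hr, sliceL_tmul]
    simp
  · rintro ⟨r, hr⟩
    refine ⟨r, ?_⟩
    apply tensor_ext_coord (Pi.basisFun k (Fin d → Fin d ⊕ Fin e))
    intro I
    rw [coord_act_vT, hr, sliceL_tmul]
    simp

/-- stabilizing the subspace implies stabilizing the line -/
lemma minors_of_entries (h : ∀ (i : Fin e) (j : Fin d), g (mat c b (Sum.inr i) (Sum.inl j)) = 0) :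
    ∀ I, (nmat g c b I).det = vT k d e I • (nmat g c b (fun t => Sum.inl t)).det := by
  intro I
  by_cases h1 : ∃ s i, I s = Sum.inr i
  · obtain ⟨s, i, hs⟩ := h1
    have hz : (nmat g c b I).det = 0 := by
      apply Matrix.det_eq_zero_of_row_eq_zero s
      intro t
      simp only [nmat, hs, h i t]
    rw [hz, vT_of_not_perm, zero_smul]
    intro σ hσ
    have := congrFun hσ s
    rw [hs] at this
    exact Sum.inr_ne_inl this
  · have h2 : ∀ s, ∃ j, I s = Sum.inl j := by
      intro s
      rcases hI : I s with j | i
      · exact ⟨j, rfl⟩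
      · exact absurd ⟨s, i, hI⟩ h1
    choose f hf using h2
    have hIf : I = fun t => Sum.inl (f t) := funext hf
    by_cases hinj : Function.Injective f
    · have hbij : Function.Bijective f := Finite.injective_iff_bijective.mp hinj
      let σ : Equiv.Perm (Fin d) := Equiv.ofBijective f hbij
      have hIσ : I = fun t => Sum.inl (σ t) := hIf
      have hsub : nmat g c b I = (nmat g c b (fun t => Sum.inl t)).submatrix σ id := by
        ext s t
        simp only [nmat, Matrix.submatrix_apply, id_eq, hIσ]
      rw [hsub, Matrix.det_permute, hIσ, vT_inl_perm]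
      rw [Algebra.smul_def, map_intCast]
    · have : ∃ s s', s ≠ s' ∧ f s = f s' := by
        by_contra hcon
        apply hinj
        intro s s' hss
        by_contra hne
        exact hcon ⟨s, s', hne, hss⟩
      obtain ⟨s, s', hne, hss⟩ := this
      have hz : (nmat g c b I).det = 0 := by
        apply Matrix.det_zero_of_row_eq hne
        ext t
        simp only [nmat, hIf, hss]
      rw [hz, vT_of_not_perm, zero_smul]
      intro σ hσ
      apply hinj
      have : f = σ := by
        ext t
        have := congrFun (hIf.symm.trans hσ) t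
        simp only [Sum.inl.injEq] at this
        rw [this]
      rw [this]
      exact σ.injective

/-- stabilizing the line implies stabilizing the subspace -/
lemma entries_of_minors {r : R} (hr : IsUnit r)
    (h : ∀ I, (nmat g c b I).det = vT k d e I • r) (i : Fin e) (j : Fin d) :
    g (mat c b (Sum.inr i) (Sum.inl j)) = 0 := by
  classical
  set P := nmat g c b (fun t => Sum.inl t) with hP
  have hdetP : P.det = r := by
    have h1 := h (fun t => Sum.inl t)
    have h2 := vT_inl_perm (k := k) (e := e) (1 : Equiv.Perm (Fin d))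
    simp only [Equiv.Perm.coe_one, id_eq, Equiv.Perm.sign_one, Units.val_one, Int.cast_one] at h2
    rw [h2, one_smul] at h1
    exact h1
  let ρ : Fin d → R := fun t => g (mat c b (Sum.inr i) (Sum.inl t))
  have hupd : ∀ l : Fin d, (P.updateRow l ρ).det = 0 := by
    intro l
    have h1 := h (Function.update (fun t => (Sum.inl t : Fin d ⊕ Fin e)) l (Sum.inr i))
    rw [vT_of_not_perm, zero_smul] at h1
    · rw [← h1]
      congr 1
      ext s t
      by_cases hs : s = l
      · subst hs
        simp [nmat, ρ, Matrix.updateRow_self]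
      · simp [nmat, P, Matrix.updateRow_ne hs, Function.update_of_ne hs]
    · intro σ hσ
      have := congrFun hσ l
      simp only [Function.update_self] at this
      exact Sum.inr_ne_inl this
  have hcr : Matrix.cramer P.transpose ρ = 0 := by
    ext l
    rw [Matrix.cramer_transpose_apply, hupd, Pi.zero_apply]
  have h3 := Matrix.mulVec_cramer P.transpose ρ
  rw [hcr, Matrix.mulVec_zero, Matrix.det_transpose, hdetP] at h3
  have h4 := congrFun h3 j
  simp only [Pi.zero_apply, Pi.smul_apply, smul_eq_mul] at h4
  exact (hr.mul_right_eq_zero).mp h4.symm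

/-- the point stabilizes the first span iff it stabilizes the line through `vT` -/
theorem stab_firstSpan_iff_stabLine :
    (∀ x ∈ firstSpan b, g.toLinearMap.lTensor V (c.coact x) ∈
      LinearMap.range ((firstSpan b).subtype.rTensor R)) ↔
    ∃ r : R, g.toLinearMap.lTensor _ ((tComod c b).coact (vT k d e)) = vT k d e ⊗ₜ[k] r := by
  rw [stab_iff_entries, stabLine_vT_iff]
  constructor
  · intro h
    exact ⟨_, minors_of_entries g c b h⟩
  · rintro ⟨r, hr⟩ i j
    have hu : IsUnit r := by
      have := (stabLine_vT_iff g c b).mpr ⟨r, hr⟩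
      obtain ⟨r', hr'⟩ := this
      have hu' := isUnit_of_act_eq g (tComod c b) vT_ne_zero hr'
      have e1 := (stabLine_vT_iff g c b).mp ⟨r', hr'⟩
      -- r' and r agree through the coordinate `inl`
      have h1 := hr (fun t => Sum.inl t)
      have h2 : (nmat g c b (fun t => Sum.inl t)).det = vT k d e (fun t => Sum.inl t) • r' := by
        rw [← coord_act_vT, hr', sliceL_tmul]
        simp
      have h3 := vT_inl_perm (k := k) (e := e) (1 : Equiv.Perm (Fin d))
      simp only [Equiv.Perm.coe_one, id_eq, Equiv.Perm.sign_one, Units.val_one,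
        Int.cast_one] at h3
      rw [h3, one_smul] at h1 h2
      rw [← h1, h2]
      exact hu'
    exact entries_of_minors g c b hu hr i j

end Line

end Groth.Agent.H9.MatLine
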