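import Mathlib
import Groth.Prelude.Def_ComodSub
import Groth.Prelude.Def_ComodTens
import Groth.Agent.Lib.Helper9.Comod
import Groth.Agent.Lib.Helper9.ComodCoeff
import Groth.Agent.Lib.Helper9.ComodSubquot
import Groth.Agent.Lib.Helper9.ComodStab
import Groth.Agent.Lib.Helper9.ComodMatLine

/-!
# Chevalley's theorem: a closed subgroup is the stabilizer of a line (helper9)
-/

set_option autoImplicit false
set_option linter.style.haveILetI false

universe u v w w' w₂

open TensorProduct

namespace Groth.Agent.H9.Chevalley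

open Groth.Agent.H9.Comod Groth.Agent.H9.Subquot Groth.Agent.H9.Stab Groth.Agent.H9.MatLine

section Factor

variable {k : Type u} [Field k] {A : Type v} [CommRing A] [Algebra k A]
  {B : Type w} [CommRing B] [Algebra k B] {R : Type w₂} [CommRing R] [Algebra k R]

/-- a point killing the kernel of a surjection factors linearly through it -/
lemma exists_linear_factor (π : A →ₐ[k] B) (hπ : Function.Surjective π) (g : A →ₐ[k] R)
    (hg : ∀ a ∈ RingHom.ker (π : A →+* B), g a = 0) :
    ∃ g' : B →ₗ[k] R, g' ∘ₗ π.toLinearMap = g.toLinearMap := by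
  obtain ⟨s, hs⟩ := LinearMap.exists_rightInverse_of_surjective π.toLinearMap
    (LinearMap.range_eq_top.mpr hπ)
  refine ⟨g.toLinearMap ∘ₗ s, ?_⟩
  apply LinearMap.ext
  intro a
  simp only [LinearMap.comp_apply, AlgHom.toLinearMap_apply]
  have h1 : π (s (π a) - a) = 0 := by
    rw [map_sub]
    have := LinearMap.congr_fun hs (π a)
    simp only [LinearMap.comp_apply, AlgHom.toLinearMap_apply, LinearMap.id_apply] at this
    rw [this, sub_self]
  have h2 := hg _ ((RingHom.mem_ker).mpr h1)
  rw [map_sub, sub_eq_zero] at h2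
  exact h2

end Factor

section Subspace

variable {k : Type u} [Field k] {A : Type u} [CommRing A] [HopfAlgebra k A]
  [Algebra.FiniteType k A] {B : Type u} [CommRing B] [HopfAlgebra k B] (π : A →ₐc[k] B)

/-- **Chevalley, subspace form**: a closed subgroup is the stabilizer of a subspace of a
finite-dimensional subcomodule of the regular representation. -/
theorem exists_subspace_stabilizer (hπ : Function.Surjective π) :
    ∃ (U : Submodule k A) (hU : HopfRep.IsSubcomod (k := k) (A := A) U) (_ : Module.Finite k U)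
      (W : Submodule k U),
      ∀ (R : Type u) [CommRing R] [Algebra k R] (g : A →ₐ[k] R),
        (∀ a ∈ RingHom.ker (π : A →+* B), g a = 0) ↔
        ∀ x ∈ W, g.toLinearMap.lTensor U
          ((ComodSub.Comod.restr (HopfRep.Comod.regular k A) U hU).coact x) ∈
            LinearMap.range (W.subtype.rTensor R) := by
  classical
  haveI : IsNoetherianRing A := Algebra.FiniteType.isNoetherianRing k A
  set I : Ideal A := RingHom.ker (π : A →+* B) with hI
  obtain ⟨S, hS⟩ := (isNoetherianRing_iff_ideal_fg A).mp inferInstance I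
  let U : Submodule k A := gen A (Submodule.span k (S : Set A))
  have hU : HopfRep.IsSubcomod (k := k) (A := A) U := isSubcomod_gen _
  have hfg : U.FG := fg_gen _ (Submodule.fg_span S.finite_toSet)
  have hSU : ∀ x ∈ S, x ∈ U := fun x hx => le_gen _ (Submodule.subset_span hx)
  have hfin : Module.Finite k U := Module.Finite.iff_fg.mpr hfg
  let cU : HopfRep.Comod k A U := ComodSub.Comod.restr (HopfRep.Comod.regular k A) U hU
  let W : Submodule k U := (I.restrictScalars k).comap U.subtype
  have hker0 : ∀ a : A, a ∈ I → π a = 0 := fun a ha => (RingHom.mem_ker).mp ha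
  have hπcounit : ∀ a : A, a ∈ I → CoalgebraStruct.counit (R := k) a = 0 := by
    intro a ha
    have h1 : CoalgebraStruct.counit (R := k) (π a) = CoalgebraStruct.counit (R := k) a :=
      CoalgHomClass.counit_comp_apply π a
    rw [← h1, hker0 a ha, map_zero]
  refine ⟨U, hU, hfin, W, ?_⟩
  intro R _ _ g
  have hcoe : ∀ x : U, U.subtype.rTensor A (cU.coact x) = CoalgebraStruct.comul (R := k) (x : A) :=
    fun x => ComodSub.restr_coact_coe (HopfRep.Comod.regular k A) U hU x
  constructor
  · intro hg x hx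
    obtain ⟨g', hg'⟩ := exists_linear_factor (π : A →ₐ[k] B) hπ g hg
    apply mem_range_rTensor_of_slice
    intro φ
    show U.subtype (slice φ (g.toLinearMap.lTensor U (cU.coact x))) ∈ I
    rw [← slice_rTensor, ← ComodTens.lTensor_rTensor_comm, hcoe, slice_lTensor, hI,
      RingHom.mem_ker]
    show (π : A →ₐ[k] B).toLinearMap (slice (φ ∘ₗ g.toLinearMap)
      (CoalgebraStruct.comul (R := k) (x : A))) = 0
    rw [← slice_rTensor, ← hg', ← LinearMap.comp_assoc, ← slice_lTensor]
    have h1 : (π : A →ₐ[k] B).toLinearMap.lTensor B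
        ((π : A →ₐ[k] B).toLinearMap.rTensor A (CoalgebraStruct.comul (R := k) (x : A))) =
        CoalgebraStruct.comul (R := k) (π (x : A)) := by
      have := CoalgHomClass.map_comp_comul_apply π (x : A)
      rw [← this]
      generalize CoalgebraStruct.comul (R := k) (x : A) = y
      induction y using TensorProduct.induction_on with
      | zero => simp
      | add y z hy hz => simp only [map_add, hy, hz]
      | tmul a a' => simp
    rw [h1]
    have hx0 : π (x : A) = 0 := hker0 _ hx
    rw [hx0, map_zero, map_zero]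
  · intro hstab
    have hker : Ideal.span (S : Set A) ≤ RingHom.ker (g : A →+* R) := by
      rw [Ideal.span_le]
      intro s hs
      have hsI : s ∈ I := by rw [← hS]; exact Ideal.subset_span hs
      have hxW : (⟨s, hSU s hs⟩ : U) ∈ W := hsI
      have h1 := (mem_range_rTensor_iff_sliceL _ _).mp (hstab _ hxW)
        ((CoalgebraStruct.counit (R := k) (A := A)) ∘ₗ U.subtype) (by
          intro u hu
          exact hπcounit _ hu)
      rw [sliceL_lTensor, ← sliceL_rTensor, hcoe, sliceL_counit_comul] at h1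
      exact (RingHom.mem_ker).mpr h1
    intro a ha
    rw [← hS] at ha
    exact (RingHom.mem_ker).mp (hker ha)

end Subspace

section AdaptedBasis

variable {k : Type u} [Field k] {V : Type w} [AddCommGroup V] [Module k V] [Module.Finite k V]

/-- a basis whose first part spans a given subspace -/
lemma exists_adapted_basis (W : Submodule k V) :
    ∃ (d e : ℕ) (b : Module.Basis (Fin d ⊕ Fin e) k V), firstSpan b = W := by
  obtain ⟨W', hW'⟩ := Submodule.exists_isCompl W
  let bW := Module.finBasis k W
  let bW' := Module.finBasis k W'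
  let E := Submodule.prodEquivOfIsCompl W W' hW'
  let b := (bW.prod bW').map E
  refine ⟨_, _, b, ?_⟩
  have hb : ∀ j, b (Sum.inl j) = (bW j : V) := by
    intro j
    simp [b, E]
  unfold firstSpan
  simp only [hb]
  have h1 : (Set.range fun j => ((bW j : W) : V)) = W.subtype '' Set.range bW := by
    ext x
    simp
  rw [h1, Submodule.span_image, bW.span_eq, Submodule.map_top, Submodule.range_subtype]

end AdaptedBasis

section LineForm

variable {k : Type u} [Field k] {A : Type u} [CommRing A] [HopfAlgebra k A]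
  [Algebra.FiniteType k A] {B : Type u} [CommRing B] [HopfAlgebra k B] (π : A →ₐc[k] B)

/-- data of a line in a finite-dimensional representation whose stabilizer is the closed subgroup
`Spec B` and on which the subgroup acts through the character `χ` -/
def HasLine (χ : B) : Prop :=
  ∃ (V : Type u) (_ : AddCommGroup V) (_ : Module k V) (c : HopfRep.Comod k A V)
    (_ : Module.Finite k V) (v : V), v ≠ 0 ∧
    (∀ (R : Type u) [CommRing R] [Algebra k R] (g : A →ₐ[k] R),
      (∀ a ∈ RingHom.ker (π : A →+* B), g a = 0) ↔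
        ∃ r : R, g.toLinearMap.lTensor V (c.coact v) = v ⊗ₜ[k] r) ∧
    (π : A →ₐ[k] B).toLinearMap.lTensor V (c.coact v) = v ⊗ₜ[k] χ

/-- **Chevalley, line form** -/
theorem exists_hasLine (hπ : Function.Surjective π) : ∃ χ : B, HasLine π χ := by
  obtain ⟨U, hU, hfin, W, hW⟩ := exists_subspace_stabilizer π hπ
  obtain ⟨d, e, b, hb⟩ := exists_adapted_basis W
  let cU : HopfRep.Comod k A U := ComodSub.Comod.restr (HopfRep.Comod.regular k A) U hU
  have key : ∀ (R : Type u) [CommRing R] [Algebra k R] (g : A →ₐ[k] R),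
      (∀ a ∈ RingHom.ker (π : A →+* B), g a = 0) ↔
        ∃ r : R, g.toLinearMap.lTensor _ ((tComod cU b).coact (vT k d e)) = vT k d e ⊗ₜ[k] r := by
    intro R _ _ g
    rw [hW R g, ← hb]
    exact stab_firstSpan_iff_stabLine g cU b
  obtain ⟨χ, hχ⟩ := (key B (π : A →ₐ[k] B)).mp (fun a ha => (RingHom.mem_ker).mp ha)
  exact ⟨χ, _, inferInstance, inferInstance, tComod cU b, inferInstance, vT k d e, vT_ne_zero,
    key, hχ⟩

end LineForm

section Character

variable {k : Type u} [Field k] {A : Type v} [CommRing A] [Bialgebra k A]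
  {B : Type w'} [CommRing B] [Bialgebra k B] (π : A →ₐc[k] B)
  {V : Type w} [AddCommGroup V] [Module k V] (c : HopfRep.Comod k A V)

omit [Field k] in
lemma exists_dual_eq_one {k : Type u} [Field k] {V : Type w} [AddCommGroup V] [Module k V]
    {v : V} (hv : v ≠ 0) : ∃ ψ₀ : V →ₗ[k] k, ψ₀ v = 1 := by
  obtain ⟨f, hf⟩ := Module.Projective.exists_dual_ne_zero k hv
  refine ⟨(f v)⁻¹ • f, ?_⟩
  simp [hf]

/-- the scalar by which a subgroup acts on a stable line is a character -/
lemma isGroupLikeElem_of_eigen {v : V} (hv : v ≠ 0) {χ : B}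
    (h : (π : A →ₐ[k] B).toLinearMap.lTensor V (c.coact v) = v ⊗ₜ[k] χ) :
    IsGroupLikeElem k χ := by
  obtain ⟨ψ₀, hψ₀⟩ := exists_dual_eq_one (k := k) hv
  let cB : HopfRep.Comod k B V := GLin.comodAlong π c
  have hcB : cB.coact v = v ⊗ₜ[k] χ := h
  constructor
  · have h1 := LinearMap.congr_fun cB.counit_comp v
    simp only [LinearMap.comp_apply, LinearMap.flip_apply, TensorProduct.mk_apply] at h1
    rw [hcB, LinearMap.lTensor_tmul] at h1
    have h2 := congrArg (sliceL ψ₀) h1
    simp only [sliceL_tmul, hψ₀, one_smul] at h2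
    exact h2
  · have h1 := LinearMap.congr_fun cB.coassoc v
    simp only [LinearMap.comp_apply, LinearEquiv.coe_coe] at h1
    rw [hcB, LinearMap.rTensor_tmul, hcB, TensorProduct.assoc_tmul, LinearMap.lTensor_tmul] at h1
    have h2 := congrArg (sliceL ψ₀) h1
    simp only [sliceL_tmul, hψ₀, one_smul] at h2
    exact h2.symm

end Character

section Span

variable {k : Type u} [Field k] {R : Type v} [AddCommGroup R] [Module k R]
  {V : Type w} [AddCommGroup V] [Module k V]

lemma exists_eq_tmul_of_mem_range_span_singleton (v : V) (y : V ⊗[k] R)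
    (hy : y ∈ LinearMap.range ((Submodule.span k {v}).subtype.rTensor R)) :
    ∃ r : R, y = v ⊗ₜ[k] r := by
  obtain ⟨z, rfl⟩ := hy
  induction z using TensorProduct.induction_on with
  | zero => exact ⟨0, by simp⟩
  | tmul u s =>
    obtain ⟨a, ha⟩ := Submodule.mem_span_singleton.mp u.2
    refine ⟨a • s, ?_⟩
    rw [LinearMap.rTensor_tmul, Submodule.subtype_apply, ← ha, TensorProduct.smul_tmul]
  | add x y hx hy =>
    obtain ⟨r, hr⟩ := hx
    obtain ⟨r', hr'⟩ := hy
    exact ⟨r + r', by rw [map_add, hr, hr', TensorProduct.tmul_add]⟩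

end Span

section Twist

variable {k : Type u} [Field k] {A : Type u} [CommRing A] [HopfAlgebra k A]
  [Algebra.FiniteType k A] {B : Type u} [CommRing B] [HopfAlgebra k B] (π : A →ₐc[k] B)

omit [Algebra.FiniteType k A] in
/-- tensoring a line with stabilizer `Spec B` with an eigenvector of `Spec B` -/
theorem HasLine.mul (hπ : Function.Surjective π) {χ₁ χ₂ : B} (h₁ : HasLine π χ₁)
    (V₂ : Type u) [AddCommGroup V₂] [Module k V₂] (c₂ : HopfRep.Comod k A V₂) [Module.Finite k V₂]
    (v₂ : V₂) (hv₂ : v₂ ≠ 0)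
    (e₂ : (π : A →ₐ[k] B).toLinearMap.lTensor V₂ (c₂.coact v₂) = v₂ ⊗ₜ[k] χ₂) :
    HasLine π (χ₁ * χ₂) := by
  obtain ⟨V₁, i1, i2, c₁, i3, v₁, hv₁, hrep, e₁⟩ := h₁
  obtain ⟨ψ₁, hψ₁⟩ := exists_dual_eq_one (k := k) hv₁
  obtain ⟨ψ₂, hψ₂⟩ := exists_dual_eq_one (k := k) hv₂
  refine ⟨V₁ ⊗[k] V₂, inferInstance, inferInstance, ComodTens.Comod.tensor c₁ c₂, inferInstance,
    v₁ ⊗ₜ[k] v₂, ?_, ?_, ?_⟩
  · intro h0
    have := congrArg (pairL ψ₁ ψ₂) h0
    simp [hψ₁, hψ₂] at this
  · intro R _ _ g
    constructor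
    · intro hg
      obtain ⟨r₁, hr₁⟩ := (hrep R g).mp hg
      obtain ⟨g', hg'⟩ := exists_linear_factor (π : A →ₐ[k] B) hπ g hg
      have hr₂ : g.toLinearMap.lTensor V₂ (c₂.coact v₂) = v₂ ⊗ₜ[k] g' χ₂ := by
        rw [← hg', LinearMap.lTensor_comp, LinearMap.comp_apply, e₂, LinearMap.lTensor_tmul]
      refine ⟨r₁ * g' χ₂, ?_⟩
      rw [lTensor_tensor_coact_tmul, hr₁, hr₂, mulR_tmul]
    · rintro ⟨r, hr⟩
      rw [hrep R g]
      apply exists_eq_tmul_of_mem_range_span_singleton
      rw [mem_range_rTensor_iff_sliceL]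
      intro ψ hψ
      have hψv : ψ v₁ = 0 := hψ _ (Submodule.mem_span_singleton_self v₁)
      apply eq_zero_of_mul_sliceL_act_eq_zero g c₂ hv₂
      intro ψ'
      have h1 := congrArg (sliceL (pairL ψ ψ')) hr
      rw [lTensor_tensor_coact_tmul, sliceL_pairL_mulR, sliceL_tmul, pairL_tmul, hψv, zero_mul,
        zero_smul] at h1
      exact h1
  · have h1 := lTensor_tensor_coact_tmul (π : A →ₐ[k] B) c₁ c₂ v₁ v₂
    rw [e₁, e₂, mulR_tmul] at h1
    exact h1

omit [Algebra.FiniteType k A] in
/-- powers of the character of a line with stabilizer `Spec B` -/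
theorem HasLine.pow (hπ : Function.Surjective π) {χ : B} (h : HasLine π χ) :
    ∀ m : ℕ, 0 < m → HasLine π (χ ^ m) := by
  intro m hm
  induction m with
  | zero => exact absurd hm (lt_irrefl 0)
  | succ m ih =>
    rcases Nat.eq_zero_or_pos m with h0 | hpos
    · subst h0
      rw [zero_add, pow_one]
      exact h
    · have hm' := ih hpos
      obtain ⟨V₁, i1, i2, c₁, i3, v₁, hv₁, _, e₁⟩ := h
      rw [pow_succ]
      exact HasLine.mul π hπ hm' V₁ c₁ v₁ hv₁ e₁

end Twist

end Groth.Agent.H9.Chevalley
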