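import Mathlib.RingTheory.Flat.EquationalCriterion
import Mathlib.LinearAlgebra.TensorProduct.Prod
import Mathlib.Algebra.Module.Projective

/-! Helper lemmas on flat modules (helper9). -/

set_option autoImplicit false

namespace Groth.Agent.H9

open TensorProduct

universe u v w

/-- The product of two flat modules is flat. -/
theorem flat_prod {R : Type u} {M : Type v} {N : Type w} [CommRing R] [AddCommGroup M] [Module R M]
    [AddCommGroup N] [Module R N] [Module.Flat R M] [Module.Flat R N] : Module.Flat R (M × N) := by
  rw [Module.Flat.iff_rTensor_injectiveₛ]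
  intro P _ _ Q
  have h1 := Module.Flat.rTensor_preserves_injective_linearMap (M := M) Q.subtype Q.injective_subtype
  have h2 := Module.Flat.rTensor_preserves_injective_linearMap (M := N) Q.subtype Q.injective_subtype
  have key : (TensorProduct.prodRight R R P M N).toLinearMap ∘ₗ (Q.subtype.rTensor (M × N)) =
      (LinearMap.prodMap (Q.subtype.rTensor M) (Q.subtype.rTensor N)) ∘ₗ
        (TensorProduct.prodRight R R Q M N).toLinearMap := by
    apply TensorProduct.ext'
    intro q mn
    simp
  have hinj : Function.Injective ((TensorProduct.prodRight R R P M N).toLinearMap ∘ₗ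
      (Q.subtype.rTensor (M × N))) := by
    rw [key]
    exact (Function.Injective.prodMap h1 h2).comp (TensorProduct.prodRight R R Q M N).injective
  exact Function.Injective.of_comp hinj

/-- The kernel of a surjective linear map between flat modules is flat. -/
theorem flat_ker_of_surjective {R : Type u} {F : Type v} {Q : Type w} [CommRing R]
    [AddCommGroup F] [Module R F] [AddCommGroup Q] [Module R Q] [Module.Flat R F] [Module.Flat R Q]
    (d : F →ₗ[R] Q) (hd : Function.Surjective d) : Module.Flat R (LinearMap.ker d) := by
  apply Module.Flat.of_forall_exists_factorization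
  intro l v x hx
  -- factor ι ∘ x through a finite free module, killing v
  have hx' : ((LinearMap.ker d).subtype ∘ₗ x) v = 0 := by simp [hx]
  obtain ⟨k, a, y, hya, hav⟩ := Module.Flat.exists_factorization_of_apply_eq_zero_of_free hx'
  -- d ∘ y ∘ a = 0
  have hdya : (d ∘ₗ y) ∘ₗ a = 0 := by
    rw [LinearMap.comp_assoc, ← hya]
    ext i
    simp
  obtain ⟨m, b, z, hzb, hba⟩ := Module.Flat.exists_factorization_of_comp_eq_zero_of_free hdya
  -- lift z along d
  obtain ⟨z', hz'⟩ := Module.projective_lifting_property d z hd
  -- corrected map lands in the kernel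
  let y' : (Fin k →₀ R) →ₗ[R] F := y - z' ∘ₗ b
  have hy' : ∀ c, y' c ∈ LinearMap.ker d := by
    intro c
    simp only [y', LinearMap.mem_ker, LinearMap.sub_apply, LinearMap.comp_apply, map_sub]
    have e1 : d (y c) = z (b c) := by
      have := LinearMap.congr_fun hzb c
      simpa using this
    have e2 : d (z' (b c)) = z (b c) := by
      have := LinearMap.congr_fun hz' (b c)
      simpa using this
    rw [e1, e2, sub_self]
  refine ⟨k, a, LinearMap.codRestrict (LinearMap.ker d) y' hy', ?_, hav⟩
  apply LinearMap.ext
  intro c
  apply Subtype.ext
  simp only [LinearMap.comp_apply, LinearMap.codRestrict_apply, y', LinearMap.sub_apply]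
  have e1 : (x c : F) = y (a c) := by
    have := LinearMap.congr_fun hya c
    simpa using this
  have e2 : b (a c) = 0 := by
    have := LinearMap.congr_fun hba c
    simpa using this
  rw [e1, e2, map_zero, sub_zero]

end Groth.Agent.H9
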