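import Mathlib.RingTheory.AdicCompletion.Functoriality
import Mathlib.Algebra.Module.Projective
import Mathlib.RingTheory.Finiteness.Cardinality

/-! Helper lemmas on adic completeness (helper9):
finite products and retracts of adically complete modules are adically complete, hence
finite projective modules over an adically complete ring are adically complete. -/

set_option autoImplicit false

namespace Groth.Agent.H9

universe u v w

variable {R : Type u} [CommRing R] (I : Ideal R)

/-- A retract of an `I`-adically complete module is `I`-adically complete. -/
theorem isAdicComplete_of_retract {F : Type v} {Q : Type w} [AddCommGroup F] [Module R F]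
    [AddCommGroup Q] [Module R Q] [IsAdicComplete I F]
    (i : Q →ₗ[R] F) (p : F →ₗ[R] Q) (hpi : p ∘ₗ i = LinearMap.id) : IsAdicComplete I Q := by
  rw [← AdicCompletion.of_bijective_iff]
  have hF := AdicCompletion.of_bijective I F
  constructor
  · intro x y hxy
    have h1 : AdicCompletion.of I F (i x) = AdicCompletion.of I F (i y) := by
      rw [← AdicCompletion.map_of, ← AdicCompletion.map_of, hxy]
    have h2 := hF.1 h1
    have := congrArg p h2
    have e : ∀ z, p (i z) = z := fun z => LinearMap.congr_fun hpi z
    rwa [e, e] at this
  · intro y
    obtain ⟨z, hz⟩ := hF.2 (AdicCompletion.map I i y)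
    refine ⟨p z, ?_⟩
    rw [← AdicCompletion.map_of, hz, AdicCompletion.map_comp_apply, hpi, AdicCompletion.map_id]
    rfl

/-- A finite product of `I`-adically complete modules is `I`-adically complete. -/
theorem isAdicComplete_pi {ι : Type w} [Fintype ι] [DecidableEq ι] (M : ι → Type v)
    [∀ i, AddCommGroup (M i)] [∀ i, Module R (M i)] [∀ i, IsAdicComplete I (M i)] :
    IsAdicComplete I (∀ i, M i) := by
  rw [← AdicCompletion.of_bijective_iff]
  have key : (fun x : (∀ i, M i) => (AdicCompletion.piEquivOfFintype I M) (AdicCompletion.of I _ x)) =
      fun x i => AdicCompletion.of I (M i) (x i) := by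
    funext x i
    rw [AdicCompletion.piEquivOfFintype_apply]
    simp [AdicCompletion.pi, AdicCompletion.map_of]
  have hbij : Function.Bijective (fun x : (∀ i, M i) => fun i => AdicCompletion.of I (M i) (x i)) := by
    constructor
    · intro x y hxy
      funext i
      exact (AdicCompletion.of_bijective I (M i)).1 (congrFun hxy i)
    · intro y
      choose x hx using fun i => (AdicCompletion.of_bijective I (M i)).2 (y i)
      exact ⟨x, funext hx⟩
  rw [← key] at hbij
  exact (Function.Bijective.of_comp_iff' (AdicCompletion.piEquivOfFintype I M).bijective _).mp hbij

/-- A finite projective module over an `I`-adically complete ring is `I`-adically complete. -/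
theorem isAdicComplete_of_finite_projective [IsAdicComplete I R] (Q : Type v) [AddCommGroup Q]
    [Module R Q] [Module.Finite R Q] [Module.Projective R Q] : IsAdicComplete I Q := by
  classical
  obtain ⟨n, f, hf⟩ := Module.Finite.exists_fin' R Q
  obtain ⟨s, hs⟩ := Module.projective_lifting_property f LinearMap.id hf
  have : IsAdicComplete I (Fin n → R) := isAdicComplete_pi I (fun _ : Fin n => R)
  exact isAdicComplete_of_retract I s f hs

end Groth.Agent.H9
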