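import Mathlib
import Groth.Agent.Lib.Helper9.AdicComplete

/-!
# Finite extensions of complete discrete valuation rings
-/

namespace Groth.Agent.H9.CDVR

open Polynomial

section Map

variable {A B : Type*} [CommRing A] [CommRing B] [Algebra A B]

theorem smod_iff (I : Ideal A) (n : ℕ) (x y : B) :
    x ≡ y [SMOD (I ^ n • ⊤ : Submodule A B)] ↔
    x ≡ y [SMOD ((I.map (algebraMap A B)) ^ n • ⊤ : Submodule B B)] := by
  rw [SModEq.sub_mem, SModEq.sub_mem, Ideal.smul_top_eq_map, ← Ideal.map_pow, smul_eq_mul,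
    Ideal.mul_top]
  rfl

theorem isAdicComplete_map (I : Ideal A) [h : IsAdicComplete I B] :
    IsAdicComplete (I.map (algebraMap A B)) B := by
  refine { haus' := ?_, prec' := ?_ }
  · intro x hx
    apply h.toIsHausdorff.haus x
    intro n
    rw [smod_iff]
    exact hx n
  · intro f hf
    obtain ⟨L, hL⟩ := h.toIsPrecomplete.prec (f := f) (by
      intro m n hmn
      rw [smod_iff]
      exact hf hmn)
    refine ⟨L, fun n => ?_⟩
    rw [← smod_iff]
    exact hL n

end Map

section Idem

variable {B : Type*} [CommRing B]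

theorem exists_idempotent_lift (J : Ideal B) [HenselianRing B J] (x : B) (hx : x ^ 2 - x ∈ J) :
    ∃ e : B, e ^ 2 = e ∧ e - x ∈ J := by
  have hmonic : (X ^ 2 - X : B[X]).Monic := by
    nontriviality B
    apply monic_X_pow_sub
    simp
  have h1 : (X ^ 2 - X : B[X]).eval x ∈ J := by simpa using hx
  have h2 : IsUnit (Ideal.Quotient.mk J ((X ^ 2 - X : B[X]).derivative.eval x)) := by
    have e1 : (X ^ 2 - X : B[X]).derivative.eval x = 2 * x - 1 := by
      simp
      ring
    rw [e1]
    refine IsUnit.of_mul_eq_one (Ideal.Quotient.mk J (2 * x - 1)) ?_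
    rw [← map_mul, ← map_one (Ideal.Quotient.mk J), Ideal.Quotient.mk_eq_mk_iff_sub_mem]
    have : (2 * x - 1) * (2 * x - 1) - 1 = 4 * (x ^ 2 - x) := by ring
    rw [this]
    exact J.mul_mem_left _ hx
  obtain ⟨e, he, hex⟩ := HenselianRing.is_henselian (X ^ 2 - X : B[X]) hmonic x h1 h2
  refine ⟨e, ?_, hex⟩
  have : e ^ 2 - e = 0 := by simpa [IsRoot] using he
  exact sub_eq_zero.mp this

end Idem

section PowComplete

variable {R : Type*} [CommRing R] {N : Type*} [AddCommGroup N] [Module R N]

theorem isAdicComplete_of_pow (I : Ideal R) (e : ℕ) (he : e ≠ 0) [h : IsAdicComplete (I ^ e) N] :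
    IsAdicComplete I N := by
  have hle : ∀ n : ℕ, n ≤ e * n := fun n => Nat.le_mul_of_pos_left n (Nat.pos_of_ne_zero he)
  have hmono : ∀ {a b : ℕ}, a ≤ b → (I ^ b • ⊤ : Submodule R N) ≤ I ^ a • ⊤ := fun hab =>
    Submodule.smul_mono_left (Ideal.pow_le_pow_right hab)
  refine { haus' := ?_, prec' := ?_ }
  · intro x hx
    apply h.toIsHausdorff.haus x
    intro n
    rw [← pow_mul]
    exact hx (e * n)
  · intro f hf
    obtain ⟨L, hL⟩ := h.toIsPrecomplete.prec (f := fun k => f (e * k)) (by
      intro a b hab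
      rw [← pow_mul]
      exact hf (Nat.mul_le_mul_left e hab))
    refine ⟨L, fun n => ?_⟩
    have h1 : f n ≡ f (e * n) [SMOD (I ^ n • ⊤ : Submodule R N)] := hf (hle n)
    have h2 : f (e * n) ≡ L [SMOD (I ^ n • ⊤ : Submodule R N)] := by
      have := hL n
      rw [← pow_mul] at this
      rw [SModEq.sub_mem] at this ⊢
      exact hmono (hle n) this
    exact h1.trans h2

end PowComplete

section Main

open IsLocalRing

variable (A B : Type*) [CommRing A] [IsDomain A] [IsDiscreteValuationRing A]
  [IsAdicComplete (maximalIdeal A) A]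
  [CommRing B] [IsDedekindDomain B] [Algebra A B] [Module.Finite A B] [Module.IsTorsionFree A B]

theorem isAdicComplete_map_maximalIdeal :
    IsAdicComplete ((maximalIdeal A).map (algebraMap A B)) B := by
  have hc1 : IsAdicComplete (maximalIdeal A) B :=
    Groth.Agent.H9.isAdicComplete_of_finite_projective _ B
  exact isAdicComplete_map _

theorem map_maximalIdeal_le (M : Ideal B) [hM : M.IsMaximal] :
    (maximalIdeal A).map (algebraMap A B) ≤ M := by
  have : Algebra.IsIntegral A B := Algebra.IsIntegral.of_finite A B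
  have h1 : (M.comap (algebraMap A B)).IsMaximal :=
    Ideal.isMaximal_comap_of_isIntegral_of_isMaximal M
  rw [Ideal.map_le_iff_le_comap, IsLocalRing.eq_maximalIdeal h1]

theorem map_maximalIdeal_ne_bot : (maximalIdeal A).map (algebraMap A B) ≠ ⊥ := by
  have hinj : Function.Injective (algebraMap A B) := FaithfulSMul.algebraMap_injective A B
  intro h
  rw [Ideal.map_eq_bot_iff_of_injective hinj] at h
  exact IsDiscreteValuationRing.not_a_field A h

end Main

section Main2

open IsLocalRing

theorem existsUnique_isMaximal (A B : Type*) [CommRing A] [IsDomain A] [IsDiscreteValuationRing A]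
    [IsAdicComplete (maximalIdeal A) A]
    [CommRing B] [IsDedekindDomain B] [Algebra A B] [Module.Finite A B]
    [Module.IsTorsionFree A B] : ∃! M : Ideal B, M.IsMaximal := by
  have hc := isAdicComplete_map_maximalIdeal A B
  set J := (maximalIdeal A).map (algebraMap A B) with hJdef
  have hJ0 : J ≠ ⊥ := map_maximalIdeal_ne_bot A B
  obtain ⟨M1, hM1⟩ := Ideal.exists_maximal B
  refine ⟨M1, hM1, fun M2 hM2 => ?_⟩
  by_contra hne
  have hJ1 : J ≤ M1 := map_maximalIdeal_le A B M1
  have hJ2 : J ≤ M2 := map_maximalIdeal_le A B M2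
  have hfin : FiniteMultiplicity M1 J :=
    FiniteMultiplicity.of_not_isUnit (by rw [Ideal.isUnit_iff]; exact hM1.ne_top) hJ0
  obtain ⟨J', hJ', hndvd⟩ := hfin.exists_eq_pow_mul_and_not_dvd
  set a := multiplicity M1 J
  have h1 : ¬ J' ≤ M1 := fun h => hndvd (Ideal.dvd_iff_le.mpr h)
  have ha : a ≠ 0 := by
    intro h0
    rw [h0, pow_zero, one_mul] at hJ'
    exact h1 (hJ' ▸ hJ1)
  have hcop : M1 ^ a ⊔ J' = ⊤ := by
    rw [← Ideal.isCoprime_iff_sup_eq]
    apply IsCoprime.pow_left
    rw [Ideal.isCoprime_iff_sup_eq]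
    by_contra hnt
    have := hM1.eq_of_le hnt le_sup_left
    exact h1 (this ▸ le_sup_right)
  obtain ⟨u, hu, w, hw, huw⟩ : ∃ u ∈ M1 ^ a, ∃ w ∈ J', u + w = 1 :=
    Submodule.mem_sup.mp (by rw [hcop]; trivial)
  have hx : w ^ 2 - w ∈ J := by
    have : w ^ 2 - w = -(u * w) := by
      have hu' : u = 1 - w := by rw [← huw]; ring
      rw [hu']; ring
    rw [this, hJ']
    exact neg_mem (Ideal.mul_mem_mul hu hw)
  obtain ⟨e, he, hex⟩ := exists_idempotent_lift J w hx
  have he01 : e = 0 ∨ e = 1 := by
    have : e * (e - 1) = 0 := by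
      have : e * (e - 1) = e ^ 2 - e := by ring
      rw [this, he, sub_self]
    rcases mul_eq_zero.mp this with h | h
    · exact Or.inl h
    · exact Or.inr (sub_eq_zero.mp h)
  rcases he01 with rfl | rfl
  · have hw1 : w ∈ M1 := by
      have := hJ1 hex
      rw [zero_sub] at this
      exact (neg_mem_iff (x := w)).mp this
    have hu1 : u ∈ M1 := Ideal.pow_le_self ha hu
    apply hM1.ne_top
    rw [Ideal.eq_top_iff_one, ← huw]
    exact M1.add_mem hu1 hw1
  · have hJ'2 : J' ≤ M2 := by
      have hle : M1 ^ a * J' ≤ M2 := hJ' ▸ hJ2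
      rcases (Ideal.IsPrime.mul_le hM2.isPrime).mp hle with h | h
      · exfalso
        have hp2 := hM2.isPrime
        have h3 : M1 ≤ M2 := Ideal.IsPrime.le_of_pow_le h
        exact hne (hM1.eq_of_le hM2.ne_top h3).symm
      · exact h
    have hw2 : w ∈ M2 := hJ'2 hw
    apply hM2.ne_top
    rw [Ideal.eq_top_iff_one]
    have : (1 : B) = (1 - w) + w := by ring
    rw [this]
    exact M2.add_mem (hJ2 hex) hw2

end Main2

section Norm

open IsLocalRing

variable (A : Type*) {B : Type*} [CommRing A] [IsDomain A] [IsDiscreteValuationRing A]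
  [IsAdicComplete (maximalIdeal A) A]
  [CommRing B] [IsDedekindDomain B] [Algebra A B] [Module.Finite A B] [Module.IsTorsionFree A B]
  (M : Ideal B) [hM : M.IsMaximal]

include hM A

theorem under_eq : M.under A = maximalIdeal A := by
  have : Algebra.IsIntegral A B := Algebra.IsIntegral.of_finite A B
  have h1 : (M.comap (algebraMap A B)).IsMaximal :=
    Ideal.isMaximal_comap_of_isIntegral_of_isMaximal M
  exact IsLocalRing.eq_maximalIdeal h1

theorem liesOver : M.LiesOver (maximalIdeal A) := ⟨(under_eq A M).symm⟩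

theorem eq_of_isMaximal (M' : Ideal B) (hM' : M'.IsMaximal) : M' = M := by
  obtain ⟨M0, _, hu⟩ := existsUnique_isMaximal A B
  rw [hu M' hM', hu M hM]

theorem le_of_ne_top (I : Ideal B) (hI : I ≠ ⊤) : I ≤ M := by
  obtain ⟨M', hM', hle⟩ := Ideal.exists_le_maximal I hI
  rwa [eq_of_isMaximal A M M' hM'] at hle

theorem eq_pow_multiplicity (I : Ideal B) (hI : I ≠ ⊥) : I = M ^ multiplicity M I := by
  have hfin : FiniteMultiplicity M I :=
    FiniteMultiplicity.of_not_isUnit (by rw [Ideal.isUnit_iff]; exact hM.ne_top) hI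
  obtain ⟨J', hJ', hndvd⟩ := hfin.exists_eq_pow_mul_and_not_dvd
  have h1 : ¬ J' ≤ M := fun h => hndvd (Ideal.dvd_iff_le.mpr h)
  have h2 : J' = ⊤ := by
    by_contra hne
    exact h1 (le_of_ne_top A M J' hne)
  rw [h2, Ideal.mul_top] at hJ'
  exact hJ'

theorem primesOver_eq : (maximalIdeal A).primesOver B = {M} := by
  ext Q
  simp only [Ideal.primesOver, Set.mem_setOf_eq, Set.mem_singleton_iff]
  constructor
  · rintro ⟨hQ, hQ2⟩
    have hQ0 : Q ≠ ⊥ := by
      rintro rfl
      have h1 := hQ2.over
      have hinj : Function.Injective (algebraMap A B) := FaithfulSMul.algebraMap_injective A B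
      rw [Ideal.under_def, Ideal.comap_bot_of_injective _ hinj] at h1
      exact IsDiscreteValuationRing.not_a_field A h1
    exact eq_of_isMaximal A M Q (hQ.isMaximal hQ0)
  · rintro rfl
    exact ⟨hM.isPrime, liesOver A Q⟩

theorem ramificationIdx_mul_inertiaDeg :
    M.ramificationIdx A * M.inertiaDeg A = Module.finrank A B := by
  classical
  have hfin : Finite ((maximalIdeal A).primesOver B) := by
    rw [primesOver_eq A M]
    exact Set.finite_singleton M
  have : Fintype ((maximalIdeal A).primesOver B) := Fintype.ofFinite _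
  have hmem : M ∈ (maximalIdeal A).primesOver B := by rw [primesOver_eq A M]; rfl
  have h := Ideal.sum_ramification_inertia_eq_finrank (maximalIdeal A) B
  rw [Finset.sum_eq_single_of_mem (⟨M, hmem⟩ : (maximalIdeal A).primesOver B)
    (Finset.mem_univ _) (fun b _ hb => by
      exfalso
      apply hb
      apply Subtype.ext
      have hb2 : (b : Ideal B) ∈ ({M} : Set (Ideal B)) := by
        rw [← primesOver_eq A M]
        exact b.2
      exact hb2)] at h
  exact h

theorem relNorm_eq : Ideal.relNorm A M = (maximalIdeal A) ^ (M.inertiaDeg A) := by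
  have hlo := liesOver A M
  obtain ⟨s, hs⟩ := Ideal.exists_relNorm_eq_pow_of_isPrime M (maximalIdeal A)
  have hJ0 := map_maximalIdeal_ne_bot A B
  have h1 : (maximalIdeal A).map (algebraMap A B) =
      M ^ multiplicity M ((maximalIdeal A).map (algebraMap A B)) :=
    eq_pow_multiplicity A M _ hJ0
  have h2 := Ideal.relNorm_algebraMap B (maximalIdeal A)
  have hp := hM.isPrime
  have he : M.ramificationIdx A = multiplicity M ((maximalIdeal A).map (algebraMap A B)) :=
    Ideal.IsDedekindDomain.ramificationIdx_eq_multiplicity (maximalIdeal A) M hJ0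
  rw [h1, map_pow, hs, ← pow_mul, ← he, ← ramificationIdx_mul_inertiaDeg A M] at h2
  have hm0 : maximalIdeal A ≠ ⊥ := IsDiscreteValuationRing.not_a_field A
  have hinj := (IsLeftCancelMulZero.mul_left_cancel_of_ne_zero hm0).pow_injective (by
    rw [Ideal.one_eq_top]
    exact Ideal.IsMaximal.ne_top inferInstance)
  have h3 := hinj h2
  have hepos : 0 < M.ramificationIdx A := Ideal.ramificationIdx_pos M A
  have h4 : s = M.inertiaDeg A := by
    rw [mul_comm] at h3
    exact Nat.eq_of_mul_eq_mul_left hepos h3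
  rw [hs, h4]

theorem emultiplicity_intNorm (x : B) (hx : x ≠ 0) :
    emultiplicity (maximalIdeal A) (Ideal.span {Algebra.intNorm A B x}) =
      (M.inertiaDeg A : ℕ∞) * emultiplicity M (Ideal.span {x}) := by
  have hx0 : Ideal.span {x} ≠ ⊥ := by
    rw [Ne, Ideal.span_singleton_eq_bot]
    exact hx
  have h1 := eq_pow_multiplicity A M _ hx0
  set w := multiplicity M (Ideal.span {x})
  have h2 : Ideal.span {Algebra.intNorm A B x} = (maximalIdeal A) ^ (M.inertiaDeg A * w) := by
    rw [← Ideal.relNorm_singleton, h1, map_pow, relNorm_eq A M, ← pow_mul]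
  have hm0 : maximalIdeal A ≠ ⊥ := IsDiscreteValuationRing.not_a_field A
  have hmu : ¬ IsUnit (maximalIdeal A) := by
    rw [Ideal.isUnit_iff]
    exact Ideal.IsMaximal.ne_top inferInstance
  have hM0 : M ≠ ⊥ := by
    rintro rfl
    apply hx0
    rw [h1]
    by_cases hw : w = 0
    · exfalso
      rw [hw, pow_zero, Ideal.one_eq_top] at h1
      have : x ∈ (⊥ : Ideal B) → False := fun h => hx ((Submodule.mem_bot B).mp h)
      have hxu : IsUnit x := Ideal.span_singleton_eq_top.mp h1
      -- ⊥ maximal means B is a field; then map of maximal ideal would be ⊤ or ⊥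
      have hJle := map_maximalIdeal_le A B (⊥ : Ideal B)
      exact map_maximalIdeal_ne_bot A B (le_bot_iff.mp hJle)
    · exact zero_pow hw
  have hMu : ¬ IsUnit M := by
    rw [Ideal.isUnit_iff]
    exact hM.ne_top
  rw [h2, emultiplicity_pow_self hm0 hmu]
  conv_rhs => rw [h1, emultiplicity_pow_self hM0 hMu]
  push_cast
  rfl

theorem ramificationIdx_ne_zero : M.ramificationIdx A ≠ 0 :=
  have := hM.isPrime
  (Ideal.ramificationIdx_pos M A).ne'

theorem map_maximalIdeal_eq_pow :
    (maximalIdeal A).map (algebraMap A B) = M ^ (M.ramificationIdx A) := by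
  have hJ0 := map_maximalIdeal_ne_bot A B
  have hlo := liesOver A M
  have hp := hM.isPrime
  have he : M.ramificationIdx A = multiplicity M ((maximalIdeal A).map (algebraMap A B)) :=
    Ideal.IsDedekindDomain.ramificationIdx_eq_multiplicity (maximalIdeal A) M hJ0
  rw [he]
  exact eq_pow_multiplicity A M _ hJ0

theorem isAdicComplete_isMaximal : IsAdicComplete M B := by
  have h1 := isAdicComplete_map_maximalIdeal A B
  rw [map_maximalIdeal_eq_pow A M] at h1
  exact isAdicComplete_of_pow M _ (ramificationIdx_ne_zero A M)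

theorem isUnit_of_notMem {x : B} (hx : x ∉ M) : IsUnit x := by
  by_contra hu
  obtain ⟨M', hM', hxM'⟩ := exists_max_ideal_of_mem_nonunits hu
  rw [eq_of_isMaximal A M M' hM'] at hxM'
  exact hx hxM'

end Norm

section Teich

open IsLocalRing

variable (K A : Type*) {B : Type*} [Field K] [PerfectField K]
  [CommRing A] [IsDomain A] [IsDiscreteValuationRing A]
  [IsAdicComplete (maximalIdeal A) A]
  [Algebra K A]
  [CommRing B] [IsDedekindDomain B] [Algebra A B] [Module.Finite A B] [Module.IsTorsionFree A B]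
  [Algebra K B] [IsScalarTower K A B]

theorem existsUnique_algebraic_lift
    (hK : Function.Bijective ((IsLocalRing.residue A).comp (algebraMap K A)))
    (M : Ideal B) [hM : M.IsMaximal] (b : B) :
    ∃! c : B, IsAlgebraic K c ∧ b - c ∈ M := by
  classical
  have hcomp := isAdicComplete_isMaximal A M
  have hHens : HenselianRing B M := inferInstance
  let F := B ⧸ M
  let _ : Field F := Ideal.Quotient.field M
  -- the retraction A → K
  let eK : K ≃+* ResidueField A := RingEquiv.ofBijective _ hK
  let σ : A →+* K := (eK.symm : ResidueField A →+* K).comp (IsLocalRing.residue A)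
  have hσ : ∀ a : A, a - algebraMap K A (σ a) ∈ maximalIdeal A := by
    intro a
    rw [← Ideal.Quotient.eq_zero_iff_mem]
    change IsLocalRing.residue A (a - algebraMap K A (σ a)) = 0
    rw [map_sub, sub_eq_zero]
    have : IsLocalRing.residue A (algebraMap K A (σ a)) = eK (σ a) := rfl
    rw [this]
    simp [σ]
  have hhom : ((Ideal.Quotient.mk M).comp (algebraMap K B)).comp σ =
      (Ideal.Quotient.mk M).comp (algebraMap A B) := by
    ext a
    simp only [RingHom.comp_apply]
    rw [eq_comm, Ideal.Quotient.mk_eq_mk_iff_sub_mem, IsScalarTower.algebraMap_apply K A B,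
      ← map_sub]
    exact map_maximalIdeal_le A B M (Ideal.mem_map_of_mem _ (hσ a))
  -- b̄ is integral over K
  let φ : K →+* F := (Ideal.Quotient.mk M).comp (algebraMap K B)
  have hint : ∃ q : Polynomial K, q.Monic ∧ Polynomial.eval₂ φ (Ideal.Quotient.mk M b) q = 0 := by
    obtain ⟨p, hp1, hp2⟩ := Algebra.IsIntegral.isIntegral (R := A) b
    refine ⟨p.map σ, hp1.map σ, ?_⟩
    rw [Polynomial.eval₂_map, hhom, ← Polynomial.hom_eval₂, hp2, map_zero]
  obtain ⟨q, hq1, hq2⟩ := hint
  -- a separable polynomial killing b̄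
  obtain ⟨g, hg1, hg2, hg3⟩ : ∃ g : Polynomial K, g.Monic ∧ g.Separable ∧
      Polynomial.eval₂ φ (Ideal.Quotient.mk M b) g = 0 := by
    let _ : Algebra K F := φ.toAlgebra
    have hint' : IsIntegral K (Ideal.Quotient.mk M b : F) := ⟨q, hq1, hq2⟩
    refine ⟨minpoly K (Ideal.Quotient.mk M b : F), minpoly.monic hint',
      PerfectField.separable_of_irreducible (minpoly.irreducible hint'), ?_⟩
    exact minpoly.aeval K (Ideal.Quotient.mk M b : F)
  -- Hensel
  let G : Polynomial B := g.map (algebraMap K B)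
  have hG1 : G.Monic := hg1.map _
  have hG2 : G.eval b ∈ M := by
    rw [← Ideal.Quotient.eq_zero_iff_mem, Polynomial.eval_map, Polynomial.hom_eval₂]
    exact hg3
  have hG3 : IsUnit (Ideal.Quotient.mk M (G.derivative.eval b)) := by
    rw [isUnit_iff_ne_zero]
    rw [Polynomial.derivative_map, Polynomial.eval_map, Polynomial.hom_eval₂]
    exact hg2.eval₂_derivative_ne_zero φ hg3
  obtain ⟨c, hc1, hc2⟩ := HenselianRing.is_henselian G hG1 b hG2 hG3
  have hcalg : IsAlgebraic K c := by
    refine ⟨g, hg1.ne_zero, ?_⟩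
    rw [Polynomial.aeval_def, ← Polynomial.eval_map]
    exact hc1
  refine ⟨c, ⟨hcalg, ?_⟩, ?_⟩
  · have : b - c = -(c - b) := by ring
    rw [this]
    exact M.neg_mem hc2
  · rintro c' ⟨hc'alg, hc'⟩
    by_contra hne
    have hd : c' - c ≠ 0 := sub_ne_zero.mpr hne
    have hdalg : IsAlgebraic K (c' - c) := hc'alg.sub hcalg
    have hu : IsUnit (c' - c) := hdalg.isIntegral.isUnit hd
    have hmem : c' - c ∈ M := by
      have : c' - c = (b - c) - (b - c') := by ring
      rw [this]
      exact M.sub_mem (by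
        have : b - c = -(c - b) := by ring
        rw [this]
        exact M.neg_mem hc2) hc'
    exact hM.ne_top (Ideal.eq_top_of_isUnit_mem _ hmem hu)

end Teich

section Tame

open IsLocalRing Polynomial

variable (A : Type*) {B : Type*}
  [CommRing A] [IsDomain A] [IsDiscreteValuationRing A]
  [IsAdicComplete (maximalIdeal A) A]
  [CommRing B] [IsDedekindDomain B] [Algebra A B] [Module.Finite A B] [Module.IsTorsionFree A B]

/-- if the inertia degree is one, residues lift to `A` -/
theorem exists_sub_mem_of_inertiaDeg_eq_one (M : Ideal B) [hM : M.IsMaximal]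
    (hf : M.inertiaDeg A = 1) (y : B) : ∃ a : A, y - algebraMap A B a ∈ M := by
  have hlo := liesOver A M
  let _ : Field (A ⧸ maximalIdeal A) := Ideal.Quotient.field _
  let _ : Field (B ⧸ M) := Ideal.Quotient.field M
  have h1 : Module.finrank (A ⧸ maximalIdeal A) (B ⧸ M) = 1 := by
    rw [← Ideal.inertiaDeg_eq_of_isMaximal (maximalIdeal A) M]
    exact hf
  have h2 : (⊥ : Subalgebra (A ⧸ maximalIdeal A) (B ⧸ M)) = ⊤ :=
    Subalgebra.bot_eq_top_of_finrank_eq_one h1
  have h3 : Ideal.Quotient.mk M y ∈ (⊥ : Subalgebra (A ⧸ maximalIdeal A) (B ⧸ M)) := by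
    rw [h2]; trivial
  rw [Algebra.mem_bot] at h3
  obtain ⟨abar, ha⟩ := h3
  obtain ⟨a, rfl⟩ := Ideal.Quotient.mk_surjective abar
  refine ⟨a, ?_⟩
  rw [← Ideal.Quotient.mk_eq_mk_iff_sub_mem, ← ha]
  rfl

theorem exists_tame_uniformizer (M : Ideal B) [hM : M.IsMaximal]
    (hram : M.ramificationIdx A = Module.finrank A B)
    (hm : IsUnit ((Module.finrank A B : ℕ) : A)) :
    ∃ u : B, u ∈ M ∧ u ∉ M ^ 2 ∧ u ^ Module.finrank A B ∈ (algebraMap A B).range ∧
      (minpoly A u).natDegree = Module.finrank A B := by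
  classical
  set n := Module.finrank A B with hn
  have hn0 : n ≠ 0 := hram ▸ ramificationIdx_ne_zero A M
  have hf : M.inertiaDeg A = 1 := by
    have h1 := ramificationIdx_mul_inertiaDeg A M
    rw [hram] at h1
    exact Nat.eq_of_mul_eq_mul_left (Nat.pos_of_ne_zero hn0) (by rw [h1, mul_one])
  have hcomp := isAdicComplete_isMaximal A M
  have hHens : HenselianRing B M := inferInstance
  have hinj : Function.Injective (algebraMap A B) := FaithfulSMul.algebraMap_injective A B
  -- uniformizers
  obtain ⟨π, hπ⟩ := IsDiscreteValuationRing.exists_irreducible A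
  have hmπ : maximalIdeal A = Ideal.span {π} := hπ.maximalIdeal_eq
  have hM0 : M ≠ ⊥ := by
    rintro rfl
    have hJle := map_maximalIdeal_le A B (⊥ : Ideal B)
    exact map_maximalIdeal_ne_bot A B (le_bot_iff.mp hJle)
  obtain ⟨pB, hpB1, hpB2⟩ := Ideal.exists_mem_pow_notMem_pow_succ M hM0 hM.ne_top 1
  rw [pow_one] at hpB1
  have hpB0 : pB ≠ 0 := by
    rintro rfl
    exact hpB2 (zero_mem _)
  have hspanpB : Ideal.span {pB} = M := by
    have hx0 : Ideal.span {pB} ≠ ⊥ := by
      rw [Ne, Ideal.span_singleton_eq_bot]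
      exact hpB0
    have h1 := eq_pow_multiplicity A M _ hx0
    set w := multiplicity M (Ideal.span {pB})
    have hw1 : w ≠ 0 := by
      intro h0
      rw [h0, pow_zero, Ideal.one_eq_top, Ideal.span_singleton_eq_top] at h1
      exact hM.ne_top (Ideal.eq_top_of_isUnit_mem _ hpB1 h1)
    have hw2 : w < 2 := by
      by_contra h2
      push Not at h2
      apply hpB2
      have : pB ∈ M ^ w := h1 ▸ Ideal.mem_span_singleton_self pB
      exact Ideal.pow_le_pow_right h2 this
    have : w = 1 := by omega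
    rw [h1, this, pow_one]
  -- pB^n = π w
  have hpow : Ideal.span {pB ^ n} = Ideal.span {algebraMap A B π} := by
    rw [← Ideal.span_singleton_pow, hspanpB, ← hram, ← map_maximalIdeal_eq_pow A M, hmπ,
      Ideal.map_span, Set.image_singleton]
  rw [Ideal.span_singleton_eq_span_singleton] at hpow
  obtain ⟨wu, hwu⟩ := hpow.symm
  -- hwu : algebraMap π * wu = pB^n
  obtain ⟨w₀, hw₀⟩ := exists_sub_mem_of_inertiaDeg_eq_one A M hf (wu : B)
  have hw₀u : IsUnit w₀ := by
    by_contra hnu
    have h1 : w₀ ∈ maximalIdeal A := (IsLocalRing.mem_maximalIdeal w₀).mpr hnu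
    have h2 : algebraMap A B w₀ ∈ M := map_maximalIdeal_le A B M (Ideal.mem_map_of_mem _ h1)
    have h3 : (wu : B) ∈ M := by
      have : (wu : B) = ((wu : B) - algebraMap A B w₀) + algebraMap A B w₀ := by ring
      rw [this]
      exact M.add_mem hw₀ h2
    exact hM.ne_top (Ideal.eq_top_of_isUnit_mem _ h3 wu.isUnit)
  obtain ⟨w₀u, rfl⟩ := hw₀u
  -- r = wu / w₀
  let r : B := (wu : B) * algebraMap A B ((w₀u⁻¹ : Aˣ) : A)
  have hr1 : r - 1 ∈ M := by
    have : r - 1 = ((wu : B) - algebraMap A B (w₀u : A)) * algebraMap A B ((w₀u⁻¹ : Aˣ) : A) := by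
      simp only [r, sub_mul, ← map_mul, Units.mul_inv, map_one]
    rw [this]
    exact M.mul_mem_right _ hw₀
  -- Hensel for X^n - r
  have hmonic : (X ^ n - C r : B[X]).Monic := monic_X_pow_sub_C r hn0
  have h1 : (X ^ n - C r : B[X]).eval 1 ∈ M := by
    simp only [eval_sub, eval_pow, eval_X, one_pow, eval_C]
    have : 1 - r = -(r - 1) := by ring
    rw [this]
    exact M.neg_mem hr1
  have h2 : IsUnit (Ideal.Quotient.mk M ((X ^ n - C r : B[X]).derivative.eval 1)) := by
    have e1 : (X ^ n - C r : B[X]).derivative.eval 1 = algebraMap A B (n : A) := by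
      simp [derivative_X_pow]
    rw [e1]
    exact (hm.map (algebraMap A B)).map (Ideal.Quotient.mk M)
  obtain ⟨t, ht1, ht2⟩ := HenselianRing.is_henselian (X ^ n - C r : B[X]) hmonic 1 h1 h2
  have htn : t ^ n = r := by
    have : t ^ n - r = 0 := by simpa [IsRoot] using ht1
    exact sub_eq_zero.mp this
  have htu : IsUnit t := by
    apply isUnit_of_notMem A M
    intro htM
    apply hM.ne_top
    rw [Ideal.eq_top_iff_one]
    have : (1 : B) = t - (t - 1) := by ring
    rw [this]
    exact M.sub_mem htM ht2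
  obtain ⟨tu, rfl⟩ := htu
  -- the uniformizer
  let u : B := pB * ((tu⁻¹ : Bˣ) : B)
  have hun : u ^ n = algebraMap A B (π * (w₀u : A)) := by
    have e1 : ((tu⁻¹ : Bˣ) : B) ^ n * r = 1 := by
      rw [← htn, ← mul_pow, Units.inv_mul, one_pow]
    have e2 : r * algebraMap A B (w₀u : A) = (wu : B) := by
      simp only [r, mul_assoc, ← map_mul, Units.inv_mul, map_one, mul_one]
    calc u ^ n = pB ^ n * ((tu⁻¹ : Bˣ) : B) ^ n := by rw [mul_pow]
      _ = algebraMap A B π * (wu : B) * ((tu⁻¹ : Bˣ) : B) ^ n := by rw [hwu]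
      _ = algebraMap A B π * (r * algebraMap A B (w₀u : A)) * ((tu⁻¹ : Bˣ) : B) ^ n := by rw [e2]
      _ = algebraMap A B π * algebraMap A B (w₀u : A) * (((tu⁻¹ : Bˣ) : B) ^ n * r) := by ring
      _ = algebraMap A B (π * (w₀u : A)) := by rw [e1, mul_one, map_mul]
  have huM : u ∈ M := M.mul_mem_right _ hpB1
  have huM2 : u ∉ M ^ 2 := by
    intro h
    apply hpB2
    have : pB = u * (tu : B) := by
      simp only [u, mul_assoc, Units.inv_mul, mul_one]
    rw [this]
    exact Ideal.mul_mem_right _ _ h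
  refine ⟨u, huM, huM2, ⟨π * (w₀u : A), hun.symm⟩, ?_⟩
  -- minimal polynomial via Eisenstein
  let f : A[X] := X ^ n - C (π * (w₀u : A))
  have hfmonic : f.Monic := monic_X_pow_sub_C _ hn0
  have hfdeg : f.natDegree = n := natDegree_X_pow_sub_C
  have hπm : π * (w₀u : A) ∈ maximalIdeal A := by
    rw [hmπ]
    exact Ideal.mul_mem_right _ _ (Ideal.mem_span_singleton_self π)
  have hπm2 : π * (w₀u : A) ∉ maximalIdeal A ^ 2 := by
    rw [hmπ, Ideal.span_singleton_pow, Ideal.mem_span_singleton]
    rintro ⟨c, hc⟩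
    have hπ0 : π ≠ 0 := hπ.ne_zero
    have : (w₀u : A) = π * c := by
      apply mul_left_cancel₀ hπ0
      rw [hc]; ring
    have hu : IsUnit (π * c) := this ▸ w₀u.isUnit
    exact hπ.not_isUnit (isUnit_of_mul_isUnit_left hu)
  have hEis : f.IsEisensteinAt (maximalIdeal A) := by
    refine ⟨?_, ?_, ?_⟩
    · rw [hfmonic.leadingCoeff]
      exact fun h => (Ideal.IsMaximal.ne_top inferInstance) ((Ideal.eq_top_iff_one _).mpr h)
    · intro k hk
      rw [hfdeg] at hk
      simp only [f, coeff_sub, coeff_X_pow, coeff_C]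
      rw [if_neg (ne_of_lt hk)]
      by_cases hk0 : k = 0
      · rw [if_pos hk0, zero_sub]
        exact neg_mem hπm
      · rw [if_neg hk0, sub_zero]
        exact zero_mem _
    · simp only [f, coeff_sub, coeff_X_pow, coeff_C, if_pos rfl]
      rw [if_neg (Ne.symm hn0), zero_sub, neg_mem_iff]
      exact hπm2
  have hirr : Irreducible f :=
    hEis.irreducible (Ideal.IsMaximal.isPrime inferInstance) hfmonic.isPrimitive
      (by rw [hfdeg]; exact Nat.pos_of_ne_zero hn0)
  have hint : IsIntegral A u := Algebra.IsIntegral.isIntegral u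
  have hroot : aeval u f = 0 := by
    simp only [f, map_sub, map_pow, aeval_X, aeval_C]
    rw [hun, sub_self]
  have hdvd : minpoly A u ∣ f := minpoly.isIntegrallyClosed_dvd hint hroot
  have hassoc : Associated (minpoly A u) f :=
    ((hirr.dvd_iff.mp hdvd).resolve_left (minpoly.not_isUnit A u)).symm
  rw [eq_of_monic_of_associated (minpoly.monic hint) hfmonic hassoc, hfdeg]

end Tame

end Groth.Agent.H9.CDVR
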