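import Groth.Prelude.Def_W4c5qllcourbesmultMultCrv
import Mathlib.RingTheory.AdjoinRoot
import Mathlib.LinearAlgebra.FreeModule.PID
import Mathlib.RingTheory.DiscreteValuationRing.Basic
import Mathlib.RingTheory.Noetherian.Basic

/-! Helper lemmas for modules over `R[X]/(X^n)` (namespace `MultCrv` of the prelude), helper9. -/

set_option autoImplicit false

namespace Groth.Agent.H9

open Polynomial

universe u v

variable (R : Type u) [CommRing R] (n : ℕ)

theorem multCrv_z_pow_n : MultCrv.z R n ^ n = 0 := by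
  rw [MultCrv.z, ← map_pow, Ideal.Quotient.eq_zero_iff_mem]
  exact Ideal.subset_span rfl

theorem multCrv_finite_Rn : Module.Finite R (MultCrv.Rn R n) :=
  (Polynomial.monic_X_pow n).finite_adjoinRoot

variable {R n}
variable {M : Type v} [AddCommGroup M] [Module (MultCrv.Rn R n) M]

/-- Every nonzero element has a nonzero `z`-power multiple killed by `z`. -/
theorem multCrv_exists_socle {x : M} (hx : x ≠ 0) :
    ∃ j : ℕ, MultCrv.z R n ^ j • x ≠ 0 ∧ MultCrv.z R n • (MultCrv.z R n ^ j • x) = 0 := by
  classical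
  have hex : ∃ k : ℕ, MultCrv.z R n ^ k • x = 0 :=
    ⟨n, by rw [multCrv_z_pow_n]; exact zero_smul (MultCrv.Rn R n) x⟩
  have hk0 : Nat.find hex ≠ 0 := by
    intro h0
    have := Nat.find_spec hex
    rw [h0, pow_zero, one_smul] at this
    exact hx this
  obtain ⟨j, hj⟩ := Nat.exists_eq_succ_of_ne_zero hk0
  refine ⟨j, Nat.find_min hex (by omega), ?_⟩
  rw [smul_smul, ← pow_succ', ← Nat.succ_eq_add_one, ← hj]
  exact Nat.find_spec hex

theorem multCrv_finite_R [Module R M] [IsScalarTower R (MultCrv.Rn R n) M]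
    [Module.Finite (MultCrv.Rn R n) M] : Module.Finite R M :=
  haveI := multCrv_finite_Rn R n
  Module.Finite.trans (MultCrv.Rn R n) M

end Groth.Agent.H9
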