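import Mathlib
import Groth.Prelude.Def_W4c5qllcourbesmultMultCrv
import Groth.Agent.Lib.Helper9.MultCrv

/-!
# The Frobenius form on `A = R[X]/(X^(k+1))` and the identification `Hom_A(M, A) = Hom_R(M, R)`
-/

set_option autoImplicit false

namespace Groth.Agent.H9.MC

open Polynomial MultCrv

universe u v w

variable (R : Type u) [CommRing R] (n : ℕ)

/-- The `i`-th coefficient, as an `R`-linear form on `R[X]/(X^n)` (for `i < n`). -/
noncomputable def coeffR (i : ℕ) (hi : i < n) : Rn R n →ₗ[R] R :=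
  (Submodule.liftQ ((Ideal.span {(X : R[X]) ^ n}).restrictScalars R) (lcoeff R i) (by
    intro p hp
    rw [Submodule.restrictScalars_mem, Ideal.mem_span_singleton] at hp
    rw [LinearMap.mem_ker, lcoeff_apply]
    exact (Polynomial.X_pow_dvd_iff.1 hp) i hi)) ∘ₗ
  (Submodule.Quotient.restrictScalarsEquiv R (Ideal.span {(X : R[X]) ^ n})).symm.toLinearMap

@[simp]
theorem coeffR_mk (i : ℕ) (hi : i < n) (p : R[X]) :
    coeffR R n i hi (Ideal.Quotient.mk (Ideal.span {(X : R[X]) ^ n}) p) = p.coeff i := by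
  rfl

theorem z_pow_eq (j : ℕ) : z R n ^ j = Ideal.Quotient.mk (Ideal.span {(X : R[X]) ^ n}) (X ^ j) := by
  rw [z, map_pow]

theorem smul_mk (r : R) (p : R[X]) :
    r • (Ideal.Quotient.mk (Ideal.span {(X : R[X]) ^ n}) p) =
      Ideal.Quotient.mk (Ideal.span {(X : R[X]) ^ n}) (C r * p) := by
  rw [← smul_eq_C_mul]
  rfl

theorem mk_eq_sum (p : R[X]) :
    Ideal.Quotient.mk (Ideal.span {(X : R[X]) ^ n}) p =
      ∑ i ∈ Finset.range n, p.coeff i • z R n ^ i := by
  have h1 : ∑ i ∈ Finset.range n, p.coeff i • z R n ^ i =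
      Ideal.Quotient.mk (Ideal.span {(X : R[X]) ^ n})
        (∑ i ∈ Finset.range n, C (p.coeff i) * X ^ i) := by
    rw [map_sum]
    refine Finset.sum_congr rfl fun i _ => ?_
    rw [z_pow_eq, smul_mk]
  rw [h1, Ideal.Quotient.eq, Ideal.mem_span_singleton, Polynomial.X_pow_dvd_iff]
  intro d hd
  rw [coeff_sub, finsetSum_coeff]
  simp only [coeff_C_mul, coeff_X_pow]
  rw [Finset.sum_eq_single d]
  · simp
  · intro b _ hbd
    simp [hbd.symm]
  · intro h
    exact absurd (Finset.mem_range.2 hd) h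


variable (k : ℕ)

/-- The Frobenius form `τ` on `A = R[X]/(X^(k+1))`: the coefficient of `z^k`. -/
noncomputable def tau : Rn R (k + 1) →ₗ[R] R := coeffR R (k + 1) k (Nat.lt_succ_self k)

theorem tau_z_pow_mul_mk (j : ℕ) (p : R[X]) :
    tau R k (z R (k + 1) ^ j * Ideal.Quotient.mk _ p) = if j ≤ k then p.coeff (k - j) else 0 := by
  rw [z_pow_eq, ← map_mul, tau, coeffR_mk, coeff_X_pow_mul']

/-- Expansion of an element of `A` through the Frobenius form. -/
theorem eq_sum_tau (a : Rn R (k + 1)) :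
    a = ∑ p ∈ Finset.HasAntidiagonal.antidiagonal k, tau R k (z R (k + 1) ^ p.2 * a) • z R (k + 1) ^ p.1 := by
  obtain ⟨q, rfl⟩ := Ideal.Quotient.mk_surjective a
  rw [Finset.Nat.sum_antidiagonal_eq_sum_range_succ_mk]
  conv_lhs => rw [mk_eq_sum R (k + 1) q]
  refine Finset.sum_congr rfl fun i hi => ?_
  have hik : i ≤ k := Nat.lt_succ_iff.1 (Finset.mem_range.1 hi)
  rw [tau_z_pow_mul_mk, if_pos (Nat.sub_le k i), Nat.sub_sub_self hik]

section Module

variable {R}
variable {M : Type v} [AddCommGroup M] [Module (Rn R (k + 1)) M] [Module R M]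
  [IsScalarTower R (Rn R (k + 1)) M]
variable {N : Type w} [AddCommGroup N] [Module (Rn R (k + 1)) N] [Module R N]
  [IsScalarTower R (Rn R (k + 1)) N]

/-- An `R`-linear map commuting with `z` is `A`-linear. -/
theorem map_smul_of_comm_z (f : M →ₗ[R] N) (hz : ∀ m, f (z R (k + 1) • m) = z R (k + 1) • f m)
    (a : Rn R (k + 1)) (m : M) : f (a • m) = a • f m := by
  have hzj : ∀ (j : ℕ) (m : M), f (z R (k + 1) ^ j • m) = z R (k + 1) ^ j • f m := by
    intro j
    induction j with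
    | zero => intro m; simp
    | succ j ih => intro m; rw [pow_succ (z R (k + 1)) j, mul_smul, ih, hz, ← mul_smul]
  obtain ⟨q, rfl⟩ := Ideal.Quotient.mk_surjective a
  rw [mk_eq_sum R (k + 1) q, Finset.sum_smul, Finset.sum_smul, map_sum]
  refine Finset.sum_congr rfl fun i _ => ?_
  rw [smul_assoc, smul_assoc, map_smul, hzj]

/-- Upgrade an `R`-linear map commuting with `z` to an `A`-linear map. -/
noncomputable def ofCommZ (f : M →ₗ[R] N) (hz : ∀ m, f (z R (k + 1) • m) = z R (k + 1) • f m) :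
    M →ₗ[Rn R (k + 1)] N where
  toFun := f
  map_add' := f.map_add
  map_smul' a m := map_smul_of_comm_z k f hz a m

@[simp] theorem ofCommZ_apply (f : M →ₗ[R] N)
    (hz : ∀ m, f (z R (k + 1) • m) = z R (k + 1) • f m) (m : M) : ofCommZ k f hz m = f m := rfl

/-- The `R`-linear map `m ↦ ∑_{i+j=k} ψ(z^j m) z^i`. -/
noncomputable def toDualR (ψ : M →ₗ[R] R) : M →ₗ[R] Rn R (k + 1) :=
  ∑ p ∈ Finset.HasAntidiagonal.antidiagonal k,
    (LinearMap.toSpanSingleton R (Rn R (k + 1)) (z R (k + 1) ^ p.1)) ∘ₗ ψ ∘ₗ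
      ((LinearMap.lsmul (Rn R (k + 1)) M (z R (k + 1) ^ p.2)).restrictScalars R)

theorem toDualR_apply (ψ : M →ₗ[R] R) (m : M) :
    toDualR k ψ m =
      ∑ p ∈ Finset.HasAntidiagonal.antidiagonal k, ψ (z R (k + 1) ^ p.2 • m) • z R (k + 1) ^ p.1 := by
  simp [toDualR, LinearMap.sum_apply]

theorem toDualR_z (ψ : M →ₗ[R] R) (m : M) :
    toDualR k ψ (z R (k + 1) • m) = z R (k + 1) • toDualR k ψ m := by
  have hzero : z R (k + 1) ^ (k + 1) = 0 := multCrv_z_pow_n R (k + 1)
  -- both sides equal the sum over the antidiagonal of `k + 1`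
  have h1 : ∑ p ∈ Finset.HasAntidiagonal.antidiagonal (k + 1),
      ψ (z R (k + 1) ^ p.2 • m) • z R (k + 1) ^ p.1 = toDualR k ψ (z R (k + 1) • m) := by
    rw [Finset.Nat.sum_antidiagonal_succ', toDualR_apply]
    simp only [hzero, smul_zero, zero_add]
    refine Finset.sum_congr rfl fun p _ => ?_
    rw [← mul_smul, ← pow_succ (z R (k + 1)) p.2]
  have h2 : ∑ p ∈ Finset.HasAntidiagonal.antidiagonal (k + 1),
      ψ (z R (k + 1) ^ p.2 • m) • z R (k + 1) ^ p.1 = z R (k + 1) • toDualR k ψ m := by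
    rw [Finset.Nat.sum_antidiagonal_succ, toDualR_apply, Finset.smul_sum]
    simp only [hzero]
    have e00 : (0 : Rn R (k + 1)) • m = 0 := zero_smul (Rn R (k + 1)) m
    rw [e00, map_zero, zero_smul, zero_add]
    refine Finset.sum_congr rfl fun p _ => ?_
    rw [smul_comm, smul_eq_mul, ← pow_succ' (z R (k + 1)) p.1]
  rw [← h1, ← h2]

/-- The `A`-linear form attached to an `R`-linear form. -/
noncomputable def toDualA (ψ : M →ₗ[R] R) : M →ₗ[Rn R (k + 1)] Rn R (k + 1) :=
  ofCommZ k (toDualR k ψ) (toDualR_z k ψ)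

theorem toDualA_apply (ψ : M →ₗ[R] R) (m : M) :
    toDualA k ψ m =
      ∑ p ∈ Finset.HasAntidiagonal.antidiagonal k, ψ (z R (k + 1) ^ p.2 • m) • z R (k + 1) ^ p.1 :=
  toDualR_apply k ψ m

/-- `toDualA (τ ∘ φ) = φ`. -/
theorem toDualA_tau_comp (φ : M →ₗ[Rn R (k + 1)] Rn R (k + 1)) :
    toDualA k ((tau R k) ∘ₗ (φ.restrictScalars R)) = φ := by
  ext m
  rw [toDualA_apply]
  conv_rhs => rw [eq_sum_tau R k (φ m)]
  refine Finset.sum_congr rfl fun p _ => ?_
  simp only [LinearMap.coe_comp, LinearMap.coe_restrictScalars, Function.comp_apply, map_smul,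
    smul_eq_mul]

end Module

end Groth.Agent.H9.MC

namespace Groth.Agent.H9.MC

open Polynomial MultCrv

universe u v w

variable {R : Type u} [CommRing R] (k : ℕ)

theorem tau_z_pow (i : ℕ) : tau R k (z R (k + 1) ^ i) = if k = i then 1 else 0 := by
  rw [z_pow_eq, tau, coeffR_mk, coeff_X_pow]

section Module

variable {M : Type v} [AddCommGroup M] [Module (Rn R (k + 1)) M] [Module R M]
  [IsScalarTower R (Rn R (k + 1)) M]

/-- `τ ∘ toDualA ψ = ψ`. -/
theorem tau_toDualA (ψ : M →ₗ[R] R) (m : M) : tau R k (toDualA k ψ m) = ψ m := by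
  rw [toDualA_apply, map_sum]
  rw [Finset.sum_eq_single (k, 0)]
  · rw [map_smul, tau_z_pow, if_pos rfl, pow_zero, one_smul, smul_eq_mul, mul_one]
  · intro p hp hne
    rw [map_smul, tau_z_pow, if_neg, smul_zero]
    intro h
    apply hne
    have := Finset.HasAntidiagonal.mem_antidiagonal.1 hp
    ext
    · exact h.symm
    · simp only; omega
  · intro h
    exact absurd (Finset.HasAntidiagonal.mem_antidiagonal.2 (by simp)) h

variable {M' : Type w} [AddCommGroup M'] [Module (Rn R (k + 1)) M'] [Module R M']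
  [IsScalarTower R (Rn R (k + 1)) M']

/-- Precomposition with an `A`-linear map. -/
theorem toDualA_comp (ψ : M →ₗ[R] R) (f : M' →ₗ[Rn R (k + 1)] M) :
    (toDualA k ψ) ∘ₗ f = toDualA k (ψ ∘ₗ (f.restrictScalars R)) := by
  ext m
  simp only [LinearMap.coe_comp, Function.comp_apply, toDualA_apply, LinearMap.coe_restrictScalars,
    map_smul]

end Module

end Groth.Agent.H9.MC
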