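import Mathlib
import Groth.Prelude.Def_W4c5qllcourbesmultMultCrv
import Groth.Agent.Lib.Helper9.MultCrvFrob

/-!
# Extension of `A`-linear forms and `Ext` over `A = R[X]/(X^(k+1))`
-/

set_option autoImplicit false

namespace Groth.Agent.H9.MC

open Polynomial MultCrv

universe u v w

variable {R : Type u} [CommRing R] (k : ℕ)

/-- Extension of `A`-linear forms along an injection with `R`-projective cokernel. -/
theorem exists_extension {M' : Type v} {M : Type v} {M'' : Type v}
    [AddCommGroup M'] [Module (Rn R (k + 1)) M']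
    [AddCommGroup M] [Module (Rn R (k + 1)) M] [Module R M] [IsScalarTower R (Rn R (k + 1)) M]
    [AddCommGroup M''] [Module (Rn R (k + 1)) M''] [Module R M'']
    [IsScalarTower R (Rn R (k + 1)) M''] [Module.Projective R M'']
    (f : M' →ₗ[Rn R (k + 1)] M) (g : M →ₗ[Rn R (k + 1)] M'')
    (hf : Function.Injective f) (hg : Function.Surjective g)
    (hfg : LinearMap.range f = LinearMap.ker g)
    (φ' : M' →ₗ[Rn R (k + 1)] Rn R (k + 1)) :
    ∃ φ : M →ₗ[Rn R (k + 1)] Rn R (k + 1), φ ∘ₗ f = φ' := by
  let _ : Module R M' := Module.compHom M' (algebraMap R (Rn R (k + 1)))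
  have : IsScalarTower R (Rn R (k + 1)) M' :=
    IsScalarTower.of_algebraMap_smul (R := R) (A := Rn R (k + 1)) (M := M') (fun r m => rfl)
  -- an `R`-linear section of `g`
  obtain ⟨s, hs⟩ := Module.projective_lifting_property (g.restrictScalars R) LinearMap.id hg
  have hs' : ∀ x, g (s x) = x := fun x => LinearMap.congr_fun hs x
  -- the `R`-linear retraction of `f`
  let fR : M' →ₗ[R] M := f.restrictScalars R
  let e : M' ≃ₗ[R] LinearMap.range fR := LinearEquiv.ofInjective fR hf
  have hmem : ∀ m : M, m - s (g m) ∈ LinearMap.range fR := by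
    intro m
    have h1 : m - s (g m) ∈ LinearMap.ker g := by
      rw [LinearMap.mem_ker, map_sub, hs', sub_self]
    rw [← hfg] at h1
    obtain ⟨x, hx⟩ := h1
    exact ⟨x, hx⟩
  let ρ : M →ₗ[R] M' := e.symm.toLinearMap ∘ₗ
    (LinearMap.codRestrict (LinearMap.range fR) (LinearMap.id - s ∘ₗ (g.restrictScalars R))
      (fun m => hmem m))
  have hρ : ∀ x : M', ρ (f x) = x := by
    intro x
    have h0 : g (f x) = 0 := by
      have : f x ∈ LinearMap.ker g := by rw [← hfg]; exact ⟨x, rfl⟩
      exact this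
    apply e.injective
    apply Subtype.ext
    simp only [ρ, LinearMap.coe_comp, LinearEquiv.coe_coe, Function.comp_apply,
      LinearEquiv.apply_symm_apply, LinearMap.codRestrict_apply, LinearMap.sub_apply,
      LinearMap.id_coe, id_eq, LinearMap.coe_restrictScalars, h0, map_zero, sub_zero]
    rfl
  refine ⟨toDualA k ((tau R k ∘ₗ φ'.restrictScalars R) ∘ₗ ρ), ?_⟩
  rw [toDualA_comp]
  have : ((tau R k ∘ₗ φ'.restrictScalars R) ∘ₗ ρ) ∘ₗ (f.restrictScalars R) =
      tau R k ∘ₗ φ'.restrictScalars R := by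
    ext x
    simp only [LinearMap.coe_comp, LinearMap.coe_restrictScalars, Function.comp_apply, hρ]
  rw [this, toDualA_tau_comp]

end Groth.Agent.H9.MC

namespace Groth.Agent.H9.MC

open Polynomial MultCrv CategoryTheory CategoryTheory.Abelian

universe u

section General

variable {A : Type u} [CommRing A]
variable {F M : Type u} [AddCommGroup F] [Module A F] [AddCommGroup M] [Module A M]

/-- The short complex `0 → ker π → F → M → 0`. -/
noncomputable abbrev kerSC (π : F →ₗ[A] M) : ShortComplex (ModuleCat.{u} A) :=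
  ShortComplex.mk (ModuleCat.ofHom (LinearMap.ker π).subtype) (ModuleCat.ofHom π) (by
    rw [← ModuleCat.ofHom_comp]
    have : π ∘ₗ (LinearMap.ker π).subtype = 0 := by
      ext x
      exact x.2
    rw [this]
    rfl)

theorem kerSC_shortExact (π : F →ₗ[A] M) (hπ : Function.Surjective π) :
    (kerSC π).ShortExact := by
  refine ModuleCat.shortComplex_shortExact _ ?_ Subtype.val_injective hπ
  intro y
  change π y = 0 ↔ y ∈ Set.range (LinearMap.ker π).subtype
  rw [← LinearMap.mem_ker]
  constructor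
  · intro h; exact ⟨⟨y, h⟩, rfl⟩
  · rintro ⟨x, rfl⟩; exact x.2

/-- Dimension shifting along a projective cover. -/
theorem exists_extClass_comp (π : F →ₗ[A] M) (hπ : Function.Surjective π)
    [Module.Projective A F] (N : ModuleCat.{u} A) (i : ℕ)
    (x : Ext (ModuleCat.of A M) N (i + 1)) :
    ∃ y : Ext (ModuleCat.of A (LinearMap.ker π)) N i,
      (kerSC_shortExact π hπ).extClass.comp y (add_comm 1 i) = x := by
  haveI : Projective (kerSC π).X₂ :=
    (IsProjective.iff_projective (R := A) F).mp inferInstance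
  have h1 : (Ext.mk₀ (kerSC π).g).comp x (zero_add (i + 1)) = 0 := Ext.eq_zero_of_projective _
  exact Ext.contravariant_sequence_exact₃ (kerSC_shortExact π hπ) N x h1 (add_comm 1 i)

/-- The action of a scalar on `Ext`, written on the source. -/
theorem smul_eq_mk₀_comp {X Y : ModuleCat.{u} A} {i : ℕ} (a : A) (x : Ext X Y i) :
    a • x = (Ext.mk₀ (a • 𝟙 X)).comp x (zero_add i) := by
  rw [Ext.mk₀_smul, Ext.smul_comp, Ext.mk₀_id_comp]

/-- If multiplication by `a` on `M` factors through a projective module, then `a` kills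
`Ext^i(M, N)` for `i ≥ 1`. -/
theorem smul_ext_eq_zero_of_factors (a : A) {P : Type u} [AddCommGroup P] [Module A P]
    [Module.Projective A P] (μ : M →ₗ[A] P) (ν : P →ₗ[A] M)
    (h : ∀ m, ν (μ m) = a • m) (N : ModuleCat.{u} A) (i : ℕ)
    (x : Ext (ModuleCat.of A M) N (i + 1)) : a • x = 0 := by
  haveI : Projective (ModuleCat.of A P) :=
    (IsProjective.iff_projective (R := A) P).mp inferInstance
  have h1 : a • 𝟙 (ModuleCat.of A M) = ModuleCat.ofHom μ ≫ ModuleCat.ofHom ν := by
    apply ModuleCat.hom_ext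
    ext m
    simp only [ModuleCat.hom_comp, ModuleCat.hom_ofHom, LinearMap.coe_comp, Function.comp_apply, h]
    rfl
  rw [smul_eq_mk₀_comp, h1, ← Ext.mk₀_comp_mk₀, Ext.comp_assoc_of_second_deg_zero]
  have h2 : (Ext.mk₀ (ModuleCat.ofHom ν)).comp x (zero_add (i + 1)) = 0 :=
    Ext.eq_zero_of_projective _
  rw [h2, Ext.comp_zero]

end General

end Groth.Agent.H9.MC

namespace Groth.Agent.H9.MC

open Polynomial MultCrv CategoryTheory CategoryTheory.Abelian

universe u

section DVR

variable {R : Type u} [CommRing R]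

instance free_Rn (n : ℕ) : Module.Free R (Rn R n) :=
  (Polynomial.monic_X_pow n).free_adjoinRoot

instance finite_Rn (n : ℕ) : Module.Finite R (Rn R n) := multCrv_finite_Rn R n

variable [IsDomain R] [IsDiscreteValuationRing R] (k : ℕ)

/-- The kernel of a map from a finite free `A`-module is `R`-torsion-free. -/
instance isTorsionFree_ker {r : ℕ} {M : Type u} [AddCommGroup M] [Module (Rn R (k + 1)) M]
    (π : (Fin r → Rn R (k + 1)) →ₗ[Rn R (k + 1)] M) :
    Module.IsTorsionFree R (LinearMap.ker π) :=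
  Function.Injective.moduleIsTorsionFree (fun x : LinearMap.ker π => (x : Fin r → Rn R (k + 1)))
    Subtype.val_injective (fun _ _ => rfl)

instance finite_ker {r : ℕ} {M : Type u} [AddCommGroup M] [Module (Rn R (k + 1)) M]
    (π : (Fin r → Rn R (k + 1)) →ₗ[Rn R (k + 1)] M) :
    Module.Finite (Rn R (k + 1)) (LinearMap.ker π) :=
  Module.IsNoetherian.finite _ _

/-- `Ext^i_A(M, A) = 0` for `i ≥ 1` and `M` finitely generated, `R`-torsion-free. -/
theorem ext_subsingleton_of_torsionFree (i : ℕ) :
    ∀ (M : Type u) [AddCommGroup M] [Module (Rn R (k + 1)) M] [Module R M]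
      [IsScalarTower R (Rn R (k + 1)) M] [Module.Finite (Rn R (k + 1)) M]
      [Module.IsTorsionFree R M],
      Subsingleton (Ext (ModuleCat.of (Rn R (k + 1)) M)
        (ModuleCat.of (Rn R (k + 1)) (Rn R (k + 1))) (i + 1)) := by
  induction i with
  | zero =>
    intro M _ _ _ _ _ _
    obtain ⟨r, π, hπ⟩ := Module.Finite.exists_fin' (Rn R (k + 1)) M
    refine subsingleton_of_forall_eq 0 fun x => ?_
    obtain ⟨y, rfl⟩ := exists_extClass_comp π hπ _ 0 x
    obtain ⟨φ, rfl⟩ := (Ext.mk₀_bijective _ _).2 y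
    haveI : Module.Finite R M := multCrv_finite_R (R := R) (n := k + 1)
    haveI : Module.Free R M := Module.free_of_finite_type_torsion_free'
    obtain ⟨Φ, hΦ⟩ := exists_extension k (LinearMap.ker π).subtype π Subtype.val_injective hπ
      (Submodule.range_subtype _) φ.hom
    have h2 : φ = (kerSC π).f ≫ ModuleCat.ofHom Φ := by
      apply ModuleCat.hom_ext
      rw [ModuleCat.hom_comp, ModuleCat.hom_ofHom]
      exact hΦ.symm
    rw [h2, ← Ext.mk₀_comp_mk₀]
    exact (kerSC_shortExact π hπ).extClass_comp_assoc _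
  | succ i ih =>
    intro M _ _ _ _ _ _
    obtain ⟨r, π, hπ⟩ := Module.Finite.exists_fin' (Rn R (k + 1)) M
    refine subsingleton_of_forall_eq 0 fun x => ?_
    obtain ⟨y, rfl⟩ := exists_extClass_comp π hπ _ (i + 1) x
    haveI := ih (LinearMap.ker π)
    rw [Subsingleton.elim y 0]
    exact Ext.comp_zero _ _ _ _ _

/-- `Ext^i_A(M, A) = 0` for `i ≥ 2` and `M` finitely generated. -/
theorem ext_subsingleton_of_two_le (i : ℕ) (M : Type u) [AddCommGroup M]
    [Module (Rn R (k + 1)) M] [Module.Finite (Rn R (k + 1)) M] :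
    Subsingleton (Ext (ModuleCat.of (Rn R (k + 1)) M)
      (ModuleCat.of (Rn R (k + 1)) (Rn R (k + 1))) (i + 2)) := by
  obtain ⟨r, π, hπ⟩ := Module.Finite.exists_fin' (Rn R (k + 1)) M
  refine subsingleton_of_forall_eq 0 fun x => ?_
  obtain ⟨y, rfl⟩ := exists_extClass_comp π hπ _ (i + 1) x
  haveI := ext_subsingleton_of_torsionFree (R := R) k i (LinearMap.ker π)
  rw [Subsingleton.elim y 0]
  exact Ext.comp_zero _ _ _ _ _

end DVR

end Groth.Agent.H9.MC
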