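import Mathlib

/-!
# Étale coordinates at a smooth point with prescribed residues (helper9)
-/

open KaehlerDifferential TensorProduct MvPolynomial

namespace Groth.Agent.H9.EtaleCoord

universe u


theorem formallyEtale_of_bijective_mapBaseChange (R S T : Type u) [CommRing R] [CommRing S] [CommRing T]
    [Algebra R S] [Algebra R T] [Algebra S T] [IsScalarTower R S T]
    [Subsingleton (Algebra.H1Cotangent R T)]
    (h : Function.Bijective (KaehlerDifferential.mapBaseChange R S T)) :
    Algebra.FormallyEtale S T := by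
  constructor
  · -- Ω[T/S] = 0
    have hex := KaehlerDifferential.exact_mapBaseChange_map R S T
    have hsurj := KaehlerDifferential.map_surjective R S T
    refine ⟨fun a b => ?_⟩
    obtain ⟨a', rfl⟩ := hsurj a
    obtain ⟨b', rfl⟩ := hsurj b
    have ha : KaehlerDifferential.map R S T T a' = 0 := (hex a').2 (h.2 a')
    have hb : KaehlerDifferential.map R S T T b' = 0 := (hex b').2 (h.2 b')
    rw [ha, hb]
  · have h1 := Algebra.H1Cotangent.exact_map_δ R S T
    have h2 := Algebra.H1Cotangent.exact_δ_mapBaseChange R S T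
    have hδ0 : ∀ x, Algebra.H1Cotangent.δ R S T x = 0 := by
      intro x
      apply h.1
      rw [map_zero]
      exact (h2 _).2 ⟨x, rfl⟩
    refine ⟨fun a b => ?_⟩
    have ha : a ∈ Set.range (Algebra.H1Cotangent.map R S T T) := (h1 a).1 (hδ0 a)
    have hb : b ∈ Set.range (Algebra.H1Cotangent.map R S T T) := (h1 b).1 (hδ0 b)
    obtain ⟨a', rfl⟩ := ha
    obtain ⟨b', rfl⟩ := hb
    rw [Subsingleton.elim a' b']



theorem bijective_mapBaseChange_of_basis (k : Type u) (d : ℕ) (T : Type u) [CommRing k] [CommRing T]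
    [Algebra k T] [Algebra (MvPolynomial (Fin d) k) T] [IsScalarTower k (MvPolynomial (Fin d) k) T]
    (hb : Function.Bijective (Finsupp.linearCombination T
      (fun i : Fin d => D k T (algebraMap (MvPolynomial (Fin d) k) T (X i))))) :
    Function.Bijective (KaehlerDifferential.mapBaseChange k (MvPolynomial (Fin d) k) T) := by
  let b₁ := (KaehlerDifferential.mvPolynomialBasis k (Fin d)).baseChange T
  have hcomp : (KaehlerDifferential.mapBaseChange k (MvPolynomial (Fin d) k) T) =
      (Finsupp.linearCombination T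
        (fun i : Fin d => D k T (algebraMap (MvPolynomial (Fin d) k) T (X i)))) ∘ₗ
        b₁.repr.toLinearMap := by
    apply b₁.ext
    intro i
    rw [LinearMap.comp_apply, LinearEquiv.coe_coe, b₁.repr_self, Finsupp.linearCombination_single,
      one_smul]
    simp [b₁, KaehlerDifferential.mvPolynomialBasis_apply]
  rw [hcomp]
  exact hb.comp b₁.repr.bijective



theorem finrank_residueField_tensor (k R : Type u) [CommRing k] [CommRing R] [Algebra k R]
    (m : Ideal R) [m.IsMaximal] :
    Module.finrank m.ResidueField (m.ResidueField ⊗[Localization.AtPrime m] Ω[Localization.AtPrime m⁄k]) =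
      Module.finrank (R ⧸ m) ((R ⧸ m) ⊗[R] Ω[R⁄k]) := by
  set T := Localization.AtPrime m
  set K := m.ResidueField
  have : Algebra.FormallyEtale R T := Algebra.FormallyEtale.of_isLocalization (Rₘ := T) m.primeCompl
  let e₁ : T ⊗[R] Ω[R⁄k] ≃ₗ[T] Ω[T⁄k] := tensorKaehlerEquivOfFormallyEtale k R T
  let e₂ : K ⊗[T] (T ⊗[R] Ω[R⁄k]) ≃ₗ[K] K ⊗[T] Ω[T⁄k] := LinearEquiv.baseChange T K _ _ e₁
  let e₃ : K ⊗[T] (T ⊗[R] Ω[R⁄k]) ≃ₗ[K] K ⊗[R] Ω[R⁄k] :=
    AlgebraTensorModule.cancelBaseChange R T K K Ω[R⁄k]
  let e₄ : K ⊗[R ⧸ m] ((R ⧸ m) ⊗[R] Ω[R⁄k]) ≃ₗ[K] K ⊗[R] Ω[R⁄k] :=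
    AlgebraTensorModule.cancelBaseChange R (R ⧸ m) K K Ω[R⁄k]
  let := Ideal.Quotient.field m
  rw [← e₂.finrank_eq, e₃.finrank_eq, ← e₄.finrank_eq, Module.finrank_baseChange]



theorem exists_coords (k R : Type u) [CommRing k] [CommRing R] [Algebra k R]
    (m : Ideal R) [m.IsMaximal] (d : ℕ)
    [Module.Finite (Localization.AtPrime m) Ω[Localization.AtPrime m⁄k]]
    (hdim : Module.finrank m.ResidueField
      (m.ResidueField ⊗[Localization.AtPrime m] Ω[Localization.AtPrime m⁄k]) = d) :
    ∃ x : Fin d → R, Function.Bijective (Finsupp.linearCombination m.ResidueField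
      (fun i => (1 : m.ResidueField) ⊗ₜ[Localization.AtPrime m]
        D k (Localization.AtPrime m) (algebraMap R (Localization.AtPrime m) (x i)))) := by
  set T := Localization.AtPrime m
  set K := m.ResidueField
  set V := K ⊗[T] Ω[T⁄k]
  let g : R → V := fun r => (1 : K) ⊗ₜ[T] D k T (algebraMap R T r)
  -- the differentials span
  have hspanT : Submodule.span T (Set.range (KaehlerDifferential.map k k R T ∘ D k R)) = ⊤ :=
    span_range_map_derivation_of_isLocalization k R T m.primeCompl
  have hspan : Submodule.span K (Set.range g) = ⊤ := by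
    have h1 : (Submodule.span T (Set.range (KaehlerDifferential.map k k R T ∘ D k R))).map
        (TensorProduct.mk T K Ω[T⁄k] 1) = ⊤ := by
      rw [IsLocalRing.map_tensorProduct_mk_eq_top]
      exact hspanT
    rw [Submodule.map_span, ← Set.range_comp] at h1
    have h2 : (⇑(TensorProduct.mk T K Ω[T⁄k] 1) ∘ (KaehlerDifferential.map k k R T ∘ D k R)) = g := by
      funext r
      simp [g]
    rw [h2] at h1
    rw [← Submodule.restrictScalars_eq_top_iff (R := K) (S := T), eq_top_iff, ← h1]
    apply Submodule.span_le_restrictScalars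
  obtain ⟨b, hbt, hbspan, hbli⟩ := exists_linearIndependent K (Set.range g)
  rw [hspan] at hbspan
  let B : Module.Basis b K V := Module.Basis.mk hbli (by rw [Subtype.range_coe_subtype, Set.ofPred_mem_eq, hbspan])
  have hfin : Finite b := Module.Finite.finite_basis B
  have hcard : Nat.card b = d := by
    rw [← hdim, Module.finrank_eq_nat_card_basis B]
  let e : b ≃ Fin d := Finite.equivFinOfCardEq hcard
  have hx : ∀ i : Fin d, ∃ r : R, g r = (e.symm i : V) := fun i => hbt (e.symm i).2
  choose x hx using hx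
  refine ⟨x, ?_⟩
  let B' : Module.Basis (Fin d) K V := B.reindex e
  have hB' : (fun i => (1 : K) ⊗ₜ[T] D k T (algebraMap R T (x i))) = ⇑B' := by
    funext i
    rw [Module.Basis.reindex_apply]
    simp only [B, Module.Basis.mk_apply]
    exact hx i
  rw [hB']
  have : ⇑(Finsupp.linearCombination K ⇑B') = ⇑B'.repr.symm := by
    funext v
    rw [Module.Basis.repr_symm_apply]
  rw [this]
  exact B'.repr.symm.bijective



theorem isEtaleAt_of_coords (k R : Type u) [CommRing k] [CommRing R] [Algebra k R]
    (m : Ideal R) [m.IsMaximal] [Algebra.IsSmoothAt k m] (d : ℕ)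
    [Algebra (MvPolynomial (Fin d) k) R] [IsScalarTower k (MvPolynomial (Fin d) k) R]
    [Module.Finite (Localization.AtPrime m) Ω[Localization.AtPrime m⁄k]]
    (hx : Function.Bijective (Finsupp.linearCombination m.ResidueField
      (fun i : Fin d => (1 : m.ResidueField) ⊗ₜ[Localization.AtPrime m]
        D k (Localization.AtPrime m) (algebraMap R (Localization.AtPrime m)
          (algebraMap (MvPolynomial (Fin d) k) R (X i)))))) :
    Algebra.IsEtaleAt (MvPolynomial (Fin d) k) m := by
  set T := Localization.AtPrime m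
  have hT : Algebra.FormallySmooth k T := ‹Algebra.IsSmoothAt k m›
  have hbij := Module.IsLocalRing.linearCombination_bijective_of_flat (R := T) (M := Ω[T⁄k])
    (fun i : Fin d => D k T (algebraMap R T (algebraMap (MvPolynomial (Fin d) k) R (X i)))) hx
  have hbij' : Function.Bijective (Finsupp.linearCombination T
      (fun i : Fin d => D k T (algebraMap (MvPolynomial (Fin d) k) T (X i)))) := by
    have hfun : (fun i : Fin d => D k T (algebraMap (MvPolynomial (Fin d) k) T (X i))) =
        fun i => D k T (algebraMap R T (algebraMap (MvPolynomial (Fin d) k) R (X i))) := by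
      funext i
      rw [IsScalarTower.algebraMap_apply (MvPolynomial (Fin d) k) R T]
    rw [hfun]
    exact hbij
  have := bijective_mapBaseChange_of_basis k d T hbij'
  exact formallyEtale_of_bijective_mapBaseChange k (MvPolynomial (Fin d) k) T this



theorem tmul_D_pow_eq_zero (k R : Type u) [CommRing k] [CommRing R] [Algebra k R]
    (m : Ideal R) [m.IsMaximal] (p : ℕ) (hp : (p : R) ∈ m) (c : R) :
    (1 : m.ResidueField) ⊗ₜ[Localization.AtPrime m]
      D k (Localization.AtPrime m) (algebraMap R (Localization.AtPrime m) (c ^ p)) = 0 := by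
  set T := Localization.AtPrime m
  set K := m.ResidueField
  rw [map_pow, Derivation.leibniz_pow, ← Nat.cast_smul_eq_nsmul T, ← TensorProduct.smul_tmul]
  have h0 : ((p : ℕ) : T) • (1 : K) = 0 := by
    rw [Algebra.smul_def, mul_one, map_natCast]
    have := (Ideal.algebraMap_residueField_eq_zero (I := m) (x := (p : R))).2 hp
    rwa [map_natCast] at this
  rw [h0, zero_tmul]



theorem finite_quotient (k R : Type u) [CommRing k] [IsLocalRing k]
    [Finite (IsLocalRing.ResidueField k)] [CommRing R] [Algebra k R] [Algebra.FiniteType k R]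
    (m : Ideal R) [m.IsMaximal] (hm : m.comap (algebraMap k R) = IsLocalRing.maximalIdeal k) :
    Finite (R ⧸ m) := by
  have : m.LiesOver (IsLocalRing.maximalIdeal k) := ⟨hm.symm⟩
  let := Ideal.Quotient.field m
  let : Field (k ⧸ IsLocalRing.maximalIdeal k) := Ideal.Quotient.field _
  have h1 : Algebra.FiniteType (k ⧸ IsLocalRing.maximalIdeal k) (R ⧸ m) :=
    Algebra.FiniteType.of_restrictScalars_finiteType k _ _
  have h2 : Module.Finite (k ⧸ IsLocalRing.maximalIdeal k) (R ⧸ m) :=
    finite_of_finite_type_of_isJacobsonRing _ _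
  have h3 : Finite (k ⧸ IsLocalRing.maximalIdeal k) := ‹Finite (IsLocalRing.ResidueField k)›
  exact Module.finite_of_finite (k ⧸ IsLocalRing.maximalIdeal k)



theorem surjective_quotient_away (R : Type u) [CommRing R] (m : Ideal R) [m.IsMaximal]
    (g : R) (hg : g ∉ m) :
    Function.Surjective ((Ideal.Quotient.mk (m.map (algebraMap R (Localization.Away g)))).comp
      (algebraMap R (Localization.Away g))) := by
  set ψ := (Ideal.Quotient.mk (m.map (algebraMap R (Localization.Away g)))).comp
      (algebraMap R (Localization.Away g)) with hψ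
  obtain ⟨h, i, hi, hgh⟩ := Ideal.IsMaximal.exists_inv ‹m.IsMaximal› hg
  have hψi : ψ i = 0 := by
    rw [hψ, RingHom.comp_apply, Ideal.Quotient.eq_zero_iff_mem]
    exact Ideal.mem_map_of_mem _ hi
  have hunit : ψ h * ψ g = 1 := by
    have := congrArg ψ hgh
    rw [map_add, map_mul, hψi, add_zero, map_one] at this
    exact this
  intro y
  obtain ⟨z, rfl⟩ := Ideal.Quotient.mk_surjective y
  obtain ⟨⟨a, s⟩, hz⟩ := IsLocalization.surj (Submonoid.powers g) z
  obtain ⟨n, hn⟩ := s.2
  simp only at hz
  rw [← hn] at hz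
  refine ⟨a * h ^ n, ?_⟩
  have h1 : Ideal.Quotient.mk (m.map (algebraMap R (Localization.Away g))) z * ψ g ^ n = ψ a := by
    rw [hψ, RingHom.comp_apply, RingHom.comp_apply, ← map_pow, ← map_mul, ← map_pow, hz]
  calc ψ (a * h ^ n) = ψ a * ψ h ^ n := by rw [map_mul, map_pow]
    _ = Ideal.Quotient.mk _ z * (ψ h * ψ g) ^ n := by rw [← h1, mul_pow]; ring
    _ = Ideal.Quotient.mk _ z := by rw [hunit, one_pow, mul_one]



theorem main (k : Type u) [CommRing k] [IsLocalRing k] [Finite (IsLocalRing.ResidueField k)]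
    (R : Type u) [CommRing R] [Algebra k R] [Algebra.FinitePresentation k R]
    (m : Ideal R) [m.IsMaximal] (hm : m.comap (algebraMap k R) = IsLocalRing.maximalIdeal k)
    [Algebra.IsSmoothAt k m] (d : ℕ) (hd : 0 < d)
    (hdim : Module.finrank (R ⧸ m) ((R ⧸ m) ⊗[R] KaehlerDifferential k R) = d) :
    ∃ g : R, g ∉ m ∧ ∃ φ : MvPolynomial (Fin d) k →ₐ[k] Localization.Away g,
      φ.toRingHom.Etale ∧
      Function.Surjective
        ((Ideal.Quotient.mk (m.map (algebraMap R (Localization.Away g)))).comp φ.toRingHom) := by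
  have hT : Algebra.FormallySmooth k (Localization.AtPrime m) := ‹Algebra.IsSmoothAt k m›
  have hfin : Module.Finite (Localization.AtPrime m) Ω[Localization.AtPrime m⁄k] := inferInstance
  have hdimT := (finrank_residueField_tensor k R m).trans hdim
  obtain ⟨x₀, hx₀⟩ := exists_coords k R m d hdimT
  -- finite residue field
  have hFin : Finite (R ⧸ m) := finite_quotient k R m hm
  let _ := Ideal.Quotient.field m
  let _ := Fintype.ofFinite (R ⧸ m)
  -- generator
  obtain ⟨θ, hθ⟩ := IsCyclic.exists_generator (α := (R ⧸ m)ˣ)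
  -- characteristic
  obtain ⟨p, hp⟩ := CharP.exists (R ⧸ m)
  have hpp : p.Prime := by
    rcases CharP.char_is_prime_or_zero (R ⧸ m) p with h | h
    · exact h
    · exfalso
      subst h
      have := CharP.charP_to_charZero (R ⧸ m)
      exact not_finite (R ⧸ m)
  have : Fact p.Prime := ⟨hpp⟩
  have hpm : (p : R) ∈ m := by
    rw [← Ideal.Quotient.eq_zero_iff_mem, map_natCast]
    exact CharP.cast_eq_zero _ _
  -- p-th root
  let i₀ : Fin d := ⟨0, hd⟩
  obtain ⟨cb, hcb⟩ := surjective_frobenius (R ⧸ m) p
    (((θ : (R ⧸ m)ˣ) : R ⧸ m) - Ideal.Quotient.mk m (x₀ i₀))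
  obtain ⟨c, rfl⟩ := Ideal.Quotient.mk_surjective cb
  rw [frobenius_def] at hcb
  let x : Fin d → R := Function.update x₀ i₀ (x₀ i₀ + c ^ p)
  have hxi₀ : Ideal.Quotient.mk m (x i₀) = ((θ : (R ⧸ m)ˣ) : R ⧸ m) := by
    simp only [x, Function.update_self, map_add, map_pow, hcb]
    ring
  have hx : (fun i => (1 : m.ResidueField) ⊗ₜ[Localization.AtPrime m]
        D k (Localization.AtPrime m) (algebraMap R (Localization.AtPrime m) (x i))) =
      fun i => (1 : m.ResidueField) ⊗ₜ[Localization.AtPrime m]
        D k (Localization.AtPrime m) (algebraMap R (Localization.AtPrime m) (x₀ i)) := by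
    funext i
    by_cases hi : i = i₀
    · subst hi
      simp only [x, Function.update_self]
      rw [map_add, map_add, tmul_add, tmul_D_pow_eq_zero k R m p hpm c, add_zero]
    · simp only [x, Function.update_of_ne hi]
  -- algebra structure
  let φ₀ : MvPolynomial (Fin d) k →ₐ[k] R := MvPolynomial.aeval x
  algebraize [φ₀.toRingHom]
  have htower : IsScalarTower k (MvPolynomial (Fin d) k) R :=
    IsScalarTower.of_algebraMap_eq' φ₀.comp_algebraMap.symm
  have hX : ∀ i, algebraMap (MvPolynomial (Fin d) k) R (X i) = x i := fun i => by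
    show φ₀ (X i) = x i
    simp [φ₀]
  have hEt : Algebra.IsEtaleAt (MvPolynomial (Fin d) k) m := by
    apply isEtaleAt_of_coords k R m d
    simp only [hX]
    rw [hx]
    exact hx₀
  have hfp : Algebra.FinitePresentation (MvPolynomial (Fin d) k) R :=
    Algebra.FinitePresentation.of_restrict_scalars_finitePresentation k _ _
  obtain ⟨g, hg, hEtg⟩ := Algebra.exists_etale_of_isEtaleAt (R := MvPolynomial (Fin d) k) m
  refine ⟨g, hg, IsScalarTower.toAlgHom k (MvPolynomial (Fin d) k) (Localization.Away g), ?_, ?_⟩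
  · exact RingHom.etale_algebraMap.2 hEtg
  · intro y
    obtain ⟨r, rfl⟩ := surjective_quotient_away R m g hg y
    have hker : ∀ a : R, a ∈ m → ((Ideal.Quotient.mk (m.map (algebraMap R (Localization.Away g)))).comp
        (algebraMap R (Localization.Away g))) a = 0 := by
      intro a ha
      rw [RingHom.comp_apply, Ideal.Quotient.eq_zero_iff_mem]
      exact Ideal.mem_map_of_mem _ ha
    have hφ : ∀ f : MvPolynomial (Fin d) k,
        ((Ideal.Quotient.mk (m.map (algebraMap R (Localization.Away g)))).comp
          (IsScalarTower.toAlgHom k (MvPolynomial (Fin d) k) (Localization.Away g)).toRingHom) f =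
        ((Ideal.Quotient.mk (m.map (algebraMap R (Localization.Away g)))).comp
          (algebraMap R (Localization.Away g))) (algebraMap (MvPolynomial (Fin d) k) R f) := by
      intro f
      simp only [RingHom.comp_apply]
      congr 1
    by_cases hr : Ideal.Quotient.mk m r = 0
    · refine ⟨0, ?_⟩
      rw [map_zero, hker r (Ideal.Quotient.eq_zero_iff_mem.1 hr)]
    · have hmem := hθ (Units.mk0 _ hr)
      rw [← (isOfFinOrder_of_finite θ).mem_powers_iff_mem_zpowers] at hmem
      obtain ⟨n, hn⟩ := hmem
      refine ⟨X i₀ ^ n, ?_⟩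
      rw [hφ, map_pow, hX]
      have hdiff : x i₀ ^ n - r ∈ m := by
        rw [← Ideal.Quotient.eq_zero_iff_mem, map_sub, map_pow, hxi₀]
        have := congrArg (fun u : (R ⧸ m)ˣ => (u : R ⧸ m)) hn
        simp only [Units.val_pow_eq_pow_val, Units.val_mk0] at this
        rw [this, sub_self]
      have := hker _ hdiff
      rw [map_sub, sub_eq_zero] at this
      exact this

end Groth.Agent.H9.EtaleCoord
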