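import Mathlib
import Groth.Agent.Lib.Helper9.ComodReynolds

/-!
# Reynolds operators preserve subcomodules (helper9)
-/

set_option autoImplicit false

universe u v w w'

open TensorProduct

namespace Groth.Agent.H9.Comod

section

variable {k : Type u} [Field k] {A : Type v} [Ring A] [Bialgebra k A]
  {V : Type w} [AddCommGroup V] [Module k V] [HopfRep.Comod k A V]

/-- A Reynolds operator of a semisimple comodule preserves every subcomodule. -/
theorem reynolds_mem_of_isSubcomod (hV : HopfRep.IsSemisimpleComod k A V)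
    (E : V →ₗ[k] V) (hE₁ : Hoch.IsComodHom A E) (hE₂ : E ∘ₗ E = E)
    (hE₃ : ∀ x : V, E x = x ↔ x ∈ HopfRep.fixedPts k A V)
    (K : Submodule k V) (hK : HopfRep.IsSubcomod (k := k) (A := A) K) {x : V} (hx : x ∈ K) :
    E x ∈ K := by
  letI := ComodSub.Comod.restr (inferInstance : HopfRep.Comod k A V) K hK
  have hsub : Hoch.IsComodHom A K.subtype := ComodSub.isComodHom_subtype inferInstance K hK
  have hKs : HopfRep.IsSemisimpleComod k A K :=
    isSemisimpleComod_of_injective hsub K.injective_subtype hV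
  obtain ⟨E', hE'₁, hE'₂, hE'₃⟩ := exists_reynolds hKs
  have := reynolds_comm hKs E' hE'₁ hE'₂ hE'₃ E hE₁ hE₂ hE₃ K.subtype hsub
  have h := LinearMap.congr_fun this ⟨x, hx⟩
  simp only [LinearMap.comp_apply, Submodule.subtype_apply] at h
  rw [h]
  exact (E' _).2

/-- the image of a Reynolds operator consists of invariants -/
lemma reynolds_mem_fixedPts (E : V →ₗ[k] V) (hE₂ : E ∘ₗ E = E)
    (hE₃ : ∀ x : V, E x = x ↔ x ∈ HopfRep.fixedPts k A V) (x : V) :
    E x ∈ HopfRep.fixedPts k A V :=
  (hE₃ _).mp (LinearMap.congr_fun hE₂ x)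

end

end Groth.Agent.H9.Comod
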