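import Mathlib
import Groth.Prelude.Def_W4c1tameactTame
import Groth.Prelude.Def_GLin
import Groth.Agent.Lib.Helper9.Comod
import Groth.Agent.Lib.Helper9.HopfAntipode

/-!
# Total integrals and the Reynolds operator (helper9)
-/

set_option autoImplicit false
set_option linter.style.haveILetI false

universe u v w w' w''

open TensorProduct

namespace Groth.Agent.H9.Tame

open Groth.Agent.H9.Comod

section Act

variable {k : Type u} [CommRing k] {A : Type v} [CommRing A] [Bialgebra k A]
  {B : Type w} [CommRing B] [Algebra k B]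
  {M : Type w'} [AddCommGroup M] [Module k M] [Module B M] [IsScalarTower k B M]

variable (M) in
/-- `m ⊗ a ↦ β a • m` -/
noncomputable def act (β : A →ₗ[k] B) : M ⊗[k] A →ₗ[k] M :=
  TensorProduct.lift
    ((Algebra.lsmul k k M : B →ₐ[k] Module.End k M).toLinearMap ∘ₗ β).flip

@[simp] lemma act_tmul (β : A →ₗ[k] B) (m : M) (a : A) : act M β (m ⊗ₜ[k] a) = β a • m := by
  simp [act]

lemma act_hmSMul_tmul_one (β : A →ₗ[k] B) (c : B) (y : M ⊗[k] A) :
    act M β (TameAct.hmSMul k A B M (c ⊗ₜ[k] (1 : A)) y) = c • act M β y := by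
  induction y using TensorProduct.induction_on with
  | zero => simp
  | tmul m a =>
    rw [TameAct.hmSMul_tmul, act_tmul, act_tmul, one_mul, smul_comm]
  | add x y hx hy => simp only [map_add, hx, hy, smul_add]

variable {N : Type w''} [AddCommGroup N] [Module k N] [Module B N] [IsScalarTower k B N]

lemma act_rTensor (β : A →ₗ[k] B) (f : M →ₗ[B] N) (y : M ⊗[k] A) :
    act N β ((f.restrictScalars k).rTensor A y) = f (act M β y) := by
  induction y using TensorProduct.induction_on with
  | zero => simp
  | tmul m a => simp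
  | add x y hx hy => rw [map_add, map_add, hx, hy, map_add, map_add]

end Act

section ReynoldsBasic

variable {k : Type u} [CommRing k] {A : Type v} [CommRing A] [HopfAlgebra k A]
  {B : Type w} [CommRing B] [Algebra k B]
  {M : Type w'} [AddCommGroup M] [Module k M] [Module B M] [IsScalarTower k B M]
  [HopfRep.Comod k A M]

lemma reynolds_eq (α : A →ₗ[k] B) (m : M) :
    TameAct.reynolds k A B M α m =
      act M (α ∘ₗ HopfAlgebraStruct.antipode (R := k) (A := A))
        (HopfRep.Comod.coact (k := k) (A := A) m) := rfl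

/-- the Reynolds operator of a total integral fixes the invariants -/
theorem reynolds_of_mem_fixedPts {α : A →ₗ[k] B} (hα1 : α 1 = 1) {m : M}
    (hm : m ∈ HopfRep.fixedPts k A M) : TameAct.reynolds k A B M α m = m := by
  have h : HopfRep.Comod.coact (k := k) (A := A) m = m ⊗ₜ[k] (1 : A) := hm
  rw [TameAct.reynolds_apply_of_coact_eq k A B M α m m 1 h, HopfAlgebra.antipode_one, hα1,
    one_smul]

variable {N : Type w''} [AddCommGroup N] [Module k N] [Module B N] [IsScalarTower k B N]
  [HopfRep.Comod k A N]

/-- naturality of the Reynolds operator -/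
theorem reynolds_map (α : A →ₗ[k] B) (f : M →ₗ[B] N)
    (hf : Hoch.IsComodHom A (f.restrictScalars k)) (m : M) :
    TameAct.reynolds k A B N α (f m) = f (TameAct.reynolds k A B M α m) := by
  have h1 := (isComodHom_iff (f.restrictScalars k)).mp hf m
  rw [reynolds_eq, reynolds_eq, ← act_rTensor, ← h1]
  rfl

end ReynoldsBasic

section Reynolds

variable {k : Type u} [CommRing k] {A : Type v} [CommRing A] [HopfAlgebra k A]
  {B : Type w} [CommRing B] [Algebra k B] [HopfRep.Comod k A B]
  {M : Type w'} [AddCommGroup M] [Module k M] [Module B M] [IsScalarTower k B M]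
  [HopfRep.Comod k A M] [TameAct.IsHopfMod k A B M]

/-- coaction of `α (S c)` for a comodule map `α` -/
lemma coact_alpha_antipode {α : A →ₗ[k] B} (hα : Hoch.IsComodHom A α) (c : A) :
    HopfRep.Comod.coact (k := k) (A := A) (α (HopfAlgebraStruct.antipode (R := k) c)) =
      TensorProduct.map (α ∘ₗ HopfAlgebraStruct.antipode (R := k) (A := A))
        (HopfAlgebraStruct.antipode (R := k) (A := A))
        (TensorProduct.comm k A A (CoalgebraStruct.comul (R := k) c)) := by
  have h1 := (isComodHom_iff α).mp hα (HopfAlgebraStruct.antipode (R := k) c)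
  rw [h1]
  show α.rTensor A (CoalgebraStruct.comul (R := k) (HopfAlgebraStruct.antipode (R := k) c)) = _
  rw [Groth.Agent.H9.Hopf.comul_antipode]
  generalize TensorProduct.comm k A A (Coalgebra.comul (R := k) c) = x
  induction x using TensorProduct.induction_on with
  | zero => simp
  | tmul b c => simp
  | add x y hx hy => simp only [map_add, hx, hy]

/-- the Reynolds operator lands in the invariants -/
theorem coact_reynolds {α : A →ₗ[k] B} (hα : Hoch.IsComodHom A α) (m : M) :
    HopfRep.Comod.coact (k := k) (A := A) (TameAct.reynolds k A B M α m) =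
      TameAct.reynolds k A B M α m ⊗ₜ[k] (1 : A) := by
  set S : A →ₗ[k] A := HopfAlgebraStruct.antipode (R := k) (A := A) with hS
  set β : A →ₗ[k] B := α ∘ₗ S with hβ
  -- Ψ' : (M ⊗ A) ⊗ A → M ⊗ A, (y ⊗ a) ↦ hmSMul (ρ_B (β a)) y
  let Ψ : (M ⊗[k] A) ⊗[k] A →ₗ[k] M ⊗[k] A :=
    TensorProduct.lift ((TameAct.hmSMul k A B M ∘ₗ HopfRep.Comod.coact (k := k) (A := A) ∘ₗ β).flip)
  have hΨ : ∀ (y : M ⊗[k] A) (a : A), Ψ (y ⊗ₜ[k] a) =
      TameAct.hmSMul k A B M (HopfRep.Comod.coact (k := k) (A := A) (β a)) y := by
    intro y a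
    simp [Ψ]
  -- step 1
  have h1 : ∀ y : M ⊗[k] A, HopfRep.Comod.coact (k := k) (A := A) (act M β y) =
      Ψ ((HopfRep.Comod.coact (k := k) (A := A)).rTensor A y) := by
    intro y
    induction y using TensorProduct.induction_on with
    | zero => simp
    | tmul m a =>
      rw [act_tmul, TameAct.IsHopfMod.coact_smul, LinearMap.rTensor_tmul, hΨ]
    | add x y hx hy => simp only [map_add, hx, hy]
  -- the map Ω_m
  let F : A ⊗[k] A →ₗ[k] (M ⊗[k] A →ₗ[k] M ⊗[k] A) :=
    TameAct.hmSMul k A B M ∘ₗ TensorProduct.map β S ∘ₗ (TensorProduct.comm k A A).toLinearMap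
  have hF : ∀ (b c : A) (y : M ⊗[k] A), F (b ⊗ₜ[k] c) y =
      TameAct.hmSMul k A B M (β c ⊗ₜ[k] S b) y := by
    intro b c y
    simp [F]
  let Ω : M → (A ⊗[k] (A ⊗[k] A) →ₗ[k] M ⊗[k] A) := fun m =>
    TensorProduct.lift (F.flip ∘ₗ TensorProduct.mk k M A m)
  have hΩ : ∀ (m : M) (b : A) (w : A ⊗[k] A), Ω m (b ⊗ₜ[k] w) = F w (m ⊗ₜ[k] b) := by
    intro m b w
    simp [Ω]
  let Ω' : M → (A ⊗[k] A →ₗ[k] M ⊗[k] A) := fun m =>
    LinearMap.rTensor A (((LinearMap.toSpanSingleton B M m).restrictScalars k) ∘ₗ β) ∘ₗ
      (TensorProduct.comm k A A).toLinearMap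
  have hΩ' : ∀ (m : M) (e c : A), Ω' m (e ⊗ₜ[k] c) = (β c • m) ⊗ₜ[k] e := by
    intro m e c
    simp [Ω']
  -- E1
  have hE1 : ∀ (m : M) (y : A ⊗[k] A), Ψ ((TensorProduct.assoc k M A A).symm (m ⊗ₜ[k] y)) =
      Ω m ((CoalgebraStruct.comul (R := k) (A := A)).lTensor A y) := by
    intro m y
    induction y using TensorProduct.induction_on with
    | zero => simp
    | tmul b c =>
      rw [TensorProduct.assoc_symm_tmul, hΨ, LinearMap.lTensor_tmul, hΩ]
      show _ = TameAct.hmSMul k A B M (TensorProduct.map β S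
        (TensorProduct.comm k A A (CoalgebraStruct.comul (R := k) c))) (m ⊗ₜ[k] b)
      rw [← coact_alpha_antipode hα c]
      rfl
    | add x y hx hy => simp only [TensorProduct.tmul_add, map_add, hx, hy]
  -- E2
  have hE2 : ∀ m : M, Ω m ∘ₗ (TensorProduct.assoc k A A A).toLinearMap =
      Ω' m ∘ₗ LinearMap.rTensor A (LinearMap.mul' k A ∘ₗ S.lTensor A) := by
    intro m
    apply TensorProduct.ext_threefold
    intro b₁ b₂ c
    simp only [LinearMap.comp_apply, LinearEquiv.coe_coe, TensorProduct.assoc_tmul, hΩ, hF,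
      TameAct.hmSMul_tmul, LinearMap.rTensor_tmul, LinearMap.lTensor_tmul, LinearMap.mul'_apply,
      hΩ']
    rw [mul_comm]
  -- the key pointwise identity
  have hkey : ∀ (m : M) (a : A), Ψ ((TensorProduct.assoc k M A A).symm
      (m ⊗ₜ[k] CoalgebraStruct.comul (R := k) a)) = (β a • m) ⊗ₜ[k] (1 : A) := by
    intro m a
    have e1 : Ω m ((CoalgebraStruct.comul (R := k) (A := A)).lTensor A
        (CoalgebraStruct.comul (R := k) a)) =
        Ω' m (LinearMap.rTensor A (LinearMap.mul' k A ∘ₗ S.lTensor A)
          ((CoalgebraStruct.comul (R := k) (A := A)).rTensor A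
            (CoalgebraStruct.comul (R := k) a))) := by
      have := LinearMap.congr_fun (hE2 m) ((CoalgebraStruct.comul (R := k) (A := A)).rTensor A
        (CoalgebraStruct.comul (R := k) a))
      rw [LinearMap.comp_apply, LinearMap.comp_apply, LinearEquiv.coe_coe] at this
      rw [← this]
      congr 1
      exact (Coalgebra.coassoc_apply a).symm
    have e2 : LinearMap.rTensor A (LinearMap.mul' k A ∘ₗ S.lTensor A)
        ((CoalgebraStruct.comul (R := k) (A := A)).rTensor A
          (CoalgebraStruct.comul (R := k) a)) = (1 : A) ⊗ₜ[k] a := by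
      rw [← LinearMap.comp_apply, ← LinearMap.rTensor_comp, LinearMap.comp_assoc]
      have e3 : S.lTensor A ∘ₗ CoalgebraStruct.comul (R := k) (A := A) =
          (HopfAlgebraStruct.antipode (R := k) (A := A)).lTensor A ∘ₗ Coalgebra.comul := rfl
      rw [e3, HopfAlgebra.mul_antipode_lTensor_comul, LinearMap.rTensor_comp,
        LinearMap.comp_apply]
      have e4 : (Coalgebra.counit (R := k) (A := A)).rTensor A (CoalgebraStruct.comul (R := k) a) =
          (1 : k) ⊗ₜ[k] a := Coalgebra.rTensor_counit_comul a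
      rw [e4, LinearMap.rTensor_tmul, Algebra.linearMap_apply, map_one]
    rw [hE1, e1, e2, hΩ']
  -- conclude
  have h2 : ∀ y : M ⊗[k] A, Ψ ((TensorProduct.assoc k M A A).symm
      ((CoalgebraStruct.comul (R := k) (A := A)).lTensor M y)) =
      (act M β y) ⊗ₜ[k] (1 : A) := by
    intro y
    induction y using TensorProduct.induction_on with
    | zero => simp
    | tmul m a => rw [LinearMap.lTensor_tmul, hkey, act_tmul]
    | add x y hx hy => simp only [map_add, hx, hy, TensorProduct.add_tmul]
  have hco := LinearMap.congr_fun (HopfRep.Comod.coassoc (k := k) (A := A) (V := M)) m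
  simp only [LinearMap.comp_apply, LinearEquiv.coe_coe] at hco
  rw [reynolds_eq, h1, ← h2, ← hco, LinearEquiv.symm_apply_apply]

/-- the Reynolds operator is linear over the invariants -/
theorem reynolds_smul (α : A →ₗ[k] B) {c : B}
    (hc : HopfRep.Comod.coact (k := k) (A := A) c = c ⊗ₜ[k] (1 : A)) (m : M) :
    TameAct.reynolds k A B M α (c • m) = c • TameAct.reynolds k A B M α m := by
  rw [reynolds_eq, reynolds_eq, TameAct.IsHopfMod.coact_smul, hc, act_hmSMul_tmul_one]

end Reynolds

section Regular

variable {k : Type u} [CommRing k] {A : Type v} [CommRing A] [Bialgebra k A]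
  {B : Type w} [CommRing B] [Algebra k B]

lemma hmSMul_eq_mul (x y : B ⊗[k] A) : TameAct.hmSMul k A B B x y = x * y := by
  induction x using TensorProduct.induction_on with
  | zero => simp
  | tmul b a =>
    induction y using TensorProduct.induction_on with
    | zero => simp
    | tmul b' a' => simp
    | add y z hy hz => rw [map_add, hy, hz, mul_add]
  | add x z hx hz => rw [map_add, LinearMap.add_apply, hx, hz, add_mul]

variable [HopfRep.Comod k A B] [GLin.IsCoactAlg k A B]

/-- a comodule algebra is a Hopf module over itself -/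
instance isHopfMod_self : TameAct.IsHopfMod k A B B where
  coact_smul b m := by
    rw [smul_eq_mul, GLin.IsCoactAlg.coact_mul, hmSMul_eq_mul]

end Regular

section Invariants

variable {k : Type u} [CommRing k] {A : Type v} [CommRing A] [HopfAlgebra k A]
  {B : Type w} [CommRing B] [Algebra k B] [HopfRep.Comod k A B] [GLin.IsCoactAlg k A B]

/-- the Reynolds operator of `B` as a map to the ring of invariants, linear over the invariants -/
noncomputable def reynoldsInv {α : A →ₗ[k] B} (hα : Hoch.IsComodHom A α) :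
    B →ₗ[GLin.invariants k A B] GLin.invariants k A B where
  toFun b := ⟨TameAct.reynolds k A B B α b, coact_reynolds hα b⟩
  map_add' x y := by
    apply Subtype.ext
    simp
  map_smul' c x := by
    apply Subtype.ext
    show TameAct.reynolds k A B B α ((c : B) • x) = (c : B) * TameAct.reynolds k A B B α x
    rw [reynolds_smul α c.2, smul_eq_mul]

lemma reynoldsInv_coe {α : A →ₗ[k] B} (hα : Hoch.IsComodHom A α) (hα1 : α 1 = 1)
    (c : GLin.invariants k A B) : reynoldsInv hα (c : B) = c := by
  apply Subtype.ext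
  exact reynolds_of_mem_fixedPts hα1 c.2

/-- `cB ∩ C = c` for ideals `c` of the ring of invariants `C` -/
theorem comap_map_eq_of_totalIntegral {α : A →ₗ[k] B} (hα : Hoch.IsComodHom A α) (hα1 : α 1 = 1)
    (c : Ideal (GLin.invariants k A B)) :
    (c.map (algebraMap (GLin.invariants k A B) B)).comap (algebraMap (GLin.invariants k A B) B) =
      c := by
  apply le_antisymm _ Ideal.le_comap_map
  intro x hx
  rw [Ideal.mem_comap] at hx
  have hx' : algebraMap (GLin.invariants k A B) B x ∈
      (c • (⊤ : Submodule (GLin.invariants k A B) B)) := by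
    rw [Ideal.smul_top_eq_map]
    exact hx
  have key : ∀ y ∈ (c • (⊤ : Submodule (GLin.invariants k A B) B)), reynoldsInv hα y ∈ c := by
    intro y hy
    refine Submodule.smul_induction_on hy ?_ ?_
    · intro r hr n _
      rw [map_smul]
      exact Ideal.mul_mem_right _ _ hr
    · intro y z hy hz
      rw [map_add]
      exact Ideal.add_mem _ hy hz
  have := key _ hx'
  rwa [show algebraMap (GLin.invariants k A B) B x = (x : B) from rfl,
    reynoldsInv_coe hα hα1] at this

end Invariants

end Groth.Agent.H9.Tame
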