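import Mathlib
import Groth.Agent.Lib.Helper9.ComodInv
import Groth.Agent.Lib.Helper9.Tame

/-!
# Invariants of comodule algebras with semisimple comodules (helper9)

Reynolds operator as a retraction linear over the invariants; contraction of extended ideals;
Noetherianity of invariants.
-/

set_option autoImplicit false
set_option linter.style.haveILetI false

universe u v w w'

open TensorProduct

namespace Groth.Agent.H9.InvRing

open Groth.Agent.H9.Comod Groth.Agent.H9.Tame

section Generic

/-- contraction of an extended ideal along a ring map admitting a module retraction -/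
theorem comap_map_eq_of_retraction {C B : Type*} [CommRing C] [CommRing B] (f : C →+* B)
    (π : B →+ C) (hπ : ∀ (c : C) (b : B), π (f c * b) = c * π b) (hπ1 : ∀ c, π (f c) = c)
    (I : Ideal C) : (I.map f).comap f = I := by
  apply le_antisymm _ Ideal.le_comap_map
  intro x hx
  rw [Ideal.mem_comap] at hx
  have key : ∀ y ∈ I.map f, ∀ b : B, π (b * y) ∈ I := by
    intro y hy
    induction hy using Submodule.span_induction with
    | mem y hy =>
      obtain ⟨c, hc, rfl⟩ := hy
      intro b
      rw [mul_comm, hπ]
      exact I.mul_mem_right _ hc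
    | zero => intro b; simp
    | add y z _ _ hy hz => intro b; rw [mul_add, map_add]; exact I.add_mem (hy b) (hz b)
    | smul r y _ hy => intro b; rw [smul_eq_mul, ← mul_assoc]; exact hy _
  have := key _ hx 1
  rwa [one_mul, hπ1] at this

end Generic

section Mod

variable {k : Type u} [Field k] {A : Type v} [CommRing A] [Bialgebra k A]
  {R : Type w} [CommRing R] [Algebra k R] [HopfRep.Comod k A R] [GLin.IsCoactAlg k A R]
  {M : Type w'} [AddCommGroup M] [Module k M] [Module R M] [IsScalarTower k R M]
  [HopfRep.Comod k A M] [TameAct.IsHopfMod k A R M]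

/-- `a ↦ a • n` is a comodule map for `n` invariant -/
lemma isComodHom_toSpanSingleton {n : M} (hn : n ∈ HopfRep.fixedPts k A M) :
    Hoch.IsComodHom A ((LinearMap.toSpanSingleton R M n).restrictScalars k) := by
  rw [isComodHom_iff]
  intro a
  have h1 : HopfRep.Comod.coact (k := k) (A := A) n = n ⊗ₜ[k] (1 : A) := hn
  show HopfRep.Comod.coact (k := k) (A := A) (a • n) = _
  rw [TameAct.IsHopfMod.coact_smul (k := k) (A := A) (B := R), h1]
  generalize HopfRep.Comod.coact (k := k) (A := A) a = x
  induction x using TensorProduct.induction_on with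
  | zero => simp
  | tmul r c => simp
  | add x y hx hy => simp only [map_add, LinearMap.add_apply, hx, hy]

/-- invariants of a Hopf module are stable under multiplication by invariants of the ring -/
lemma smul_mem_fixedPts {c : R} (hc : c ∈ GLin.invariants k A R) {m : M}
    (hm : m ∈ HopfRep.fixedPts k A M) : c • m ∈ HopfRep.fixedPts k A M := by
  have h1 : HopfRep.Comod.coact (k := k) (A := A) m = m ⊗ₜ[k] (1 : A) := hm
  have h2 : HopfRep.Comod.coact (k := k) (A := A) c = c ⊗ₜ[k] (1 : A) := hc
  show HopfRep.Comod.coact (k := k) (A := A) (c • m) = _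
  rw [TameAct.IsHopfMod.coact_smul (k := k) (A := A) (B := R), h1, h2]
  simp

variable (k A R M) in
/-- the invariants of `M` as a module over the invariants of `R` -/
def fixedSub : Submodule (GLin.invariants k A R) M where
  carrier := HopfRep.fixedPts k A M
  add_mem' := (HopfRep.fixedPts k A M).add_mem
  zero_mem' := (HopfRep.fixedPts k A M).zero_mem
  smul_mem' c _ hm := smul_mem_fixedPts c.2 hm

lemma mem_fixedSub (m : M) : m ∈ fixedSub k A R M ↔ m ∈ HopfRep.fixedPts k A M := Iff.rfl

/-- Reynolds operators are linear over invariants -/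
theorem reynolds_smul_of_mem_fixedPts (hR : HopfRep.IsSemisimpleComod k A R)
    (E : R →ₗ[k] R) (hE₁ : Hoch.IsComodHom A E) (hE₂ : E ∘ₗ E = E)
    (hE₃ : ∀ x : R, E x = x ↔ x ∈ HopfRep.fixedPts k A R)
    (E' : M →ₗ[k] M) (hE'₁ : Hoch.IsComodHom A E') (hE'₂ : E' ∘ₗ E' = E')
    (hE'₃ : ∀ y : M, E' y = y ↔ y ∈ HopfRep.fixedPts k A M)
    (r : R) {n : M} (hn : n ∈ HopfRep.fixedPts k A M) : E' (r • n) = E r • n := by
  have := reynolds_comm hR E hE₁ hE₂ hE₃ E' hE'₁ hE'₂ hE'₃ _ (isComodHom_toSpanSingleton hn)
  exact LinearMap.congr_fun this r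

/-- key contraction property: an invariant element of the `R`-span of a set of invariants closed
under the invariants of `R` lies in that set -/
theorem mem_of_mem_span_of_mem_fixedPts (hR : HopfRep.IsSemisimpleComod k A R)
    (hM : HopfRep.IsSemisimpleComod k A M) (N : Submodule (GLin.invariants k A R) M)
    (hN : N ≤ fixedSub k A R M) {x : M} (hx : x ∈ Submodule.span R (N : Set M))
    (hxf : x ∈ HopfRep.fixedPts k A M) : x ∈ N := by
  obtain ⟨E, hE₁, hE₂, hE₃⟩ := exists_reynolds hR
  obtain ⟨E', hE'₁, hE'₂, hE'₃⟩ := exists_reynolds hM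
  have key : ∀ y ∈ Submodule.span R (N : Set M), ∀ r : R, E' (r • y) ∈ N := by
    intro y hy
    induction hy using Submodule.span_induction with
    | mem y hy =>
      intro r
      rw [reynolds_smul_of_mem_fixedPts hR E hE₁ hE₂ hE₃ E' hE'₁ hE'₂ hE'₃ r (hN hy)]
      exact N.smul_mem (⟨E r, reynolds_mem_fixedPts E hE₂ hE₃ r⟩ : GLin.invariants k A R) hy
    | zero => intro r; simp
    | add y z _ _ hy hz => intro r; rw [smul_add, map_add]; exact N.add_mem (hy r) (hz r)
    | smul s y _ hy => intro r; rw [smul_smul]; exact hy _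
  have := key x hx 1
  rwa [one_smul, (hE'₃ x).mpr hxf] at this

/-- the invariants of a Noetherian Hopf module are a Noetherian module over the invariants -/
theorem isNoetherian_fixedSub (hR : HopfRep.IsSemisimpleComod k A R)
    (hM : HopfRep.IsSemisimpleComod k A M) [IsNoetherian R M] :
    IsNoetherian (GLin.invariants k A R) (fixedSub k A R M) := by
  rw [isNoetherian_iff']
  let f : Submodule (GLin.invariants k A R) (fixedSub k A R M) → Submodule R M :=
    fun N => Submodule.span R ((N.map (fixedSub k A R M).subtype : Submodule _ M) : Set M)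
  have hf : ∀ N₁ N₂, f N₁ ≤ f N₂ ↔ N₁ ≤ N₂ := by
    intro N₁ N₂
    constructor
    · intro h y hy
      have hy1 : (y : M) ∈ (N₁.map (fixedSub k A R M).subtype : Submodule _ M) :=
        Submodule.mem_map_of_mem hy
      have hy2 : (y : M) ∈ f N₂ := h (Submodule.subset_span hy1)
      have hle : (N₂.map (fixedSub k A R M).subtype : Submodule _ M) ≤ fixedSub k A R M := by
        rintro _ ⟨z, _, rfl⟩
        exact z.2
      have := mem_of_mem_span_of_mem_fixedPts hR hM _ hle hy2 y.2
      obtain ⟨z, hz, hzy⟩ := this
      have : z = y := Subtype.ext hzy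
      rwa [← this]
    · intro h
      exact Submodule.span_mono (Submodule.map_mono h)
  have hmono : StrictMono f := by
    intro N₁ N₂ h
    rw [lt_iff_le_not_ge] at h ⊢
    exact ⟨(hf _ _).mpr h.1, fun h' => h.2 ((hf _ _).mp h')⟩
  exact hmono.wellFoundedGT

end Mod

section Ring

variable {k : Type u} [Field k] {A : Type v} [CommRing A] [Bialgebra k A]
  {R : Type w} [CommRing R] [Algebra k R] [HopfRep.Comod k A R] [GLin.IsCoactAlg k A R]

/-- Reynolds operators are linear over invariants (ring case) -/
theorem reynolds_mul_of_mem_invariants (hR : HopfRep.IsSemisimpleComod k A R)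
    (E : R →ₗ[k] R) (hE₁ : Hoch.IsComodHom A E) (hE₂ : E ∘ₗ E = E)
    (hE₃ : ∀ x : R, E x = x ↔ x ∈ HopfRep.fixedPts k A R)
    (r : R) {c : R} (hc : c ∈ GLin.invariants k A R) : E (c * r) = c * E r := by
  have := reynolds_smul_of_mem_fixedPts (M := R) hR E hE₁ hE₂ hE₃ E hE₁ hE₂ hE₃ r
    (n := c) hc
  rw [smul_eq_mul, smul_eq_mul, mul_comm, mul_comm (E r)] at this
  exact this

/-- `(I R) ∩ R^G = I` -/
theorem comap_map_eq (hR : HopfRep.IsSemisimpleComod k A R)
    (I : Ideal (GLin.invariants k A R)) :
    (I.map (GLin.invariants k A R).val.toRingHom).comap (GLin.invariants k A R).val.toRingHom =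
      I := by
  obtain ⟨E, hE₁, hE₂, hE₃⟩ := exists_reynolds hR
  let π : R →+ GLin.invariants k A R :=
    { toFun := fun r => ⟨E r, reynolds_mem_fixedPts E hE₂ hE₃ r⟩
      map_zero' := by apply Subtype.ext; simp
      map_add' := fun x y => by apply Subtype.ext; simp }
  apply comap_map_eq_of_retraction _ π
  · intro c b
    apply Subtype.ext
    exact reynolds_mul_of_mem_invariants hR E hE₁ hE₂ hE₃ b c.2
  · intro c
    apply Subtype.ext
    exact (hE₃ _).mpr c.2

/-- the invariants of a Noetherian comodule algebra with semisimple comodule structure are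
Noetherian -/
theorem isNoetherianRing_invariants (hR : HopfRep.IsSemisimpleComod k A R) [IsNoetherianRing R] :
    IsNoetherianRing (GLin.invariants k A R) := by
  rw [isNoetherianRing_iff, isNoetherian_iff']
  have hinj : Function.Injective
      (Ideal.map (GLin.invariants k A R).val.toRingHom : Ideal (GLin.invariants k A R) → Ideal R) :=
    Function.LeftInverse.injective (g := Ideal.comap (GLin.invariants k A R).val.toRingHom)
      (comap_map_eq hR)
  have hmono : StrictMono
      (Ideal.map (GLin.invariants k A R).val.toRingHom : Ideal (GLin.invariants k A R) → Ideal R) :=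
    Monotone.strictMono_of_injective (fun _ _ h => Ideal.map_mono h) hinj
  exact hmono.wellFoundedGT

end Ring

end Groth.Agent.H9.InvRing
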