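import Mathlib
import Groth.Prelude.Def_GLin
import Groth.Prelude.Def_ComodSub
import Groth.Agent.Lib.Helper9.Comod
import Groth.Agent.Lib.Helper9.ComodReynolds
import Groth.Agent.Lib.Helper9.ComodInv
import Groth.Agent.Lib.Helper9.ComodInvRing
import Groth.Agent.Lib.Helper9.ComodCoeff

/-!
# Affine quotients by linearly reductive groups: points (helper9)
-/

set_option autoImplicit false
set_option linter.style.haveILetI false

universe u v w

open TensorProduct

namespace Groth.Agent.H9.GIT

open Groth.Agent.H9.Comod Groth.Agent.H9.InvRing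

section Null

/-- weak Nullstellensatz: a proper ideal of a finitely generated algebra over an algebraically
closed field has a rational point -/
theorem exists_algHom_of_ne_top {k : Type u} [Field k] [IsAlgClosed k] {R : Type v} [CommRing R]
    [Algebra k R] [Algebra.FiniteType k R] (J : Ideal R) (hJ : J ≠ ⊤) :
    ∃ x : R →ₐ[k] k, ∀ f ∈ J, x f = 0 := by
  obtain ⟨M, hM, hJM⟩ := Ideal.exists_le_maximal J hJ
  letI := Ideal.Quotient.field M
  haveI : Algebra.FiniteType k (R ⧸ M) :=
    Algebra.FiniteType.of_surjective (Ideal.Quotient.mkₐ k M) Ideal.Quotient.mk_surjective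
  haveI : Module.Finite k (R ⧸ M) := finite_of_finite_type_of_isJacobsonRing k (R ⧸ M)
  have hbij : Function.Bijective (algebraMap k (R ⧸ M)) :=
    IsAlgClosed.algebraMap_bijective_of_isIntegral
  let e : k ≃ₐ[k] (R ⧸ M) := AlgEquiv.ofBijective (Algebra.ofId k (R ⧸ M)) hbij
  refine ⟨(e.symm : (R ⧸ M) →ₐ[k] k).comp (Ideal.Quotient.mkₐ k M), ?_⟩
  intro f hf
  have : Ideal.Quotient.mkₐ k M f = 0 := by
    rw [Ideal.Quotient.mkₐ_eq_mk, Ideal.Quotient.eq_zero_iff_mem]
    exact hJM hf
  rw [AlgHom.comp_apply, this, map_zero]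

/-- the kernel of the point given by a maximal ideal -/
theorem exists_algHom_ker_eq {k : Type u} [Field k] [IsAlgClosed k] {R : Type v} [CommRing R]
    [Algebra k R] [Algebra.FiniteType k R] (M : Ideal R) (hM : M.IsMaximal) :
    ∃ x : R →ₐ[k] k, RingHom.ker (x : R →+* k) = M := by
  obtain ⟨x, hx⟩ := exists_algHom_of_ne_top (k := k) M hM.ne_top
  refine ⟨x, (hM.eq_of_le ?_ (fun f hf => hx f hf)).symm⟩
  exact RingHom.ker_ne_top _

/-- rational points of a finitely generated algebra over an algebraically closed field are dense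
up to nilpotents -/
theorem isNilpotent_of_forall_algHom_eq_zero {k : Type u} [Field k] [IsAlgClosed k] {A : Type v}
    [CommRing A] [Algebra k A] [Algebra.FiniteType k A] (a : A)
    (h : ∀ g : A →ₐ[k] k, g a = 0) : IsNilpotent a := by
  haveI : IsJacobsonRing A := isJacobsonRing_of_finiteType (A := k)
  rw [← mem_nilradical]
  have h1 : (nilradical A).jacobson = nilradical A :=
    IsJacobsonRing.out inferInstance (Ideal.radical_isRadical _)
  rw [← h1, Ideal.jacobson, Ideal.mem_sInf]
  rintro M ⟨-, hM⟩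
  obtain ⟨x, hx⟩ := exists_algHom_ker_eq (k := k) M hM
  rw [← hx]
  exact h x

end Null

section Lift

variable {k : Type u} [Field k] [IsAlgClosed k] {A : Type v} [CommRing A] [Bialgebra k A]
  {R : Type w} [CommRing R] [Algebra k R] [HopfRep.Comod k A R] [GLin.IsCoactAlg k A R]

/-- points of the affine quotient lift to points of a stable closed subset -/
theorem exists_point_lift [Algebra.FiniteType k R] (hss : HopfRep.IsSemisimpleComod k A R)
    (B : Subalgebra k R) (hB : ∀ f, f ∈ B ↔ f ∈ HopfRep.fixedPts k A R)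
    (I : Ideal R) (hI : HopfRep.IsSubcomod (k := k) (A := A) (I.restrictScalars k))
    (φ : B →ₐ[k] k) (hφ : ∀ f : B, (f : R) ∈ I → φ f = 0) :
    ∃ x : R →ₐ[k] k, (∀ f ∈ I, x f = 0) ∧ ∀ f : B, x (f : R) = φ f := by
  obtain ⟨E, hE₁, hE₂, hE₃⟩ := exists_reynolds hss
  have hEfix : ∀ p, E p ∈ HopfRep.fixedPts k A R := reynolds_mem_fixedPts E hE₂ hE₃
  have hEmul : ∀ (r c : R), c ∈ HopfRep.fixedPts k A R → E (c * r) = c * E r :=
    fun r c hc => reynolds_mul_of_mem_invariants hss E hE₁ hE₂ hE₃ r hc
  have hEI : ∀ a ∈ I, E a ∈ I := fun a ha =>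
    reynolds_mem_of_isSubcomod hss E hE₁ hE₂ hE₃ _ hI (x := a) ha
  let E' : R →ₗ[k] B := E.codRestrict (Subalgebra.toSubmodule B) (fun r => (hB _).mpr (hEfix r))
  let ψ : R →ₗ[k] k := φ.toLinearMap ∘ₗ E'
  have hψmul : ∀ (r : R) (b : B), ψ (r * b) = ψ r * φ b := by
    intro r b
    have h1 : E' (r * b) = b * E' r := by
      apply Subtype.ext
      change E (r * b) = (b : R) * E r
      rw [mul_comm, hEmul _ _ ((hB _).mp b.2)]
    change φ (E' (r * b)) = φ (E' r) * φ b
    rw [h1, map_mul, mul_comm]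
  let m : Ideal B := RingHom.ker (φ : B →+* k)
  have hψm : ∀ u ∈ m.map (algebraMap B R), ∀ r : R, ψ (r * u) = 0 := by
    intro u hu
    induction hu using Submodule.span_induction with
    | mem y hy =>
      obtain ⟨c, hc, rfl⟩ := hy
      intro r
      have : φ c = 0 := hc
      change ψ (r * (c : R)) = 0
      rw [hψmul, this, mul_zero]
    | zero => intro r; simp
    | add y z _ _ hy hz => intro r; rw [mul_add, map_add, hy r, hz r, add_zero]
    | smul r' y _ hy => intro r; rw [smul_eq_mul, ← mul_assoc]; exact hy _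
  have hψI : ∀ a ∈ I, ψ a = 0 := by
    intro a ha
    exact hφ (E' a) (hEI a ha)
  have hψ1 : ψ 1 = 1 := by
    have h1 : (1 : R) ∈ HopfRep.fixedPts k A R := (hB _).mp B.one_mem
    have : E' 1 = 1 := Subtype.ext ((hE₃ 1).mpr h1)
    change φ (E' 1) = 1
    rw [this, map_one]
  have hJ : m.map (algebraMap B R) ⊔ I ≠ ⊤ := by
    intro h
    have h1 : (1 : R) ∈ m.map (algebraMap B R) ⊔ I := by rw [h]; trivial
    obtain ⟨u, hu, a, ha, hua⟩ := Submodule.mem_sup.mp h1
    have : ψ 1 = 0 := by
      rw [← hua, map_add, hψI a ha]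
      have := hψm u hu 1
      rw [one_mul] at this
      rw [this, add_zero]
    rw [hψ1] at this
    exact one_ne_zero this
  obtain ⟨x, hx⟩ := exists_algHom_of_ne_top (k := k) _ hJ
  refine ⟨x, fun f hf => hx f (Ideal.mem_sup_right hf), ?_⟩
  intro f
  have hmem : f - algebraMap k B (φ f) ∈ m := by
    change φ (f - algebraMap k B (φ f)) = 0
    rw [map_sub, AlgHom.commutes, Algebra.algebraMap_self_apply, sub_self]
  have h2 := hx _ (Ideal.mem_sup_left (Ideal.mem_map_of_mem (algebraMap B R) hmem))
  change x ((f : R) - algebraMap k R (φ f)) = 0 at h2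
  rw [map_sub, AlgHom.commutes, Algebra.algebraMap_self_apply, sub_eq_zero] at h2
  exact h2

end Lift

section Orbit

variable {k : Type u} [Field k] {A : Type v} [CommRing A] [Bialgebra k A]
  {R : Type w} [CommRing R] [Algebra k R] [HopfRep.Comod k A R] [GLin.IsCoactAlg k A R]

lemma orbitHom_apply (x : R →ₐ[k] k) (f : R) :
    GLin.orbitHom k A x f = mcoef A x.toLinearMap f := by
  change (Algebra.TensorProduct.lid k A) (Algebra.TensorProduct.map x (AlgHom.id k A)
    (HopfRep.Comod.coact (k := k) (A := A) f)) =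
    sliceL x.toLinearMap (HopfRep.Comod.coact (k := k) (A := A) f)
  generalize HopfRep.Comod.coact (k := k) (A := A) f = z
  induction z using TensorProduct.induction_on with
  | zero => simp
  | tmul r a => simp
  | add z₁ z₂ h₁ h₂ => simp only [map_add, h₁, h₂]

/-- moving a point by a group element, in terms of the orbit map -/
lemma apply_act (x : R →ₐ[k] k) (g : A →ₐ[k] k) (f : R) :
    x (HopfRep.Comod.act k A R g f) = g (GLin.orbitHom k A x f) := by
  rw [orbitHom_apply, mcoef_apply]
  exact (apply_sliceL g.toLinearMap x.toLinearMap _).symm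

lemma counit_orbitHom (x : R →ₐ[k] k) (f : R) :
    Coalgebra.counit (R := k) (A := A) (GLin.orbitHom k A x f) = x f := by
  rw [orbitHom_apply]
  exact counit_mcoef _ _

/-- the ideal of an orbit closure is stable -/
theorem isSubcomod_ker_orbitHom (x : R →ₐ[k] k) :
    HopfRep.IsSubcomod (k := k) (A := A)
      ((RingHom.ker (GLin.orbitHom k A x : R →+* A)).restrictScalars k) := by
  have : (RingHom.ker (GLin.orbitHom k A x : R →+* A)).restrictScalars k =
      LinearMap.ker (mcoef A x.toLinearMap) := by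
    ext f
    simp only [Submodule.restrictScalars_mem, RingHom.mem_ker, LinearMap.mem_ker]
    rw [← orbitHom_apply]
    rfl
  rw [this]
  exact isSubcomod_ker (isComodHom_mcoef _)

lemma act_of_mem_fixedPts (g : A →ₐ[k] k) {f : R} (hf : f ∈ HopfRep.fixedPts k A R) :
    HopfRep.Comod.act k A R g f = f := by
  have h1 : HopfRep.Comod.coact (k := k) (A := A) f = f ⊗ₜ[k] (1 : A) := hf
  change slice g.toLinearMap (HopfRep.Comod.coact (k := k) (A := A) f) = f
  rw [h1, slice_tmul]
  simp

/-- disjoint stable closed subsets are separated by an invariant -/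
theorem exists_inv_separating (hss : HopfRep.IsSemisimpleComod k A R) (I₁ I₂ : Ideal R)
    (h₁ : HopfRep.IsSubcomod (k := k) (A := A) (I₁.restrictScalars k))
    (h₂ : HopfRep.IsSubcomod (k := k) (A := A) (I₂.restrictScalars k)) (h : I₁ ⊔ I₂ = ⊤) :
    ∃ f ∈ HopfRep.fixedPts k A R, f ∈ I₁ ∧ 1 - f ∈ I₂ := by
  obtain ⟨E, hE₁, hE₂, hE₃⟩ := exists_reynolds hss
  have hEfix : ∀ p, E p ∈ HopfRep.fixedPts k A R := reynolds_mem_fixedPts E hE₂ hE₃
  have h1 : (1 : R) ∈ I₁ ⊔ I₂ := by rw [h]; trivial
  obtain ⟨a, ha, b, hb, hab⟩ := Submodule.mem_sup.mp h1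
  have hone : (1 : R) ∈ HopfRep.fixedPts k A R := (GLin.invariants k A R).one_mem
  have hE1 : E 1 = 1 := (hE₃ 1).mpr hone
  refine ⟨E a, hEfix a, reynolds_mem_of_isSubcomod hss E hE₁ hE₂ hE₃ _ h₁ (x := a) ha, ?_⟩
  have : 1 - E a = E b := by
    rw [← hE1, ← hab, map_add, add_sub_cancel_left]
  rw [this]
  exact reynolds_mem_of_isSubcomod hss E hE₁ hE₂ hE₃ _ h₂ (x := b) hb

/-- two points have the same invariants iff their orbit closures meet -/
theorem inv_eq_iff_closures_meet [IsAlgClosed k] [Algebra.FiniteType k A] [Algebra.FiniteType k R]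
    (hss : HopfRep.IsSemisimpleComod k A R) (x y : R →ₐ[k] k) :
    (∀ f ∈ HopfRep.fixedPts k A R, x f = y f) ↔
      ∃ z : R →ₐ[k] k,
        (∀ f : R, (∀ g : A →ₐ[k] k, x (HopfRep.Comod.act k A R g f) = 0) → z f = 0) ∧
        (∀ f : R, (∀ g : A →ₐ[k] k, y (HopfRep.Comod.act k A R g f) = 0) → z f = 0) := by
  constructor
  · intro hxy
    have hJ : RingHom.ker (GLin.orbitHom k A x : R →+* A) ⊔
        RingHom.ker (GLin.orbitHom k A y : R →+* A) ≠ ⊤ := by
      intro h
      obtain ⟨f, hf, hf₁, hf₂⟩ := exists_inv_separating hss _ _ (isSubcomod_ker_orbitHom x)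
        (isSubcomod_ker_orbitHom y) h
      have hx0 : x f = 0 := by
        rw [← counit_orbitHom (A := A) x f]
        have : GLin.orbitHom k A x f = 0 := hf₁
        rw [this, map_zero]
      have hy0 : y (1 - f) = 0 := by
        rw [← counit_orbitHom (A := A) y (1 - f)]
        have : GLin.orbitHom k A y (1 - f) = 0 := hf₂
        rw [this, map_zero]
      rw [map_sub, map_one, ← hxy f hf, hx0, sub_zero] at hy0
      exact one_ne_zero hy0
    obtain ⟨z, hz⟩ := exists_algHom_of_ne_top (k := k) _ hJ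
    have key : ∀ (p : R →ₐ[k] k), (∀ f ∈ RingHom.ker (GLin.orbitHom k A p : R →+* A), z f = 0) →
        ∀ f : R, (∀ g : A →ₐ[k] k, p (HopfRep.Comod.act k A R g f) = 0) → z f = 0 := by
      intro p hp f hf
      have hnil : IsNilpotent (GLin.orbitHom k A p f) := by
        apply isNilpotent_of_forall_algHom_eq_zero (k := k)
        intro g
        rw [← apply_act]
        exact hf g
      obtain ⟨n, hn⟩ := hnil
      have h1 : z (f ^ n) = 0 := by
        apply hp
        change GLin.orbitHom k A p (f ^ n) = 0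
        rw [map_pow, hn]
      rw [map_pow] at h1
      exact eq_zero_of_pow_eq_zero h1
    exact ⟨z, key x (fun f hf => hz f (Ideal.mem_sup_left hf)),
      key y (fun f hf => hz f (Ideal.mem_sup_right hf))⟩
  · rintro ⟨z, hzx, hzy⟩ f hf
    have hone : (1 : R) ∈ HopfRep.fixedPts k A R := (GLin.invariants k A R).one_mem
    have key : ∀ (p : R →ₐ[k] k),
        (∀ f : R, (∀ g : A →ₐ[k] k, p (HopfRep.Comod.act k A R g f) = 0) → z f = 0) →
        z f = p f := by
      intro p hp
      have h1 : z (f - algebraMap k R (p f)) = 0 := by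
        apply hp
        intro g
        have hmem : f - algebraMap k R (p f) ∈ HopfRep.fixedPts k A R := by
          apply Submodule.sub_mem _ hf
          rw [Algebra.algebraMap_eq_smul_one]
          exact Submodule.smul_mem _ _ hone
        rw [act_of_mem_fixedPts g hmem, map_sub, AlgHom.commutes, Algebra.algebraMap_self_apply,
          sub_self]
      rw [map_sub, AlgHom.commutes, Algebra.algebraMap_self_apply, sub_eq_zero] at h1
      exact h1
    rw [← key x hzx, ← key y hzy]

lemma orbitHom_of_mem_fixedPts (x : R →ₐ[k] k) {f : R} (hf : f ∈ HopfRep.fixedPts k A R) :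
    GLin.orbitHom k A x f = algebraMap k A (x f) := by
  have h1 : HopfRep.Comod.coact (k := k) (A := A) f = f ⊗ₜ[k] (1 : A) := hf
  rw [orbitHom_apply, mcoef_apply, h1, sliceL_tmul, Algebra.algebraMap_eq_smul_one]
  rfl

omit [GLin.IsCoactAlg k A R] in
/-- an algebra map to the base field is determined by its kernel -/
lemma algHom_eq_of_ker_le {x y : R →ₐ[k] k}
    (h : RingHom.ker (x : R →+* k) ≤ RingHom.ker (y : R →+* k)) : x = y := by
  ext f
  have h1 : f - algebraMap k R (x f) ∈ RingHom.ker (x : R →+* k) := by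
    change x (f - algebraMap k R (x f)) = 0
    rw [map_sub, AlgHom.commutes, Algebra.algebraMap_self_apply, sub_self]
  have h2 : y (f - algebraMap k R (x f)) = 0 := h h1
  rw [map_sub, AlgHom.commutes, Algebra.algebraMap_self_apply, sub_eq_zero] at h2
  exact h2.symm

/-- same invariants iff the orbit closures (as kernels of the orbit maps) have a common point -/
theorem comp_invariants_eq_iff [IsAlgClosed k] [Algebra.FiniteType k R]
    (hss : HopfRep.IsSemisimpleComod k A R) (x y : R →ₐ[k] k) :
    x.comp (GLin.invariants k A R).val = y.comp (GLin.invariants k A R).val ↔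
      ∃ z : R →ₐ[k] k, GLin.InOrbitClosure k A x z ∧ GLin.InOrbitClosure k A y z := by
  constructor
  · intro hxy
    have hxy' : ∀ f ∈ HopfRep.fixedPts k A R, x f = y f := fun f hf =>
      AlgHom.congr_fun hxy (⟨f, hf⟩ : GLin.invariants k A R)
    have hJ : RingHom.ker (GLin.orbitHom k A x : R →+* A) ⊔
        RingHom.ker (GLin.orbitHom k A y : R →+* A) ≠ ⊤ := by
      intro h
      obtain ⟨f, hf, hf₁, hf₂⟩ := exists_inv_separating hss _ _ (isSubcomod_ker_orbitHom x)
        (isSubcomod_ker_orbitHom y) h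
      have hx0 : x f = 0 := by
        rw [← counit_orbitHom (A := A) x f]
        have : GLin.orbitHom k A x f = 0 := hf₁
        rw [this, map_zero]
      have hy0 : y (1 - f) = 0 := by
        rw [← counit_orbitHom (A := A) y (1 - f)]
        have : GLin.orbitHom k A y (1 - f) = 0 := hf₂
        rw [this, map_zero]
      rw [map_sub, map_one, ← hxy' f hf, hx0, sub_zero] at hy0
      exact one_ne_zero hy0
    obtain ⟨z, hz⟩ := exists_algHom_of_ne_top (k := k) _ hJ
    exact ⟨z, fun f hf => hz f (Ideal.mem_sup_left hf), fun f hf => hz f (Ideal.mem_sup_right hf)⟩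
  · rintro ⟨z, hzx, hzy⟩
    have key : ∀ (p : R →ₐ[k] k), GLin.InOrbitClosure k A p z →
        ∀ f ∈ HopfRep.fixedPts k A R, z f = p f := by
      intro p hp f hf
      have h1 : f - algebraMap k R (p f) ∈ RingHom.ker (GLin.orbitHom k A p : R →+* A) := by
        change GLin.orbitHom k A p (f - algebraMap k R (p f)) = 0
        rw [map_sub, orbitHom_of_mem_fixedPts p hf, AlgHom.commutes, sub_self]
      have h2 : z (f - algebraMap k R (p f)) = 0 := hp h1
      rw [map_sub, AlgHom.commutes, Algebra.algebraMap_self_apply, sub_eq_zero] at h2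
      exact h2
    ext ⟨f, hf⟩
    change x f = y f
    rw [← key x hzx f hf, ← key y hzy f hf]

/-- a point in the closure of a closed orbit is in the orbit -/
theorem exists_actPt_eq_of_isClosedOrbit [IsAlgClosed k] [Algebra.FiniteType k A]
    (x z : R →ₐ[k] k) (hx : GLin.IsClosedOrbit k A x) (hz : GLin.InOrbitClosure k A x z) :
    ∃ g : A →ₐ[k] k, z = GLin.actPt k g x := by
  have hcl := hx.closure_eq
  rw [PrimeSpectrum.closure_range_comap] at hcl
  have hzmem : (⟨RingHom.ker (z : R →+* k), RingHom.ker_isPrime _⟩ : PrimeSpectrum R) ∈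
      PrimeSpectrum.zeroLocus (RingHom.ker (GLin.orbitHom k A x).toRingHom : Set R) := by
    rw [PrimeSpectrum.mem_zeroLocus]
    exact hz
  rw [hcl] at hzmem
  obtain ⟨q, hq⟩ := hzmem
  obtain ⟨M, hM, hqM⟩ := Ideal.exists_le_maximal q.asIdeal q.2.ne_top
  obtain ⟨g, hg⟩ := exists_algHom_ker_eq (k := k) M hM
  refine ⟨g, algHom_eq_of_ker_le ?_⟩
  intro f hf
  have h1 : f ∈ (PrimeSpectrum.comap (GLin.orbitHom k A x).toRingHom q).asIdeal := by
    rw [hq]; exact hf
  have h2 : GLin.orbitHom k A x f ∈ M := hqM h1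
  rw [← hg] at h2
  exact h2

/-- moving a point by a product -/
lemma actPt_mul (g h : A →ₐ[k] k) (x : R →ₐ[k] k) :
    GLin.actPt k (WithConv.toConv g * WithConv.toConv h).ofConv x =
      GLin.actPt k h (GLin.actPt k g x) := by
  ext f
  change (WithConv.toConv g * WithConv.toConv h) (GLin.orbitHom k A x f) =
    h (GLin.orbitHom k A (GLin.actPt k g x) f)
  rw [AlgHom.convMul_apply, orbitHom_apply x, comul_mcoef, orbitHom_apply, mcoef_apply]
  generalize HopfRep.Comod.coact (k := k) (A := A) f = z
  induction z using TensorProduct.induction_on with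
  | zero => simp
  | tmul r a =>
    simp only [LinearMap.rTensor_tmul, Algebra.TensorProduct.lift_tmul,
      sliceL_tmul, AlgHom.toLinearMap_apply, map_smul, smul_eq_mul]
    rw [← orbitHom_apply]
    rfl
  | add z₁ z₂ h₁ h₂ => simp only [map_add, h₁, h₂]

lemma actPt_one (x : R →ₐ[k] k) :
    GLin.actPt k (1 : WithConv (A →ₐ[k] k)).ofConv x = x := by
  ext f
  change (1 : WithConv (A →ₐ[k] k)) (GLin.orbitHom k A x f) = x f
  rw [AlgHom.convOne_apply, Algebra.algebraMap_self_apply]
  exact counit_orbitHom x f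

end Orbit

section Group

variable {k : Type u} [Field k] {A : Type v} [CommRing A] [HopfAlgebra k A]
  {R : Type w} [CommRing R] [Algebra k R] [HopfRep.Comod k A R] [GLin.IsCoactAlg k A R]

/-- points with the same image in a common orbit point are in the same orbit -/
lemma exists_actPt_eq_of_actPt_eq (g g' : A →ₐ[k] k) (x x' : R →ₐ[k] k)
    (h : GLin.actPt k g x = GLin.actPt k g' x') : ∃ g'' : A →ₐ[k] k, x' = GLin.actPt k g'' x := by
  refine ⟨(WithConv.toConv g * (WithConv.toConv g')⁻¹).ofConv, ?_⟩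
  have h1 : GLin.actPt k (WithConv.toConv g * (WithConv.toConv g')⁻¹).ofConv x =
      GLin.actPt k ((WithConv.toConv g')⁻¹).ofConv (GLin.actPt k g x) :=
    actPt_mul g ((WithConv.toConv g')⁻¹).ofConv x
  rw [h1, h]
  have h2 := actPt_mul g' ((WithConv.toConv g')⁻¹).ofConv x'
  rw [WithConv.toConv_ofConv, mul_inv_cancel] at h2
  rw [← h2, actPt_one]

end Group

end Groth.Agent.H9.GIT
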