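import Mathlib

set_option autoImplicit false
set_option linter.unusedSectionVars false
universe u

namespace Groth.Agent.H9.FinLocal

open IsLocalRing

section Nak
variable (A : Type u) [CommRing A] [IsLocalRing A] (B : Type u) [CommRing B] [Algebra A B]
  [Module.Finite A B]

/-- Nakayama: an ideal `K` of `B` with `K + mB = B` is everything. -/
lemma eq_top_of_sup_map_eq_top (K : Ideal B)
    (h : K ⊔ (maximalIdeal A).map (algebraMap A B) = ⊤) : K = ⊤ := by
  have hfg : (⊤ : Submodule A B).FG := Module.Finite.fg_top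
  have hjac : maximalIdeal A ≤ Ideal.jacobson ⊥ := IsLocalRing.maximalIdeal_le_jacobson ⊥
  have hkey : (⊤ : Submodule A B) ≤ K.restrictScalars A ⊔ (maximalIdeal A) • (⊤ : Submodule A B) := by
    rintro b -
    have hb : b ∈ K ⊔ (maximalIdeal A).map (algebraMap A B) := by rw [h]; trivial
    obtain ⟨k, hk, i, hi, rfl⟩ := Submodule.mem_sup.mp hb
    refine Submodule.add_mem_sup hk ?_
    rw [Ideal.smul_top_eq_map]
    exact hi
  have := Submodule.le_of_le_smul_of_le_jacobson_bot hfg hjac hkey
  rw [eq_top_iff]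
  intro b _
  exact this (Submodule.mem_top)

lemma map_le_of_isMaximal (n : Ideal B) [hn : n.IsMaximal] :
    (maximalIdeal A).map (algebraMap A B) ≤ n := by
  by_contra hle
  have : n ⊔ (maximalIdeal A).map (algebraMap A B) = ⊤ := by
    apply hn.1.2
    exact lt_of_le_of_ne le_sup_left (fun h => hle (by rw [h]; exact le_sup_right))
  exact hn.1.1 (eq_top_of_sup_map_eq_top A B n this)

lemma map_le_jacobson :
    (maximalIdeal A).map (algebraMap A B) ≤ Ideal.jacobson (⊥ : Ideal B) := by
  rw [Ideal.jacobson, le_sInf_iff]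
  rintro n ⟨-, hn⟩
  exact map_le_of_isMaximal A B n

instance artinian_quot :
    IsArtinianRing (B ⧸ (maximalIdeal A).map (algebraMap A B)) := by
  have hmax : (maximalIdeal A).IsMaximal := inferInstance
  let _ : Field (A ⧸ maximalIdeal A) := Ideal.Quotient.field _
  have : Module.Finite (A ⧸ maximalIdeal A) (B ⧸ (maximalIdeal A).map (algebraMap A B)) :=
    Module.Finite.of_restrictScalars_finite A _ _
  exact IsArtinianRing.of_finite (A ⧸ maximalIdeal A) _

end Nak

section Max
variable (A : Type u) [CommRing A] [IsLocalRing A] (B : Type u) [CommRing B] [Algebra A B]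
  [Module.Finite A B]

/-- the maximal ideal of the quotient attached to a maximal ideal of `B`. -/
noncomputable def bar (n : MaximalSpectrum B) :
    MaximalSpectrum (B ⧸ (maximalIdeal A).map (algebraMap A B)) :=
  ⟨n.asIdeal.map (Ideal.Quotient.mk _), by
    have := n.isMaximal
    apply Ideal.IsMaximal.map_of_surjective_of_ker_le Ideal.Quotient.mk_surjective
    rw [Ideal.mk_ker]
    exact map_le_of_isMaximal A B n.asIdeal⟩

lemma comap_bar (n : MaximalSpectrum B) :
    (bar A B n).asIdeal.comap (Ideal.Quotient.mk _) = n.asIdeal := by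
  have := n.isMaximal
  exact Ideal.comap_map_mk (map_le_of_isMaximal A B n.asIdeal)

lemma bar_injective : Function.Injective (bar A B) := by
  intro n n' h
  ext1
  rw [← comap_bar A B n, ← comap_bar A B n', h]

include A in
lemma finite_maximalSpectrum : Finite (MaximalSpectrum B) :=
  Finite.of_injective (bar A B) (bar_injective A B)

/-- an idempotent in the Jacobson radical vanishes. -/
lemma idem_eq_zero_of_mem_jacobson {e : B} (he : IsIdempotentElem e)
    (hj : e ∈ Ideal.jacobson (⊥ : Ideal B)) : e = 0 := by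
  have hu : IsUnit (1 - e) := by
    have := (Ideal.mem_jacobson_bot.mp hj) (-1)
    have h2 : e * -1 + 1 = 1 - e := by ring
    rwa [h2] at this
  have h0 : e * (1 - e) = 0 := by rw [mul_sub, mul_one, he.eq, sub_self]
  exact (hu.mul_left_eq_zero).mp h0

lemma idem_eq_zero_of_forall_mem {e : B} (he : IsIdempotentElem e)
    (h : ∀ n : MaximalSpectrum B, e ∈ n.asIdeal) : e = 0 := by
  apply idem_eq_zero_of_mem_jacobson B he
  rw [Ideal.jacobson, Ideal.mem_sInf]
  rintro n ⟨-, hn⟩
  exact h ⟨n, hn⟩

/-- under idempotent lifting, each maximal ideal has a separating idempotent. -/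
lemma exists_idem (hlift : Set.SurjOn (Ideal.Quotient.mk (Ideal.map (algebraMap A B)
      (IsLocalRing.maximalIdeal A))) {e : B | IsIdempotentElem e} {e | IsIdempotentElem e})
    (n : MaximalSpectrum B) :
    ∃ e : B, IsIdempotentElem e ∧ e ∉ n.asIdeal ∧ ∀ n' : MaximalSpectrum B, n' ≠ n → e ∈ n'.asIdeal := by
  have := (bar A B n).isMaximal
  obtain ⟨r, hr, hidem, hother⟩ :=
    IsArtinianRing.exists_not_mem_forall_mem_of_ne (bar A B n).asIdeal
  obtain ⟨e, he, rfl⟩ := hlift hidem
  refine ⟨e, he, ?_, ?_⟩
  · intro hen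
    apply hr
    exact Ideal.mem_map_of_mem _ hen
  · intro n' hn'
    have := (bar A B n').isMaximal
    have := hother (bar A B n').asIdeal inferInstance
      (fun h => hn' (bar_injective A B (MaximalSpectrum.ext h)))
    rw [← comap_bar A B n']
    exact this

end Max

section Decomp
variable (A : Type u) [CommRing A] [IsLocalRing A] (B : Type u) [CommRing B] [Algebra A B]
  [Module.Finite A B]

lemma one_sub_mem {n : Ideal B} [hn : n.IsMaximal] {e : B} (he : IsIdempotentElem e)
    (hen : e ∉ n) : 1 - e ∈ n := by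
  have h0 : e * (1 - e) = 0 := by rw [mul_sub, mul_one, he.eq, sub_self]
  have : e * (1 - e) ∈ n := by rw [h0]; exact n.zero_mem
  exact (hn.isPrime.mem_or_mem this).resolve_left hen

theorem exists_pi_of_lift (hlift : Set.SurjOn (Ideal.Quotient.mk (Ideal.map (algebraMap A B)
      (IsLocalRing.maximalIdeal A))) {e : B | IsIdempotentElem e} {e | IsIdempotentElem e}) :
    ∃ (ι : Type u) (_ : Fintype ι) (C : ι → Type u) (_ : ∀ j, CommRing (C j)),
        (∀ j, IsLocalRing (C j)) ∧ Nonempty (B ≃+* (∀ j, C j)) := by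
  classical
  have hfin := finite_maximalSpectrum A B
  let _ : Fintype (MaximalSpectrum B) := Fintype.ofFinite _
  choose e he_idem he_not he_mem using exists_idem A B hlift
  have horth : OrthogonalIdempotents e := by
    refine ⟨he_idem, ?_⟩
    intro n n' hnn'
    apply idem_eq_zero_of_forall_mem B ((he_idem n).mul (he_idem n'))
    intro N
    by_cases hN : N = n
    · exact Ideal.mul_mem_left _ _ (he_mem n' N (by rw [hN]; exact hnn'))
    · exact Ideal.mul_mem_right _ _ (he_mem n N hN)
  have hcompl : ∑ n, e n = 1 := by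
    have hidem : IsIdempotentElem (1 - ∑ n, e n) := (horth.isIdempotentElem_sum).one_sub
    have h0 : 1 - ∑ n, e n = 0 := by
      apply idem_eq_zero_of_forall_mem B hidem
      intro N
      have hN := N.isMaximal
      rw [← Finset.add_sum_erase Finset.univ e (Finset.mem_univ N), ← sub_sub]
      apply Ideal.sub_mem
      · exact one_sub_mem B (he_idem N) (he_not N)
      · apply Ideal.sum_mem
        intro n hn
        exact he_mem n N (Finset.ne_of_mem_erase hn).symm
    exact (sub_eq_zero.mp h0).symm
  have hcoi : CompleteOrthogonalIdempotents e := ⟨horth, hcompl⟩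
  refine ⟨MaximalSpectrum B, inferInstance, fun n => B ⧸ Ideal.span {1 - e n}, inferInstance,
    ?_, ⟨RingEquiv.ofBijective _ hcoi.bijective_pi⟩⟩
  intro n
  have hn := n.isMaximal
  have hker : RingHom.ker (Ideal.Quotient.mk (Ideal.span {1 - e n})) ≤ n.asIdeal := by
    rw [Ideal.mk_ker, Ideal.span_le, Set.singleton_subset_iff]
    exact one_sub_mem B (he_idem n) (he_not n)
  apply IsLocalRing.of_unique_max_ideal
  refine ⟨n.asIdeal.map (Ideal.Quotient.mk _),
    Ideal.IsMaximal.map_of_surjective_of_ker_le Ideal.Quotient.mk_surjective hker, ?_⟩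
  intro M hM
  have hcM : (M.comap (Ideal.Quotient.mk (Ideal.span {1 - e n}))).IsMaximal :=
    Ideal.comap_isMaximal_of_surjective _ Ideal.Quotient.mk_surjective
  have hmem : 1 - e n ∈ M.comap (Ideal.Quotient.mk (Ideal.span {1 - e n})) := by
    rw [Ideal.mem_comap]
    have : Ideal.Quotient.mk (Ideal.span {1 - e n}) (1 - e n) = 0 :=
      Ideal.Quotient.eq_zero_iff_mem.mpr (Ideal.mem_span_singleton_self _)
    rw [this]; exact M.zero_mem
  have heq : M.comap (Ideal.Quotient.mk (Ideal.span {1 - e n})) = n.asIdeal := by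
    by_contra hne
    have h1 := he_mem n ⟨_, hcM⟩ (fun h => hne (congrArg MaximalSpectrum.asIdeal h))
    have : (1 : B) ∈ M.comap (Ideal.Quotient.mk (Ideal.span {1 - e n})) := by
      have := Ideal.add_mem _ hmem h1
      rwa [sub_add_cancel] at this
    exact hcM.ne_top ((Ideal.eq_top_iff_one _).mpr this)
  rw [← heq, Ideal.map_comap_of_surjective _ Ideal.Quotient.mk_surjective]

end Decomp

section Prod
variable {B : Type u} [CommRing B] {ι : Type u} [Fintype ι] {C : ι → Type u}
  [∀ j, CommRing (C j)] [∀ j, IsLocalRing (C j)] (φ : B ≃+* (∀ j, C j))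

/-- the projections. -/
noncomputable def ψ (j : ι) : B →+* C j := (Pi.evalRingHom C j).comp φ.toRingHom

lemma ψ_apply (j : ι) (b : B) : ψ φ j b = φ b j := rfl

lemma ψ_surjective (j : ι) : Function.Surjective (ψ φ j) := by
  classical
  intro c
  refine ⟨φ.symm (Pi.single j c), ?_⟩
  rw [ψ_apply, RingEquiv.apply_symm_apply, Pi.single_eq_same]

/-- the maximal ideals of the product. -/
noncomputable def nj (j : ι) : MaximalSpectrum B :=
  ⟨(maximalIdeal (C j)).comap (ψ φ j),
    Ideal.comap_isMaximal_of_surjective _ (ψ_surjective φ j)⟩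

lemma mem_nj (j : ι) (b : B) : b ∈ (nj φ j).asIdeal ↔ φ b j ∈ maximalIdeal (C j) := Iff.rfl

open Classical in
/-- the idempotents. -/
noncomputable def E (j : ι) : B := φ.symm (Pi.single j 1)

open Classical in
lemma φ_E (j : ι) : φ (E φ j) = Pi.single j 1 := by
  unfold E; rw [RingEquiv.apply_symm_apply]

open Classical in
lemma sum_E : ∑ j, E φ j = 1 := by
  apply φ.injective
  rw [map_sum, map_one]
  simp only [φ_E]
  exact Finset.univ_sum_single (1 : ∀ j, C j)

lemma E_notMem (j : ι) : E φ j ∉ (nj φ j).asIdeal := by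
  classical
  rw [mem_nj, φ_E, Pi.single_eq_same]
  exact fun h => (Ideal.ne_top_iff_one _).mp (IsLocalRing.maximalIdeal.isMaximal (C j)).ne_top h

lemma exists_eq_nj (n : MaximalSpectrum B) : ∃ j, n = nj φ j := by
  classical
  have hn := n.isMaximal
  obtain ⟨j, hj⟩ : ∃ j, E φ j ∉ n.asIdeal := by
    by_contra hall
    push Not at hall
    have : (1 : B) ∈ n.asIdeal := by
      rw [← sum_E φ]; exact Ideal.sum_mem _ (fun j _ => hall j)
    exact hn.ne_top ((Ideal.eq_top_iff_one _).mpr this)
  refine ⟨j, ?_⟩
  ext1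
  have hle : n.asIdeal ≤ (nj φ j).asIdeal := by
    intro b hb
    rw [mem_nj]
    by_contra hnot
    have hu : IsUnit (φ b j) := by
      by_contra hnu
      exact hnot ((IsLocalRing.mem_maximalIdeal _).mpr hnu)
    obtain ⟨u, hu⟩ := hu
    apply hj
    have : E φ j = b * φ.symm (Pi.single j (↑u⁻¹ : C j)) := by
      apply φ.injective
      rw [map_mul, RingEquiv.apply_symm_apply, φ_E]
      funext k
      by_cases hk : k = j
      · subst hk
        rw [Pi.mul_apply, Pi.single_eq_same, Pi.single_eq_same, ← hu, Units.mul_inv]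
      · rw [Pi.mul_apply, Pi.single_eq_of_ne hk, Pi.single_eq_of_ne hk, mul_zero]
    rw [this]
    exact Ideal.mul_mem_right _ _ hb
  exact hn.eq_of_le (nj φ j).isMaximal.ne_top hle

include φ in
theorem toPiLocalization_bijective :
    Function.Bijective
      (RingHom.pi (fun n : MaximalSpectrum B => algebraMap B (Localization.AtPrime n.asIdeal))) := by
  classical
  constructor
  · intro x y h
    exact MaximalSpectrum.toPiLocalization_injective B h
  · intro x
    have hx : ∀ j, ∃ (b : B) (s : (nj φ j).asIdeal.primeCompl),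
        x (nj φ j) = IsLocalization.mk' (Localization.AtPrime (nj φ j).asIdeal) b s := by
      intro j
      obtain ⟨b, s, h⟩ := IsLocalization.exists_mk'_eq (nj φ j).asIdeal.primeCompl (x (nj φ j))
      exact ⟨b, s, h.symm⟩
    choose b s hbs using hx
    have hu : ∀ j, IsUnit (φ (s j : B) j) := by
      intro j
      by_contra hnu
      exact (s j).2 ((mem_nj φ j _).mpr ((IsLocalRing.mem_maximalIdeal _).mpr hnu))
    choose u hu using hu
    refine ⟨φ.symm (fun j => φ (b j) j * (↑(u j)⁻¹ : C j)), ?_⟩
    funext n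
    obtain ⟨j, rfl⟩ := exists_eq_nj φ n
    rw [RingHom.pi_apply, hbs j, IsLocalization.eq_mk'_iff_mul_eq, ← map_mul]
    rw [IsLocalization.eq_iff_exists (nj φ j).asIdeal.primeCompl]
    refine ⟨⟨E φ j, E_notMem φ j⟩, ?_⟩
    apply φ.injective
    simp only [map_mul, RingEquiv.apply_symm_apply, φ_E]
    funext k
    by_cases hk : k = j
    · subst hk
      simp only [Pi.mul_apply, Pi.single_eq_same, one_mul]
      rw [← hu, mul_assoc, Units.inv_mul, mul_one]
    · simp only [Pi.mul_apply, Pi.single_eq_of_ne hk, zero_mul]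

end Prod

section Lift
variable (A : Type u) [CommRing A] [IsLocalRing A] {B : Type u} [CommRing B] [Algebra A B]
  [Module.Finite A B] {ι : Type u} [Fintype ι] {C : ι → Type u}
  [∀ j, CommRing (C j)] [∀ j, IsLocalRing (C j)] (φ : B ≃+* (∀ j, C j))

lemma map_ψ_le (j : ι) :
    ((maximalIdeal A).map (algebraMap A B)).map (ψ φ j) ≤ maximalIdeal (C j) := by
  apply IsLocalRing.le_maximalIdeal
  intro htop
  have h1 := congrArg (Ideal.comap (ψ φ j)) htop
  rw [Ideal.comap_map_of_surjective _ (ψ_surjective φ j), Ideal.comap_top, sup_comm] at h1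
  have h2 := eq_top_of_sup_map_eq_top A B _ h1
  have : (1 : B) ∈ Ideal.comap (ψ φ j) ⊥ := by rw [h2]; trivial
  rw [Ideal.mem_comap, map_one, Ideal.mem_bot] at this
  exact one_ne_zero this

include φ in
theorem surjOn_idem :
    Set.SurjOn (Ideal.Quotient.mk (Ideal.map (algebraMap A B) (IsLocalRing.maximalIdeal A)))
      {e : B | IsIdempotentElem e} {e | IsIdempotentElem e} := by
  classical
  intro ebar hebar
  obtain ⟨b, rfl⟩ := Ideal.Quotient.mk_surjective ebar
  set I := Ideal.map (algebraMap A B) (IsLocalRing.maximalIdeal A) with hI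
  have hb : b * b - b ∈ I := by
    rw [← Ideal.Quotient.eq, map_mul]; exact hebar
  -- the target idempotent
  let e' : ∀ j, C j := fun j => if φ b j ∈ maximalIdeal (C j) then 0 else 1
  have he'idem : IsIdempotentElem e' := by
    funext j
    show e' j * e' j = e' j
    simp only [e']
    split_ifs <;> simp
  have hmemj : ∀ j, φ b j - e' j ∈ I.map (ψ φ j) := by
    intro j
    have h1 : φ b j * φ b j - φ b j ∈ I.map (ψ φ j) := by
      have := Ideal.mem_map_of_mem (ψ φ j) hb
      simpa [ψ_apply] using this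
    by_cases hc : φ b j ∈ maximalIdeal (C j)
    · have he : e' j = 0 := if_pos hc
      rw [he, sub_zero]
      have hu : IsUnit (1 - φ b j) :=
        IsLocalRing.isUnit_one_sub_self_of_mem_nonunits _ ((IsLocalRing.mem_maximalIdeal _).mp hc)
      have h2 : φ b j * (1 - φ b j) ∈ I.map (ψ φ j) := by
        have : φ b j * (1 - φ b j) = -(φ b j * φ b j - φ b j) := by ring
        rw [this]; exact Ideal.neg_mem_iff _ |>.mpr h1
      exact (Ideal.mul_unit_mem_iff_mem _ hu).mp h2
    · have he : e' j = 1 := if_neg hc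
      rw [he]
      have hu : IsUnit (φ b j) := by
        by_contra hnu
        exact hc ((IsLocalRing.mem_maximalIdeal _).mpr hnu)
      have h2 : φ b j * (φ b j - 1) ∈ I.map (ψ φ j) := by
        have : φ b j * (φ b j - 1) = φ b j * φ b j - φ b j := by ring
        rw [this]; exact h1
      exact (Ideal.unit_mul_mem_iff_mem _ hu).mp h2
  have : ∀ j, ∃ i ∈ I, ψ φ j i = φ b j - e' j := fun j =>
    (Ideal.mem_map_iff_of_surjective _ (ψ_surjective φ j)).mp (hmemj j)
  choose i hiI hi using this
  refine ⟨φ.symm e', ?_, ?_⟩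
  · show φ.symm e' * φ.symm e' = φ.symm e'
    rw [← map_mul, he'idem.eq]
  · rw [Ideal.Quotient.eq]
    have hsum : φ.symm e' - b = -∑ j, E φ j * i j := by
      apply φ.injective
      rw [map_sub, RingEquiv.apply_symm_apply, map_neg, map_sum]
      funext k
      simp only [map_mul, φ_E, Pi.sub_apply, Pi.neg_apply, Finset.sum_apply, Pi.mul_apply]
      rw [Finset.sum_eq_single k]
      · rw [Pi.single_eq_same, one_mul, ← ψ_apply φ k (i k), hi k]; ring
      · intro j _ hjk
        rw [Pi.single_eq_of_ne (Ne.symm hjk), zero_mul]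
      · intro h; exact absurd (Finset.mem_univ k) h
    rw [hsum]
    exact I.neg_mem (I.sum_mem fun j _ => I.mul_mem_left _ (hiI j))

end Lift

end Groth.Agent.H9.FinLocal
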