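import Mathlib

/-!
# Kähler differentials of function fields and separating transcendence bases
-/

namespace Groth.Agent.H9.KFF

open MvPolynomial KaehlerDifferential TensorProduct

section Indep

variable {k F : Type*} [Field k] [Field F] [Algebra k F] {ι : Type*} (y : ι → F)

/-- if `y` is algebraically independent and `F` is separable over `k(y)`, the `d y_i` form a basis of
`Ω[F/k]` -/
theorem exists_basis_of_isSeparable (hy : AlgebraicIndependent k y)
    [hs : Algebra.IsSeparable (IntermediateField.adjoin k (Set.range y)) F] :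
    ∃ b : Module.Basis ι F (Ω[F⁄k]), ∀ i, b i = D k F (y i) := by
  classical
  let E := IntermediateField.adjoin k (Set.range y)
  let P := MvPolynomial ι k
  let g : ι → E := fun i => ⟨y i, IntermediateField.subset_adjoin k _ ⟨i, rfl⟩⟩
  letI aPE : Algebra P E := (aeval g).toRingHom.toAlgebra
  letI aPF : Algebra P F := (aeval y).toRingHom.toAlgebra
  have hPE : ∀ p : P, algebraMap P E p = aeval g p := fun p => rfl
  have hPF : ∀ p : P, algebraMap P F p = aeval y p := fun p => rfl
  have t1 : IsScalarTower k P E := IsScalarTower.of_algebraMap_eq (fun c => by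
    rw [hPE, MvPolynomial.algebraMap_eq, aeval_C])
  have t2 : IsScalarTower k P F := IsScalarTower.of_algebraMap_eq (fun c => by
    rw [hPF, MvPolynomial.algebraMap_eq, aeval_C])
  have hval : ∀ p : P, ((aeval g p : E) : F) = aeval y p := by
    intro p
    exact MvPolynomial.comp_aeval_apply (f := g) (E.val) p
  have t3 : IsScalarTower P E F := IsScalarTower.of_algebraMap_eq (fun p => by
    rw [hPF, hPE]
    exact (hval p).symm)
  let e0 := hy.aevalEquivField
  let e : FractionRing P ≃ₐ[P] E := AlgEquiv.ofRingEquiv (f := e0.toRingEquiv) (fun p => by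
    apply Subtype.ext
    rw [hPE, hval]
    exact hy.aevalEquivField_algebraMap_apply_coe p)
  have : IsLocalization (nonZeroDivisors P) E :=
    IsLocalization.isLocalization_of_algEquiv (nonZeroDivisors P) e
  have : Algebra.FormallyEtale P E := Algebra.FormallyEtale.of_isLocalization (nonZeroDivisors P)
  have : Algebra.FormallyEtale E F := Algebra.FormallyEtale.of_isSeparable E F
  have : Algebra.FormallyEtale P F := Algebra.FormallyEtale.comp P E F
  let b0 := KaehlerDifferential.mvPolynomialBasis k ι
  have hb0 : ∀ i, b0 i = D k P (X i) := by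
    intro i
    apply b0.repr.injective
    rw [mvPolynomialBasis_repr_D_X, Module.Basis.repr_self]
  let b1 : Module.Basis ι F (F ⊗[P] Ω[P⁄k]) := b0.baseChange F
  let b2 : Module.Basis ι F (Ω[F⁄k]) :=
    b1.map (KaehlerDifferential.tensorKaehlerEquivOfFormallyEtale k P F)
  refine ⟨b2, fun i => ?_⟩
  simp only [b2, b1, Module.Basis.map_apply, Module.Basis.baseChange_apply,
    tensorKaehlerEquivOfFormallyEtale_apply, hb0]
  erw [KaehlerDifferential.mapBaseChange_tmul]
  rw [one_smul, KaehlerDifferential.map_D, hPF, aeval_X]

theorem rank_eq_trdeg [PerfectField k] [Algebra.EssFiniteType k F] :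
    Module.rank F (Ω[F⁄k]) = Algebra.trdeg k F := by
  classical
  obtain ⟨s, hs1, hs2⟩ := exists_isTranscendenceBasis_and_isSeparable_of_perfectField k F
  have hrange : Set.range ((↑) : s → F) = (s : Set F) := Subtype.range_coe
  have key : ∀ E1 E2 : IntermediateField k F, E1 = E2 → Algebra.IsSeparable E1 F →
      Algebra.IsSeparable E2 F := by
    rintro E1 E2 rfl h
    exact h
  have hsep : Algebra.IsSeparable (IntermediateField.adjoin k (Set.range ((↑) : s → F))) F :=
    key _ _ (congrArg (IntermediateField.adjoin k) hrange.symm) hs2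
  obtain ⟨b, -⟩ := exists_basis_of_isSeparable ((↑) : s → F) hs1.1
  rw [← b.mk_eq_rank'']
  exact hs1.cardinalMk_eq_trdeg

end Indep

end Groth.Agent.H9.KFF
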