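import Mathlib

/-!
# Monogenic finite torsion-free algebras over an integrally closed domain
-/

set_option autoImplicit false

namespace Groth.Agent.H9.MonoIC

open TensorProduct Polynomial

universe u

variable (A : Type u) [CommRing A] [IsDomain A]
  (B : Type u) [CommRing B] [Algebra A B]

local notation "K" => FractionRing A

/-- `B → K ⊗ B` is injective for torsion-free `B`. -/
theorem one_tmul_injective [NoZeroSMulDivisors A B] :
    Function.Injective (fun b : B => (1 : K) ⊗ₜ[A] b) := by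
  intro b b' h
  have h1 : TensorProduct.mk A K B 1 (b - b') = 0 := by
    rw [map_sub, sub_eq_zero]
    exact h
  obtain ⟨s, hs⟩ := (IsLocalizedModule.eq_zero_iff (nonZeroDivisors A)
    (TensorProduct.mk A K B 1)).1 h1
  have hs0 : (s : A) ≠ 0 := nonZeroDivisors.ne_zero s.2
  have h2 : (s : A) • (b - b') = 0 := hs
  rcases smul_eq_zero.1 h2 with h3 | h3
  · exact absurd h3 hs0
  · exact sub_eq_zero.1 h3

variable {B}

theorem aeval_one_tmul (x : B) (q : A[X]) :
    aeval ((1 : K) ⊗ₜ[A] x) (q.map (algebraMap A K)) = (1 : K) ⊗ₜ[A] aeval x q := by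
  rw [aeval_map_algebraMap]
  have : ((1 : K) ⊗ₜ[A] x) = Algebra.TensorProduct.includeRight (R := A) (A := K) (B := B) x := rfl
  rw [this, aeval_algHom_apply]
  rfl

theorem adjoin_one_tmul_eq_top (x : B) (hx : Algebra.adjoin A {x} = ⊤) :
    Algebra.adjoin K {(1 : K) ⊗ₜ[A] x} = ⊤ := by
  rw [eq_top_iff]
  intro z _
  induction z using TensorProduct.induction_on with
  | zero => exact zero_mem _
  | add z z' hz hz' => exact add_mem (hz trivial) (hz' trivial)
  | tmul c b =>
    have hb : b ∈ Algebra.adjoin A {x} := by rw [hx]; trivial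
    rw [Algebra.adjoin_singleton_eq_range_aeval] at hb
    obtain ⟨q, rfl⟩ := hb
    change c ⊗ₜ[A] (aeval x q) ∈ Algebra.adjoin K {(1 : K) ⊗ₜ[A] x}
    have h1 : c ⊗ₜ[A] (aeval x q) = c • ((1 : K) ⊗ₜ[A] aeval x q) := by
      rw [TensorProduct.smul_tmul', smul_eq_mul, mul_one]
    rw [h1]
    apply Subalgebra.smul_mem
    have h2 : (1 : K) ⊗ₜ[A] aeval x q = aeval ((1 : K) ⊗ₜ[A] x) (q.map (algebraMap A K)) :=
      (aeval_one_tmul A x q).symm
    change (1 : K) ⊗ₜ[A] (aeval x) q ∈ Algebra.adjoin K {(1 : K) ⊗ₜ[A] x}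
    rw [h2, Algebra.adjoin_singleton_eq_range_aeval]
    exact ⟨_, rfl⟩

theorem main [IsIntegrallyClosed A] [Module.Finite A B] [NoZeroSMulDivisors A B] (x : B)
    (hx : Algebra.adjoin A {x} = ⊤) :
    ∃ P : A[X], P.Monic ∧
      P.map (algebraMap A K) = (LinearMap.mulLeft K ((1 : K) ⊗ₜ[A] x)).charpoly ∧
      RingHom.ker (aeval x).toRingHom = Ideal.span {P} := by
  have hyint : IsIntegral K ((1 : K) ⊗ₜ[A] x) := Algebra.IsIntegral.isIntegral _
  have hchar : (LinearMap.mulLeft K ((1 : K) ⊗ₜ[A] x)).charpoly =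
      minpoly K ((1 : K) ⊗ₜ[A] x) := by
    let pb := PowerBasis.ofAdjoinEqTop hyint (adjoin_one_tmul_eq_top A x hx)
    rw [← LinearMap.charpoly_toMatrix (LinearMap.mulLeft K ((1 : K) ⊗ₜ[A] x)) pb.basis]
    have h1 := charpoly_leftMulMatrix pb
    rw [PowerBasis.ofAdjoinEqTop_gen] at h1
    rw [← h1, Algebra.leftMulMatrix_apply]
    rfl
  have hxint : IsIntegral A x := Algebra.IsIntegral.isIntegral x
  have hdvd : minpoly K ((1 : K) ⊗ₜ[A] x) ∣ (minpoly A x).map (algebraMap A K) := by
    apply minpoly.dvd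
    rw [aeval_one_tmul, minpoly.aeval, TensorProduct.tmul_zero]
  obtain ⟨P, hP⟩ := IsIntegrallyClosed.eq_map_mul_C_of_dvd K (minpoly.monic hxint) hdvd
  rw [(minpoly.monic hyint).leadingCoeff, C_1, mul_one] at hP
  have hinj : Function.Injective (algebraMap A K) := IsFractionRing.injective A K
  have hPm : P.Monic := monic_of_injective hinj (hP ▸ minpoly.monic hyint)
  have hPx : aeval x P = 0 := by
    apply one_tmul_injective A B
    change (1 : K) ⊗ₜ[A] aeval x P = (1 : K) ⊗ₜ[A] (0 : B)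
    rw [← aeval_one_tmul, hP, minpoly.aeval, TensorProduct.tmul_zero]
  refine ⟨P, hPm, by rw [hP, hchar], ?_⟩
  ext h
  rw [RingHom.mem_ker, Ideal.mem_span_singleton]
  constructor
  · intro hh
    rw [← Polynomial.modByMonic_eq_zero_iff_dvd hPm]
    by_contra hr
    have hrx : aeval x (h %ₘ P) = 0 := by
      have h1 := Polynomial.modByMonic_add_div h P
      have h2 : aeval x h = aeval x (h %ₘ P) + aeval x P * aeval x (h /ₘ P) := by
        rw [← map_mul, ← map_add, h1]
      rw [hPx, zero_mul, add_zero] at h2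
      rw [← h2]
      exact hh
    have h3 : minpoly K ((1 : K) ⊗ₜ[A] x) ∣ (h %ₘ P).map (algebraMap A K) := by
      apply minpoly.dvd
      rw [aeval_one_tmul, hrx, TensorProduct.tmul_zero]
    have hne : (h %ₘ P).map (algebraMap A K) ≠ 0 := (Polynomial.map_ne_zero_iff hinj).2 hr
    have hdeg := Polynomial.degree_le_of_dvd h3 hne
    have hlt : degree (h %ₘ P) < degree P := degree_modByMonic_lt h hPm
    rw [← hP, degree_map_eq_of_injective hinj, degree_map_eq_of_injective hinj] at hdeg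
    exact absurd hdeg (not_le.2 hlt)
  · rintro ⟨q, rfl⟩
    change aeval x (P * q) = 0
    rw [map_mul, hPx, zero_mul]

end Groth.Agent.H9.MonoIC
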