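import Mathlib

/-!
# The Segre product of two finitely generated graded algebras is Noetherian
-/

set_option autoImplicit false
set_option linter.unusedSectionVars false

namespace Groth.Agent.H9.SegreNoeth

open TensorProduct DirectSum

universe u

variable {k : Type u} [Field k] {R : Type u} [CommRing R] [Algebra k R]
  (𝒜 : ℤ → Submodule k R) [GradedAlgebra 𝒜]
  {S : Type u} [CommRing S] [Algebra k S] (ℬ : ℤ → Submodule k S) [GradedAlgebra ℬ]

/-- component of the diagonal projection -/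
noncomputable def comp (p : ℤ) : 𝒜 p →ₗ[k] S →ₗ[k] R ⊗[k] S :=
  ((TensorProduct.mk k R S).domRestrict (𝒜 p)).compl₂ (GradedAlgebra.proj ℬ p)

theorem comp_apply (p : ℤ) (a : 𝒜 p) (b : S) :
    comp 𝒜 ℬ p a b = (a : R) ⊗ₜ[k] GradedAlgebra.proj ℬ p b := rfl

noncomputable def beta : R →ₗ[k] S →ₗ[k] R ⊗[k] S :=
  (DirectSum.toModule k ℤ _ (comp 𝒜 ℬ)) ∘ₗ (DirectSum.decomposeLinearEquiv 𝒜).toLinearMap

/-- The projection onto the diagonal bidegrees. -/
noncomputable def pi : R ⊗[k] S →ₗ[k] R ⊗[k] S := TensorProduct.lift (beta 𝒜 ℬ)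

theorem pi_tmul_of_mem {p : ℤ} {a : R} (ha : a ∈ 𝒜 p) (b : S) :
    pi 𝒜 ℬ (a ⊗ₜ[k] b) = a ⊗ₜ[k] GradedAlgebra.proj ℬ p b := by
  rw [pi, TensorProduct.lift.tmul, beta, LinearMap.comp_apply, LinearEquiv.coe_coe,
    DirectSum.decomposeLinearEquiv_apply, DirectSum.decompose_of_mem 𝒜 ha]
  erw [DirectSum.toModule_lof]
  rfl

theorem pi_tmul_of_mem_mem {p : ℤ} {a : R} (ha : a ∈ 𝒜 p) {b : S} (hb : b ∈ ℬ p) :
    pi 𝒜 ℬ (a ⊗ₜ[k] b) = a ⊗ₜ[k] b := by
  rw [pi_tmul_of_mem 𝒜 ℬ ha, GradedAlgebra.proj_apply, DirectSum.decompose_of_mem_same ℬ hb]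

/-- `π` is linear over the diagonal part. -/
theorem pi_mul_of_mem {n : ℤ} {a : R} (ha : a ∈ 𝒜 n) {b : S} (hb : b ∈ ℬ n)
    (c : R ⊗[k] S) : pi 𝒜 ℬ ((a ⊗ₜ[k] b) * c) = (a ⊗ₜ[k] b) * pi 𝒜 ℬ c := by
  induction c using TensorProduct.induction_on with
  | zero => simp
  | add x y hx hy => rw [mul_add, map_add, hx, hy, map_add, mul_add]
  | tmul a' b' =>
    induction a' using DirectSum.Decomposition.inductionOn 𝒜 with
    | zero => simp
    | add x y hx hy =>
      rw [TensorProduct.add_tmul, mul_add, map_add, hx, hy, map_add, mul_add]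
    | homogeneous a' =>
      rename_i p
      rw [Algebra.TensorProduct.tmul_mul_tmul,
        pi_tmul_of_mem 𝒜 ℬ (SetLike.mul_mem_graded ha a'.2),
        pi_tmul_of_mem 𝒜 ℬ a'.2, Algebra.TensorProduct.tmul_mul_tmul,
        GradedAlgebra.proj_apply, GradedAlgebra.proj_apply,
        DirectSum.coe_decompose_mul_add_of_left_mem ℬ hb]

section Main

variable {T : Type u} [CommRing T] [Algebra k T] (𝒯 : ℤ → Submodule k T) [GradedAlgebra 𝒯]
  (ψ : T →ₐ[k] R ⊗[k] S)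
  (hdegT : ∀ n : ℤ, (𝒯 n).map ψ.toLinearMap =
    Submodule.span k {x : R ⊗[k] S | ∃ a ∈ 𝒜 n, ∃ b ∈ ℬ n, x = a ⊗ₜ[k] b})

include hdegT

theorem pi_psi (t : T) : pi 𝒜 ℬ (ψ t) = ψ t := by
  induction t using DirectSum.Decomposition.inductionOn 𝒯 with
  | zero => simp
  | add x y hx hy => rw [map_add, map_add, hx, hy]
  | homogeneous t =>
    rename_i n
    have : ψ t ∈ (𝒯 n).map ψ.toLinearMap := ⟨t, t.2, rfl⟩
    rw [hdegT] at this
    have key : ∀ x ∈ Submodule.span k {x : R ⊗[k] S | ∃ a ∈ 𝒜 n, ∃ b ∈ ℬ n, x = a ⊗ₜ[k] b},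
        pi 𝒜 ℬ x = x := by
      intro x hx
      induction hx using Submodule.span_induction with
      | mem x hx =>
        obtain ⟨a, ha, b, hb, rfl⟩ := hx
        exact pi_tmul_of_mem_mem 𝒜 ℬ ha hb
      | zero => simp
      | add x y _ _ hx hy => rw [map_add, hx, hy]
      | smul r x _ hx => rw [map_smul, hx]
    exact key _ this

theorem pi_psi_mul (t : T) (c : R ⊗[k] S) : pi 𝒜 ℬ (ψ t * c) = ψ t * pi 𝒜 ℬ c := by
  induction t using DirectSum.Decomposition.inductionOn 𝒯 with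
  | zero => simp
  | add x y hx hy => rw [map_add, add_mul, map_add, hx, hy, add_mul]
  | homogeneous t =>
    rename_i n
    have : ψ t ∈ (𝒯 n).map ψ.toLinearMap := ⟨t, t.2, rfl⟩
    rw [hdegT] at this
    have key : ∀ x ∈ Submodule.span k {x : R ⊗[k] S | ∃ a ∈ 𝒜 n, ∃ b ∈ ℬ n, x = a ⊗ₜ[k] b},
        pi 𝒜 ℬ (x * c) = x * pi 𝒜 ℬ c := by
      intro x hx
      induction hx using Submodule.span_induction with
      | mem x hx =>
        obtain ⟨a, ha, b, hb, rfl⟩ := hx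
        exact pi_mul_of_mem 𝒜 ℬ ha hb c
      | zero => simp
      | add x y _ _ hx hy => rw [add_mul, map_add, hx, hy, add_mul]
      | smul r x _ hx => rw [smul_mul_assoc, map_smul, hx, smul_mul_assoc]
    exact key _ this

theorem exists_psi_eq_pi (c : R ⊗[k] S) : ∃ t : T, ψ t = pi 𝒜 ℬ c := by
  induction c using TensorProduct.induction_on with
  | zero => exact ⟨0, by simp⟩
  | add x y hx hy =>
    obtain ⟨t, ht⟩ := hx
    obtain ⟨t', ht'⟩ := hy
    exact ⟨t + t', by rw [map_add, map_add, ht, ht']⟩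
  | tmul a b =>
    induction a using DirectSum.Decomposition.inductionOn 𝒜 with
    | zero => exact ⟨0, by simp⟩
    | add x y hx hy =>
      obtain ⟨t, ht⟩ := hx
      obtain ⟨t', ht'⟩ := hy
      exact ⟨t + t', by rw [map_add, TensorProduct.add_tmul, map_add, ht, ht']⟩
    | homogeneous a =>
      rename_i p
      have h1 : pi 𝒜 ℬ ((a : R) ⊗ₜ[k] b) ∈ (𝒯 p).map ψ.toLinearMap := by
        rw [hdegT, pi_tmul_of_mem 𝒜 ℬ a.2]
        apply Submodule.subset_span
        refine ⟨a, a.2, _, ?_, rfl⟩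
        rw [GradedAlgebra.proj_apply]
        exact Submodule.coe_mem _
      obtain ⟨t, _, ht⟩ := h1
      exact ⟨t, ht⟩

/-- The Segre product is Noetherian when the tensor product is. -/
theorem isNoetherianRing_of_tensor (hψ : Function.Injective ψ) [IsNoetherianRing (R ⊗[k] S)] :
    IsNoetherianRing T := by
  classical
  rw [isNoetherianRing_iff_ideal_fg]
  intro J
  have hfg : (Ideal.span (ψ '' (J : Set T)) : Ideal (R ⊗[k] S)).FG :=
    IsNoetherian.noetherian _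
  obtain ⟨s', hs', hspan⟩ := (Submodule.fg_span_iff_fg_span_finset_subset _).1 hfg
  have hg : ∀ a : R ⊗[k] S, ∃ j : T, a ∈ (s' : Set (R ⊗[k] S)) → (j ∈ J ∧ ψ j = a) := by
    intro a
    by_cases ha : a ∈ (s' : Set (R ⊗[k] S))
    · obtain ⟨j, hj, hja⟩ := hs' ha
      exact ⟨j, fun _ => ⟨hj, hja⟩⟩
    · exact ⟨0, fun h => absurd h ha⟩
  choose g hg using hg
  refine ⟨s'.image g, ?_⟩
  apply le_antisymm
  · rw [Ideal.span_le]
    intro x hx
    rw [Finset.coe_image] at hx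
    obtain ⟨a, ha, rfl⟩ := hx
    exact (hg a ha).1
  · intro t ht
    have h1 : ψ t ∈ Ideal.span (ψ '' (J : Set T)) := Ideal.subset_span ⟨t, ht, rfl⟩
    have h1' : ψ t ∈ Submodule.span (R ⊗[k] S) (s' : Set (R ⊗[k] S)) := by
      rw [← hspan]
      exact h1
    obtain ⟨f, _, hf⟩ := Submodule.mem_span_finset.1 h1'
    choose τ hτ using exists_psi_eq_pi 𝒜 ℬ 𝒯 ψ hdegT
    have h2 : ψ t = ψ (∑ a ∈ s', g a * τ (f a)) := by
      rw [← pi_psi 𝒜 ℬ 𝒯 ψ hdegT t, ← hf, map_sum, map_sum]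
      refine Finset.sum_congr rfl fun a ha => ?_
      rw [map_mul, hτ, smul_eq_mul, mul_comm (f a) a]
      have := pi_psi_mul 𝒜 ℬ 𝒯 ψ hdegT (g a) (f a)
      rw [(hg a ha).2] at this
      rw [this, (hg a ha).2]
    rw [hψ h2]
    refine Ideal.sum_mem _ fun a ha => ?_
    exact Ideal.mul_mem_right _ _ (Ideal.subset_span (Finset.mem_image_of_mem g ha))

end Main

end Groth.Agent.H9.SegreNoeth
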