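import Mathlib

/-!
# Abel summation of `∑ k^j y^k` at `y = -1` and the Euler numbers `2/(e^t+1)`
-/

set_option autoImplicit false

namespace Groth.Agent.H9.AbelEuler

open Filter Topology

/-- `S j y = ∑ k^j y^k`. -/
noncomputable def S (j : ℕ) (y : ℂ) : ℂ := ∑' k : ℕ, (k : ℂ) ^ j * y ^ k

theorem summable_S (j : ℕ) {y : ℂ} (hy : ‖y‖ < 1) : Summable (fun k : ℕ => (k : ℂ) ^ j * y ^ k) :=
  summable_pow_mul_geometric_of_norm_lt_one j hy

theorem S_rec (j : ℕ) {y : ℂ} (hy : ‖y‖ < 1) :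
    S j y = (if j = 0 then 1 else 0) +
      y * ∑ i ∈ Finset.range (j + 1), (j.choose i : ℂ) * S i y := by
  unfold S
  rw [(summable_S j hy).tsum_eq_zero_add]
  congr 1
  · rcases Nat.eq_zero_or_pos j with h | h
    · simp [h]
    · simp [h.ne']
  · have h1 : ∀ k : ℕ, ((k + 1 : ℕ) : ℂ) ^ j * y ^ (k + 1) =
        y * ∑ i ∈ Finset.range (j + 1), (j.choose i : ℂ) * ((k : ℂ) ^ i * y ^ k) := by
      intro k
      push_cast
      rw [add_pow, Finset.sum_mul, Finset.mul_sum]
      apply Finset.sum_congr rfl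
      intro i _
      rw [one_pow, pow_succ]
      ring
    simp_rw [h1]
    rw [tsum_mul_left]
    congr 1
    rw [Summable.tsum_finsetSum (fun i _ => (summable_S i hy).mul_left _)]
    apply Finset.sum_congr rfl
    intro i _
    rw [tsum_mul_left]

/-- The recursion for the numbers `E j`. -/
theorem E_rec (E : ℕ → ℚ)
    (hE : PowerSeries.mk (fun j => E j / (j.factorial : ℚ)) * (PowerSeries.exp ℚ + 1) = 2)
    (j : ℕ) :
    ∑ i ∈ Finset.range (j + 1), (j.choose i : ℚ) * E i + E j = if j = 0 then 2 else 0 := by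
  have h := congrArg (PowerSeries.coeff j) hE
  rw [mul_add, mul_one, map_add, PowerSeries.coeff_mul, PowerSeries.coeff_mk] at h
  have h2 : PowerSeries.coeff j (2 : PowerSeries ℚ) = if j = 0 then 2 else 0 := by
    have : (2 : PowerSeries ℚ) = PowerSeries.C (2 : ℚ) := (map_ofNat PowerSeries.C 2).symm
    rw [this, PowerSeries.coeff_C]
  rw [h2, Finset.Nat.sum_antidiagonal_eq_sum_range_succ_mk] at h
  have hj : (j.factorial : ℚ) ≠ 0 := Nat.cast_ne_zero.2 j.factorial_ne_zero
  have h3 : (∑ i ∈ Finset.range (j + 1), (j.choose i : ℚ) * E i + E j) =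
      (j.factorial : ℚ) * (if j = 0 then 2 else 0) := by
    rw [← h, mul_add, Finset.mul_sum]
    congr 1
    · apply Finset.sum_congr rfl
      intro i hi
      have hij : i ≤ j := Nat.lt_succ_iff.1 (Finset.mem_range.1 hi)
      rw [PowerSeries.coeff_mk, PowerSeries.coeff_exp]
      have hi0 : (i.factorial : ℚ) ≠ 0 := Nat.cast_ne_zero.2 i.factorial_ne_zero
      have hji0 : ((j - i).factorial : ℚ) ≠ 0 := Nat.cast_ne_zero.2 (j - i).factorial_ne_zero
      rw [Nat.cast_choose ℚ hij]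
      simp only [map_div₀, map_one, map_natCast]
      field_simp
    · field_simp
  rw [h3]
  rcases Nat.eq_zero_or_pos j with h0 | h0
  · simp [h0]
  · simp [h0.ne']

theorem tendsto_S (E : ℕ → ℚ)
    (hE : PowerSeries.mk (fun j => E j / (j.factorial : ℚ)) * (PowerSeries.exp ℚ + 1) = 2)
    (j : ℕ) :
    Tendsto (fun y : ℝ => S j (y : ℂ)) (𝓝[Set.Ioo (-1 : ℝ) 1] (-1 : ℝ))
      (𝓝 ((E j : ℂ) / 2)) := by
  induction j using Nat.strong_induction_on with
  | _ j ih =>
    have hy0 : Tendsto (fun y : ℝ => (y : ℂ)) (𝓝[Set.Ioo (-1 : ℝ) 1] (-1 : ℝ)) (𝓝 (-1 : ℂ)) := by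
      have := (Complex.continuous_ofReal.tendsto (-1 : ℝ)).mono_left
        (nhdsWithin_le_nhds (s := Set.Ioo (-1 : ℝ) 1))
      simpa using this
    -- the closed formula
    have hform : ∀ y ∈ Set.Ioo (-1 : ℝ) 1, S j (y : ℂ) =
        ((if j = 0 then 1 else 0) +
          (y : ℂ) * ∑ i ∈ Finset.range j, (j.choose i : ℂ) * S i (y : ℂ)) / (1 - (y : ℂ)) := by
      intro y hy
      have hy1 : ‖(y : ℂ)‖ < 1 := by
        rw [Complex.norm_real, Real.norm_eq_abs, abs_lt]
        exact ⟨hy.1, hy.2⟩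
      have hne : (1 - (y : ℂ)) ≠ 0 := by
        intro h
        have : (y : ℂ) = 1 := (sub_eq_zero.1 h).symm
        rw [this] at hy1
        simp at hy1
      have h := S_rec j hy1
      rw [Finset.sum_range_succ, Nat.choose_self, Nat.cast_one, one_mul] at h
      rw [eq_div_iff hne]
      linear_combination h
    have hlim : Tendsto (fun y : ℝ => ((if j = 0 then 1 else 0) +
          (y : ℂ) * ∑ i ∈ Finset.range j, (j.choose i : ℂ) * S i (y : ℂ)) / (1 - (y : ℂ)))
        (𝓝[Set.Ioo (-1 : ℝ) 1] (-1 : ℝ))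
        (𝓝 (((if j = 0 then 1 else 0) +
          (-1 : ℂ) * ∑ i ∈ Finset.range j, (j.choose i : ℂ) * ((E i : ℂ) / 2)) / (1 - (-1 : ℂ)))) := by
      apply Tendsto.div
      · apply Tendsto.add tendsto_const_nhds
        apply Tendsto.mul hy0
        apply tendsto_finset_sum
        intro i hi
        exact Tendsto.mul tendsto_const_nhds (ih i (Finset.mem_range.1 hi))
      · exact Tendsto.sub tendsto_const_nhds hy0
      · norm_num
    have hval : ((if j = 0 then (1 : ℂ) else 0) +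
          (-1 : ℂ) * ∑ i ∈ Finset.range j, (j.choose i : ℂ) * ((E i : ℂ) / 2)) / (1 - (-1 : ℂ)) =
        (E j : ℂ) / 2 := by
      have h := E_rec E hE j
      rw [Finset.sum_range_succ, Nat.choose_self, Nat.cast_one, one_mul] at h
      have h'' : (∑ i ∈ Finset.range j, (j.choose i : ℂ) * ((E i : ℂ) / 2)) =
          (∑ i ∈ Finset.range j, (j.choose i : ℂ) * (E i : ℂ)) / 2 := by
        rw [Finset.sum_div]
        apply Finset.sum_congr rfl
        intro i _
        ring
      rw [h'']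
      have h2 : (1 - (-1 : ℂ)) = 2 := by norm_num
      rw [h2]
      rcases Nat.eq_zero_or_pos j with h0 | h0
      · subst h0
        simp only [if_true, Finset.range_zero, Finset.sum_empty] at h ⊢
        have h' := congrArg (Rat.cast : ℚ → ℂ) h
        push_cast at h'
        linear_combination (-1 / 4 : ℂ) * h'
      · simp only [h0.ne', if_false] at h ⊢
        have h' := congrArg (Rat.cast : ℚ → ℂ) h
        push_cast at h'
        linear_combination (-1 / 4 : ℂ) * h'
    rw [← hval]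
    refine hlim.congr' ?_
    filter_upwards [self_mem_nhdsWithin] with y hy
    exact (hform y hy).symm

theorem hasSum_eval {T : Type*} [NormedCommRing T] [NormedAlgebra ℂ T] (P : Polynomial T)
    {y : ℂ} (hy : ‖y‖ < 1) :
    HasSum (fun k : ℕ => y ^ k • P.eval (k : T))
      (∑ j ∈ Finset.range (P.natDegree + 1), S j y • P.coeff j) := by
  have h1 : ∀ k : ℕ, y ^ k • P.eval (k : T) =
      ∑ j ∈ Finset.range (P.natDegree + 1), ((k : ℂ) ^ j * y ^ k) • P.coeff j := by
    intro k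
    rw [Polynomial.eval_eq_sum_range, Finset.smul_sum]
    apply Finset.sum_congr rfl
    intro j _
    have : ((k : T)) = algebraMap ℂ T (k : ℂ) := (map_natCast _ k).symm
    rw [this, ← map_pow, ← Algebra.commutes, ← Algebra.smul_def, smul_smul, mul_comm]
  simp_rw [h1]
  apply hasSum_sum
  intro j _
  exact (summable_S j hy).hasSum.smul_const (P.coeff j)

theorem main {T : Type*} [NormedCommRing T] [NormedAlgebra ℂ T]
    (E : ℕ → ℚ)
    (hE : PowerSeries.mk (fun j => E j / (j.factorial : ℚ)) * (PowerSeries.exp ℚ + 1) = 2)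
    (P : Polynomial T) :
    (∀ y : ℂ, ‖y‖ < 1 → Summable (fun k : ℕ => y ^ k • P.eval (k : T))) ∧
    Tendsto (fun y : ℝ => ∑' k : ℕ, ((y : ℂ) ^ k) • P.eval (k : T))
      (𝓝[Set.Ioo (-1 : ℝ) 1] (-1 : ℝ))
      (𝓝 ((2 : ℂ)⁻¹ • ∑ j ∈ Finset.range (P.natDegree + 1), ((E j : ℚ) : ℂ) • P.coeff j)) := by
  refine ⟨fun y hy => (hasSum_eval P hy).summable, ?_⟩
  have hlim : Tendsto (fun y : ℝ => ∑ j ∈ Finset.range (P.natDegree + 1), S j (y : ℂ) • P.coeff j)
      (𝓝[Set.Ioo (-1 : ℝ) 1] (-1 : ℝ))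
      (𝓝 (∑ j ∈ Finset.range (P.natDegree + 1), ((E j : ℂ) / 2) • P.coeff j)) := by
    apply tendsto_finset_sum
    intro j _
    exact (tendsto_S E hE j).smul_const _
  have hval : (2 : ℂ)⁻¹ • ∑ j ∈ Finset.range (P.natDegree + 1), ((E j : ℚ) : ℂ) • P.coeff j =
      ∑ j ∈ Finset.range (P.natDegree + 1), ((E j : ℂ) / 2) • P.coeff j := by
    rw [Finset.smul_sum]
    apply Finset.sum_congr rfl
    intro j _
    rw [smul_smul, div_eq_inv_mul]
  rw [hval]
  refine hlim.congr' ?_
  filter_upwards [self_mem_nhdsWithin] with y hy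
  have hy1 : ‖(y : ℂ)‖ < 1 := by
    rw [Complex.norm_real, Real.norm_eq_abs, abs_lt]
    exact ⟨hy.1, hy.2⟩
  exact (hasSum_eval P hy1).tsum_eq.symm

end Groth.Agent.H9.AbelEuler
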