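import Mathlib

/-!
# Binary cubics and quadratics over `ℂ`
-/

set_option autoImplicit false

namespace Groth.Agent.H9.BinCubic

open Polynomial

/-- Vieta for a complex cubic. -/
theorem cubic_vieta (a b c d : ℂ) (ha : a ≠ 0) :
    ∃ x y z : ℂ, b = a * -(x + y + z) ∧ c = a * (x * y + x * z + y * z) ∧ d = a * -(x * y * z) := by
  let P : Cubic ℂ := ⟨a, b, c, d⟩
  have hs : Splits (P.toPoly.map (RingHom.id ℂ)) := IsAlgClosed.splits _
  obtain ⟨x, y, z, h3⟩ := (Cubic.splits_iff_roots_eq_three (P := P) (φ := RingHom.id ℂ) ha).1 hs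
  exact ⟨x, y, z, Cubic.b_eq_three_roots (P := P) ha h3, Cubic.c_eq_three_roots (P := P) ha h3,
    Cubic.d_eq_three_roots (P := P) ha h3⟩

/-- Vieta for a complex quadratic. -/
theorem quadratic_vieta (a b c : ℂ) (ha : a ≠ 0) :
    ∃ x y : ℂ, b = a * -(x + y) ∧ c = a * (x * y) := by
  obtain ⟨s, hs⟩ := IsAlgClosed.exists_eq_mul_self (discrim a b c)
  refine ⟨(-b + s) / (2 * a), (-b - s) / (2 * a), ?_, ?_⟩
  · field_simp
    ring
  · rw [discrim] at hs
    field_simp
    linear_combination -hs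

/-- A binary cubic `a x³ + 3b x²y + 3c xy² + d y³` whose partial derivatives have no common
nontrivial zero has three pairwise non-proportional zeros. -/
theorem three_roots (a b c d : ℂ)
    (h : ∀ x y : ℂ, ¬ (x = 0 ∧ y = 0) →
      ¬ (a * x ^ 2 + 2 * b * x * y + c * y ^ 2 = 0 ∧ b * x ^ 2 + 2 * c * x * y + d * y ^ 2 = 0)) :
    ∃ x1 y1 x2 y2 x3 y3 : ℂ,
      a * x1 ^ 3 + 3 * b * x1 ^ 2 * y1 + 3 * c * x1 * y1 ^ 2 + d * y1 ^ 3 = 0 ∧
      a * x2 ^ 3 + 3 * b * x2 ^ 2 * y2 + 3 * c * x2 * y2 ^ 2 + d * y2 ^ 3 = 0 ∧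
      a * x3 ^ 3 + 3 * b * x3 ^ 2 * y3 + 3 * c * x3 * y3 ^ 2 + d * y3 ^ 3 = 0 ∧
      x1 * y2 ≠ x2 * y1 ∧ x1 * y3 ≠ x3 * y1 ∧ x2 * y3 ≠ x3 * y2 := by
  by_cases ha : a = 0
  · subst ha
    have hb : b ≠ 0 := by
      intro hb
      apply h 1 0 (by simp)
      simp [hb]
    obtain ⟨r, s, h1, h2⟩ := quadratic_vieta (3 * b) (3 * c) d (by simpa using hb)
    refine ⟨1, 0, r, 1, s, 1, by ring, ?_, ?_, by simp, by simp, ?_⟩
    · linear_combination r * h1 + h2
    · linear_combination s * h1 + h2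
    · intro hrs
      have hrs' : r = s := by simpa using hrs
      subst hrs'
      apply h r 1 (by simp)
      constructor
      · linear_combination (1 / 3 : ℂ) * h1
      · linear_combination (2 / 3 : ℂ) * r * h1 + h2
  · obtain ⟨x, y, z, hb, hc, hd⟩ := cubic_vieta a (3 * b) (3 * c) d ha
    have key : ∀ p q r : ℂ, 3 * b = a * -(p + q + r) → 3 * c = a * (p * q + p * r + q * r) →
        d = a * -(p * q * r) → p ≠ q := by
      intro p q r hb hc hd hpq
      subst hpq
      apply h p 1 (by simp)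
      constructor
      · linear_combination (2 / 3 : ℂ) * p * hb + (1 / 3 : ℂ) * hc
      · linear_combination (1 / 3 : ℂ) * p ^ 2 * hb + (2 / 3 : ℂ) * p * hc + hd
    refine ⟨x, 1, y, 1, z, 1, ?_, ?_, ?_, ?_, ?_, ?_⟩
    · linear_combination x ^ 2 * hb + x * hc + hd
    · linear_combination y ^ 2 * hb + y * hc + hd
    · linear_combination z ^ 2 * hb + z * hc + hd
    · simpa using key x y z hb hc hd
    · simpa using key x z y (by linear_combination hb) (by linear_combination hc)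
        (by linear_combination hd)
    · simpa using key y z x (by linear_combination hb) (by linear_combination hc)
        (by linear_combination hd)

end Groth.Agent.H9.BinCubic
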