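import Mathlib
import Groth.Agent.Lib.Helper9.ComodCoeff

/-!
# Decomposition of comodules along a decomposition of the coalgebra (helper9)
-/

set_option autoImplicit false
set_option linter.style.haveILetI false

universe u v w w' w''

open TensorProduct

namespace Groth.Agent.H9.Comod

section SliceRing

variable {k : Type u} [CommRing k] {A : Type v} [AddCommGroup A] [Module k A] [Coalgebra k A]
  {V : Type w} [AddCommGroup V] [Module k V] [HopfRep.Comod k A V]

lemma coact_slice_eq (φ : A →ₗ[k] k) (y : V ⊗[k] A) :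
    HopfRep.Comod.coact (k := k) (A := A) (slice φ y) =
      slice φ ((HopfRep.Comod.coact (k := k) (A := A)).rTensor A y) := by
  induction y using TensorProduct.induction_on with
  | zero => simp
  | tmul w a => simp
  | add x y hx hy => simp only [map_add, hx, hy]

omit [Coalgebra k A] [HopfRep.Comod k A V] in
lemma slice_eq_lTensor_slice_assoc (φ : A →ₗ[k] k) :
    (slice φ : (V ⊗[k] A) ⊗[k] A →ₗ[k] V ⊗[k] A) =
      (slice φ : A ⊗[k] A →ₗ[k] A).lTensor V ∘ₗ (TensorProduct.assoc k V A A).toLinearMap := by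
  apply TensorProduct.ext_threefold
  intro w a b
  simp [TensorProduct.tmul_smul]

omit [Coalgebra k A] [HopfRep.Comod k A V] in
lemma rTensor_slice_eq_lTensor_sliceL_assoc (φ : A →ₗ[k] k) :
    (slice φ : V ⊗[k] A →ₗ[k] V).rTensor A =
      (sliceL φ : A ⊗[k] A →ₗ[k] A).lTensor V ∘ₗ (TensorProduct.assoc k V A A).toLinearMap := by
  apply TensorProduct.ext_threefold
  intro w a b
  simp [TensorProduct.smul_tmul]

/-- `ρ ∘ (id ⊗ φ) ∘ ρ = (id ⊗ (id ⊗ φ)Δ) ∘ ρ` -/
lemma coact_slice_coact (φ : A →ₗ[k] k) (v : V) :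
    HopfRep.Comod.coact (k := k) (A := A) (slice φ (HopfRep.Comod.coact (k := k) (A := A) v)) =
      ((slice φ : A ⊗[k] A →ₗ[k] A) ∘ₗ CoalgebraStruct.comul (R := k) (A := A)).lTensor V
        (HopfRep.Comod.coact (k := k) (A := A) v) := by
  have h := LinearMap.congr_fun (HopfRep.Comod.coassoc (k := k) (A := A) (V := V)) v
  simp only [LinearMap.comp_apply, LinearEquiv.coe_coe] at h
  rw [coact_slice_eq, slice_eq_lTensor_slice_assoc, LinearMap.comp_apply, LinearEquiv.coe_coe, h,
    LinearMap.lTensor_comp, LinearMap.comp_apply]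

/-- `((id ⊗ φ)ρ ⊗ id) ∘ ρ = (id ⊗ (φ ⊗ id)Δ) ∘ ρ` -/
lemma rTensor_slice_coact (φ : A →ₗ[k] k) (v : V) :
    ((slice φ : V ⊗[k] A →ₗ[k] V) ∘ₗ HopfRep.Comod.coact (k := k) (A := A)).rTensor A
        (HopfRep.Comod.coact (k := k) (A := A) v) =
      ((sliceL φ : A ⊗[k] A →ₗ[k] A) ∘ₗ CoalgebraStruct.comul (R := k) (A := A)).lTensor V
        (HopfRep.Comod.coact (k := k) (A := A) v) := by
  have h := LinearMap.congr_fun (HopfRep.Comod.coassoc (k := k) (A := A) (V := V)) v
  simp only [LinearMap.comp_apply, LinearEquiv.coe_coe] at h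
  rw [LinearMap.rTensor_comp, LinearMap.comp_apply, rTensor_slice_eq_lTensor_sliceL_assoc,
    LinearMap.comp_apply, LinearEquiv.coe_coe, h, LinearMap.lTensor_comp, LinearMap.comp_apply]

lemma slice_counit_coact' (v : V) :
    slice (Coalgebra.counit (R := k) (A := A)) (HopfRep.Comod.coact (k := k) (A := A) v) = v := by
  have h := LinearMap.congr_fun (HopfRep.Comod.counit_comp (k := k) (A := A) (V := V)) v
  simp only [LinearMap.comp_apply, LinearMap.flip_apply, TensorProduct.mk_apply] at h
  show (TensorProduct.rid k V) (LinearMap.lTensor V _ _) = v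
  rw [h, TensorProduct.rid_tmul, one_smul]

end SliceRing

section Decomp

variable {k : Type u} [CommRing k] {A : Type v} [AddCommGroup A] [Module k A]
  {ι : Type w'} (D : ι → Submodule k A)

lemma ext_of_iSup_eq_top (htop : iSup D = ⊤) {N : Type*} [AddCommGroup N] [Module k N]
    {f g : A →ₗ[k] N} (h : ∀ j, ∀ a ∈ D j, f a = g a) : f = g := by
  apply LinearMap.ext
  intro a
  have ha : a ∈ iSup D := by rw [htop]; trivial
  refine Submodule.iSup_induction D (motive := fun a => f a = g a) ha h ?_ ?_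
  · simp
  · intro x y hx hy
    rw [map_add, map_add, hx, hy]

lemma exists_proj (hind : iSupIndep D) (htop : iSup D = ⊤) :
    ∃ π : ι → A →ₗ[k] A, (∀ i a, π i a ∈ D i) ∧ (∀ i, ∀ a ∈ D i, π i a = a) ∧
      (∀ i j, i ≠ j → ∀ a ∈ D j, π i a = 0) := by
  classical
  have hint := DirectSum.isInternal_submodule_of_iSupIndep_of_iSup_eq_top hind htop
  letI := hint.chooseDecomposition
  refine ⟨fun i => (D i).subtype ∘ₗ DirectSum.component k ι (fun i => D i) i ∘ₗ
    (DirectSum.decomposeLinearEquiv D).toLinearMap, ?_, ?_, ?_⟩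
  · intro i a
    exact Subtype.property _
  · intro i a ha
    exact DirectSum.decompose_of_mem_same D ha
  · intro i j hij a ha
    exact DirectSum.decompose_of_mem_ne D ha hij.symm

lemma exists_finset_sum_proj (htop : iSup D = ⊤) (π : ι → A →ₗ[k] A)
    (h1 : ∀ i, ∀ a ∈ D i, π i a = a) (h2 : ∀ i j, i ≠ j → ∀ a ∈ D j, π i a = 0) (a : A) :
    ∃ s : Finset ι, ∀ s' : Finset ι, s ⊆ s' → ∑ i ∈ s', π i a = a := by
  classical
  have ha : a ∈ iSup D := by rw [htop]; trivial
  refine Submodule.iSup_induction D (motive := fun a =>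
    ∃ s : Finset ι, ∀ s' : Finset ι, s ⊆ s' → ∑ i ∈ s', π i a = a) ha ?_ ?_ ?_
  · intro j x hx
    refine ⟨{j}, fun s' hs' => ?_⟩
    rw [Finset.sum_eq_single_of_mem j (hs' (Finset.mem_singleton_self j))
      (fun i _ hij => h2 i j hij x hx), h1 j x hx]
  · exact ⟨∅, fun s' _ => by simp⟩
  · rintro x y ⟨s, hs⟩ ⟨t, ht⟩
    refine ⟨s ∪ t, fun s' hs' => ?_⟩
    simp only [map_add, Finset.sum_add_distrib]
    rw [hs s' (Finset.union_subset_left hs'), ht s' (Finset.union_subset_right hs')]

lemma exists_finset_sum_lTensor_proj (htop : iSup D = ⊤) (π : ι → A →ₗ[k] A)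
    (h1 : ∀ i, ∀ a ∈ D i, π i a = a) (h2 : ∀ i j, i ≠ j → ∀ a ∈ D j, π i a = 0)
    {V : Type w} [AddCommGroup V] [Module k V] (x : V ⊗[k] A) :
    ∃ s : Finset ι, ∀ s' : Finset ι, s ⊆ s' → ∑ i ∈ s', (π i).lTensor V x = x := by
  classical
  induction x using TensorProduct.induction_on with
  | zero => exact ⟨∅, fun s' _ => by simp⟩
  | tmul w a =>
    obtain ⟨s, hs⟩ := exists_finset_sum_proj D htop π h1 h2 a
    refine ⟨s, fun s' hs' => ?_⟩
    simp only [LinearMap.lTensor_tmul]
    rw [← TensorProduct.tmul_sum, hs s' hs']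
  | add x y hx hy =>
    obtain ⟨s, hs⟩ := hx
    obtain ⟨t, ht⟩ := hy
    refine ⟨s ∪ t, fun s' hs' => ?_⟩
    simp only [map_add, Finset.sum_add_distrib]
    rw [hs s' (Finset.union_subset_left hs'), ht s' (Finset.union_subset_right hs')]

variable [Coalgebra k A]

/-- `(id ⊗ ε π_i) Δ = π_i` -/
lemma slice_counit_proj_comul (hD : ∀ i, ∀ d ∈ D i, CoalgebraStruct.comul (R := k) d ∈
      LinearMap.range (TensorProduct.map (D i).subtype (D i).subtype)) (htop : iSup D = ⊤)
    (π : ι → A →ₗ[k] A)
    (h1 : ∀ i, ∀ a ∈ D i, π i a = a) (h2 : ∀ i j, i ≠ j → ∀ a ∈ D j, π i a = 0) (i : ι) :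
    (slice (Coalgebra.counit (R := k) (A := A) ∘ₗ π i) : A ⊗[k] A →ₗ[k] A) ∘ₗ
      CoalgebraStruct.comul (R := k) (A := A) = π i := by
  classical
  apply ext_of_iSup_eq_top D htop
  intro j a ha
  obtain ⟨y, hy⟩ := hD j a ha
  rw [LinearMap.comp_apply, ← hy]
  by_cases hij : i = j
  · subst hij
    rw [h1 i a ha]
    have h3 : ∀ y : (D i) ⊗[k] (D i), slice (Coalgebra.counit (R := k) (A := A) ∘ₗ π i)
        (TensorProduct.map (D i).subtype (D i).subtype y) =
        slice (Coalgebra.counit (R := k) (A := A))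
          (TensorProduct.map (D i).subtype (D i).subtype y) := by
      intro y
      induction y using TensorProduct.induction_on with
      | zero => simp
      | tmul b c => simp [h1 i c c.2]
      | add x y hx hy => simp only [map_add, hx, hy]
    rw [h3, hy]
    show (TensorProduct.rid k A) (LinearMap.lTensor A _ _) = a
    rw [Coalgebra.lTensor_counit_comul, TensorProduct.rid_tmul, one_smul]
  · rw [h2 i j hij a ha]
    clear hy
    induction y using TensorProduct.induction_on with
    | zero => simp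
    | tmul b c => simp [h2 i j hij c c.2]
    | add x y hx hy => simp only [map_add, hx, hy, add_zero]

/-- `(ε π_i ⊗ id) Δ = π_i` -/
lemma sliceL_counit_proj_comul (hD : ∀ i, ∀ d ∈ D i, CoalgebraStruct.comul (R := k) d ∈
      LinearMap.range (TensorProduct.map (D i).subtype (D i).subtype)) (htop : iSup D = ⊤)
    (π : ι → A →ₗ[k] A)
    (h1 : ∀ i, ∀ a ∈ D i, π i a = a) (h2 : ∀ i j, i ≠ j → ∀ a ∈ D j, π i a = 0) (i : ι) :
    (sliceL (Coalgebra.counit (R := k) (A := A) ∘ₗ π i) : A ⊗[k] A →ₗ[k] A) ∘ₗ
      CoalgebraStruct.comul (R := k) (A := A) = π i := by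
  classical
  apply ext_of_iSup_eq_top D htop
  intro j a ha
  obtain ⟨y, hy⟩ := hD j a ha
  rw [LinearMap.comp_apply, ← hy]
  by_cases hij : i = j
  · subst hij
    rw [h1 i a ha]
    have h3 : ∀ y : (D i) ⊗[k] (D i), sliceL (Coalgebra.counit (R := k) (A := A) ∘ₗ π i)
        (TensorProduct.map (D i).subtype (D i).subtype y) =
        sliceL (Coalgebra.counit (R := k) (A := A))
          (TensorProduct.map (D i).subtype (D i).subtype y) := by
      intro y
      induction y using TensorProduct.induction_on with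
      | zero => simp
      | tmul b c => simp [h1 i b b.2]
      | add x y hx hy => simp only [map_add, hx, hy]
    rw [h3, hy]
    show (TensorProduct.lid k A) (LinearMap.rTensor A _ _) = a
    rw [Coalgebra.rTensor_counit_comul, TensorProduct.lid_tmul, one_smul]
  · rw [h2 i j hij a ha]
    clear hy
    induction y using TensorProduct.induction_on with
    | zero => simp
    | tmul b c => simp [h2 i j hij b b.2]
    | add x y hx hy => simp only [map_add, hx, hy, add_zero]

end Decomp

section Main

variable {k : Type u} [CommRing k] {A : Type v} [AddCommGroup A] [Module k A] [Coalgebra k A]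
  {ι : Type w'} (D : ι → Submodule k A)
  {V : Type w} [AddCommGroup V] [Module k V] [HopfRep.Comod k A V]

variable (V) in
/-- the part of `V` whose coefficients lie in `D i` -/
def part (i : ι) : Submodule k V :=
  (LinearMap.range (LinearMap.lTensor V (D i).subtype)).comap
    (HopfRep.Comod.coact (k := k) (A := A) (V := V))

theorem comod_decomposition
    (hD : ∀ i, ∀ d ∈ D i, CoalgebraStruct.comul (R := k) d ∈
      LinearMap.range (TensorProduct.map (D i).subtype (D i).subtype))
    (hind : iSupIndep D) (htop : iSup D = ⊤) :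
    (∀ i, HopfRep.IsSubcomod (k := k) (A := A) (part D V i)) ∧
    iSupIndep (fun i => part D V i) ∧ (⨆ i, part D V i) = ⊤ ∧
    ∀ i, ∀ v ∈ part D V i, HopfRep.Comod.coact (k := k) (A := A) v ∈
      LinearMap.range (TensorProduct.map (part D V i).subtype (D i).subtype) := by
  classical
  obtain ⟨π, hπmem, h1, h2⟩ := exists_proj D hind htop
  set e : ι → A →ₗ[k] k := fun i => Coalgebra.counit (R := k) (A := A) ∘ₗ π i with he
  set p : ι → V →ₗ[k] V := fun i => slice (e i) ∘ₗ HopfRep.Comod.coact (k := k) (A := A) with hp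
  have hA := slice_counit_proj_comul D hD htop π h1 h2
  have hB := sliceL_counit_proj_comul D hD htop π h1 h2
  have hC : ∀ i v, HopfRep.Comod.coact (k := k) (A := A) (p i v) =
      (π i).lTensor V (HopfRep.Comod.coact (k := k) (A := A) v) := by
    intro i v
    show HopfRep.Comod.coact (k := k) (A := A)
      (slice (e i) (HopfRep.Comod.coact (k := k) (A := A) v)) = _
    rw [coact_slice_coact, hA]
  have hDd : ∀ i v, (p i).rTensor A (HopfRep.Comod.coact (k := k) (A := A) v) =
      (π i).lTensor V (HopfRep.Comod.coact (k := k) (A := A) v) := by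
    intro i v
    rw [rTensor_slice_coact, hB]
  let π' : ∀ i, A →ₗ[k] D i := fun i => LinearMap.codRestrict (D i) (π i) (hπmem i)
  have hπ' : ∀ i, (D i).subtype ∘ₗ π' i = π i := fun i =>
    LinearMap.subtype_comp_codRestrict _ _ _
  have hF1 : ∀ i v, p i v ∈ part D V i := by
    intro i v
    show HopfRep.Comod.coact (k := k) (A := A) (p i v) ∈ LinearMap.range _
    rw [hC, ← hπ' i, LinearMap.lTensor_comp, LinearMap.comp_apply]
    exact ⟨_, rfl⟩
  have hF2 : ∀ i, ∀ v ∈ part D V i, p i v = v := by
    intro i v hv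
    obtain ⟨y, hy⟩ := hv
    show slice (e i) (HopfRep.Comod.coact (k := k) (A := A) v) = v
    rw [← hy, slice_lTensor]
    have h3 : e i ∘ₗ (D i).subtype = Coalgebra.counit (R := k) (A := A) ∘ₗ (D i).subtype := by
      ext d
      simp [e, h1 i d d.2]
    rw [h3, ← slice_lTensor, hy, slice_counit_coact']
  have hF2' : ∀ i j, i ≠ j → ∀ v ∈ part D V j, p i v = 0 := by
    intro i j hij v hv
    obtain ⟨y, hy⟩ := hv
    show slice (e i) (HopfRep.Comod.coact (k := k) (A := A) v) = 0
    rw [← hy, slice_lTensor]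
    have h3 : e i ∘ₗ (D j).subtype = 0 := by
      ext d
      simp [e, h2 i j hij d d.2]
    rw [h3]
    simp [slice]
  let p' : ∀ i, V →ₗ[k] part D V i := fun i => LinearMap.codRestrict (part D V i) (p i) (hF1 i)
  have hp' : ∀ i, (part D V i).subtype ∘ₗ p' i = p i := fun i =>
    LinearMap.subtype_comp_codRestrict _ _ _
  refine ⟨?_, ?_, ?_, ?_⟩
  · intro i v hv
    have h3 : HopfRep.Comod.coact (k := k) (A := A) v =
        (p i).rTensor A (HopfRep.Comod.coact (k := k) (A := A) v) := by
      rw [hDd, ← hC, hF2 i v hv]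
    rw [h3, ← hp' i, LinearMap.rTensor_comp, LinearMap.comp_apply]
    exact ⟨_, rfl⟩
  · intro i
    rw [Submodule.disjoint_def]
    intro v hv hv'
    have hker : (⨆ j, ⨆ (_ : j ≠ i), part D V j) ≤ LinearMap.ker (p i) := by
      apply iSup_le
      intro j
      apply iSup_le
      intro hj w hw
      exact hF2' i j (Ne.symm hj) w hw
    rw [← hF2 i v hv]
    exact hker hv'
  · rw [eq_top_iff]
    intro v _
    obtain ⟨s, hs⟩ := exists_finset_sum_lTensor_proj D htop π h1 h2
      (HopfRep.Comod.coact (k := k) (A := A) v)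
    have hv : v = ∑ i ∈ s, p i v := by
      have h3 := congrArg (slice (Coalgebra.counit (R := k) (A := A))) (hs s (Finset.Subset.refl s))
      rw [map_sum, slice_counit_coact'] at h3
      refine h3.symm.trans ?_
      apply Finset.sum_congr rfl
      intro i _
      rw [slice_lTensor]
      rfl
    rw [hv]
    exact Submodule.sum_mem _ fun i _ => (le_iSup (fun i => part D V i) i) (hF1 i v)
  · intro i v hv
    have h4 : HopfRep.Comod.coact (k := k) (A := A) v =
        (p i).rTensor A (HopfRep.Comod.coact (k := k) (A := A) v) := by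
      rw [hDd, ← hC, hF2 i v hv]
    have h5 : HopfRep.Comod.coact (k := k) (A := A) v =
        (π i).lTensor V (HopfRep.Comod.coact (k := k) (A := A) v) := by
      rw [← hC, hF2 i v hv]
    have h3 : HopfRep.Comod.coact (k := k) (A := A) v =
        TensorProduct.map (p i) (π i) (HopfRep.Comod.coact (k := k) (A := A) v) :=
      calc HopfRep.Comod.coact (k := k) (A := A) v
          = (p i).rTensor A (HopfRep.Comod.coact (k := k) (A := A) v) := h4
        _ = (p i).rTensor A ((π i).lTensor V (HopfRep.Comod.coact (k := k) (A := A) v)) := by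
            rw [← h5]
        _ = TensorProduct.map (p i) (π i) (HopfRep.Comod.coact (k := k) (A := A) v) := by
            rw [← LinearMap.comp_apply, LinearMap.rTensor_comp_lTensor]
    rw [h3, ← hp' i, ← hπ' i, TensorProduct.map_comp, LinearMap.comp_apply]
    exact ⟨_, rfl⟩

end Main

end Groth.Agent.H9.Comod
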