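import Mathlib
import Groth.Agent.Lib.Helper9.ComodDecomp

/-!
# Diagonalizable coalgebras: comodules are spanned by eigenvectors (helper9)
-/

set_option autoImplicit false
set_option linter.style.haveILetI false

universe u v w w' w''

open TensorProduct

namespace Groth.Agent.H9.Comod

section Diag

variable {k : Type u} [Field k] {A : Type v} [AddCommGroup A] [Module k A] [Coalgebra k A]
  {V : Type w} [AddCommGroup V] [Module k V] [HopfRep.Comod k A V]

omit [Coalgebra k A] [HopfRep.Comod k A V] in
lemma lTensor_smulRight_eq (φ : A →ₗ[k] k) (g : A) (x : V ⊗[k] A) :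
    (LinearMap.smulRight φ g).lTensor V x = slice φ x ⊗ₜ[k] g := by
  induction x using TensorProduct.induction_on with
  | zero => simp
  | tmul v a => simp [TensorProduct.smul_tmul]
  | add x y hx hy => simp only [map_add, hx, hy, TensorProduct.add_tmul]

/-- if the group-like elements span, every vector is a sum of eigenvectors for group-like
elements -/
theorem mem_span_eigen_of_span_groupLike
    (h : Submodule.span k {a : A | IsGroupLikeElem k a} = ⊤) (v : V) :
    v ∈ Submodule.span k {v : V | ∃ a : A, IsGroupLikeElem k a ∧
      HopfRep.Comod.coact (k := k) (A := A) v = v ⊗ₜ[k] a} := by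
  classical
  have hli : LinearIndependent k (Subtype.val : {a : A // IsGroupLikeElem k a} → A) :=
    linearIndepOn_isGroupLikeElem
  have hspan : ⊤ ≤ Submodule.span k (Set.range (Subtype.val : {a : A // IsGroupLikeElem k a} → A)) := by
    rw [Subtype.range_coe]
    exact h.ge
  let b : Module.Basis {a : A // IsGroupLikeElem k a} k A := Module.Basis.mk hli hspan
  have hb : ∀ g, b g = g.1 := fun g => Module.Basis.mk_apply hli hspan g
  obtain ⟨c, hc⟩ := TensorProduct.eq_repr_basis_right b (HopfRep.Comod.coact (k := k) (A := A) v)
  have hc1 : ∀ g, slice (b.coord g) (HopfRep.Comod.coact (k := k) (A := A) v) = c g := by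
    intro g
    rw [← hc, Finsupp.sum, map_sum]
    simp only [slice_tmul, Module.Basis.coord_apply, Module.Basis.repr_self]
    rw [Finset.sum_eq_single g]
    · simp
    · intro i _ hig
      rw [Finsupp.single_eq_of_ne (Ne.symm hig), zero_smul]
    · intro hg
      rw [Finsupp.notMem_support_iff.mp hg, smul_zero]
  have hc2 : ∀ g, HopfRep.Comod.coact (k := k) (A := A) (c g) = c g ⊗ₜ[k] g.1 := by
    intro g
    have hmap : (slice (b.coord g) : A ⊗[k] A →ₗ[k] A) ∘ₗ CoalgebraStruct.comul (R := k) (A := A) =
        LinearMap.smulRight (b.coord g) g.1 := by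
      apply b.ext
      intro h'
      rw [LinearMap.comp_apply, hb h', h'.2.comul_eq_tmul_self, slice_tmul,
        LinearMap.smulRight_apply, ← hb h', Module.Basis.coord_apply, Module.Basis.repr_self]
      by_cases hgh : h' = g
      · rw [hgh, hb g]
      · rw [Finsupp.single_eq_of_ne (Ne.symm hgh), zero_smul, zero_smul]
    rw [← hc1 g, coact_slice_coact, hmap, lTensor_smulRight_eq]
  have hc3 : v = ∑ g ∈ c.support, c g := by
    have h1 := slice_counit_coact' (k := k) (A := A) v
    rw [← hc, Finsupp.sum, map_sum] at h1
    rw [← h1]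
    apply Finset.sum_congr rfl
    intro g _
    rw [slice_tmul, hb g, g.2.counit_eq_one, one_smul]
  rw [hc3]
  exact Submodule.sum_mem _ fun g _ => Submodule.subset_span ⟨g.1, g.2, hc2 g⟩

/-- an eigenvector of the regular comodule is a multiple of a group-like element -/
theorem mem_span_groupLike_of_comul_eq (n b : A)
    (h : CoalgebraStruct.comul (R := k) n = n ⊗ₜ[k] b) :
    n ∈ Submodule.span k {a : A | IsGroupLikeElem k a} := by
  by_cases hn : n = 0
  · rw [hn]; exact zero_mem _
  have h1 : n = Coalgebra.counit (R := k) n • b := by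
    have := sliceL_counit_comul (k := k) n
    rw [h, sliceL_tmul] at this
    exact this.symm
  have he : Coalgebra.counit (R := k) n ≠ 0 := by
    intro h0
    apply hn
    rw [h1, h0, zero_smul]
  have h2 : Coalgebra.counit (R := k) b = 1 := by
    have := slice_counit_coact' (k := k) (A := A) (V := A) n
    change slice (Coalgebra.counit (R := k) (A := A)) (CoalgebraStruct.comul (R := k) n) = n at this
    rw [h, slice_tmul] at this
    have h3 : (Coalgebra.counit (R := k) b - 1) • n = 0 := by
      rw [sub_smul, this, one_smul, sub_self]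
    rcases smul_eq_zero.mp h3 with h4 | h4
    · exact sub_eq_zero.mp h4
    · exact absurd h4 hn
  have h3 : CoalgebraStruct.comul (R := k) b = b ⊗ₜ[k] b := by
    have h4 : Coalgebra.counit (R := k) n • CoalgebraStruct.comul (R := k) b =
        Coalgebra.counit (R := k) n • (b ⊗ₜ[k] b) := by
      rw [← map_smul, ← h1, h, TensorProduct.smul_tmul', ← h1]
    exact smul_right_injective _ he h4
  rw [h1]
  exact Submodule.smul_mem _ _ (Submodule.subset_span ⟨h2, h3⟩)

end Diag

end Groth.Agent.H9.Comod
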