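import Mathlib
import Groth.Prelude.Def_SGA3
import Groth.Agent.Lib.Helper9.Comod
import Groth.Agent.Lib.Helper9.ComodCoeff
import Groth.Agent.Lib.Helper9.ComodStab

/-!
# Invariants of a normal subgroup form a subrepresentation (helper9)
-/

set_option autoImplicit false

universe u v

open TensorProduct WithConv

namespace Groth.Agent.H9.NormalInv

open Groth.Agent.H9.Comod Groth.Agent.H9.Stab

section Conv3

variable {k : Type u} [CommRing k] {A : Type u} [CommRing A] [HopfAlgebra k A]
  {C : Type u} [CommRing C] [Algebra k C]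

/-- the triple product of the prelude is the product in the group of points -/
lemma conv3_eq (f g h : A →ₐ[k] C) :
    Dyn.conv3 k A f g h = (toConv f * toConv g * toConv h).ofConv := by
  simp only [Dyn.conv3, AlgHom.convMul_def, ofConv_toConv]
  congr 1
  rw [← AlgHom.comp_assoc, ← Algebra.TensorProduct.map_comp, AlgHom.comp_id, AlgHom.comp_assoc]

lemma inv_mul (g : A →ₐ[k] C) :
    toConv (g.comp (HopfAlgebra.antipodeAlgHom k A)) * toConv g = 1 := by
  apply WithConv.ofConv_injective
  apply AlgHom.toLinearMap_injective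
  apply WithConv.toConv_injective
  rw [AlgHom.toLinearMap_convMul, AlgHom.toLinearMap_convOne]
  have h1 : toConv ((toConv (g.comp (HopfAlgebra.antipodeAlgHom k A))).ofConv.toLinearMap) *
      toConv ((toConv g).ofConv.toLinearMap) =
      toConv (g.toLinearMap ∘ₗ (toConv (HopfAlgebraStruct.antipode k (A := A)) *
        toConv (LinearMap.id : A →ₗ[k] A)).ofConv) := by
    rw [LinearMap.algHom_comp_convMul_distrib]
    rfl
  rw [h1, LinearMap.antipode_mul_id]
  apply WithConv.ofConv_injective
  apply LinearMap.ext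
  intro a
  show g (algebraMap k A _) = algebraMap k C _
  rw [AlgHom.commutes]

lemma mul_inv (g : A →ₐ[k] C) :
    toConv g * toConv (g.comp (HopfAlgebra.antipodeAlgHom k A)) = 1 := by
  apply WithConv.ofConv_injective
  apply AlgHom.toLinearMap_injective
  apply WithConv.toConv_injective
  rw [AlgHom.toLinearMap_convMul, AlgHom.toLinearMap_convOne]
  have h1 : toConv ((toConv g).ofConv.toLinearMap) *
      toConv ((toConv (g.comp (HopfAlgebra.antipodeAlgHom k A))).ofConv.toLinearMap) =
      toConv (g.toLinearMap ∘ₗ (toConv (LinearMap.id : A →ₗ[k] A) *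
        toConv (HopfAlgebraStruct.antipode k (A := A))).ofConv) := by
    rw [LinearMap.algHom_comp_convMul_distrib]
    rfl
  rw [h1, LinearMap.id_mul_antipode]
  apply WithConv.ofConv_injective
  apply LinearMap.ext
  intro a
  show g (algebraMap k A _) = algebraMap k C _
  rw [AlgHom.commutes]

lemma comp_antipode_antipode (g : A →ₐ[k] C) :
    (g.comp (HopfAlgebra.antipodeAlgHom k A)).comp (HopfAlgebra.antipodeAlgHom k A) = g := by
  have h1 := mul_inv g
  have h2 := mul_inv (g.comp (HopfAlgebra.antipodeAlgHom k A))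
  have h3 := left_inv_eq_right_inv h1 h2
  exact (WithConv.toConv_injective h3).symm

lemma conj_identity (g h : A →ₐ[k] C) :
    toConv h * toConv g = toConv g *
      (toConv (g.comp (HopfAlgebra.antipodeAlgHom k A)) * toConv h * toConv g) := by
  rw [← mul_assoc, ← mul_assoc, mul_inv, one_mul]

/-- normality, in group form: `g⁻¹ h g` is a point of `N` -/
lemma conj_kills {I : Ideal A} (hI : SGA3.IsNormalHopfIdeal k A I) (g h : A →ₐ[k] C)
    (hh : ∀ a ∈ I, h a = 0) : ∀ a ∈ I,
      (toConv (g.comp (HopfAlgebra.antipodeAlgHom k A)) * toConv h * toConv g).ofConv a = 0 := by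
  intro a ha
  have h1 := hI C (g.comp (HopfAlgebra.antipodeAlgHom k A)) h hh a ha
  rw [conv3_eq, comp_antipode_antipode] at h1
  exact h1

end Conv3

section Inv

variable (k : Type u) [Field k] {A : Type u} [CommRing A] [HopfAlgebra k A]
  (I : Ideal A)

/-- right-invariant functions -/
def RInv (a : A) : Prop :=
  (Ideal.Quotient.mkₐ k I).toLinearMap.lTensor A (CoalgebraStruct.comul (R := k) a) =
    a ⊗ₜ[k] (1 : A ⧸ I)

/-- left-invariant functions -/
def LInv (a : A) : Prop :=
  (Ideal.Quotient.mkₐ k I).toLinearMap.rTensor A (CoalgebraStruct.comul (R := k) a) =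
    (1 : A ⧸ I) ⊗ₜ[k] a

variable {k I}

lemma mul_apply_of_rinv {R : Type u} [CommRing R] [Algebra k R] (x n : A →ₐ[k] R)
    (hn : ∀ a ∈ I, n a = 0) {a : A} (ha : RInv k I a) : (toConv x * toConv n).ofConv a = x a := by
  let nb : A ⧸ I →ₐ[k] R := Ideal.Quotient.liftₐ I n hn
  have hnb : n.toLinearMap = nb.toLinearMap ∘ₗ (Ideal.Quotient.mkₐ k I).toLinearMap := by
    apply LinearMap.ext
    intro b
    rfl
  have h1 : (toConv x * toConv n).ofConv a =
      (toConv x.toLinearMap * toConv n.toLinearMap).ofConv a := rfl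
  rw [h1, LinearMap.convMul_apply, ofConv_toConv, ofConv_toConv, hnb]
  have h2 : TensorProduct.map x.toLinearMap
      (nb.toLinearMap ∘ₗ (Ideal.Quotient.mkₐ k I).toLinearMap) =
      TensorProduct.map x.toLinearMap nb.toLinearMap ∘ₗ
        (Ideal.Quotient.mkₐ k I).toLinearMap.lTensor A := by
    apply TensorProduct.ext'
    intro b c
    rfl
  rw [h2, LinearMap.comp_apply, ha, TensorProduct.map_tmul, LinearMap.mul'_apply]
  show x a * nb 1 = x a
  rw [map_one, mul_one]

/-- for a normal subgroup, right-invariant functions are left-invariant -/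
theorem linv_of_rinv (hI : SGA3.IsNormalHopfIdeal k A I) {a : A} (ha : RInv k I a) : LInv k I a := by
  let R := (A ⧸ I) ⊗[k] A
  let g : A →ₐ[k] R := Algebra.TensorProduct.includeRight
  let h : A →ₐ[k] R := (Algebra.TensorProduct.includeLeft).comp (Ideal.Quotient.mkₐ k I)
  have hh : ∀ b ∈ I, h b = 0 := by
    intro b hb
    show (Algebra.TensorProduct.includeLeft : (A ⧸ I) →ₐ[k] R) (Ideal.Quotient.mk I b) = 0
    rw [Ideal.Quotient.eq_zero_iff_mem.mpr hb, map_zero]
  have hn := conj_kills hI g h hh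
  have h1 := conj_identity g h
  have h2 : (toConv h * toConv g).ofConv a = g a := by
    rw [h1]
    exact mul_apply_of_rinv g _ hn ha
  have h3 : (toConv h * toConv g).ofConv a =
      (toConv h.toLinearMap * toConv g.toLinearMap).ofConv a := rfl
  rw [h3, LinearMap.convMul_apply, ofConv_toConv, ofConv_toConv] at h2
  have h4 : LinearMap.mul' k R ∘ₗ TensorProduct.map h.toLinearMap g.toLinearMap =
      (Ideal.Quotient.mkₐ k I).toLinearMap.rTensor A := by
    apply TensorProduct.ext'
    intro b c
    show (Ideal.Quotient.mk I b ⊗ₜ[k] (1 : A)) * ((1 : A ⧸ I) ⊗ₜ[k] c) = _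
    rw [Algebra.TensorProduct.tmul_mul_tmul, mul_one, one_mul]
    rfl
  rw [← LinearMap.comp_apply, h4] at h2
  exact h2

end Inv

section Main

variable {k : Type u} [Field k] {A : Type u} [CommRing A] [HopfAlgebra k A]
  (I : Ideal A) [I.IsHopfIdeal k]
  {V : Type v} [AddCommGroup V] [Module k V] [HopfRep.Comod k A V]

omit [I.IsHopfIdeal k] in
lemma rinv_mcoef {v : V}
    (hv : LinearMap.lTensor V (Ideal.Quotient.mkₐ k I).toLinearMap
      (HopfRep.Comod.coact (k := k) (A := A) v) = v ⊗ₜ[k] (1 : A ⧸ I)) (ψ : V →ₗ[k] k) :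
    RInv k I (mcoef A ψ v) := by
  have h1 := (isComodHom_iff (A := A) (mcoef A ψ)).mp (isComodHom_mcoef (A := A) ψ) v
  have h1' : CoalgebraStruct.comul (R := k) (mcoef A ψ v) =
      (mcoef A ψ).rTensor A (HopfRep.Comod.coact (k := k) (A := A) v) := h1
  rw [RInv, h1', ← LinearMap.comp_apply, LinearMap.lTensor_comp_rTensor,
    ← LinearMap.rTensor_comp_lTensor, LinearMap.comp_apply, hv, LinearMap.rTensor_tmul]

theorem isSubcomod_fixed (hI : SGA3.IsNormalHopfIdeal k A I) (W : Submodule k V)
    (hW : ∀ v : V, v ∈ W ↔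
      LinearMap.lTensor V (Ideal.Quotient.mkₐ k I).toLinearMap
        (HopfRep.Comod.coact (k := k) (A := A) v) = v ⊗ₜ[k] (1 : A ⧸ I)) :
    HopfRep.IsSubcomod (k := k) (A := A) W := by
  rw [isSubcomod_iff_slice]
  intro v hv φ
  rw [hW] at hv ⊢
  rw [← sub_eq_zero]
  apply eq_zero_of_sliceL_eq_zero
  intro ψ
  rw [map_sub, sub_eq_zero, sliceL_lTensor, sliceL_tmul]
  have ha := linv_of_rinv hI (rinv_mcoef I hv ψ)
  have h1 := (isComodHom_iff (A := A) (mcoef A ψ)).mp (isComodHom_mcoef (A := A) ψ) v
  have h1' : CoalgebraStruct.comul (R := k) (mcoef A ψ v) =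
      (mcoef A ψ).rTensor A (HopfRep.Comod.coact (k := k) (A := A) v) := h1
  have h2 : sliceL ψ (HopfRep.Comod.coact (k := k) (A := A)
      (slice φ (HopfRep.Comod.coact (k := k) (A := A) v))) =
      slice φ (CoalgebraStruct.comul (R := k) (mcoef A ψ v)) := by
    rw [h1', slice_rTensor]
    rfl
  rw [h2]
  have h3 : (Ideal.Quotient.mkₐ k I).toLinearMap
      (slice φ (CoalgebraStruct.comul (R := k) (mcoef A ψ v))) =
      slice φ ((Ideal.Quotient.mkₐ k I).toLinearMap.rTensor A
        (CoalgebraStruct.comul (R := k) (mcoef A ψ v))) := (slice_rTensor _ _ _).symm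
  rw [h3, ha, slice_tmul, ← apply_sliceL]
  rfl

end Main

end Groth.Agent.H9.NormalInv
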