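import Mathlib
import Groth.Prelude.Def_GLin
import Groth.Prelude.Def_GLin2
import Groth.Prelude.Def_ComodSub
import Groth.Agent.Lib.Helper9.Comod
import Groth.Agent.Lib.Helper9.ComodReynolds
import Groth.Agent.Lib.Helper9.ComodInv
import Groth.Agent.Lib.Helper9.ComodInvRing
import Groth.Agent.Lib.Helper9.ComodMatrix

/-!
# Hilbert's finiteness theorem for linearly reductive groups (helper9)
-/

set_option autoImplicit false
set_option linter.style.haveILetI false

universe u v w

open TensorProduct MvPolynomial

namespace Groth.Agent.H9.Hilbert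

open Groth.Agent.H9.Comod Groth.Agent.H9.InvRing

section HC

variable {k : Type u} [CommRing k] {σ : Type w}

/-- the homogeneous component of a product with a homogeneous polynomial -/
lemma homogeneousComponent_mul_of_isHomogeneous (p g : MvPolynomial σ k) {e : ℕ}
    (hg : g.IsHomogeneous e) (d : ℕ) :
    homogeneousComponent d (p * g) =
      if e ≤ d then homogeneousComponent (d - e) p * g else 0 := by
  induction p using MvPolynomial.induction_on' with
  | monomial m c =>
    have h1 : (monomial m c * g) ∈ homogeneousSubmodule σ k (m.degree + e) :=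
      (isHomogeneous_monomial c rfl).mul hg
    have h2 : (monomial m c : MvPolynomial σ k) ∈ homogeneousSubmodule σ k m.degree :=
      isHomogeneous_monomial c rfl
    rw [homogeneousComponent_of_mem h1]
    by_cases hed : e ≤ d
    · rw [if_pos hed, homogeneousComponent_of_mem h2]
      by_cases h3 : m.degree + e = d
      · rw [if_pos h3.symm, if_pos (by omega)]
      · rw [if_neg (fun h => h3 h.symm), if_neg (by omega), zero_mul]
    · rw [if_neg hed, if_neg (by omega)]
  | add p q hp hq =>
    rw [add_mul, map_add, hp, hq]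
    split_ifs
    · rw [map_add, add_mul]
    · rw [add_zero]

end HC

section Graded

variable {k : Type u} [Field k] {A : Type v} [CommRing A] [Bialgebra k A] {σ : Type w}
  [HopfRep.Comod k A (MvPolynomial σ k)] [GLin.IsCoactAlg k A (MvPolynomial σ k)]

/-- the degree `d` part of `k[x] ⊗ A` -/
noncomputable def T (A : Type v) [CommRing A] [Bialgebra k A] (σ : Type w) (d : ℕ) :
    Submodule k (MvPolynomial σ k ⊗[k] A) :=
  LinearMap.range ((homogeneousSubmodule σ k d).subtype.rTensor A)

omit [HopfRep.Comod k A (MvPolynomial σ k)] [GLin.IsCoactAlg k A (MvPolynomial σ k)] in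
lemma T_mul {d e : ℕ} {y z : MvPolynomial σ k ⊗[k] A} (hy : y ∈ T (k := k) A σ d)
    (hz : z ∈ T (k := k) A σ e) : y * z ∈ T (k := k) A σ (d + e) := by
  obtain ⟨y', rfl⟩ := hy
  obtain ⟨z', rfl⟩ := hz
  induction y' using TensorProduct.induction_on with
  | zero => simp
  | add y₁ y₂ h₁ h₂ =>
    rw [map_add, add_mul]
    exact Submodule.add_mem _ h₁ h₂
  | tmul p a =>
    induction z' using TensorProduct.induction_on with
    | zero => simp
    | add z₁ z₂ h₁ h₂ =>
      rw [map_add, mul_add]
      exact Submodule.add_mem _ h₁ h₂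
    | tmul q b =>
      simp only [LinearMap.rTensor_tmul, Submodule.subtype_apply,
        Algebra.TensorProduct.tmul_mul_tmul]
      exact ⟨(⟨(p : MvPolynomial σ k) * q, p.2.mul q.2⟩ :
        homogeneousSubmodule σ k (d + e)) ⊗ₜ[k] (a * b), rfl⟩

/-- if the coaction maps the variables to linear forms, all homogeneous parts are subcomodules -/
theorem isSubcomod_homogeneous
    (h1 : ∀ i : σ, HopfRep.Comod.coact (k := k) (A := A) (X i : MvPolynomial σ k) ∈
      T (k := k) A σ 1) (d : ℕ) :
    HopfRep.IsSubcomod (k := k) (A := A) (homogeneousSubmodule σ k d) := by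
  have hlin : ∀ b ∈ homogeneousSubmodule σ k 1,
      HopfRep.Comod.coact (k := k) (A := A) b ∈ T (k := k) A σ 1 := by
    intro b hb
    rw [homogeneousSubmodule_one_eq_span_X] at hb
    induction hb using Submodule.span_induction with
    | mem x hx =>
      obtain ⟨i, rfl⟩ := hx
      exact h1 i
    | zero => simp
    | add x y _ _ hx hy => rw [map_add]; exact Submodule.add_mem _ hx hy
    | smul c x _ hx => rw [map_smul]; exact Submodule.smul_mem _ c hx
  induction d with
  | zero =>
    intro p hp
    rw [homogeneousSubmodule_zero, Submodule.mem_one] at hp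
    obtain ⟨c, rfl⟩ := hp
    rw [Algebra.algebraMap_eq_smul_one, map_smul,
      GLin.IsCoactAlg.coact_one (k := k) (A := A) (R := MvPolynomial σ k),
      Algebra.TensorProduct.one_def]
    refine Submodule.smul_mem _ c ?_
    exact ⟨(⟨1, isHomogeneous_one σ k⟩ :
        homogeneousSubmodule σ k 0) ⊗ₜ[k] (1 : A), rfl⟩
  | succ d ih =>
    intro p hp
    rw [← homogeneousSubmodule_one_pow, pow_succ, homogeneousSubmodule_one_pow] at hp
    induction hp using Submodule.mul_induction_on' with
    | mem_mul_mem a ha b hb =>
      rw [GLin.IsCoactAlg.coact_mul (k := k) (A := A)]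
      exact T_mul (ih a ha) (hlin b hb)
    | add x _ y _ hx hy =>
      rw [map_add]
      exact Submodule.add_mem _ hx hy

omit [GLin.IsCoactAlg k A (MvPolynomial σ k)] in
/-- homogeneous components of invariants are invariant, when the grading is stable -/
theorem homogeneousComponent_mem_fixedPts
    (hss : HopfRep.IsSemisimpleComod k A (MvPolynomial σ k))
    (hsub : ∀ d, HopfRep.IsSubcomod (k := k) (A := A) (homogeneousSubmodule σ k d))
    {f : MvPolynomial σ k} (hfix : f ∈ HopfRep.fixedPts k A (MvPolynomial σ k)) (j : ℕ) :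
    homogeneousComponent j f ∈ HopfRep.fixedPts k A (MvPolynomial σ k) := by
  classical
  obtain ⟨E, hE₁, hE₂, hE₃⟩ := exists_reynolds hss
  have hEH : ∀ d p, p ∈ homogeneousSubmodule σ k d → E p ∈ homogeneousSubmodule σ k d :=
    fun d p hp => reynolds_mem_of_isSubcomod hss E hE₁ hE₂ hE₃ _ (hsub d) hp
  have hEfix : ∀ p, E p ∈ HopfRep.fixedPts k A (MvPolynomial σ k) :=
    reynolds_mem_fixedPts E hE₂ hE₃
  have hEf : E f = f := (hE₃ f).mpr hfix
  have h1 : homogeneousComponent j (E f) = E (homogeneousComponent j f) := by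
    conv_lhs => rw [← sum_homogeneousComponent f, map_sum, map_sum]
    rw [Finset.sum_eq_single j]
    · rw [homogeneousComponent_of_mem (hEH j _ (homogeneousComponent_mem j f)), if_pos rfl]
    · intro i _ hij
      rw [homogeneousComponent_of_mem (hEH i _ (homogeneousComponent_mem i f)),
        if_neg (fun h => hij h.symm)]
    · intro hj
      have : homogeneousComponent j f = 0 := by
        apply homogeneousComponent_eq_zero
        rw [Finset.mem_range, not_lt] at hj
        omega
      rw [this, map_zero, map_zero]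
  rw [hEf] at h1
  rw [h1]
  exact hEfix _

/-- **Hilbert's finiteness theorem**, graded form: for a semisimple comodule algebra structure on a
polynomial ring in finitely many variables preserving the grading, the invariants are generated by
finitely many invariants. -/
theorem exists_finset_invariants [Finite σ]
    (hss : HopfRep.IsSemisimpleComod k A (MvPolynomial σ k))
    (hsub : ∀ d, HopfRep.IsSubcomod (k := k) (A := A) (homogeneousSubmodule σ k d)) :
    ∃ s : Finset (MvPolynomial σ k),
      (∀ f ∈ s, f ∈ HopfRep.fixedPts k A (MvPolynomial σ k)) ∧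
      ∀ f ∈ HopfRep.fixedPts k A (MvPolynomial σ k),
        f ∈ Algebra.adjoin k (s : Set (MvPolynomial σ k)) := by
  classical
  obtain ⟨E, hE₁, hE₂, hE₃⟩ := exists_reynolds hss
  have hEH : ∀ d p, p ∈ homogeneousSubmodule σ k d → E p ∈ homogeneousSubmodule σ k d :=
    fun d p hp => reynolds_mem_of_isSubcomod hss E hE₁ hE₂ hE₃ _ (hsub d) hp
  have hEfix : ∀ p, E p ∈ HopfRep.fixedPts k A (MvPolynomial σ k) :=
    reynolds_mem_fixedPts E hE₂ hE₃
  have hEmul : ∀ (r c : MvPolynomial σ k), c ∈ HopfRep.fixedPts k A (MvPolynomial σ k) →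
      E (c * r) = c * E r :=
    fun r c hc => reynolds_mul_of_mem_invariants hss E hE₁ hE₂ hE₃ r hc
  let Gen : Set (MvPolynomial σ k) :=
    {f | f ∈ HopfRep.fixedPts k A (MvPolynomial σ k) ∧ ∃ d, 0 < d ∧ f.IsHomogeneous d}
  have hJfg : (Ideal.span Gen).FG := (isNoetherianRing_iff_ideal_fg _).mp inferInstance _
  obtain ⟨s, hsGen, hspan⟩ := (Submodule.fg_span_iff_fg_span_finset_subset Gen).mp hJfg
  refine ⟨s, fun f hf => (hsGen hf).1, ?_⟩
  -- homogeneous invariants lie in the subalgebra
  have key : ∀ d : ℕ, ∀ f : MvPolynomial σ k, f ∈ HopfRep.fixedPts k A (MvPolynomial σ k) →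
      f.IsHomogeneous d → f ∈ Algebra.adjoin k (s : Set (MvPolynomial σ k)) := by
    intro d
    induction d using Nat.strong_induction_on with
    | _ d ih =>
    intro f hfix hhom
    rcases Nat.eq_zero_or_pos d with h0 | hpos
    · subst h0
      have : f ∈ homogeneousSubmodule σ k 0 := hhom
      rw [homogeneousSubmodule_zero, Submodule.mem_one] at this
      obtain ⟨c, rfl⟩ := this
      exact Subalgebra.algebraMap_mem _ c
    · have hfJ : f ∈ Submodule.span (MvPolynomial σ k) (s : Set (MvPolynomial σ k)) := by
        have : f ∈ Ideal.span Gen := Ideal.subset_span ⟨hfix, d, hpos, hhom⟩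
        rw [Ideal.span, hspan] at this
        exact this
      obtain ⟨a, -, ha⟩ := Submodule.mem_span_finset.mp hfJ
      -- degrees of the generators
      have hdeg : ∀ g ∈ s, ∃ e, 0 < e ∧ g.IsHomogeneous e := fun g hg => (hsGen hg).2
      let e : MvPolynomial σ k → ℕ := fun g => if hg : g ∈ s then (hdeg g hg).choose else 0
      have he : ∀ g ∈ s, 0 < e g ∧ g.IsHomogeneous (e g) := by
        intro g hg
        simp only [e, dif_pos hg]
        exact (hdeg g hg).choose_spec
      let b : MvPolynomial σ k → MvPolynomial σ k := fun g =>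
        if e g ≤ d then homogeneousComponent (d - e g) (a g) else 0
      have hf1 : f = ∑ g ∈ s, b g * g := by
        have h1 : homogeneousComponent d f = f := by
          rw [homogeneousComponent_of_mem hhom, if_pos rfl]
        rw [← h1, ← ha, map_sum]
        refine Finset.sum_congr rfl fun g hg => ?_
        rw [smul_eq_mul, homogeneousComponent_mul_of_isHomogeneous _ _ (he g hg).2]
        simp only [b]
        split_ifs
        · rfl
        · rw [zero_mul]
      have hf2 : f = ∑ g ∈ s, g * E (b g) := by
        have h2 : E f = f := (hE₃ f).mpr hfix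
        rw [← h2]
        conv_lhs => rw [hf1]
        rw [map_sum]
        refine Finset.sum_congr rfl fun g hg => ?_
        rw [mul_comm, hEmul _ _ (hsGen hg).1]
      rw [hf2]
      refine Subalgebra.sum_mem _ fun g hg => ?_
      refine Subalgebra.mul_mem _ (Algebra.subset_adjoin hg) ?_
      by_cases hed : e g ≤ d
      · have hb : b g = homogeneousComponent (d - e g) (a g) := by simp only [b, if_pos hed]
        have hlt : d - e g < d := Nat.sub_lt hpos (he g hg).1
        apply ih (d - e g) hlt _ (hEfix _)
        apply hEH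
        rw [hb]
        exact homogeneousComponent_mem _ _
      · have hb : b g = 0 := by simp only [b, if_neg hed]
        rw [hb, map_zero]
        exact Subalgebra.zero_mem _
  -- every invariant is a sum of homogeneous invariants
  intro f hfix
  rw [← sum_homogeneousComponent f]
  refine Subalgebra.sum_mem _ fun j _ => ?_
  exact key j _ (homogeneousComponent_mem_fixedPts hss hsub hfix j)
    (homogeneousComponent_isHomogeneous j f)

end Graded

section FiniteType

open Groth.Agent.H9.MatCoef CoordGrp

variable {k : Type u} [Field k] {A : Type u} [CommRing A] [HopfAlgebra k A]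
  {R : Type u} [CommRing R] [Algebra k R] [HopfRep.Comod k A R] [GLin.IsCoactAlg k A R]

/-- **Hilbert's finiteness theorem** for a linearly reductive group acting on a finitely generated
algebra. -/
theorem exists_finset_invariants_of_finiteType [Algebra.FiniteType k R]
    (hG : ∀ (X : Type u) [AddCommGroup X] [Module k X] [HopfRep.Comod k A X],
      Module.Finite k X → HopfRep.IsSemisimpleComod k A X) :
    ∃ s : Finset R, (∀ f ∈ s, f ∈ HopfRep.fixedPts k A R) ∧
      ∀ f ∈ HopfRep.fixedPts k A R, f ∈ Algebra.adjoin k (s : Set R) := by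
  classical
  obtain ⟨t, ht⟩ := (Algebra.FiniteType.out : (⊤ : Subalgebra k R).FG)
  set U : Submodule k R := gen A (Submodule.span k (t : Set R)) with hUdef
  have hU : HopfRep.IsSubcomod (k := k) (A := A) U := isSubcomod_gen _
  have hUfg : U.FG := fg_gen _ (Submodule.fg_span t.finite_toSet)
  haveI : Module.Finite k U := Module.Finite.iff_fg.mpr hUfg
  have htU : (t : Set R) ⊆ U := fun x hx => le_gen _ (Submodule.subset_span hx)
  let cR : HopfRep.Comod k A R := inferInstance
  let cU : HopfRep.Comod k A U := ComodSub.Comod.restr cR U hU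
  let m := Module.finrank k U
  let b : Module.Basis (Fin m) k U := Module.finBasis k U
  let ψ : Mat m k →ₐc[k] A := (toGLn cU b).comp (Mat.toGLn m k)
  let cS : HopfRep.Comod k A (MvPolynomial (Fin m) k) := GLin.comodAlong ψ (stdCoact m k)
  letI := cS
  haveI hCA : GLin.IsCoactAlg k A (MvPolynomial (Fin m) k) :=
    GLin.isCoactAlg_comodAlong ψ _ (stdCoact_isCoactAlg m k)
  have hX : ∀ i : Fin m, HopfRep.Comod.coact (k := k) (A := A) (X i : MvPolynomial (Fin m) k) =
      ∑ j, X j ⊗ₜ[k] mat cU b j i := by
    intro i
    change TensorProduct.map LinearMap.id (ψ : Mat m k →ₗ[k] A) (stdCoactAlg m k (X i)) = _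
    rw [stdCoactAlg_X, map_sum]
    refine Finset.sum_congr rfl fun j _ => ?_
    rw [TensorProduct.map_tmul]
    congr 1
    change toGLn cU b (Mat.toGLn m k (Mat.X j i)) = _
    rw [Mat.toGLn_X, toGLn_X]
  have hbR : ∀ i : Fin m, HopfRep.Comod.coact (k := k) (A := A) ((b i : U) : R) =
      ∑ j, ((b j : U) : R) ⊗ₜ[k] mat cU b j i := by
    intro i
    have h := ComodSub.restr_coact_coe cR U hU (b i)
    rw [coact_basis cU b i, map_sum] at h
    rw [← h]
    rfl
  let φ : MvPolynomial (Fin m) k →ₐ[k] R := aeval (fun i => ((b i : U) : R))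
  have hφ : Hoch.IsComodHom A φ.toLinearMap := by
    have h1 : (GLin.coactAlgHom k A R).comp φ =
        (Algebra.TensorProduct.map φ (AlgHom.id k A)).comp
          (GLin.coactAlgHom k A (MvPolynomial (Fin m) k)) := by
      apply MvPolynomial.algHom_ext
      intro i
      simp only [AlgHom.comp_apply, GLin.coactAlgHom_apply]
      rw [hX, map_sum]
      simp only [φ, aeval_X, Algebra.TensorProduct.map_tmul, AlgHom.id_apply]
      exact hbR i
    apply LinearMap.ext
    intro p
    exact congrArg (fun f => f p) h1
  have hsurj : Function.Surjective φ := by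
    rw [← AlgHom.range_eq_top, eq_top_iff, ← ht, Algebra.adjoin_le_iff]
    intro x hx
    have hxU : x ∈ U := htU hx
    have : x = φ (∑ i, C (b.repr ⟨x, hxU⟩ i) * X i) := by
      rw [map_sum]
      simp only [φ, map_mul, aeval_C, aeval_X]
      have h2 := congrArg (Submodule.subtype U) (b.sum_repr ⟨x, hxU⟩)
      rw [map_sum] at h2
      simp only [map_smul, Submodule.subtype_apply] at h2
      refine h2.symm.trans ?_
      refine Finset.sum_congr rfl fun i _ => ?_
      rw [Algebra.smul_def]
    rw [this]
    exact ⟨_, rfl⟩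
  have hss : HopfRep.IsSemisimpleComod k A (MvPolynomial (Fin m) k) :=
    isSemisimpleComod_of_fd_semisimple (A := A) hG
  have hT : ∀ i : Fin m, HopfRep.Comod.coact (k := k) (A := A) (X i : MvPolynomial (Fin m) k) ∈
      T (k := k) A (Fin m) 1 := by
    intro i
    rw [hX]
    refine Submodule.sum_mem _ fun j _ => ?_
    exact ⟨(⟨X j, isHomogeneous_X k j⟩ : homogeneousSubmodule (Fin m) k 1) ⊗ₜ[k] mat cU b j i,
      rfl⟩
  obtain ⟨s₀, hs₁, hs₂⟩ := exists_finset_invariants hss (isSubcomod_homogeneous hT)
  refine ⟨s₀.image φ, ?_, ?_⟩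
  · intro f hf
    obtain ⟨g, hg, rfl⟩ := Finset.mem_image.mp hf
    exact map_mem_fixedPts hφ (hs₁ g hg)
  · intro f hf
    obtain ⟨g, hg, rfl⟩ := exists_fixedPts_map_eq hss hφ hsurj hf
    have := hs₂ g hg
    rw [Finset.coe_image, ← AlgHom.map_adjoin]
    exact ⟨g, this, rfl⟩

end FiniteType

end Groth.Agent.H9.Hilbert
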