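import Mathlib
import Groth.Agent.Lib.Helper9.ComodCosemi
import Groth.Agent.Lib.Helper9.HopfAntipode
import Groth.Agent.Lib.Helper9.ComodReynolds

/-!
# Integrals and semisimplicity of comodules (helper9)

For a commutative Hopf algebra `A` over a field with a (total) integral `α : A → k`
(`Σ α(a₁) a₂ = α(a) 1`, `α 1 = 1`), every comodule is semisimple.
-/

set_option autoImplicit false
set_option linter.style.haveILetI false

universe u v w w'

open TensorProduct

namespace Groth.Agent.H9.Integral

open Groth.Agent.H9.Comod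

section Hopf

variable {k : Type u} [CommRing k] {A : Type v} [CommRing A] [HopfAlgebra k A]

local notation "S" => (HopfAlgebraStruct.antipode (R := k) (A := A))
local notation "Δ" => (CoalgebraStruct.comul (R := k) (A := A))
local notation "ε" => (CoalgebraStruct.counit (R := k) (A := A))

/-- `c ⊗ a ↦ α (S c * a)` -/
noncomputable def beta (α : A →ₗ[k] k) : A ⊗[k] A →ₗ[k] k :=
  α ∘ₗ LinearMap.mul' k A ∘ₗ LinearMap.rTensor A S

@[simp] lemma beta_tmul (α : A →ₗ[k] k) (c a : A) : beta α (c ⊗ₜ[k] a) = α (S c * a) := by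
  simp [beta]

/-- `c ↦ α (S c * a)` -/
noncomputable def phi (α : A →ₗ[k] k) (a : A) : A →ₗ[k] k :=
  beta α ∘ₗ (TensorProduct.mk k A A).flip a

@[simp] lemma phi_apply (α : A →ₗ[k] k) (a c : A) : phi α a c = α (S c * a) := by
  simp [phi]

/-- `c ↦ Σ α (S c * t₁) t₂` -/
noncomputable def Rt (α : A →ₗ[k] k) (t : A ⊗[k] A) : A →ₗ[k] A :=
  (TensorProduct.lid k A).toLinearMap ∘ₗ LinearMap.rTensor A α ∘ₗ LinearMap.mulRight k t ∘ₗ
    (Algebra.TensorProduct.includeLeft : A →ₐ[k] A ⊗[k] A).toLinearMap ∘ₗ S

lemma Rt_apply (α : A →ₗ[k] k) (t : A ⊗[k] A) (c : A) :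
    Rt α t c = TensorProduct.lid k A (LinearMap.rTensor A α ((S c ⊗ₜ[k] (1 : A)) * t)) := by
  simp [Rt]

lemma Rt_tmul (α : A →ₗ[k] k) (a₁ a₂ c : A) :
    Rt α (a₁ ⊗ₜ[k] a₂) c = α (S c * a₁) • a₂ := by
  simp [Rt_apply]

/-- `y ⊗ z ↦ Σ α (S z * w₁) (S y * w₂)` -/
noncomputable def Psi (α : A →ₗ[k] k) (w : A ⊗[k] A) : A ⊗[k] A →ₗ[k] A :=
  (TensorProduct.lid k A).toLinearMap ∘ₗ LinearMap.rTensor A α ∘ₗ LinearMap.mulRight k w ∘ₗ
    TensorProduct.map S S ∘ₗ (TensorProduct.comm k A A).toLinearMap

lemma Psi_apply (α : A →ₗ[k] k) (w t : A ⊗[k] A) :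
    Psi α w t = TensorProduct.lid k A (LinearMap.rTensor A α
      (TensorProduct.map S S (TensorProduct.comm k A A t) * w)) := by
  simp [Psi]

/-- the integral property: `Σ α(b₁) b₂ = α(b) 1` -/
def IsIntegral (α : A →ₗ[k] k) : Prop :=
  ∀ b : A, TensorProduct.lid k A (LinearMap.rTensor A α (Δ b)) = α b • (1 : A)

lemma Psi_comul_comul {α : A →ₗ[k] k} (hα : IsIntegral α) (a c : A) :
    Psi α (Δ a) (Δ c) = α (S c * a) • (1 : A) := by
  rw [Psi_apply]
  have h1 := Groth.Agent.H9.Hopf.comul_antipode (R := k) c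
  rw [← show Δ (S c) = _ from h1]
  have h2 : Δ (S c) * Δ a = Δ (S c * a) := (Bialgebra.comul_mul (S c) a).symm
  rw [h2, hα]

/-- `x ⊗ t ↦ x * Ψ_w t` -/
noncomputable def F (α : A →ₗ[k] k) (w : A ⊗[k] A) : A ⊗[k] (A ⊗[k] A) →ₗ[k] A :=
  LinearMap.mul' k A ∘ₗ LinearMap.lTensor A (Psi α w)

lemma F_tmul (α : A →ₗ[k] k) (w : A ⊗[k] A) (x : A) (t : A ⊗[k] A) :
    F α w (x ⊗ₜ[k] t) = x * Psi α w t := by
  simp [F]

lemma F_lTensor_comul {α : A →ₗ[k] k} (hα : IsIntegral α) (a : A) (y : A ⊗[k] A) :
    F α (Δ a) (LinearMap.lTensor A Δ y) = slice (phi α a) y := by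
  induction y using TensorProduct.induction_on with
  | zero => simp
  | tmul p q =>
    rw [LinearMap.lTensor_tmul, F_tmul, Psi_comul_comul hα, slice_tmul, phi_apply,
      mul_smul_comm, mul_one]
  | add x y hx hy => simp only [map_add, hx, hy]

lemma F_assoc_tmul (α : A →ₗ[k] k) (w t : A ⊗[k] A) (q : A) :
    F α w (TensorProduct.assoc k A A A (t ⊗ₜ[k] q)) =
      LinearMap.mul' k A (LinearMap.lTensor A S t) * Rt α w q := by
  induction t using TensorProduct.induction_on with
  | zero => simp
  | tmul p₁ p₂ =>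
    induction w using TensorProduct.induction_on with
    | zero => simp [F_tmul, Psi_apply, Rt_apply]
    | tmul u v =>
      rw [TensorProduct.assoc_tmul, F_tmul, Psi_apply, Rt_tmul]
      simp only [TensorProduct.comm_tmul, TensorProduct.map_tmul,
        Algebra.TensorProduct.tmul_mul_tmul, LinearMap.rTensor_tmul, TensorProduct.lid_tmul,
        LinearMap.lTensor_tmul, LinearMap.mul'_apply]
      rw [mul_smul_comm, mul_smul_comm]
      congr 1
      ring
    | add w w' hw hw' =>
      rw [TensorProduct.assoc_tmul] at hw hw' ⊢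
      rw [F_tmul] at hw hw' ⊢
      have e1 : Psi α (w + w') (p₂ ⊗ₜ[k] q) = Psi α w (p₂ ⊗ₜ[k] q) + Psi α w' (p₂ ⊗ₜ[k] q) := by
        simp only [Psi_apply, mul_add, map_add]
      have e2 : Rt α (w + w') q = Rt α w q + Rt α w' q := by
        simp only [Rt_apply, mul_add, map_add]
      rw [e1, e2, mul_add, mul_add, hw, hw']
  | add t t' ht ht' =>
    simp only [TensorProduct.add_tmul, map_add, add_mul, ht, ht']

lemma F_assoc_rTensor_comul (α : A →ₗ[k] k) (w : A ⊗[k] A) (y : A ⊗[k] A) :
    F α w (TensorProduct.assoc k A A A (LinearMap.rTensor A Δ y)) =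
      Rt α w (TensorProduct.lid k A (LinearMap.rTensor A ε y)) := by
  induction y using TensorProduct.induction_on with
  | zero => simp
  | tmul p q =>
    rw [LinearMap.rTensor_tmul, F_assoc_tmul, LinearMap.rTensor_tmul, TensorProduct.lid_tmul,
      map_smul]
    have := HopfAlgebra.mul_antipode_lTensor_comul_apply (R := k) p
    rw [this, Algebra.algebraMap_eq_smul_one, smul_mul_assoc, one_mul]
  | add x y hx hy => simp only [map_add, hx, hy]

/-- the key identity `Σ c₁ α(S c₂ a) = Σ α(S c a₁) a₂` -/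
theorem slice_phi_comul {α : A →ₗ[k] k} (hα : IsIntegral α) (a c : A) :
    slice (phi α a) (Δ c) = Rt α (Δ a) c := by
  rw [← F_lTensor_comul hα, ← Coalgebra.coassoc_apply, F_assoc_rTensor_comul]
  congr 1
  have := LinearMap.congr_fun (Coalgebra.rTensor_counit_comp_comul (R := k) (A := A)) c
  simp only [LinearMap.comp_apply] at this
  rw [this]
  simp

end Hopf

section Retraction

variable {k : Type u} [CommRing k] {A : Type v} [CommRing A] [HopfAlgebra k A]
  {V : Type w} [AddCommGroup V] [Module k V] [HopfRep.Comod k A V]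

local notation "S" => (HopfAlgebraStruct.antipode (R := k) (A := A))
local notation "Δ" => (CoalgebraStruct.comul (R := k) (A := A))
local notation "ε" => (CoalgebraStruct.counit (R := k) (A := A))
local notation "ρ" => (HopfRep.Comod.coact (k := k) (A := A) (V := V))

variable (V) in
/-- `(u ⊗ c) ⊗ a ↦ α (S c * a) u` -/
noncomputable def r' (α : A →ₗ[k] k) : (V ⊗[k] A) ⊗[k] A →ₗ[k] V :=
  (TensorProduct.rid k V).toLinearMap ∘ₗ LinearMap.lTensor V (beta α) ∘ₗ
    (TensorProduct.assoc k V A A).toLinearMap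

omit [HopfRep.Comod k A V] in
lemma r'_tmul (α : A →ₗ[k] k) (y : V ⊗[k] A) (a : A) :
    r' V α (y ⊗ₜ[k] a) = slice (phi α a) y := by
  induction y using TensorProduct.induction_on with
  | zero => simp
  | tmul u c => simp [r']
  | add x y hx hy => simp only [TensorProduct.add_tmul, map_add, hx, hy]

variable (V) in
/-- the retraction `V ⊗ A → V`, `v ⊗ a ↦ Σ α (S v₁ * a) v₀` -/
noncomputable def r (α : A →ₗ[k] k) : V ⊗[k] A →ₗ[k] V :=
  r' V α ∘ₗ LinearMap.rTensor A ρ

lemma r_tmul (α : A →ₗ[k] k) (v : V) (a : A) :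
    r V α (v ⊗ₜ[k] a) = slice (phi α a) (ρ v) := by
  rw [r, LinearMap.comp_apply, LinearMap.rTensor_tmul, r'_tmul]

lemma beta_comul {α : A →ₗ[k] k} (h1 : α 1 = 1) (c : A) : beta α (Δ c) = ε c := by
  rw [beta, LinearMap.comp_apply, LinearMap.comp_apply]
  have := HopfAlgebra.mul_antipode_rTensor_comul_apply (R := k) c
  rw [this, Algebra.algebraMap_eq_smul_one, map_smul, h1, smul_eq_mul, mul_one]

/-- `r` is a retraction of the coaction -/
theorem r_coact {α : A →ₗ[k] k} (h1 : α 1 = 1) (v : V) : r V α (ρ v) = v := by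
  have hco := LinearMap.congr_fun (HopfRep.Comod.coassoc (k := k) (A := A) (V := V)) v
  simp only [LinearMap.comp_apply, LinearEquiv.coe_coe] at hco
  simp only [r, r', LinearMap.comp_apply, LinearEquiv.coe_coe]
  rw [hco, ← LinearMap.comp_apply (LinearMap.lTensor V (beta α)), ← LinearMap.lTensor_comp]
  have h2 : beta α ∘ₗ Δ = ε := LinearMap.ext fun c => beta_comul h1 c
  rw [h2]
  have hcu := LinearMap.congr_fun (HopfRep.Comod.counit_comp (k := k) (A := A) (V := V)) v
  simp only [LinearMap.comp_apply, LinearMap.flip_apply, TensorProduct.mk_apply] at hcu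
  rw [hcu]
  simp

omit [HopfRep.Comod k A V] in
lemma slice_assoc_symm (φ : A →ₗ[k] k) (u : V) (t : A ⊗[k] A) :
    slice φ ((TensorProduct.assoc k V A A).symm (u ⊗ₜ[k] t)) = u ⊗ₜ[k] slice φ t := by
  induction t using TensorProduct.induction_on with
  | zero => simp
  | tmul p q => simp [TensorProduct.tmul_smul]
  | add x y hx hy => simp only [TensorProduct.tmul_add, map_add, hx, hy]

omit [HopfRep.Comod k A V] in
lemma slice_assoc_symm_lTensor (φ : A →ₗ[k] k) (y : V ⊗[k] A) :
    slice φ ((TensorProduct.assoc k V A A).symm (LinearMap.lTensor V Δ y)) =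
      LinearMap.lTensor V (slice φ ∘ₗ Δ) y := by
  induction y using TensorProduct.induction_on with
  | zero => simp
  | tmul u c => rw [LinearMap.lTensor_tmul, slice_assoc_symm, LinearMap.lTensor_tmul]; rfl
  | add x y hx hy => simp only [map_add, hx, hy]

omit [HopfRep.Comod k A V] in
lemma rTensor_r'_assoc_symm (α : A →ₗ[k] k) (y : V ⊗[k] A) (t : A ⊗[k] A) :
    LinearMap.rTensor A (r' V α) ((TensorProduct.assoc k (V ⊗[k] A) A A).symm (y ⊗ₜ[k] t)) =
      LinearMap.lTensor V (Rt α t) y := by
  induction y using TensorProduct.induction_on with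
  | zero => simp
  | tmul u c =>
    induction t using TensorProduct.induction_on with
    | zero => simp [Rt_apply]
    | tmul a₁ a₂ =>
      rw [TensorProduct.assoc_symm_tmul, LinearMap.rTensor_tmul, r'_tmul, slice_tmul, phi_apply,
        LinearMap.lTensor_tmul, Rt_tmul, TensorProduct.smul_tmul, TensorProduct.tmul_smul]
    | add t t' ht ht' =>
      have e2 : Rt α (t + t') = Rt α t + Rt α t' := by
        apply LinearMap.ext
        intro q
        simp only [Rt_apply, mul_add, map_add, LinearMap.add_apply]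
      rw [TensorProduct.tmul_add, map_add, map_add, ht, ht', e2, LinearMap.lTensor_add,
        LinearMap.add_apply]
  | add x y hx hy => simp only [TensorProduct.add_tmul, map_add, hx, hy]

/-- `r` intertwines the coaction `id ⊗ Δ` of `V ⊗ A` with that of `V` -/
theorem coact_r {α : A →ₗ[k] k} (hα : IsIntegral α) (x : V ⊗[k] A) :
    ρ (r V α x) = LinearMap.rTensor A (r V α) (Hoch.Ind.coactAux k A V x) := by
  induction x using TensorProduct.induction_on with
  | zero => simp
  | tmul v a =>
    have hco := LinearMap.congr_fun (HopfRep.Comod.coassoc (k := k) (A := A) (V := V)) v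
    simp only [LinearMap.comp_apply, LinearEquiv.coe_coe] at hco
    have hL : ρ (r V α (v ⊗ₜ[k] a)) = LinearMap.lTensor V (slice (phi α a) ∘ₗ Δ) (ρ v) := by
      rw [r_tmul, ← slice_rTensor, ← slice_assoc_symm_lTensor, ← hco, LinearEquiv.symm_apply_apply]
    have hR : LinearMap.rTensor A (r V α) (Hoch.Ind.coactAux k A V (v ⊗ₜ[k] a)) =
        LinearMap.lTensor V (Rt α (Δ a)) (ρ v) := by
      rw [Hoch.Ind.coactAux_tmul]
      have e1 : ∀ t : A ⊗[k] A, LinearMap.rTensor A (r V α)
          ((TensorProduct.assoc k V A A).symm (v ⊗ₜ[k] t)) =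
          LinearMap.rTensor A (r' V α) ((TensorProduct.assoc k (V ⊗[k] A) A A).symm
            (ρ v ⊗ₜ[k] t)) := by
        intro t
        induction t using TensorProduct.induction_on with
        | zero => simp
        | tmul a₁ a₂ =>
          simp only [TensorProduct.assoc_symm_tmul, LinearMap.rTensor_tmul]
          rfl
        | add t t' ht ht' => simp only [TensorProduct.tmul_add, map_add, ht, ht']
      rw [e1, rTensor_r'_assoc_symm]
    have h3 : slice (phi α a) ∘ₗ Δ = Rt α (Δ a) :=
      LinearMap.ext fun c => slice_phi_comul hα a c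
    rw [hL, hR, h3]
  | add x y hx hy =>
    simp only [map_add, hx, hy]

/-- `r` is a comodule map from the induced comodule -/
theorem isComodHom_r {α : A →ₗ[k] k} (hα : IsIntegral α) :
    Hoch.IsComodHom A ((r V α) ∘ₗ (Hoch.Ind.equiv k A V).symm.toLinearMap) := by
  rw [isComodHom_iff]
  intro x
  exact coact_r hα x

end Retraction

section Semisimple

variable {k : Type u} [Field k] {A : Type v} [CommRing A] [HopfAlgebra k A]
  {V : Type w} [AddCommGroup V] [Module k V] [HopfRep.Comod k A V]

local notation "Δ" => (CoalgebraStruct.comul (R := k) (A := A))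

omit [HopfRep.Comod k A V] in
lemma coactAux_rTensor {P : Type w'} [AddCommGroup P] [Module k P] (g : V →ₗ[k] P)
    (y : V ⊗[k] A) :
    Hoch.Ind.coactAux k A P (LinearMap.rTensor A g y) =
      LinearMap.rTensor A (LinearMap.rTensor A g) (Hoch.Ind.coactAux k A V y) := by
  induction y using TensorProduct.induction_on with
  | zero => simp
  | tmul v a =>
    rw [LinearMap.rTensor_tmul, Hoch.Ind.coactAux_tmul, Hoch.Ind.coactAux_tmul]
    generalize Coalgebra.comul (R := k) a = t
    induction t using TensorProduct.induction_on with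
    | zero => simp
    | tmul b c => simp
    | add t t' ht ht' => simp only [TensorProduct.tmul_add, map_add, ht, ht']
  | add x y hx hy => simp only [map_add, hx, hy]

lemma coactAux_coact (v : V) :
    Hoch.Ind.coactAux k A V (HopfRep.Comod.coact (k := k) (A := A) v) =
      LinearMap.rTensor A (HopfRep.Comod.coact (k := k) (A := A))
        (HopfRep.Comod.coact (k := k) (A := A) v) := by
  have hco := LinearMap.congr_fun (HopfRep.Comod.coassoc (k := k) (A := A) (V := V)) v
  simp only [LinearMap.comp_apply, LinearEquiv.coe_coe] at hco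
  rw [Hoch.Ind.coactAux, LinearMap.comp_apply, LinearEquiv.coe_coe]
  rw [show (LinearMap.lTensor V (Coalgebra.comul (R := k) (A := A)))
    (HopfRep.Comod.coact (k := k) (A := A) v) = _ from hco.symm, LinearEquiv.symm_apply_apply]

/-- a commutative Hopf algebra over a field with a total integral has all comodules semisimple -/
theorem isSemisimpleComod_of_integral {α : A →ₗ[k] k} (hα : IsIntegral α) (h1 : α 1 = 1) :
    HopfRep.IsSemisimpleComod k A V := by
  intro W hW
  letI cW := ComodSub.Comod.restr (inferInstance : HopfRep.Comod k A V) W hW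
  have hsub : Hoch.IsComodHom A W.subtype := ComodSub.isComodHom_subtype inferInstance W hW
  obtain ⟨p, hp⟩ := LinearMap.exists_leftInverse_of_injective W.subtype
    (LinearMap.ker_eq_bot.mpr W.injective_subtype)
  let P : V →ₗ[k] W := r W α ∘ₗ LinearMap.rTensor A p ∘ₗ HopfRep.Comod.coact (k := k) (A := A)
  have hP1 : ∀ w : W, P w = w := by
    intro w
    have e1 := (isComodHom_iff W.subtype).mp hsub w
    simp only [P, LinearMap.comp_apply]
    rw [Submodule.subtype_apply] at e1
    rw [e1, ← LinearMap.comp_apply (LinearMap.rTensor A p), ← LinearMap.rTensor_comp, hp,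
      LinearMap.rTensor_id, LinearMap.id_apply, r_coact h1]
  have hP2 : Hoch.IsComodHom A P := by
    rw [isComodHom_iff]
    intro v
    simp only [P, LinearMap.comp_apply]
    rw [coact_r hα, coactAux_rTensor, coactAux_coact, ← LinearMap.comp_apply
      (LinearMap.rTensor A (LinearMap.rTensor A p)), ← LinearMap.rTensor_comp,
      ← LinearMap.comp_apply (LinearMap.rTensor A (r W α)), ← LinearMap.rTensor_comp]
  exact ⟨LinearMap.ker P, isSubcomod_ker hP2, LinearMap.isCompl_of_proj hP1⟩

/-- conversely, if the regular comodule is semisimple there is a total integral -/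
theorem exists_integral (hA : HopfRep.IsSemisimpleComod k A A) :
    ∃ α : A →ₗ[k] k, IsIntegral α ∧ α 1 = 1 := by
  obtain ⟨E, hE₁, hE₂, hE₃⟩ := exists_reynolds hA
  have h1fix : (1 : A) ∈ HopfRep.fixedPts k A A := by
    show Δ (1 : A) = (1 : A) ⊗ₜ[k] (1 : A)
    exact Bialgebra.comul_one
  have hE1 : E 1 = 1 := (hE₃ 1).mpr h1fix
  have hfix : ∀ x : A, x ∈ HopfRep.fixedPts k A A →
      x = (CoalgebraStruct.counit (R := k) (A := A) x) • (1 : A) := by
    intro x hx
    have h : Δ x = x ⊗ₜ[k] (1 : A) := hx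
    have := LinearMap.congr_fun (Coalgebra.rTensor_counit_comp_comul (R := k) (A := A)) x
    simp only [LinearMap.comp_apply] at this
    rw [show CoalgebraStruct.comul (R := k) x = _ from h, LinearMap.rTensor_tmul,
      TensorProduct.mk_apply] at this
    have h2 := congrArg (TensorProduct.lid k A) this
    rw [TensorProduct.lid_tmul, TensorProduct.lid_tmul, one_smul] at h2
    exact h2.symm
  refine ⟨CoalgebraStruct.counit (R := k) (A := A) ∘ₗ E, ?_, ?_⟩
  · intro b
    have hEb := (isComodHom_iff E).mp hE₁ b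
    have hEb' : Δ (E b) = LinearMap.rTensor A E (Δ b) := hEb
    rw [LinearMap.rTensor_comp, LinearMap.comp_apply, ← hEb']
    have := LinearMap.congr_fun (Coalgebra.rTensor_counit_comp_comul (R := k) (A := A)) (E b)
    simp only [LinearMap.comp_apply] at this
    rw [show CoalgebraStruct.comul (R := k) (E b) = Δ (E b) from rfl] at this
    rw [this, TensorProduct.mk_apply, TensorProduct.lid_tmul, one_smul, LinearMap.comp_apply]
    exact hfix _ ((hE₃ _).mp (LinearMap.congr_fun hE₂ b))
  · rw [LinearMap.comp_apply, hE1]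
    exact Bialgebra.counit_one

end Semisimple

end Groth.Agent.H9.Integral
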