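import Mathlib
import Groth.Prelude.Def_ComodSub
import Groth.Agent.Lib.Helper9.DualTensorFlat

/-!
# The left dual of a right comodule on a finitely presented module (helper9)
-/

set_option autoImplicit false

universe u v w

open TensorProduct

namespace Groth.Agent.H9.LDual

variable {k : Type u} [CommRing k] {A : Type v} [AddCommGroup A] [Module k A] [Coalgebra k A]
  {M : Type w} [AddCommGroup M] [Module k M]

local notation "Δ" => (CoalgebraStruct.comul (R := k) (A := A))
local notation "ε" => (CoalgebraStruct.counit (R := k) (A := A))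

/-- `g ↦ (m ↦ Σ g(m₀) m₁)` as a linear map -/
noncomputable def D (c : HopfRep.Comod k A M) : Module.Dual k M →ₗ[k] (M →ₗ[k] A) where
  toFun := ComodSub.ldualFun c
  map_add' := by
    intro f g
    apply LinearMap.ext
    intro m
    simp only [ComodSub.ldualFun_apply, LinearMap.add_apply, LinearMap.rTensor_add, map_add]
  map_smul' := by
    intro r f
    apply LinearMap.ext
    intro m
    simp only [ComodSub.ldualFun_apply, LinearMap.smul_apply, LinearMap.rTensor_smul, map_smul,
      RingHom.id_apply]

lemma D_apply (c : HopfRep.Comod k A M) (g : Module.Dual k M) (m : M) :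
    D c g m = TensorProduct.lid k A (g.rTensor A (c.coact m)) := rfl

variable (k M) in
/-- reading `N ⊗ M^*` as maps `M → N` -/
noncomputable def R (N : Type*) [AddCommGroup N] [Module k N] :
    N ⊗[k] Module.Dual k M →ₗ[k] (M →ₗ[k] N) :=
  dualTensorHom k M N ∘ₗ (TensorProduct.comm k N (Module.Dual k M)).toLinearMap

@[simp] lemma R_tmul (N : Type*) [AddCommGroup N] [Module k N] (n : N) (φ : Module.Dual k M)
    (m : M) : R k M N (n ⊗ₜ[k] φ) m = φ m • n := by
  simp [R]

lemma R_rTensor {N N' : Type*} [AddCommGroup N] [Module k N] [AddCommGroup N'] [Module k N']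
    (f : N →ₗ[k] N') (x : N ⊗[k] Module.Dual k M) (m : M) :
    R k M N' (LinearMap.rTensor (Module.Dual k M) f x) m = f (R k M N x m) := by
  induction x using TensorProduct.induction_on with
  | zero => simp
  | tmul n φ => simp
  | add x y hx hy => simp only [map_add, LinearMap.add_apply, hx, hy]

lemma R_assoc_symm_tmul (a : A) (y : A ⊗[k] Module.Dual k M) (m : M) :
    R k M (A ⊗[k] A) ((TensorProduct.assoc k A A (Module.Dual k M)).symm (a ⊗ₜ[k] y)) m =
      a ⊗ₜ[k] R k M A y m := by
  induction y using TensorProduct.induction_on with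
  | zero => simp
  | tmul a' ψ => simp [TensorProduct.tmul_smul]
  | add x y hx hy => simp only [TensorProduct.tmul_add, map_add, LinearMap.add_apply, hx, hy]

lemma key1 (c : HopfRep.Comod k A M) (lc : Module.Dual k M →ₗ[k] A ⊗[k] Module.Dual k M)
    (hlc : ∀ g, R k M A (lc g) = D c g) (x : A ⊗[k] Module.Dual k M) (m : M) :
    R k M (A ⊗[k] A) ((TensorProduct.assoc k A A (Module.Dual k M)).symm
      (LinearMap.lTensor A lc x)) m = LinearMap.rTensor A (R k M A x) (c.coact m) := by
  induction x using TensorProduct.induction_on with
  | zero => simp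
  | tmul a φ =>
    rw [LinearMap.lTensor_tmul, R_assoc_symm_tmul, hlc, D_apply]
    generalize c.coact m = w
    induction w using TensorProduct.induction_on with
    | zero => simp
    | tmul m' b => simp [TensorProduct.smul_tmul', TensorProduct.tmul_smul]
    | add w w' hw hw' => simp only [map_add, TensorProduct.tmul_add, hw, hw']
  | add x y hx hy => simp only [map_add, LinearMap.add_apply, LinearMap.rTensor_add, hx, hy]

lemma key2 (c : HopfRep.Comod k A M) (g : Module.Dual k M) (m : M) :
    LinearMap.rTensor A (D c g) (c.coact m) = Δ (D c g m) := by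
  have hco := LinearMap.congr_fun c.coassoc m
  simp only [LinearMap.comp_apply, LinearEquiv.coe_coe] at hco
  have h1 : ∀ w : M ⊗[k] A, LinearMap.rTensor A (D c g) w =
      LinearMap.rTensor A ((TensorProduct.lid k A).toLinearMap ∘ₗ g.rTensor A)
        (LinearMap.rTensor A c.coact w) := by
    intro w
    rw [← LinearMap.comp_apply (LinearMap.rTensor A _) (LinearMap.rTensor A _),
      ← LinearMap.rTensor_comp]
    rfl
  have h2 : ∀ w : M ⊗[k] A,
      LinearMap.rTensor A ((TensorProduct.lid k A).toLinearMap ∘ₗ g.rTensor A)
        ((TensorProduct.assoc k M A A).symm (LinearMap.lTensor M Δ w)) =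
      Δ (TensorProduct.lid k A (g.rTensor A w)) := by
    intro w
    induction w using TensorProduct.induction_on with
    | zero => simp
    | tmul m' a =>
      rw [LinearMap.lTensor_tmul, LinearMap.rTensor_tmul, TensorProduct.lid_tmul, map_smul]
      generalize Δ a = t
      induction t using TensorProduct.induction_on with
      | zero => simp
      | tmul a₁ a₂ => simp [TensorProduct.smul_tmul']
      | add t t' ht ht' => simp only [TensorProduct.tmul_add, map_add, smul_add, ht, ht']
    | add w w' hw hw' => simp only [map_add, hw, hw']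
  rw [h1, show (LinearMap.rTensor A c.coact) (c.coact m) =
    (TensorProduct.assoc k M A A).symm (LinearMap.lTensor M Δ (c.coact m)) by
      rw [← hco, LinearEquiv.symm_apply_apply], h2, D_apply]

lemma counit_D (c : HopfRep.Comod k A M) (g : Module.Dual k M) (m : M) :
    ε (D c g m) = g m := by
  have hcu := LinearMap.congr_fun c.counit_comp m
  simp only [LinearMap.comp_apply, LinearMap.flip_apply, TensorProduct.mk_apply] at hcu
  have h1 : ∀ w : M ⊗[k] A, ε (TensorProduct.lid k A (g.rTensor A w)) =
      g (TensorProduct.rid k M (LinearMap.lTensor M ε w)) := by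
    intro w
    induction w using TensorProduct.induction_on with
    | zero => simp
    | tmul u b =>
      simp only [LinearMap.rTensor_tmul, TensorProduct.lid_tmul, map_smul, LinearMap.lTensor_tmul,
        TensorProduct.rid_tmul, smul_eq_mul]
      rw [mul_comm]
    | add w w' hw hw' => simp only [map_add, hw, hw']
  rw [D_apply, h1, hcu, TensorProduct.rid_tmul, one_smul]

set_option warn.classDefReducibility false in
/-- the left dual, from a coaction with the right values -/
noncomputable def ldualOfCoact (c : HopfRep.Comod k A M)
    (lc : Module.Dual k M →ₗ[k] A ⊗[k] Module.Dual k M)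
    (hlc : ∀ g, R k M A (lc g) = D c g)
    (h2 : Function.Injective (R k M (A ⊗[k] A)))
    (h0 : Function.Injective (R k M k)) :
    ComodSub.LComod k A (Module.Dual k M) where
  coact := lc
  coassoc := by
    apply LinearMap.ext
    intro g
    simp only [LinearMap.comp_apply, LinearEquiv.coe_coe]
    apply (TensorProduct.assoc k A A (Module.Dual k M)).symm.injective
    rw [LinearEquiv.symm_apply_apply]
    apply h2
    apply LinearMap.ext
    intro m
    rw [key1 c lc hlc, hlc, key2, R_rTensor, hlc]
  counit_comp := by
    apply LinearMap.ext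
    intro g
    simp only [LinearMap.comp_apply, TensorProduct.mk_apply]
    apply h0
    apply LinearMap.ext
    intro m
    rw [R_rTensor, hlc, counit_D, R_tmul, smul_eq_mul, mul_one]

omit [Coalgebra k A] in
lemma R_bijective [Module.FinitePresentation k M] (N : Type*) [AddCommGroup N] [Module k N]
    [Module.Flat k N] : Function.Bijective (R k M N) :=
  (Groth.Agent.H9.DualFlat.dualTensorHom_bijective_of_fp_flat M N).comp
    (TensorProduct.comm k N (Module.Dual k M)).bijective

theorem exists_isLDual [Module.Flat k A] [Module.FinitePresentation k M]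
    (c : HopfRep.Comod k A M) :
    ∃ l : ComodSub.LComod k A (Module.Dual k M), ComodSub.LComod.IsLDual c l := by
  let e : A ⊗[k] Module.Dual k M ≃ₗ[k] (M →ₗ[k] A) :=
    LinearEquiv.ofBijective (R k M A) (R_bijective A)
  let lc : Module.Dual k M →ₗ[k] A ⊗[k] Module.Dual k M := e.symm.toLinearMap ∘ₗ D c
  have hlc : ∀ g, R k M A (lc g) = D c g := by
    intro g
    exact e.apply_symm_apply (D c g)
  exact ⟨ldualOfCoact c lc hlc (R_bijective (A ⊗[k] A)).1 (R_bijective k).1, hlc⟩

end Groth.Agent.H9.LDual
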