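import Mathlib
import Groth.Prelude.Def_ComodSub
import Groth.Agent.Lib.Helper9.HopfAntipode

/-!
# Passage between left and right comodules through the antipode (helper9)
-/

set_option autoImplicit false

universe u v w

open TensorProduct

namespace Groth.Agent.H9.LeftRight

variable {k : Type u} [CommRing k] {A : Type v} [CommRing A] [HopfAlgebra k A]
  {M : Type w} [AddCommGroup M] [Module k M]

local notation "S" => (HopfAlgebraStruct.antipode (R := k) (A := A))
local notation "Δ" => (CoalgebraStruct.comul (R := k) (A := A))
local notation "ε" => (CoalgebraStruct.counit (R := k) (A := A))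

variable (k A M) in
/-- `m ⊗ (b ⊗ c) ↦ S c ⊗ (S b ⊗ m)` -/
noncomputable def H : M ⊗[k] (A ⊗[k] A) →ₗ[k] A ⊗[k] (A ⊗[k] M) :=
  (TensorProduct.assoc k A A M).toLinearMap ∘ₗ (TensorProduct.comm k M (A ⊗[k] A)).toLinearMap ∘ₗ
    (TensorProduct.map S S ∘ₗ (TensorProduct.comm k A A).toLinearMap).lTensor M

@[simp] lemma H_tmul (m : M) (b c : A) :
    H k A M (m ⊗ₜ[k] (b ⊗ₜ[k] c)) = S c ⊗ₜ[k] (S b ⊗ₜ[k] m) := by
  simp [H]

variable (k A M) in
/-- `a ⊗ (b ⊗ m) ↦ m ⊗ (S b ⊗ S a)` -/
noncomputable def H' : A ⊗[k] (A ⊗[k] M) →ₗ[k] M ⊗[k] (A ⊗[k] A) :=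
  (TensorProduct.map S S ∘ₗ (TensorProduct.comm k A A).toLinearMap).lTensor M ∘ₗ
    (TensorProduct.comm k (A ⊗[k] A) M).toLinearMap ∘ₗ (TensorProduct.assoc k A A M).symm.toLinearMap

@[simp] lemma H'_tmul (a b : A) (m : M) :
    H' k A M (a ⊗ₜ[k] (b ⊗ₜ[k] m)) = m ⊗ₜ[k] (S b ⊗ₜ[k] S a) := by
  simp [H']

/-- right to left -/
theorem exists_lcomod (c : HopfRep.Comod k A M) :
    ∃ l : ComodSub.LComod k A M, l.coact = ComodSub.lcoactOfRight c := by
  set lam : M →ₗ[k] A ⊗[k] M := ComodSub.lcoactOfRight c with hlam
  have hlam_apply : ∀ m, lam m = TensorProduct.comm k M A ((LinearMap.lTensor M S) (c.coact m)) := fun m => rfl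
  have h1 : ∀ x : M ⊗[k] A, lam.lTensor A (TensorProduct.comm k M A ((LinearMap.lTensor M S) x)) =
      H k A M (TensorProduct.assoc k M A A (c.coact.rTensor A x)) := by
    intro x
    induction x using TensorProduct.induction_on with
    | zero => simp
    | tmul m a =>
      rw [LinearMap.lTensor_tmul, TensorProduct.comm_tmul, LinearMap.lTensor_tmul, hlam_apply,
        LinearMap.rTensor_tmul]
      generalize c.coact m = y
      induction y using TensorProduct.induction_on with
      | zero => simp
      | tmul u b => simp
      | add y z hy hz =>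
        simp only [map_add, TensorProduct.tmul_add, TensorProduct.add_tmul, hy, hz]
    | add x y hx hy => simp only [map_add, hx, hy]
  have h2 : ∀ x : M ⊗[k] A, TensorProduct.assoc k A A M
      ((LinearMap.rTensor M Δ) (TensorProduct.comm k M A ((LinearMap.lTensor M S) x))) = H k A M ((LinearMap.lTensor M Δ) x) := by
    intro x
    induction x using TensorProduct.induction_on with
    | zero => simp
    | tmul m a =>
      rw [LinearMap.lTensor_tmul, TensorProduct.comm_tmul, LinearMap.rTensor_tmul,
        LinearMap.lTensor_tmul]
      have := Groth.Agent.H9.Hopf.comul_antipode (R := k) a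
      rw [show Δ (S a) = _ from this]
      generalize Δ a = y
      induction y using TensorProduct.induction_on with
      | zero => simp
      | tmul b c => simp
      | add y z hy hz =>
        simp only [map_add, TensorProduct.tmul_add, TensorProduct.add_tmul, hy, hz]
    | add x y hx hy => simp only [map_add, hx, hy]
  have h3 : ∀ x : M ⊗[k] A, (LinearMap.rTensor M ε) (TensorProduct.comm k M A ((LinearMap.lTensor M S) x)) =
      TensorProduct.comm k M k ((LinearMap.lTensor M ε) x) := by
    intro x
    induction x using TensorProduct.induction_on with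
    | zero => simp
    | tmul m a => simp
    | add x y hx hy => simp only [map_add, hx, hy]
  refine ⟨{ coact := lam, coassoc := ?_, counit_comp := ?_ }, rfl⟩
  · apply LinearMap.ext
    intro m
    have hco := LinearMap.congr_fun c.coassoc m
    simp only [LinearMap.comp_apply, LinearEquiv.coe_coe] at hco ⊢
    rw [hlam_apply, h1, hco, ← h2]
  · apply LinearMap.ext
    intro m
    have hcu := LinearMap.congr_fun c.counit_comp m
    simp only [LinearMap.comp_apply, LinearMap.flip_apply, TensorProduct.mk_apply] at hcu ⊢
    rw [hlam_apply, h3, hcu, TensorProduct.comm_tmul]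

/-- left to right -/
theorem exists_rcomod (l : ComodSub.LComod k A M) :
    ∃ c : HopfRep.Comod k A M, c.coact = ComodSub.rcoactOfLeft l := by
  set rho : M →ₗ[k] M ⊗[k] A := ComodSub.rcoactOfLeft l with hrho
  have hrho_apply : ∀ m, rho m = TensorProduct.comm k A M ((LinearMap.rTensor M S) (l.coact m)) := fun m => rfl
  have h1 : ∀ x : A ⊗[k] M, TensorProduct.assoc k M A A
      (rho.rTensor A (TensorProduct.comm k A M ((LinearMap.rTensor M S) x))) =
      H' k A M (l.coact.lTensor A x) := by
    intro x
    induction x using TensorProduct.induction_on with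
    | zero => simp
    | tmul a m =>
      rw [LinearMap.rTensor_tmul, TensorProduct.comm_tmul, LinearMap.rTensor_tmul, hrho_apply,
        LinearMap.lTensor_tmul]
      generalize l.coact m = y
      induction y using TensorProduct.induction_on with
      | zero => simp
      | tmul b u => simp
      | add y z hy hz =>
        simp only [map_add, TensorProduct.tmul_add, TensorProduct.add_tmul, hy, hz]
    | add x y hx hy => simp only [map_add, hx, hy]
  have h2 : ∀ x : A ⊗[k] M, (LinearMap.lTensor M Δ) (TensorProduct.comm k A M ((LinearMap.rTensor M S) x)) =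
      H' k A M (TensorProduct.assoc k A A M ((LinearMap.rTensor M Δ) x)) := by
    intro x
    induction x using TensorProduct.induction_on with
    | zero => simp
    | tmul a m =>
      rw [LinearMap.rTensor_tmul, TensorProduct.comm_tmul, LinearMap.lTensor_tmul,
        LinearMap.rTensor_tmul]
      have := Groth.Agent.H9.Hopf.comul_antipode (R := k) a
      rw [show Δ (S a) = _ from this]
      generalize Δ a = y
      induction y using TensorProduct.induction_on with
      | zero => simp
      | tmul b c => simp
      | add y z hy hz =>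
        simp only [map_add, TensorProduct.tmul_add, TensorProduct.add_tmul, hy, hz]
    | add x y hx hy => simp only [map_add, hx, hy]
  have h3 : ∀ x : A ⊗[k] M, (LinearMap.lTensor M ε) (TensorProduct.comm k A M ((LinearMap.rTensor M S) x)) =
      TensorProduct.comm k k M ((LinearMap.rTensor M ε) x) := by
    intro x
    induction x using TensorProduct.induction_on with
    | zero => simp
    | tmul a m => simp
    | add x y hx hy => simp only [map_add, hx, hy]
  refine ⟨{ coact := rho, coassoc := ?_, counit_comp := ?_ }, rfl⟩
  · apply LinearMap.ext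
    intro m
    have hco := LinearMap.congr_fun l.coassoc m
    simp only [LinearMap.comp_apply, LinearEquiv.coe_coe] at hco ⊢
    rw [hrho_apply, h1, hco, ← h2]
  · apply LinearMap.ext
    intro m
    have hcu := LinearMap.congr_fun l.counit_comp m
    simp only [LinearMap.comp_apply, LinearMap.flip_apply, TensorProduct.mk_apply] at hcu ⊢
    rw [hrho_apply, h3, hcu, TensorProduct.comm_tmul]

end Groth.Agent.H9.LeftRight
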