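import Mathlib
import Groth.Agent.Lib.Helper9.ComodHilbert
import Groth.Agent.Lib.Helper9.ComodGIT

/-!
# Semistability and the origin (helper9)
-/

set_option autoImplicit false
set_option linter.style.haveILetI false

universe u v w

open TensorProduct MvPolynomial

namespace Groth.Agent.H9.Nullcone

open Groth.Agent.H9.Comod Groth.Agent.H9.Hilbert Groth.Agent.H9.GIT

variable {k : Type u} [Field k] {A : Type v} [CommRing A] [Bialgebra k A] {ι : Type w}
  [HopfRep.Comod k A (MvPolynomial ι k)] [GLin.IsCoactAlg k A (MvPolynomial ι k)]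

omit [HopfRep.Comod k A (MvPolynomial ι k)] [GLin.IsCoactAlg k A (MvPolynomial ι k)] in
lemma eval_zero_of_isHomogeneous {p : MvPolynomial ι k} {d : ℕ} (hd : 0 < d)
    (hp : p.IsHomogeneous d) : eval (fun _ => (0 : k)) p = 0 := by
  rw [eval_zero', constantCoeff_eq]
  apply hp.coeff_eq_zero
  simp only [map_zero]
  omega

omit [HopfRep.Comod k A (MvPolynomial ι k)] [GLin.IsCoactAlg k A (MvPolynomial ι k)] in
lemma ker_vecPt_zero_eq :
    (RingHom.ker (GLin.vecPt k ι (fun _ => (0 : k)) : MvPolynomial ι k →+* k)).restrictScalars k =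
      ⨆ d : ℕ, homogeneousSubmodule ι k (d + 1) := by
  apply le_antisymm
  · intro p hp
    have hp0 : eval (fun _ => (0 : k)) p = 0 := by
      have : (GLin.vecPt k ι (fun _ => (0 : k))) p = 0 := hp
      rwa [GLin.vecPt, aeval_eq_eval] at this
    rw [← sum_homogeneousComponent p]
    refine Submodule.sum_mem _ fun i _ => ?_
    rcases Nat.eq_zero_or_pos i with rfl | hi
    · rw [homogeneousComponent_zero]
      rw [eval_zero', constantCoeff_eq] at hp0
      rw [hp0, map_zero]
      exact Submodule.zero_mem _
    · obtain ⟨j, rfl⟩ : ∃ j, i = j + 1 := ⟨i - 1, by omega⟩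
      exact Submodule.mem_iSup_of_mem j (homogeneousComponent_mem _ p)
  · apply iSup_le
    intro d p hp
    change (GLin.vecPt k ι (fun _ => (0 : k))) p = 0
    rw [GLin.vecPt, aeval_eq_eval]
    exact eval_zero_of_isHomogeneous (Nat.succ_pos d) hp

/-- semistable vectors for a linear action of a linearly reductive group: the origin is not in the
orbit closure -/
theorem isSemistableVec_iff [Fintype ι]
    (hss : HopfRep.IsSemisimpleComod k A (MvPolynomial ι k)) (hlin : GLin.IsLinear k A ι)
    (v : ι → k) :
    GLin.IsSemistableVec k A v ↔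
      ¬ GLin.InOrbitClosure k A (GLin.vecPt k ι v) (GLin.vecPt k ι (fun _ => (0 : k))) := by
  have hT : ∀ i : ι, HopfRep.Comod.coact (k := k) (A := A) (X i : MvPolynomial ι k) ∈
      T (k := k) A ι 1 := by
    intro i
    obtain ⟨m, hm⟩ := hlin i
    rw [hm]
    refine Submodule.sum_mem _ fun j _ => ?_
    exact ⟨(⟨X j, isHomogeneous_X k j⟩ : homogeneousSubmodule ι k 1) ⊗ₜ[k] m j, rfl⟩
  have hsub := isSubcomod_homogeneous (k := k) (A := A) hT
  constructor
  · intro hs hcl
    apply hs
    intro F hF d hd hhom
    have h1 : F - algebraMap k _ (GLin.vecPt k ι v F) ∈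
        RingHom.ker (GLin.orbitHom k A (GLin.vecPt k ι v) : MvPolynomial ι k →+* A) := by
      change GLin.orbitHom k A (GLin.vecPt k ι v) (F - algebraMap k _ (GLin.vecPt k ι v F)) = 0
      rw [map_sub, orbitHom_of_mem_fixedPts _ hF, AlgHom.commutes, sub_self]
    have h2 : (GLin.vecPt k ι (fun _ => (0 : k))) (F - algebraMap k _ (GLin.vecPt k ι v F)) = 0 :=
      hcl h1
    rw [map_sub, AlgHom.commutes, Algebra.algebraMap_self_apply, sub_eq_zero] at h2
    rw [GLin.vecPt, aeval_eq_eval, eval_zero_of_isHomogeneous hd hhom] at h2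
    rw [← aeval_eq_eval]
    exact h2.symm
  · intro hncl hnull
    apply hncl
    by_contra hnle
    have hmax : (RingHom.ker (GLin.vecPt k ι (fun _ => (0 : k)) : MvPolynomial ι k →+* k)).IsMaximal :=
      RingHom.ker_isMaximal_of_surjective _ (fun c => ⟨C c, by simp⟩)
    have htop : RingHom.ker (GLin.orbitHom k A (GLin.vecPt k ι v) : MvPolynomial ι k →+* A) ⊔
        RingHom.ker (GLin.vecPt k ι (fun _ => (0 : k)) : MvPolynomial ι k →+* k) = ⊤ := by
      by_contra hne
      have := hmax.eq_of_le hne le_sup_right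
      apply hnle
      intro f hf
      have hf' : f ∈ RingHom.ker (GLin.vecPt k ι (fun _ => (0 : k)) : MvPolynomial ι k →+* k) := by
        rw [this]
        exact Ideal.mem_sup_left hf
      exact hf'
    have h0sub : HopfRep.IsSubcomod (k := k) (A := A)
        ((RingHom.ker (GLin.vecPt k ι (fun _ => (0 : k)) :
          MvPolynomial ι k →+* k)).restrictScalars k) := by
      rw [ker_vecPt_zero_eq]
      exact isSubcomod_iSup _ fun d => hsub (d + 1)
    obtain ⟨f, hf, hf₁, hf₂⟩ := exists_inv_separating hss _ _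
      (isSubcomod_ker_orbitHom (GLin.vecPt k ι v)) h0sub htop
    have hv0 : eval v f = 0 := by
      rw [← aeval_eq_eval]
      change (GLin.vecPt k ι v) f = 0
      rw [← counit_orbitHom (A := A) (GLin.vecPt k ι v) f]
      have : GLin.orbitHom k A (GLin.vecPt k ι v) f = 0 := hf₁
      rw [this, map_zero]
    have h00 : coeff 0 f = 1 := by
      have h : (GLin.vecPt k ι (fun _ => (0 : k))) (1 - f) = 0 := hf₂
      rw [map_sub, map_one, sub_eq_zero, GLin.vecPt, aeval_eq_eval, eval_zero',
        constantCoeff_eq] at h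
      exact h.symm
    have hsum : eval v f = ∑ i ∈ Finset.range (f.totalDegree + 1),
        eval v (homogeneousComponent i f) := by
      conv_lhs => rw [← sum_homogeneousComponent f, map_sum]
    rw [Finset.sum_eq_single 0] at hsum
    · rw [homogeneousComponent_zero, h00, map_one, map_one, hv0] at hsum
      exact zero_ne_one hsum
    · intro i _ hi
      exact hnull _ (homogeneousComponent_mem_fixedPts hss hsub hf i) i (Nat.pos_of_ne_zero hi)
        (homogeneousComponent_isHomogeneous i f)
    · intro h
      exact absurd (Finset.mem_range.mpr (Nat.succ_pos _)) h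

end Groth.Agent.H9.Nullcone
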