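import Mathlib

/-!
# Cubic forms: the symmetric trilinear form of a homogeneous cubic polynomial
-/

set_option autoImplicit false

namespace Groth.Agent.H9.CubicForm

open MvPolynomial

variable {n : ℕ}

theorem pderiv_comm (i j : Fin n) (f : MvPolynomial (Fin n) ℂ) :
    pderiv i (pderiv j f) = pderiv j (pderiv i f) := by
  ext m
  rw [coeff_pderiv, coeff_pderiv, coeff_pderiv, coeff_pderiv]
  by_cases h : i = j
  · subst h; rfl
  · have h1 : (m + Finsupp.single i 1 : Fin n →₀ ℕ) j = m j := by
      simp [h]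
    have h2 : (m + Finsupp.single j 1 : Fin n →₀ ℕ) i = m i := by
      simp [Ne.symm h]
    rw [h1, h2, add_right_comm]
    ring

/-- Euler's identity, evaluated. -/
theorem euler_eval {d : ℕ} {g : MvPolynomial (Fin n) ℂ} (hg : g.IsHomogeneous d)
    (v : Fin n → ℂ) : (d : ℂ) * eval v g = ∑ i, v i * eval v (pderiv i g) := by
  have h := congrArg (eval v) hg.sum_X_mul_pderiv
  simp only [map_sum, map_mul, eval_X, nsmul_eq_mul, map_natCast] at h
  rw [← h]

theorem eval_of_isHomogeneous_zero {g : MvPolynomial (Fin n) ℂ} (hg : g.IsHomogeneous 0)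
    (v : Fin n → ℂ) : eval v g = coeff 0 g := by
  rw [← totalDegree_zero_iff_isHomogeneous, totalDegree_eq_zero_iff_eq_C] at hg
  rw [hg]
  simp

/-- third derivative constants -/
noncomputable def c3 (f : MvPolynomial (Fin n) ℂ) (i j k : Fin n) : ℂ :=
  coeff 0 (pderiv i (pderiv j (pderiv k f)))

theorem c3_symm12 (f : MvPolynomial (Fin n) ℂ) (i j k : Fin n) : c3 f i j k = c3 f j i k := by
  unfold c3
  rw [pderiv_comm]

theorem c3_symm23 (f : MvPolynomial (Fin n) ℂ) (i j k : Fin n) : c3 f i j k = c3 f i k j := by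
  unfold c3
  rw [pderiv_comm j k]

noncomputable def L1 (f : MvPolynomial (Fin n) ℂ) (u : Fin n → ℂ) (j k : Fin n) : ℂ :=
  ∑ i, u i * c3 f i j k

noncomputable def L2 (f : MvPolynomial (Fin n) ℂ) (u v : Fin n → ℂ) (k : Fin n) : ℂ :=
  ∑ j, v j * L1 f u j k

/-- the symmetric trilinear form of a cubic -/
noncomputable def T (f : MvPolynomial (Fin n) ℂ) (u v w : Fin n → ℂ) : ℂ :=
  (1 / 6) * ∑ k, w k * L2 f u v k

section lin

variable (f : MvPolynomial (Fin n) ℂ)

theorem L1_add (u u' : Fin n → ℂ) (j k : Fin n) : L1 f (u + u') j k = L1 f u j k + L1 f u' j k := by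
  simp [L1, add_mul, Finset.sum_add_distrib]

theorem L1_smul (a : ℂ) (u : Fin n → ℂ) (j k : Fin n) : L1 f (a • u) j k = a * L1 f u j k := by
  simp [L1, Finset.mul_sum, mul_assoc]

theorem L2_add_left (u u' v : Fin n → ℂ) (k : Fin n) :
    L2 f (u + u') v k = L2 f u v k + L2 f u' v k := by
  simp [L2, L1_add, mul_add, Finset.sum_add_distrib]

theorem L2_smul_left (a : ℂ) (u v : Fin n → ℂ) (k : Fin n) :
    L2 f (a • u) v k = a * L2 f u v k := by
  simp only [L2, L1_smul, Finset.mul_sum]
  apply Finset.sum_congr rfl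
  intro j _
  ring

theorem T_add_left (u u' v w : Fin n → ℂ) : T f (u + u') v w = T f u v w + T f u' v w := by
  simp only [T, L2_add_left, mul_add, Finset.sum_add_distrib]

theorem T_smul_left (a : ℂ) (u v w : Fin n → ℂ) : T f (a • u) v w = a * T f u v w := by
  simp only [T, L2_smul_left, Finset.mul_sum]
  apply Finset.sum_congr rfl
  intro j _
  ring

theorem L2_symm (u v : Fin n → ℂ) (k : Fin n) : L2 f u v k = L2 f v u k := by
  simp only [L2, L1, Finset.mul_sum]
  rw [Finset.sum_comm]
  apply Finset.sum_congr rfl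
  intro i _
  apply Finset.sum_congr rfl
  intro j _
  rw [c3_symm12]
  ring

theorem T_symm12 (u v w : Fin n → ℂ) : T f u v w = T f v u w := by
  simp only [T, L2_symm f u v]

theorem T_symm23 (u v w : Fin n → ℂ) : T f u v w = T f u w v := by
  simp only [T, L2, Finset.mul_sum]
  rw [Finset.sum_comm]
  apply Finset.sum_congr rfl
  intro j _
  apply Finset.sum_congr rfl
  intro k _
  have : L1 f u k j = L1 f u j k := by
    simp only [L1]
    apply Finset.sum_congr rfl
    intro i _
    rw [c3_symm23]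
  rw [this]
  ring

theorem T_symm13 (u v w : Fin n → ℂ) : T f u v w = T f w v u := by
  rw [T_symm12, T_symm23, T_symm12]

theorem T_add_mid (u v v' w : Fin n → ℂ) : T f u (v + v') w = T f u v w + T f u v' w := by
  rw [T_symm12, T_add_left, T_symm12 f v, T_symm12 f v']

theorem T_smul_mid (a : ℂ) (u v w : Fin n → ℂ) : T f u (a • v) w = a * T f u v w := by
  rw [T_symm12, T_smul_left, T_symm12 f v]

theorem T_add_right (u v w w' : Fin n → ℂ) : T f u v (w + w') = T f u v w + T f u v w' := by
  rw [T_symm13, T_add_left, T_symm13 f w, T_symm13 f w']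

theorem T_smul_right (a : ℂ) (u v w : Fin n → ℂ) : T f u v (a • w) = a * T f u v w := by
  rw [T_symm13, T_smul_left, T_symm13 f w]

theorem T_zero_left (v w : Fin n → ℂ) : T f 0 v w = 0 := by
  have := T_smul_left f 0 0 v w
  simpa using this

theorem T_zero_mid (u w : Fin n → ℂ) : T f u 0 w = 0 := by
  rw [T_symm12, T_zero_left]

theorem T_zero_right (u v : Fin n → ℂ) : T f u v 0 = 0 := by
  rw [T_symm13, T_zero_left]

theorem T_neg_left (u v w : Fin n → ℂ) : T f (-u) v w = - T f u v w := by
  have := T_smul_left f (-1) u v w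
  simpa using this

theorem T_neg_mid (u v w : Fin n → ℂ) : T f u (-v) w = - T f u v w := by
  rw [T_symm12, T_neg_left, T_symm12]

theorem T_neg_right (u v w : Fin n → ℂ) : T f u v (-w) = - T f u v w := by
  rw [T_symm13, T_neg_left, T_symm13]

theorem T_sub_left (u u' v w : Fin n → ℂ) : T f (u - u') v w = T f u v w - T f u' v w := by
  rw [sub_eq_add_neg, T_add_left, T_neg_left, sub_eq_add_neg]

theorem T_sub_mid (u v v' w : Fin n → ℂ) : T f u (v - v') w = T f u v w - T f u v' w := by
  rw [sub_eq_add_neg, T_add_mid, T_neg_mid, sub_eq_add_neg]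

theorem T_sub_right (u v w w' : Fin n → ℂ) : T f u v (w - w') = T f u v w - T f u v w' := by
  rw [sub_eq_add_neg, T_add_right, T_neg_right, sub_eq_add_neg]

end lin

section hom

variable {f : MvPolynomial (Fin n) ℂ} (hf : f.IsHomogeneous 3)
include hf

theorem eval_pderiv2 (v : Fin n → ℂ) (j k : Fin n) :
    eval v (pderiv j (pderiv k f)) = L1 f v j k := by
  have h1 : (pderiv j (pderiv k f)).IsHomogeneous 1 := hf.pderiv.pderiv
  have h := euler_eval h1 v
  simp only [Nat.cast_one, one_mul] at h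
  rw [h, L1]
  apply Finset.sum_congr rfl
  intro i _
  rw [eval_of_isHomogeneous_zero h1.pderiv, c3]

theorem eval_pderiv1 (v : Fin n → ℂ) (k : Fin n) :
    eval v (pderiv k f) = (1 / 2) * L2 f v v k := by
  have h1 : (pderiv k f).IsHomogeneous 2 := hf.pderiv
  have h := euler_eval h1 v
  simp only [eval_pderiv2 hf] at h
  rw [L2, ← h]
  push_cast
  ring

theorem eval_eq_T (v : Fin n → ℂ) : eval v f = T f v v v := by
  have h := euler_eval hf v
  simp only [eval_pderiv1 hf] at h
  rw [T]
  have : ∑ k, v k * L2 f v v k = 2 * ∑ k, v k * ((1 / 2) * L2 f v v k) := by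
    rw [Finset.mul_sum]
    apply Finset.sum_congr rfl
    intro k _
    ring
  rw [this, ← h]
  push_cast
  ring

theorem eval_pderiv_eq_T (v : Fin n → ℂ) (m : Fin n) :
    eval v (pderiv m f) = 3 * T f v v (Pi.single m 1) := by
  rw [eval_pderiv1 hf, T]
  have : ∑ k, (Pi.single m 1 : Fin n → ℂ) k * L2 f v v k = L2 f v v m := by
    simp [Pi.single_apply]
  rw [this]
  ring

theorem eval_smul (a : ℂ) (v : Fin n → ℂ) : eval (a • v) f = a ^ 3 * eval v f := by
  rw [eval_eq_T hf, eval_eq_T hf, T_smul_left, T_smul_mid, T_smul_right]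
  ring

theorem eval_add_smul (v w : Fin n → ℂ) (t : ℂ) :
    eval (v + t • w) f =
      eval v f + 3 * t * T f v v w + 3 * t ^ 2 * T f v w w + t ^ 3 * eval w f := by
  rw [eval_eq_T hf, eval_eq_T hf, eval_eq_T hf]
  simp only [T_add_left, T_add_mid, T_add_right, T_smul_left, T_smul_mid, T_smul_right]
  rw [T_symm23 f v w v, T_symm13 f w v v, T_symm13 f w w v, T_symm12 f w v w]
  ring

end hom


section expand

variable {f : MvPolynomial (Fin n) ℂ} (hf : f.IsHomogeneous 3)
include hf

/-- expansion of a cubic on a combination of three vectors -/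
theorem expand3 (a b c : Fin n → ℂ) (x y z : ℂ) :
    eval (x • a + y • b + z • c) f =
      x ^ 3 * T f a a a + y ^ 3 * T f b b b + z ^ 3 * T f c c c +
      3 * x ^ 2 * y * T f a a b + 3 * x ^ 2 * z * T f a a c +
      3 * x * y ^ 2 * T f a b b + 3 * y ^ 2 * z * T f b b c +
      3 * x * z ^ 2 * T f a c c + 3 * y * z ^ 2 * T f b c c +
      6 * x * y * z * T f a b c := by
  rw [eval_eq_T hf]
  simp only [T_add_left, T_add_mid, T_add_right, T_smul_left, T_smul_mid, T_smul_right]
  have s1 : ∀ w, T f b a w = T f a b w := fun w => T_symm12 f b a w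
  have s2 : ∀ w, T f c a w = T f a c w := fun w => T_symm12 f c a w
  have s3 : ∀ w, T f c b w = T f b c w := fun w => T_symm12 f c b w
  have r1 : ∀ w, T f w b a = T f w a b := fun w => T_symm23 f w b a
  have r2 : ∀ w, T f w c a = T f w a c := fun w => T_symm23 f w c a
  have r3 : ∀ w, T f w c b = T f w b c := fun w => T_symm23 f w c b
  simp only [s1, s2, s3, r1, r2, r3]
  ring

theorem expand2 (a b : Fin n → ℂ) (x y : ℂ) :
    eval (x • a + y • b) f =
      x ^ 3 * T f a a a + y ^ 3 * T f b b b +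
      3 * x ^ 2 * y * T f a a b + 3 * x * y ^ 2 * T f a b b := by
  have := expand3 hf a b 0 x y 0
  simp only [zero_smul, add_zero] at this
  rw [this]
  ring

end expand

section subst

theorem eval_subst (A : Matrix (Fin n) (Fin n) ℂ) (f : MvPolynomial (Fin n) ℂ) (v : Fin n → ℂ) :
    eval v (aeval (fun i : Fin n => ∑ j : Fin n, C (A i j) * X j) f) = eval (A.mulVec v) f := by
  have h : ∀ (w : Fin n → ℂ) (p : MvPolynomial (Fin n) ℂ), eval w p = aeval w p :=
    fun w p => rfl
  rw [h, comp_aeval_apply]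
  have h2 : (fun i => aeval v (∑ j, C (A i j) * X j)) = A.mulVec v := by
    funext i
    simp [Matrix.mulVec, dotProduct]
  rw [h2, ← h]

theorem subst_eq_of_eval (A : Matrix (Fin n) (Fin n) ℂ) (f g : MvPolynomial (Fin n) ℂ)
    (h : ∀ v, eval (A.mulVec v) f = eval v g) :
    aeval (fun i : Fin n => ∑ j : Fin n, C (A i j) * X j) f = g := by
  apply MvPolynomial.funext
  intro v
  rw [eval_subst, h]

end subst

section smooth

variable {f : MvPolynomial (Fin n) ℂ} (hf : f.IsHomogeneous 3)
include hf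

theorem smooth_T
    (hsm : ∀ v : Fin n → ℂ, v ≠ 0 → eval v f = 0 → ∃ i : Fin n, eval v (pderiv i f) ≠ 0)
    (v : Fin n → ℂ) (hv : v ≠ 0) (h0 : T f v v v = 0) : ∃ w, T f v v w ≠ 0 := by
  obtain ⟨i, hi⟩ := hsm v hv (by rw [eval_eq_T hf, h0])
  refine ⟨Pi.single i 1, ?_⟩
  intro h
  apply hi
  rw [eval_pderiv_eq_T hf, h, mul_zero]

end smooth

end Groth.Agent.H9.CubicForm
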