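import Mathlib

set_option autoImplicit false
open MvPolynomial

namespace Groth.Agent.H9.MonoBasis

variable {σ : Type*} {R : Type*} [CommRing R] (m : MonomialOrder σ) {b : MvPolynomial σ R}

/-- normal monomials: those not divisible by the leading monomial of `b`. -/
def N (m : MonomialOrder σ) (b : MvPolynomial σ R) : Set (σ →₀ ℕ) := {c | ¬ m.degree b ≤ c}

/-- the classes of the normal monomials. -/
noncomputable def nm (m : MonomialOrder σ) (b : MvPolynomial σ R) (c : N m b) :
    MvPolynomial σ R ⧸ Ideal.span {b} :=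
  Ideal.Quotient.mk (Ideal.span {b}) (monomial c.1 (1 : R))

theorem span_eq_top (hb : IsUnit (m.leadingCoeff b)) :
    Submodule.span R (Set.range (nm m b)) = ⊤ := by
  rw [eq_top_iff]
  rintro x -
  obtain ⟨f, rfl⟩ := Ideal.Quotient.mk_surjective x
  obtain ⟨g, r, hf, -, hr⟩ := m.div_single hb f
  have h1 : Ideal.Quotient.mk (Ideal.span {b}) f = Ideal.Quotient.mk (Ideal.span {b}) r := by
    rw [hf, map_add]
    have : Ideal.Quotient.mk (Ideal.span {b}) (g * b) = 0 :=
      Ideal.Quotient.eq_zero_iff_mem.mpr (Ideal.mul_mem_left _ _ (Ideal.mem_span_singleton_self b))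
    rw [this, zero_add]
  rw [h1, r.as_sum, map_sum]
  refine Submodule.sum_mem _ fun c hc => ?_
  have : Ideal.Quotient.mk (Ideal.span {b}) (monomial c (coeff c r))
      = coeff c r • nm m b ⟨c, hr c hc⟩ := by
    unfold nm
    rw [← Ideal.Quotient.mkₐ_eq_mk R, ← map_smul, smul_monomial, smul_eq_mul, mul_one]
  rw [this]
  exact Submodule.smul_mem _ _ (Submodule.subset_span ⟨_, rfl⟩)

theorem linearIndependent (hb : IsUnit (m.leadingCoeff b)) :
    LinearIndependent R (nm m b) := by
  classical
  rw [linearIndependent_iff']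
  intro s a hsum
  set r : MvPolynomial σ R := ∑ c ∈ s, monomial c.1 (a c) with hr
  have hmk : Ideal.Quotient.mk (Ideal.span {b}) r = 0 := by
    rw [hr, map_sum, ← hsum]
    refine Finset.sum_congr rfl fun c _ => ?_
    unfold nm
    rw [← Ideal.Quotient.mkₐ_eq_mk R, ← map_smul, smul_monomial, smul_eq_mul, mul_one]
  obtain ⟨g, hg⟩ := Ideal.mem_span_singleton'.mp (Ideal.Quotient.eq_zero_iff_mem.mp hmk)
  have hsupp : ∀ d ∈ r.support, d ∈ N m b := by
    intro d hd
    rw [hr] at hd
    have := MvPolynomial.support_sum (s := s) (f := fun c : N m b => monomial c.1 (a c)) hd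
    rw [Finset.mem_biUnion] at this
    obtain ⟨c, _, hc⟩ := this
    have := MvPolynomial.support_monomial_subset hc
    rw [Finset.mem_singleton] at this
    rw [this]; exact c.2
  have hr0 : r = 0 := by
    by_contra hne
    have hg0 : g ≠ 0 := by
      rintro rfl; rw [zero_mul] at hg; exact hne hg.symm
    have hdeg := m.degree_mul_of_isRegular_right hg0 hb.isRegular
    rw [hg] at hdeg
    have hmem := (m.degree_mem_support_iff r).mpr hne
    have := hsupp _ hmem
    apply this
    rw [hdeg]
    exact le_add_self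
  intro c hc
  have : coeff c.1 r = a c := by
    rw [hr, coeff_sum]
    rw [Finset.sum_eq_single c]
    · simp
    · intro c' _ hne
      rw [coeff_monomial, if_neg]
      intro h; exact hne (Subtype.ext h)
    · intro h; exact absurd hc h
  rw [← this, hr0, coeff_zero]

end Groth.Agent.H9.MonoBasis
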