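import Mathlib
import Groth.Prelude.Def_W4c5m1nsnscurvesC
import Groth.Agent.Lib.Helper9.MonoBasis

set_option autoImplicit false
open MvPolynomial MonomialOrder W4c5m1nsnscurves

namespace Groth.Agent.H9.Curve3

open Groth.Agent.H9.MonoBasis

/-- lex order with `X 1 ≻ X 0`. -/
noncomputable def mo : MonomialOrder (Fin 2) :=
  (MonomialOrder.lex : MonomialOrder (OrderDual (Fin 2)))

lemma mo_lt_of {c d : Fin 2 →₀ ℕ} (h : c 1 < d 1) : c ≺[mo] d := by
  refine (MonomialOrder.lex_lt_iff (σ := OrderDual (Fin 2)) (c := c) (d := d)).mpr ?_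
  refine ⟨OrderDual.toDual 1, ?_, h⟩
  intro j hj
  exfalso
  have : (1 : Fin 2) < OrderDual.ofDual j := hj
  have h2 := Fin.le_last (OrderDual.ofDual j)
  exact absurd this (not_lt.mpr h2)

universe u
variable {R : Type u} [CommRing R] (a b c d : R)

/-- the cubic. -/
noncomputable abbrev f : MvPolynomial (Fin 2) R :=
  X 0 * X 1 ^ 2 - X 0 ^ 2 * X 1 - (C a * X 0 * X 1 + C b * X 0 + C c * X 1 + C d)

/-- exponent vector `(p, q)`. -/
noncomputable def pq (p q : ℕ) : Fin 2 →₀ ℕ := Finsupp.single 0 p + Finsupp.single 1 q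

@[simp] lemma pq_zero (p q : ℕ) : pq p q 0 = p := by simp [pq]
@[simp] lemma pq_one (p q : ℕ) : pq p q 1 = q := by simp [pq]

lemma pq_inj {p q p' q' : ℕ} (h : pq p q = pq p' q') : p = p' ∧ q = q' := by
  have h0 := DFunLike.congr_fun h 0
  have h1 := DFunLike.congr_fun h 1
  simpa using And.intro h0 h1

lemma eq_pq (e : Fin 2 →₀ ℕ) : e = pq (e 0) (e 1) := by
  ext i; fin_cases i <;> simp

lemma monomial_pq (p q : ℕ) (r : R) :
    monomial (pq p q) r = C r * X 0 ^ p * X 1 ^ q := by
  unfold pq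
  rw [monomial_eq]
  simp [Finsupp.prod_add_index', pow_add, mul_assoc]

lemma f_eq : f a b c d = monomial (pq 1 2) 1 - monomial (pq 2 1) 1 -
    (monomial (pq 1 1) a + monomial (pq 1 0) b + monomial (pq 0 1) c + monomial (pq 0 0) d) := by
  simp only [monomial_pq, f]
  simp

lemma coeff_f (e : Fin 2 →₀ ℕ) (he : 2 ≤ e 1) :
    coeff e (f a b c d) = if pq 1 2 = e then 1 else 0 := by
  rw [f_eq]
  simp only [coeff_sub, coeff_add, coeff_monomial]
  have h1 : pq 2 1 ≠ e := by rintro rfl; simp at he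
  have h2 : pq 1 1 ≠ e := by rintro rfl; simp at he
  have h3 : pq 1 0 ≠ e := by rintro rfl; simp at he
  have h4 : pq 0 1 ≠ e := by rintro rfl; simp at he
  have h5 : pq 0 0 ≠ e := by rintro rfl; simp at he
  rw [if_neg h1, if_neg h2, if_neg h3, if_neg h4, if_neg h5]
  simp

lemma degree_f [Nontrivial R] :
    mo.degree (f a b c d) = pq 1 2 ∧ mo.leadingCoeff (f a b c d) = 1 := by
  have hc : coeff (pq 1 2) (f a b c d) = 1 := by
    rw [coeff_f a b c d _ (by simp), if_pos rfl]
  have h1 : mo.degree (f a b c d) ≼[mo] pq 1 2 := by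
    rw [mo.degree_le_iff]
    intro e he
    by_cases h2 : 2 ≤ e 1
    · rw [mem_support_iff, coeff_f a b c d e h2] at he
      have : pq 1 2 = e := by
        by_contra hne; rw [if_neg hne] at he; exact he rfl
      rw [this]
    · exact le_of_lt (mo_lt_of (by simp; omega))
  have h2 : pq 1 2 ≼[mo] mo.degree (f a b c d) :=
    mo.le_degree (mem_support_iff.mpr (by rw [hc]; exact one_ne_zero))
  have hd : mo.degree (f a b c d) = pq 1 2 := mo.toSyn.injective (le_antisymm h1 h2)
  refine ⟨hd, ?_⟩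
  unfold MonomialOrder.leadingCoeff
  rw [hd, hc]

lemma mem_N [Nontrivial R] (e : Fin 2 →₀ ℕ) :
    e ∈ N mo (f a b c d) ↔ (e 0 = 0 ∨ e 1 ≤ 1) := by
  unfold N
  rw [Set.mem_ofPred_eq, (degree_f a b c d).1, Finsupp.le_def, Fin.forall_fin_two]
  simp only [pq_zero, pq_one]
  omega

/-- the reindexing. -/
noncomputable def idx : Option (ℕ ⊕ (Fin 2 × ℕ)) → (Fin 2 →₀ ℕ)
  | none => pq 0 0
  | some (Sum.inl k) => pq (k + 1) 1
  | some (Sum.inr (y, k)) => if y = 0 then pq (k + 1) 0 else pq 0 (k + 1)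

lemma idx_mem [Nontrivial R] (x : Option (ℕ ⊕ (Fin 2 × ℕ))) : idx x ∈ N mo (f a b c d) := by
  rw [mem_N]
  rcases x with _ | k | ⟨y, k⟩
  · simp [idx]
  · simp [idx]
  · by_cases hy : y = 0
    · simp [idx, hy]
    · simp [idx, hy]

lemma idx_injective : Function.Injective idx := by
  intro x x' h
  rcases x with _ | k | ⟨y, k⟩ <;> rcases x' with _ | k' | ⟨y', k'⟩
  · rfl
  · have := pq_inj h; omega
  · simp only [idx] at h
    split_ifs at h <;> have := pq_inj h <;> omega
  · have := pq_inj h; omega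
  · have := pq_inj h
    have : k = k' := by omega
    rw [this]
  · simp only [idx] at h
    split_ifs at h <;> have := pq_inj h <;> omega
  · simp only [idx] at h
    split_ifs at h <;> have := pq_inj h <;> omega
  · simp only [idx] at h
    split_ifs at h <;> have := pq_inj h <;> omega
  · simp only [idx] at h
    have hy2 : ∀ z : Fin 2, z ≠ 0 → z = 1 := by
      intro z hz; fin_cases z
      · exact absurd rfl hz
      · rfl
    split_ifs at h with h1 h2 h2
    · have := pq_inj h
      have hk : k = k' := by omega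
      rw [h1, h2, hk]
    · have := pq_inj h; omega
    · have := pq_inj h; omega
    · have := pq_inj h
      have hk : k = k' := by omega
      rw [hy2 y h1, hy2 y' h2, hk]

lemma idx_surj [Nontrivial R] (e : Fin 2 →₀ ℕ) (he : e ∈ N mo (f a b c d)) :
    ∃ x, idx x = e := by
  rw [mem_N] at he
  rw [eq_pq e]
  rcases Nat.eq_zero_or_pos (e 0) with h0 | h0
  · rcases Nat.eq_zero_or_pos (e 1) with h1 | h1
    · exact ⟨none, by rw [h0, h1]; rfl⟩
    · refine ⟨some (Sum.inr (1, e 1 - 1)), ?_⟩
      simp only [idx]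
      rw [if_neg (by decide), h0, Nat.sub_add_cancel h1]
  · rcases Nat.eq_zero_or_pos (e 1) with h1 | h1
    · refine ⟨some (Sum.inr (0, e 0 - 1)), ?_⟩
      simp only [idx]
      rw [if_pos trivial, h1, Nat.sub_add_cancel h0]
    · have h1' : e 1 = 1 := by omega
      refine ⟨some (Sum.inl (e 0 - 1)), ?_⟩
      simp only [idx]
      rw [h1', Nat.sub_add_cancel h0]

lemma cmon3_eq (x : Option (ℕ ⊕ (Fin 2 × ℕ))) :
    cmon3 R a b c d x = Ideal.Quotient.mk _ (monomial (idx x) (1 : R)) := by
  rcases x with _ | k | ⟨y, k⟩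
  · simp [cmon3, idx, monomial_pq]
  · simp [cmon3, idx, monomial_pq]
  · fin_cases y
    · simp [cmon3, idx, monomial_pq]
    · simp [cmon3, idx, monomial_pq]

theorem main : LinearIndependent R (cmon3 R a b c d) ∧
      Submodule.span R (Set.range (cmon3 R a b c d)) = ⊤ := by
  rcases subsingleton_or_nontrivial R with hR | hR
  · refine ⟨linearIndependent_of_subsingleton, ?_⟩
    have : Subsingleton (CurveAlg3 R a b c d) := Module.subsingleton R _
    exact Subsingleton.elim _ _
  · have hu : IsUnit (mo.leadingCoeff (f a b c d)) := by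
      rw [(degree_f a b c d).2]; exact isUnit_one
    let ι : Option (ℕ ⊕ (Fin 2 × ℕ)) → N mo (f a b c d) := fun x => ⟨idx x, idx_mem a b c d x⟩
    have hι : Function.Injective ι := fun x y h => idx_injective (congrArg Subtype.val h)
    have hιs : Function.Surjective ι := fun e => by
      obtain ⟨x, hx⟩ := idx_surj a b c d e.1 e.2
      exact ⟨x, Subtype.ext hx⟩
    have hcm : cmon3 R a b c d = nm mo (f a b c d) ∘ ι := by
      funext x; rw [cmon3_eq]; rfl
    rw [hcm]
    refine ⟨(MonoBasis.linearIndependent mo hu).comp ι hι, ?_⟩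
    rw [hιs.range_comp]
    exact MonoBasis.span_eq_top mo hu

end Groth.Agent.H9.Curve3
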