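import Mathlib

/-!
# The Green function of the cycle graph: `f(x) = x(x-N)/2 + (N²-1)/12`
-/

set_option autoImplicit false

namespace Groth.Agent.H9.CycGreen

open Finset

section Field

variable {K : Type*} [Field K]

/-- Discrete summation by parts against a root of unity. -/
theorem sum_p_mul_pow (h2 : (2 : K) ≠ 0) (N : ℕ) (c w : K) (hw : w ≠ 0) (hwN : w ^ N = 1)
    (hsum : ∑ x ∈ range N, w ^ x = 0) :
    (2 - w - w⁻¹) * ∑ x ∈ range N, (((x : K) * ((x : K) - N) / 2 + c) * w ^ x) = N := by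
  set T : ℕ → K := fun x => ((x : K) * ((x : K) - N) / 2 + c) * w ^ x * w⁻¹ -
    (((x : K) - 1) * (((x : K) - 1) - N) / 2 + c) * w ^ x with hT
  have hstep : ∀ x : ℕ, (2 - w - w⁻¹) * (((x : K) * ((x : K) - N) / 2 + c) * w ^ x) =
      T (x + 1) - T x - w ^ x := by
    intro x
    simp only [hT, pow_succ, Nat.cast_add, Nat.cast_one]
    field_simp
    ring
  rw [Finset.mul_sum, Finset.sum_congr rfl (fun x _ => hstep x), Finset.sum_sub_distrib,
    Finset.sum_range_sub, hsum, sub_zero]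
  simp only [hT, hwN, pow_zero, Nat.cast_zero]
  field_simp
  ring

/-- The sum of the values of `x(x-a)/2 + c`. -/
theorem sum_quad (h6 : (6 : K) ≠ 0) (a c : K) (M : ℕ) :
    ∑ x ∈ range M, ((x : K) * ((x : K) - a) / 2 + c) =
      ((M : K) - 1) * M * (2 * M - 1) / 12 - a * M * ((M : K) - 1) / 4 + M * c := by
  have h2 : (2 : K) ≠ 0 := by
    intro h
    apply h6
    have : (6 : K) = 2 * 3 := by norm_num
    rw [this, h, zero_mul]
  have h3 : (3 : K) ≠ 0 := by
    intro h
    apply h6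
    have : (6 : K) = 2 * 3 := by norm_num
    rw [this, h, mul_zero]
  have h12 : (12 : K) ≠ 0 := by
    have : (12 : K) = 2 * 6 := by norm_num
    rw [this]
    exact mul_ne_zero h2 h6
  have h4 : (4 : K) ≠ 0 := by
    have : (4 : K) = 2 * 2 := by norm_num
    rw [this]
    exact mul_ne_zero h2 h2
  induction M with
  | zero => simp
  | succ M ih =>
    rw [Finset.sum_range_succ, ih]
    push_cast
    field_simp
    ring

/-- The values of the Green function sum to zero. -/
theorem sum_green (h6 : (6 : K) ≠ 0) (N : ℕ) :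
    ∑ x ∈ range N, ((x : K) * ((x : K) - N) / 2 + ((N : K) ^ 2 - 1) / 12) = 0 := by
  have h2 : (2 : K) ≠ 0 := by
    intro h
    apply h6
    have : (6 : K) = 2 * 3 := by norm_num
    rw [this, h, zero_mul]
  have h12 : (12 : K) ≠ 0 := by
    have : (12 : K) = 2 * 6 := by norm_num
    rw [this]
    exact mul_ne_zero h2 h6
  have h4 : (4 : K) ≠ 0 := by
    have : (4 : K) = 2 * 2 := by norm_num
    rw [this]
    exact mul_ne_zero h2 h2
  rw [sum_quad h6]
  field_simp
  ring

/-- Geometric sums of a nontrivial root of unity vanish. -/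
theorem geom_sum_eq_zero' (N : ℕ) (w : K) (hwN : w ^ N = 1) (hw1 : w ≠ 1) :
    ∑ x ∈ range N, w ^ x = 0 := by
  have h := geom_sum_mul w N
  rw [hwN, sub_self] at h
  exact (mul_eq_zero.1 h).resolve_right (sub_ne_zero.2 hw1)

/-- Fourier expansion of the Green function. -/
theorem main188 (h6 : (6 : K) ≠ 0) (N j : ℕ) (hj : j < N) (ζ : K) (hζ : IsPrimitiveRoot ζ N) :
    ∑ i ∈ Ioo 0 N, ζ ^ (i * j) / (2 - ζ ^ i - (ζ ^ i)⁻¹) =
      (j : K) * ((j : K) - (N : K)) / 2 + ((N : K) ^ 2 - 1) / 12 := by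
  have hN : 0 < N := by omega
  have : NeZero N := ⟨hN.ne'⟩
  have hNK : (N : K) ≠ 0 := (hζ.neZero').out
  have hζ0 : ζ ≠ 0 := hζ.ne_zero hN.ne'
  have h2 : (2 : K) ≠ 0 := by
    intro h
    apply h6
    have : (6 : K) = 2 * 3 := by norm_num
    rw [this, h, zero_mul]
  set f : ℕ → K := fun x => (x : K) * ((x : K) - N) / 2 + ((N : K) ^ 2 - 1) / 12 with hf
  set S : ℕ → K := fun i => ∑ x ∈ range N, f x * ((ζ ^ i)⁻¹) ^ x with hS
  have h1 : ∀ i ∈ Ioo 0 N, (2 - ζ ^ i - (ζ ^ i)⁻¹) * S i = N := by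
    intro i hi
    rw [mem_Ioo] at hi
    have hw1 : (ζ ^ i)⁻¹ ≠ 1 := by
      rw [Ne, inv_eq_one]
      exact hζ.pow_ne_one_of_pos_of_lt hi.1.ne' hi.2
    have hwN : ((ζ ^ i)⁻¹) ^ N = 1 := by
      rw [inv_pow, ← pow_mul, mul_comm, pow_mul, hζ.pow_eq_one, one_pow, inv_one]
    have := sum_p_mul_pow h2 N (((N : K) ^ 2 - 1) / 12) (ζ ^ i)⁻¹
      (inv_ne_zero (pow_ne_zero _ hζ0)) hwN (geom_sum_eq_zero' N _ hwN hw1)
    rw [inv_inv] at this
    rw [← this]
    congr 1
    ring
  have hS0 : S 0 = 0 := by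
    simp only [hS, pow_zero, inv_one, one_pow, mul_one]
    exact sum_green h6 N
  have h3 : ∀ i ∈ Ioo 0 N, ζ ^ (i * j) / (2 - ζ ^ i - (ζ ^ i)⁻¹) = ζ ^ (i * j) * S i / N := by
    intro i hi
    have := h1 i hi
    have hd : (2 - ζ ^ i - (ζ ^ i)⁻¹) ≠ 0 := by
      intro h0
      rw [h0, zero_mul] at this
      exact hNK this.symm
    rw [div_eq_div_iff hd hNK, ← this]
    ring
  rw [Finset.sum_congr rfl h3]
  have h4 : ∑ i ∈ Ioo 0 N, ζ ^ (i * j) * S i / N = ∑ i ∈ range N, ζ ^ (i * j) * S i / N := by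
    have : range N = insert 0 (Ioo 0 N) := by
      ext i
      simp only [mem_range, mem_insert, mem_Ioo]
      omega
    rw [this, Finset.sum_insert (by simp), hS0, mul_zero, zero_div, zero_add]
  rw [h4, ← Finset.sum_div, div_eq_iff hNK]
  have h5 : ∀ i ∈ range N, ζ ^ (i * j) * S i =
      ∑ x ∈ range N, f x * (ζ ^ j * (ζ ^ x)⁻¹) ^ i := by
    intro i _
    simp only [hS, Finset.mul_sum]
    refine Finset.sum_congr rfl fun x _ => ?_
    rw [mul_pow, inv_pow, inv_pow, ← pow_mul, ← pow_mul, ← pow_mul, mul_comm j i, mul_comm x i]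
    ring
  rw [Finset.sum_congr rfl h5, Finset.sum_comm]
  simp_rw [← Finset.mul_sum]
  rw [Finset.sum_eq_single j]
  · have : ζ ^ j * (ζ ^ j)⁻¹ = 1 := mul_inv_cancel₀ (pow_ne_zero _ hζ0)
    simp only [this, one_pow, Finset.sum_const, card_range, nsmul_eq_mul, mul_one, hf]
  · intro x hx hxj
    rw [mem_range] at hx
    have hw1 : ζ ^ j * (ζ ^ x)⁻¹ ≠ 1 := by
      intro h
      apply hxj
      have : ζ ^ j = ζ ^ x := by
        have hx0 : ζ ^ x ≠ 0 := pow_ne_zero _ hζ0
        field_simp at h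
        exact h
      exact (hζ.pow_inj hj hx this).symm
    have hwN : (ζ ^ j * (ζ ^ x)⁻¹) ^ N = 1 := by
      rw [mul_pow, inv_pow, ← pow_mul, ← pow_mul, mul_comm j, mul_comm x, pow_mul, pow_mul,
        hζ.pow_eq_one, one_pow, one_pow, inv_one, mul_one]
    rw [geom_sum_eq_zero' N _ hwN hw1, mul_zero]
  · intro h
    exact absurd (mem_range.2 hj) h

end Field

section Complex

open ComplexConjugate

/-- The eigenvalues of the Green matrix are real and nonnegative. -/
theorem main189 (N : ℕ) (hN : 0 < N) (ζ : ℂ) (hζ : IsPrimitiveRoot ζ N) (m : ℕ) :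
    (∑ i ∈ range N,
        ((i : ℂ) * ((i : ℂ) - (N : ℂ)) / 2 + ((N : ℂ) ^ 2 - 1) / 12) / (N : ℂ) * ζ ^ (m * i)).im = 0 ∧
    0 ≤ (∑ i ∈ range N,
        ((i : ℂ) * ((i : ℂ) - (N : ℂ)) / 2 + ((N : ℂ) ^ 2 - 1) / 12) / (N : ℂ) * ζ ^ (m * i)).re := by
  set w : ℂ := ζ ^ m with hw
  have hNC : (N : ℂ) ≠ 0 := by exact_mod_cast hN.ne'
  have hsum : ∑ i ∈ range N,
      ((i : ℂ) * ((i : ℂ) - (N : ℂ)) / 2 + ((N : ℂ) ^ 2 - 1) / 12) / (N : ℂ) * ζ ^ (m * i) =
      (∑ i ∈ range N, ((i : ℂ) * ((i : ℂ) - (N : ℂ)) / 2 + ((N : ℂ) ^ 2 - 1) / 12) * w ^ i) / (N : ℂ) := by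
    rw [Finset.sum_div]
    refine Finset.sum_congr rfl fun i _ => ?_
    rw [hw, ← pow_mul]
    ring
  rw [hsum]
  by_cases hw1 : w = 1
  · rw [hw1]
    simp only [one_pow, mul_one]
    rw [sum_green (by norm_num) N]
    simp
  · have hwN : w ^ N = 1 := by
      rw [hw, ← pow_mul, mul_comm, pow_mul, hζ.pow_eq_one, one_pow]
    have hw0 : w ≠ 0 := pow_ne_zero _ (hζ.ne_zero hN.ne')
    have key := sum_p_mul_pow (K := ℂ) (by norm_num) N (((N : ℂ) ^ 2 - 1) / 12) w hw0 hwN
      (geom_sum_eq_zero' N w hwN hw1)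
    have hnorm : ‖w‖ = 1 := Complex.norm_eq_one_of_pow_eq_one hwN hN.ne'
    have hinv : w⁻¹ = conj w := Complex.inv_eq_conj hnorm
    have hd : 2 - w - w⁻¹ = ((2 - 2 * w.re : ℝ) : ℂ) := by
      rw [hinv]
      apply Complex.ext
      · simp
        ring
      · simp
    have hd0 : (2 - w - w⁻¹) ≠ 0 := by
      intro h0
      rw [h0, zero_mul] at key
      exact hNC key.symm
    have hval : (∑ i ∈ range N,
        ((i : ℂ) * ((i : ℂ) - (N : ℂ)) / 2 + ((N : ℂ) ^ 2 - 1) / 12) * w ^ i) / (N : ℂ) =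
        ((1 / (2 - 2 * w.re) : ℝ) : ℂ) := by
      rw [Complex.ofReal_div, ← hd, Complex.ofReal_one, div_eq_div_iff hNC hd0, one_mul, mul_comm]
      exact key
    rw [hval]
    refine ⟨Complex.ofReal_im _, ?_⟩
    rw [Complex.ofReal_re]
    apply one_div_nonneg.2
    have : w.re ≤ 1 := by
      calc w.re ≤ ‖w‖ := Complex.re_le_norm w
        _ = 1 := hnorm
    linarith

end Complex

section Real

variable (N : ℕ) [NeZero N]

/-- The Green function on `ℤ/N`. -/
noncomputable def F (d : ZMod N) : ℝ :=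
  ((d.val : ℝ) * ((d.val : ℝ) - (N : ℝ))) / 2 + ((N : ℝ) ^ 2 - 1) / 12

theorem F_neg (d : ZMod N) : F N (-d) = F N d := by
  by_cases hd : d = 0
  · rw [hd, neg_zero]
  · have hlt := ZMod.val_lt d
    simp only [F, ZMod.neg_val, if_neg hd, Nat.cast_sub hlt.le]
    ring

theorem sum_F : ∑ d : ZMod N, F N d = 0 := by
  have h := sum_green (K := ℝ) (by norm_num) N
  rw [← h]
  obtain ⟨n, rfl⟩ : ∃ n, N = n + 1 := ⟨N - 1, by have := NeZero.pos N; omega⟩
  exact Fin.sum_univ_eq_sum_range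
    (fun v : ℕ => ((v : ℝ) * ((v : ℝ) - ((n + 1 : ℕ) : ℝ))) / 2 + (((n + 1 : ℕ) : ℝ) ^ 2 - 1) / 12)
    (n + 1)

theorem F_succ (d : ZMod N) :
    F N (d + 1) = (((d.val : ℝ) + 1) * (((d.val : ℝ) + 1) - (N : ℝ))) / 2 + ((N : ℝ) ^ 2 - 1) / 12 := by
  have hlt := ZMod.val_lt d
  by_cases h1 : N = 1
  · subst h1
    have hd : d = 0 := Subsingleton.elim _ _
    have : d + 1 = 0 := Subsingleton.elim _ _
    rw [this, hd]
    simp [F]
  have hone : (1 : ZMod N).val = 1 := ZMod.val_one'' h1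
  by_cases h : d.val + 1 < N
  · have : (d + 1).val = d.val + 1 := by
      rw [ZMod.val_add_of_lt (by rw [hone]; exact h), hone]
    simp only [F, this]
    push_cast
    ring
  · have hN : d.val + 1 = N := by omega
    have : (d + 1).val = 0 := by
      rw [ZMod.val_add, hone, hN, Nat.mod_self]
    simp only [F, this]
    have hN' : (d.val : ℝ) + 1 = N := by exact_mod_cast hN
    rw [hN']
    simp

theorem F_pred (d : ZMod N) (hd : d ≠ 0) :
    F N (d - 1) = (((d.val : ℝ) - 1) * (((d.val : ℝ) - 1) - (N : ℝ))) / 2 + ((N : ℝ) ^ 2 - 1) / 12 := by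
  have h1 : N ≠ 1 := by
    rintro rfl
    exact hd (Subsingleton.elim _ _)
  have hone : (1 : ZMod N).val = 1 := ZMod.val_one'' h1
  have hpos : 1 ≤ d.val := by
    rcases Nat.eq_zero_or_pos d.val with h | h
    · exact absurd ((ZMod.val_eq_zero d).1 h) hd
    · exact h
  have : (d - 1).val = d.val - 1 := by
    rw [ZMod.val_sub (by rw [hone]; exact hpos), hone]
  simp only [F, this, Nat.cast_sub hpos, Nat.cast_one]

/-- The discrete Laplacian of the Green function. -/
theorem F_diff (d : ZMod N) :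
    F N (d + 1) + F N (d - 1) - 2 * F N d = 1 - (if d = 0 then (N : ℝ) else 0) := by
  by_cases hd : d = 0
  · subst hd
    have h1 : F N ((0 : ZMod N) - 1) = F N (0 + 1) := by rw [zero_sub, zero_add, F_neg]
    rw [if_pos rfl, h1, F_succ]
    simp only [F, ZMod.val_zero, Nat.cast_zero]
    ring
  · rw [if_neg hd, F_succ, F_pred N d hd]
    simp only [F]
    ring

/-- The quadratic form of the Green matrix is a sum of squares. -/
theorem quad_nonneg (x : ZMod N → ℝ) :
    0 ≤ ∑ i : ZMod N, x i * ∑ j : ZMod N, F N (j - i) / (N : ℝ) * x j := by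
  have hN : (N : ℝ) ≠ 0 := by exact_mod_cast (NeZero.ne N)
  set z : ZMod N → ℝ := fun i => ∑ j : ZMod N, F N (j - i) / (N : ℝ) * x j with hz
  set xbar : ℝ := (∑ j : ZMod N, x j) / N with hxbar
  have hL : ∀ i, 2 * z i - z (i + 1) - z (i - 1) = x i - xbar := by
    intro i
    have h1 : 2 * z i - z (i + 1) - z (i - 1) =
        ∑ j : ZMod N, ((if j - i = 0 then (1 : ℝ) else 0) - 1 / N) * x j := by
      simp only [hz, Finset.mul_sum, ← Finset.sum_sub_distrib]
      refine Finset.sum_congr rfl fun j _ => ?_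
      have hd := F_diff N (j - i)
      have e1 : j - (i + 1) = j - i - 1 := by ring
      have e2 : j - (i - 1) = j - i + 1 := by ring
      rw [e1, e2]
      have : F N (j - i + 1) = 1 - (if j - i = 0 then (N : ℝ) else 0) + 2 * F N (j - i) -
          F N (j - i - 1) := by linarith
      rw [this]
      split_ifs
      · field_simp
        ring
      · field_simp
        ring
    rw [h1]
    simp only [sub_mul, Finset.sum_sub_distrib, ite_mul, one_mul, zero_mul, sub_eq_zero]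
    rw [Finset.sum_ite_eq' Finset.univ i, if_pos (Finset.mem_univ i), ← Finset.mul_sum, hxbar]
    ring
  have hzsum : ∑ i : ZMod N, z i = 0 := by
    simp only [hz]
    rw [Finset.sum_comm]
    have : ∀ j : ZMod N, ∑ i : ZMod N, F N (j - i) / (N : ℝ) * x j = 0 := by
      intro j
      rw [← Finset.sum_mul, ← Finset.sum_div]
      have : ∑ i : ZMod N, F N (j - i) = ∑ d : ZMod N, F N d :=
        Equiv.sum_comp (Equiv.subLeft j) (F N)
      rw [this, sum_F, zero_div, zero_mul]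
    exact Finset.sum_eq_zero fun j _ => this j
  have hparts : ∑ i : ZMod N, (z i - z (i + 1)) ^ 2 =
      ∑ i : ZMod N, z i * (2 * z i - z (i + 1) - z (i - 1)) := by
    have e1 : ∑ i : ZMod N, z (i + 1) ^ 2 = ∑ i : ZMod N, z i ^ 2 :=
      Equiv.sum_comp (Equiv.addRight (1 : ZMod N)) (fun i => z i ^ 2)
    have e2 : ∑ i : ZMod N, z (i + 1) * z i = ∑ i : ZMod N, z i * z (i - 1) := by
      have := Equiv.sum_comp (Equiv.addRight (1 : ZMod N)) (fun i => z i * z (i - 1))
      simpa using this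
    have l1 : ∑ i : ZMod N, (z i - z (i + 1)) ^ 2 =
        ∑ i : ZMod N, z i ^ 2 - 2 * ∑ i : ZMod N, z (i + 1) * z i + ∑ i : ZMod N, z (i + 1) ^ 2 := by
      rw [Finset.mul_sum, ← Finset.sum_sub_distrib, ← Finset.sum_add_distrib]
      refine Finset.sum_congr rfl fun i _ => ?_
      ring
    have l2 : ∑ i : ZMod N, z i * (2 * z i - z (i + 1) - z (i - 1)) =
        2 * ∑ i : ZMod N, z i ^ 2 - ∑ i : ZMod N, z (i + 1) * z i - ∑ i : ZMod N, z i * z (i - 1) := by
      rw [Finset.mul_sum, ← Finset.sum_sub_distrib, ← Finset.sum_sub_distrib]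
      refine Finset.sum_congr rfl fun i _ => ?_
      ring
    rw [l1, l2, e1, ← e2]
    ring
  have hmain : ∑ i : ZMod N, x i * z i = ∑ i : ZMod N, (z i - z (i + 1)) ^ 2 := by
    rw [hparts]
    simp only [hL]
    have : ∑ i : ZMod N, z i * (x i - xbar) = ∑ i : ZMod N, x i * z i - xbar * ∑ i : ZMod N, z i := by
      rw [Finset.mul_sum, ← Finset.sum_sub_distrib]
      refine Finset.sum_congr rfl fun i _ => ?_
      ring
    rw [this, hzsum, mul_zero, sub_zero]
  rw [hmain]
  exact Finset.sum_nonneg fun i _ => sq_nonneg _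

/-- The Green matrix of the cycle graph is positive semidefinite. -/
theorem main190 :
    (Matrix.of fun i j : ZMod N =>
        ((((j - i).val : ℝ) * (((j - i).val : ℝ) - (N : ℝ))) / 2 + ((N : ℝ) ^ 2 - 1) / 12) /
          (N : ℝ)).PosSemidef := by
  apply Matrix.PosSemidef.of_dotProduct_mulVec_nonneg
  · ext i j
    simp only [Matrix.conjTranspose_apply, Matrix.of_apply, star_trivial]
    have := F_neg N (j - i)
    rw [neg_sub] at this
    simp only [F] at this
    rw [this]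
  · intro x
    have := quad_nonneg N x
    simpa only [dotProduct, Matrix.mulVec, star_trivial, Matrix.of_apply, F] using this

end Real

end Groth.Agent.H9.CycGreen
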