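import Mathlib
import Groth.Prelude.Def_W4c6eohyperellchar2Gc

/-!
# Basic computations in the explicit char-2 Dieudonné module `GcMod c k`
-/

set_option autoImplicit false

namespace Groth.Agent.H9.Dieu

open W4c6eohyperellchar2

section Basic

variable (c : ℕ) (k : Type*) [Field k]

theorem coefX_X (n m : ℕ) :
    coefX (X c k n) m = if 1 ≤ m ∧ m ≤ c ∧ m = n then 1 else 0 := by
  unfold coefX X
  by_cases h : 1 ≤ m ∧ m ≤ c
  · rw [dif_pos h]
    dsimp only
    have : (m - 1 + 1 = n) ↔ (1 ≤ m ∧ m ≤ c ∧ m = n) := by omega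
    simp only [this]
  · rw [dif_neg h, if_neg]
    omega

theorem coefX_Y (n m : ℕ) : coefX (Y c k n) m = 0 := by
  unfold coefX Y
  split_ifs <;> rfl

theorem coefY_X (n m : ℕ) : coefY (X c k n) m = 0 := by
  unfold coefY X
  split_ifs <;> rfl

theorem coefY_Y (n m : ℕ) :
    coefY (Y c k n) m = if 1 ≤ m ∧ m ≤ c ∧ m = n then 1 else 0 := by
  unfold coefY Y
  by_cases h : 1 ≤ m ∧ m ≤ c
  · rw [dif_pos h]
    dsimp only
    have : (m - 1 + 1 = n) ↔ (1 ≤ m ∧ m ≤ c ∧ m = n) := by omega
    simp only [this]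
  · rw [dif_neg h, if_neg]
    omega

theorem coefX_eq (v : GcMod c k) (i : Fin c) : coefX v (i.val + 1) = v.1 i := by
  unfold coefX
  rw [dif_pos ⟨by omega, by omega⟩]
  congr 1

theorem coefY_eq (v : GcMod c k) (i : Fin c) : coefY v (i.val + 1) = v.2 i := by
  unfold coefY
  rw [dif_pos ⟨by omega, by omega⟩]
  congr 1

theorem coefX_of_gt (v : GcMod c k) (n : ℕ) (h : c < n) : coefX v n = 0 := by
  unfold coefX
  rw [dif_neg]; omega

theorem coefY_of_gt (v : GcMod c k) (n : ℕ) (h : c < n) : coefY v n = 0 := by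
  unfold coefY
  rw [dif_neg]; omega

theorem X_of_gt (n : ℕ) (h : c < n) : X c k n = 0 := by
  unfold X
  ext i
  · dsimp only; rw [if_neg (by omega)]; rfl
  · rfl

theorem Y_of_gt (n : ℕ) (h : c < n) : Y c k n = 0 := by
  unfold Y
  ext i
  · rfl
  · dsimp only; rw [if_neg (by omega)]; rfl

theorem X_zero : X c k 0 = 0 := by
  unfold X
  ext i
  · dsimp only; rw [if_neg (by omega)]; rfl
  · rfl

theorem Y_zero : Y c k 0 = 0 := by
  unfold Y
  ext i
  · rfl
  · dsimp only; rw [if_neg (by omega)]; rfl

/-- decomposition of a vector on the basis -/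
theorem eq_sum (v : GcMod c k) :
    v = ∑ i : Fin c, v.1 i • X c k (i.val + 1) + ∑ i : Fin c, v.2 i • Y c k (i.val + 1) := by
  ext j
  · simp only [Prod.fst_add, Prod.fst_sum, Prod.smul_fst, Pi.add_apply, Finset.sum_apply,
      Pi.smul_apply, smul_eq_mul]
    unfold X Y
    simp only [Pi.zero_apply, mul_zero, Finset.sum_const_zero, add_zero]
    rw [Finset.sum_eq_single j]
    · simp
    · intro b _ hb
      rw [if_neg, mul_zero]
      intro h; apply hb; exact Fin.ext (by omega)
    · intro h; exact absurd (Finset.mem_univ j) h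
  · simp only [Prod.snd_add, Prod.snd_sum, Prod.smul_snd, Pi.add_apply, Finset.sum_apply,
      Pi.smul_apply, smul_eq_mul]
    unfold X Y
    simp only [Pi.zero_apply, mul_zero, Finset.sum_const_zero, zero_add]
    rw [Finset.sum_eq_single j]
    · simp
    · intro b _ hb
      rw [if_neg, mul_zero]
      intro h; apply hb; exact Fin.ext (by omega)
    · intro h; exact absurd (Finset.mem_univ j) h

theorem F_X_even (n : ℕ) (hn : n % 2 = 0) (hnc : n ≤ c) : F c k (X c k n) = X c k (n / 2) := by
  unfold F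
  ext i
  · dsimp only
    rw [coefX_X]
    unfold X
    dsimp only
    by_cases h : i.val + 1 = n / 2
    · rw [if_pos h, if_pos (by have := i.2; omega), one_pow]
    · rw [if_neg h, if_neg (by omega), zero_pow (by norm_num)]
  · dsimp only
    rw [coefX_X, if_neg (by omega), zero_pow (by norm_num)]
    rfl

theorem F_X_odd (n : ℕ) (hn : n % 2 = 1) (hnc : n ≤ c) :
    F c k (X c k n) = Y c k (c - (n - 1) / 2) := by
  unfold F
  ext i
  · dsimp only
    rw [coefX_X, if_neg (by omega), zero_pow (by norm_num)]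
    rfl
  · dsimp only
    rw [coefX_X]
    unfold Y
    dsimp only
    have := i.2
    by_cases h : i.val + 1 = c - (n - 1) / 2
    · rw [if_pos h, if_pos (by omega), one_pow]
    · rw [if_neg h, if_neg (by omega), zero_pow (by norm_num)]

theorem F_Y (n : ℕ) : F c k (Y c k n) = 0 := by
  unfold F
  ext i
  · dsimp only; rw [coefX_Y, zero_pow (by norm_num)]; rfl
  · dsimp only; rw [coefX_Y, zero_pow (by norm_num)]; rfl

end Basic

section V

variable (c : ℕ) (k : Type*) [Field k] [ExpChar k 2] [PerfectRing k 2]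

theorem V_X (n : ℕ) (hn : 1 ≤ n) (hnc : n ≤ c) :
    V c k (X c k n) = Y c k (2 * c - 2 * n + 1) := by
  unfold V
  ext i
  · rfl
  · dsimp only
    have := i.2
    by_cases h2 : (i.val + 1) % 2 = 0
    · rw [if_pos h2, coefY_X, map_zero]
      unfold Y
      dsimp only
      rw [if_neg (by omega)]
    · rw [if_neg h2, coefX_X]
      unfold Y
      dsimp only
      by_cases h : i.val + 1 = 2 * c - 2 * n + 1
      · rw [if_pos h, if_pos (by omega), map_one]
      · rw [if_neg h, if_neg (by omega), map_zero]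

theorem V_Y (n : ℕ) : V c k (Y c k n) = Y c k (2 * n) := by
  unfold V
  ext i
  · rfl
  · dsimp only
    have := i.2
    by_cases h2 : (i.val + 1) % 2 = 0
    · rw [if_pos h2, coefY_Y]
      unfold Y
      dsimp only
      by_cases h : i.val + 1 = 2 * n
      · rw [if_pos h, if_pos (by omega), map_one]
      · rw [if_neg h, if_neg (by omega), map_zero]
    · rw [if_neg h2, coefX_Y, map_zero]
      unfold Y
      dsimp only
      rw [if_neg (by omega)]

theorem V_iterate_Y (m n : ℕ) : (V c k)^[m] (Y c k n) = Y c k (2 ^ m * n) := by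
  induction m with
  | zero => simp
  | succ m ih =>
    rw [Function.iterate_succ_apply', ih, V_Y]
    congr 1
    ring

end V

section F

variable (c : ℕ) (k : Type*) [Field k]

theorem F_iterate_X (e l : ℕ) (h : 2 ^ e * l ≤ c) : (F c k)^[e] (X c k (2 ^ e * l)) = X c k l := by
  induction e with
  | zero => simp
  | succ e ih =>
    have h1 : 2 ^ (e + 1) * l = 2 * (2 ^ e * l) := by ring
    rw [Function.iterate_succ_apply, h1,
      F_X_even c k _ (Nat.mul_mod_right 2 _) (by rw [← h1]; exact h),
      Nat.mul_div_cancel_left _ (by norm_num : 0 < 2)]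
    exact ih (by rw [h1] at h; omega)

end F

end Groth.Agent.H9.Dieu
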