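import Mathlib
import Groth.Prelude.Def_W4c6eohyperellchar2Gc
import Groth.Agent.Lib.Helper9.Dieu

/-!
# The nilpotent block: the canonical filtration `Nfil` (helper9)
-/

set_option autoImplicit false

namespace Groth.Agent.H9.DieuN

open W4c6eohyperellchar2 Groth.Agent.H9.Dieu

section Mem

variable (c : ℕ) (k : Type*) [Field k]

theorem mem_Nfil_iff (i : ℕ) (v : GcMod c k) :
    v ∈ Nfil c k i ↔ (∀ j : Fin c, min i c < j.val + 1 → v.2 j = 0) ∧
      (∀ j : Fin c, j.val + 1 ≤ 2 * c - i → v.1 j = 0) := by
  constructor
  · intro hv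
    unfold Nfil at hv
    induction hv using Submodule.span_induction with
    | mem x hx =>
      rcases hx with ⟨n, hn, rfl⟩ | ⟨n, hn, rfl⟩
      · rw [Set.mem_Icc] at hn
        refine ⟨fun j hj => ?_, fun j _ => rfl⟩
        show (if j.val + 1 = n then (1 : k) else 0) = 0
        rw [if_neg (by omega)]
      · rw [Set.mem_Ioc] at hn
        refine ⟨fun j _ => rfl, fun j hj => ?_⟩
        show (if j.val + 1 = n then (1 : k) else 0) = 0
        rw [if_neg (by omega)]
    | zero => exact ⟨fun _ _ => rfl, fun _ _ => rfl⟩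
    | add x y _ _ hx hy =>
      refine ⟨fun j hj => ?_, fun j hj => ?_⟩
      · show x.2 j + y.2 j = 0
        rw [hx.1 j hj, hy.1 j hj, add_zero]
      · show x.1 j + y.1 j = 0
        rw [hx.2 j hj, hy.2 j hj, add_zero]
    | smul r x _ hx =>
      refine ⟨fun j hj => ?_, fun j hj => ?_⟩
      · show r * x.2 j = 0
        rw [hx.1 j hj, mul_zero]
      · show r * x.1 j = 0
        rw [hx.2 j hj, mul_zero]
  · rintro ⟨h1, h2⟩
    rw [eq_sum c k v]
    refine Submodule.add_mem _ (Submodule.sum_mem _ fun j _ => ?_) (Submodule.sum_mem _ fun j _ => ?_)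
    · by_cases hj : j.val + 1 ≤ 2 * c - i
      · rw [h2 j hj, zero_smul]
        exact Submodule.zero_mem _
      · refine Submodule.smul_mem _ _ (Submodule.subset_span (Or.inr ⟨j.val + 1, ?_, rfl⟩))
        rw [Set.mem_Ioc]
        have := j.2
        omega
    · by_cases hj : min i c < j.val + 1
      · rw [h1 j hj, zero_smul]
        exact Submodule.zero_mem _
      · refine Submodule.smul_mem _ _ (Submodule.subset_span (Or.inl ⟨j.val + 1, ?_, rfl⟩))
        rw [Set.mem_Icc]
        omega

theorem Nfil_mono {i i' : ℕ} (h : i ≤ i') : Nfil c k i ≤ Nfil c k i' := by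
  intro v hv
  rw [mem_Nfil_iff] at hv ⊢
  refine ⟨fun j hj => hv.1 j (by omega), fun j hj => hv.2 j (by omega)⟩

end Mem

section NFpre

variable (c : ℕ) (k : Type*) [Field k] (a : ℕ → k)

theorem NF_preimage (ha : a c ≠ 0) (i : ℕ) (hi : i ≤ 2 * c) :
    NF c k a ⁻¹' (Nfil c k i : Set (GcMod c k)) = (Nfil c k (c + (i + 1) / 2) : Set (GcMod c k)) := by
  ext v
  rw [Set.mem_preimage, SetLike.mem_coe, SetLike.mem_coe, mem_Nfil_iff, mem_Nfil_iff]
  constructor
  · rintro ⟨hl, hs⟩
    refine ⟨fun j hj => ?_, ?_⟩
    · have := j.2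
      omega
    · -- strong induction on j
      have key : ∀ n : ℕ, ∀ j : Fin c, j.val = n → j.val + 1 ≤ 2 * c - (c + (i + 1) / 2) →
          v.1 j = 0 := by
        intro n
        induction n using Nat.strong_induction_on with
        | _ n ih =>
          intro j hjn hj
          have hjc := j.2
          by_cases h2 : 2 * (j.val + 1) ≤ c
          · -- use the σ-part at m + 1 = 2 (j + 1)
            have hm : 2 * j.val + 1 < c := by omega
            have := hs ⟨2 * j.val + 1, hm⟩ (by simp only; omega)
            unfold NF at this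
            simp only at this
            rw [if_pos (by omega)] at this
            have e : (2 * j.val + 1 + 1) / 2 = j.val + 1 := by omega
            rw [e, coefX_eq] at this
            exact pow_eq_zero_iff (by norm_num) |>.mp this
          · -- use the λ-part at m = 2 (c - (j + 1))
            rw [not_le] at h2
            have hm : 2 * (c - (j.val + 1)) < c := by omega
            have := hl ⟨2 * (c - (j.val + 1)), hm⟩ (by simp only; omega)
            unfold NF at this
            simp only at this
            rw [if_pos (by omega)] at this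
            rw [Finset.sum_eq_single j] at this
            · rw [if_pos ⟨by omega, by omega⟩] at this
              have e : j.val + 1 + 2 * (c - (j.val + 1)) / 2 = c := by omega
              rw [e] at this
              have h3 := (mul_eq_zero.mp this).resolve_right ha
              exact pow_eq_zero_iff (by norm_num) |>.mp h3
            · intro j' _ hj'
              by_cases hcond : c < 2 * (j'.val + 1) ∧ j'.val + 1 + 2 * (c - (j.val + 1)) / 2 ≤ c
              · rw [if_pos hcond]
                have hlt : j'.val < j.val := by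
                  have h4 : j'.val ≠ j.val := fun h => hj' (Fin.ext h)
                  omega
                rw [ih j'.val (by omega) j' rfl (by omega), zero_pow (by norm_num), zero_mul]
              · rw [if_neg hcond]
            · intro h
              exact absurd (Finset.mem_univ j) h
      intro j hj
      exact key j.val j rfl hj
  · rintro ⟨_, hs⟩
    refine ⟨fun m hm => ?_, fun m hm => ?_⟩
    · unfold NF
      simp only
      by_cases hodd : (m.val + 1) % 2 = 1
      · rw [if_pos hodd]
        apply Finset.sum_eq_zero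
        intro j _
        by_cases hcond : c < 2 * (j.val + 1) ∧ j.val + 1 + m.val / 2 ≤ c
        · rw [if_pos hcond]
          have := m.2
          rw [hs j (by omega), zero_pow (by norm_num), zero_mul]
        · rw [if_neg hcond]
      · rw [if_neg hodd]
    · unfold NF
      simp only
      by_cases heven : (m.val + 1) % 2 = 0
      · rw [if_pos heven]
        have h1 : 1 ≤ (m.val + 1) / 2 := by omega
        have h2 : (m.val + 1) / 2 - 1 < c := by have := m.2; omega
        have e : (m.val + 1) / 2 = (⟨(m.val + 1) / 2 - 1, h2⟩ : Fin c).val + 1 := by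
          simp only; omega
        rw [e, coefX_eq, hs _ (by simp only; omega), zero_pow (by norm_num)]
      · rw [if_neg heven]

end NFpre

section NVimage

variable (c : ℕ) (k : Type*) [Field k] [ExpChar k 2] [PerfectRing k 2] (a : ℕ → k)

theorem coefY_add (u v : GcMod c k) (n : ℕ) : coefY (u + v) n = coefY u n + coefY v n := by
  unfold coefY
  split_ifs
  · rfl
  · rw [add_zero]

theorem coefY_smul (x : k) (v : GcMod c k) (n : ℕ) : coefY (x • v) n = x * coefY v n := by
  unfold coefY
  split_ifs
  · rfl
  · rw [mul_zero]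

theorem NV_fst (v : GcMod c k) : (NV c k a v).1 = 0 := rfl

theorem NV_add (u v : GcMod c k) : NV c k a (u + v) = NV c k a u + NV c k a v := by
  ext m
  · simp [NV_fst]
  · unfold NV
    simp only [Prod.snd_add, Pi.add_apply, Prod.fst_add]
    rw [coefY_add, map_add, add_add_add_comm, ← Finset.sum_add_distrib]
    congr 1
    refine Finset.sum_congr rfl fun j _ => ?_
    split_ifs
    · rw [add_mul, map_add]
    · rw [add_zero]

theorem NV_smul_sq (x : k) (v : GcMod c k) : NV c k a ((x ^ 2) • v) = x • NV c k a v := by
  have hx : (frobeniusEquiv k 2).symm (x ^ 2) = x := frobeniusEquiv_symm_pow k 2 x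
  ext m
  · simp [NV_fst]
  · unfold NV
    simp only [Prod.smul_snd, Pi.smul_apply, Prod.smul_fst, smul_eq_mul]
    rw [coefY_smul, map_mul, hx, mul_add x, Finset.mul_sum]
    congr 1
    refine Finset.sum_congr rfl fun j _ => ?_
    split_ifs
    · rw [mul_assoc, map_mul (frobeniusEquiv k 2).symm (x ^ 2), hx]
    · rw [mul_zero]

theorem NV_zero : NV c k a 0 = 0 := by
  have := NV_smul_sq c k a 0 0
  simpa using this

theorem NV_Y_snd (n : ℕ) (m : Fin c) :
    (NV c k a (Y c k n)).2 m = if 2 * (m.val + 1) = n ∧ n ≤ c then 1 else 0 := by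
  unfold NV
  simp only
  have h1 : ∑ j : Fin c, (if (j.val + 1) % 2 = 1 ∧ m.val + 1 + j.val / 2 ≤ c then
      (frobeniusEquiv k 2).symm ((Y c k n).1 j * a (m.val + 1 + j.val / 2)) else 0) = 0 := by
    apply Finset.sum_eq_zero
    intro j _
    split_ifs
    · show (frobeniusEquiv k 2).symm ((0 : k) * _) = 0
      rw [zero_mul, map_zero]
    · rfl
  rw [h1, add_zero, coefY_Y]
  by_cases h : 2 * (m.val + 1) = n ∧ n ≤ c
  · rw [if_pos h, if_pos ⟨by omega, by omega, h.1⟩, map_one]
  · rw [if_neg h, if_neg (by omega), map_zero]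

theorem NV_X_snd (n : ℕ) (hn1 : 1 ≤ n) (hnc : n ≤ c) (m : Fin c) :
    (NV c k a (X c k n)).2 m = if n % 2 = 1 ∧ m.val + 1 + (n - 1) / 2 ≤ c then
      (frobeniusEquiv k 2).symm (a (m.val + 1 + (n - 1) / 2)) else 0 := by
  unfold NV
  simp only
  rw [coefY_X, map_zero, zero_add]
  rw [Finset.sum_eq_single (⟨n - 1, by omega⟩ : Fin c)]
  · simp only
    have e1 : n - 1 + 1 = n := by omega
    rw [e1]
    by_cases h : n % 2 = 1 ∧ m.val + 1 + (n - 1) / 2 ≤ c
    · rw [if_pos h, if_pos h]
      show (frobeniusEquiv k 2).symm ((if n - 1 + 1 = n then (1 : k) else 0) * _) = _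
      rw [if_pos e1, one_mul]
    · rw [if_neg h, if_neg h]
  · intro j _ hj
    split_ifs
    · show (frobeniusEquiv k 2).symm ((if j.val + 1 = n then (1 : k) else 0) * _) = 0
      rw [if_neg, zero_mul, map_zero]
      intro h
      apply hj
      exact Fin.ext (by simp only; omega)
    · rfl
  · intro h
    exact absurd (Finset.mem_univ _) h

theorem NV_image_subset (i : ℕ) (hi : i ≤ 2 * c) (v : GcMod c k) (hv : v ∈ Nfil c k i) :
    NV c k a v ∈ Nfil c k (i / 2) := by
  rw [mem_Nfil_iff] at hv ⊢
  refine ⟨fun m hm => ?_, fun _ _ => rfl⟩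
  have hmc := m.2
  unfold NV
  simp only
  have h1 : coefY v (2 * (m.val + 1)) = 0 := by
    by_cases h : 2 * (m.val + 1) ≤ c
    · have h2 : 2 * (m.val + 1) - 1 < c := by omega
      have e : 2 * (m.val + 1) = (⟨2 * (m.val + 1) - 1, h2⟩ : Fin c).val + 1 := by
        simp only; omega
      rw [e, coefY_eq]
      exact hv.1 _ (by simp only; omega)
    · exact coefY_of_gt c k v _ (by omega)
  rw [h1, map_zero, zero_add]
  apply Finset.sum_eq_zero
  intro j _
  by_cases hcond : (j.val + 1) % 2 = 1 ∧ m.val + 1 + j.val / 2 ≤ c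
  · rw [if_pos hcond, hv.2 j (by omega), zero_mul, map_zero]
  · rw [if_neg hcond]

theorem NV_image_superset (ha : a c ≠ 0) : ∀ i : ℕ, i ≤ 2 * c → ∀ w ∈ Nfil c k (i / 2),
    ∃ v ∈ Nfil c k i, NV c k a v = w := by
  intro i
  induction i with
  | zero =>
    intro _ w hw
    refine ⟨0, Submodule.zero_mem _, ?_⟩
    rw [NV_zero]
    rw [mem_Nfil_iff] at hw
    ext j
    · exact (hw.2 j (by have := j.2; omega)).symm
    · exact (hw.1 j (by simp)).symm
  | succ i ih =>
    intro hi w hw
    by_cases hpar : (i + 1) / 2 = i / 2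
    · rw [hpar] at hw
      obtain ⟨v, hv, hvw⟩ := ih (by omega) w hw
      exact ⟨v, Nfil_mono c k (Nat.le_succ i) hv, hvw⟩
    · -- i + 1 = 2 e
      set e := (i + 1) / 2 with he
      have hie : i + 1 = 2 * e := by omega
      have he1 : 1 ≤ e := by omega
      have hec : e ≤ c := by omega
      have hi2 : i / 2 = e - 1 := by omega
      let me : Fin c := ⟨e - 1, by omega⟩
      -- the new vector
      obtain ⟨u, huN, hu1, hu2, α, hα, hu3⟩ : ∃ u : GcMod c k, u ∈ Nfil c k (i + 1) ∧
          (∀ m : Fin c, e < m.val + 1 → (NV c k a u).2 m = 0) ∧ True ∧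
          ∃ α : k, α ≠ 0 ∧ (NV c k a u).2 me = α := by
        by_cases hic : i + 1 ≤ c
        · refine ⟨Y c k (i + 1), Submodule.subset_span (Or.inl ⟨i + 1, ?_, rfl⟩), ?_, trivial,
            1, one_ne_zero, ?_⟩
          · rw [Set.mem_Icc]; omega
          · intro m hm
            rw [NV_Y_snd, if_neg (by omega)]
          · rw [NV_Y_snd, if_pos ⟨by simp only [me]; omega, hic⟩]
        · refine ⟨X c k (2 * c - i), Submodule.subset_span (Or.inr ⟨2 * c - i, ?_, rfl⟩), ?_,
            trivial, (frobeniusEquiv k 2).symm (a c), ?_, ?_⟩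
          · rw [Set.mem_Ioc]; omega
          · intro m hm
            rw [NV_X_snd c k a _ (by omega) (by omega), if_neg (by omega)]
          · intro h
            apply ha
            have := congrArg (frobeniusEquiv k 2) h
            rwa [RingEquiv.apply_symm_apply, map_zero] at this
          · rw [NV_X_snd c k a _ (by omega) (by omega), if_pos ⟨by omega, by simp only [me]; omega⟩]
            congr 2
            simp only [me]
            omega
      set x := w.2 me with hx
      set y := x / α with hy
      have hw' : w - y • NV c k a u ∈ Nfil c k (i / 2) := by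
        rw [mem_Nfil_iff] at hw ⊢
        refine ⟨fun m hm => ?_, fun j hj => ?_⟩
        · show w.2 m - y * (NV c k a u).2 m = 0
          by_cases hm1 : m.val + 1 = e
          · have : m = me := Fin.ext (by simp only [me]; omega)
            rw [this, hu3, hy, div_mul_cancel₀ _ hα, hx, sub_self]
          · rw [hu1 m (by omega), mul_zero, sub_zero]
            exact hw.1 m (by omega)
        · show w.1 j - y * (NV c k a u).1 j = 0
          rw [NV_fst, Pi.zero_apply, mul_zero, sub_zero]
          exact hw.2 j (by have := j.2; omega)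
      obtain ⟨v', hv', hvw'⟩ := ih (by omega) _ hw'
      refine ⟨v' + (y ^ 2) • u, Submodule.add_mem _ (Nfil_mono c k (Nat.le_succ i) hv')
        (Submodule.smul_mem _ _ huN), ?_⟩
      rw [NV_add, NV_smul_sq, hvw']
      abel

theorem NV_image (ha : a c ≠ 0) (i : ℕ) (hi : i ≤ 2 * c) :
    NV c k a '' (Nfil c k i : Set (GcMod c k)) = (Nfil c k (i / 2) : Set (GcMod c k)) := by
  ext w
  constructor
  · rintro ⟨v, hv, rfl⟩
    exact NV_image_subset c k a i hi v hv
  · intro hw
    obtain ⟨v, hv, hvw⟩ := NV_image_superset c k a ha i hi w hw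
    exact ⟨v, hv, hvw⟩

end NVimage

section Finrank

variable (c : ℕ) (k : Type*) [Field k]

theorem basis_inl (j : Fin c) :
    ((Pi.basisFun k (Fin c)).prod (Pi.basisFun k (Fin c))) (Sum.inl j) = X c k (j.val + 1) := by
  rw [Module.Basis.prod_apply]
  simp only [Sum.elim_inl, Function.comp_apply, LinearMap.coe_inl, Pi.basisFun_apply]
  unfold X
  ext t
  · simp only [Pi.single_apply]
    by_cases h : t = j
    · rw [if_pos h, if_pos (by rw [h])]
    · rw [if_neg h, if_neg (fun h' => h (Fin.ext (by omega)))]
  · rfl

theorem basis_inr (j : Fin c) :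
    ((Pi.basisFun k (Fin c)).prod (Pi.basisFun k (Fin c))) (Sum.inr j) = Y c k (j.val + 1) := by
  rw [Module.Basis.prod_apply]
  simp only [Sum.elim_inr, Function.comp_apply, LinearMap.coe_inr, Pi.basisFun_apply]
  unfold Y
  ext t
  · rfl
  · simp only [Pi.single_apply]
    by_cases h : t = j
    · rw [if_pos h, if_pos (by rw [h])]
    · rw [if_neg h, if_neg (fun h' => h (Fin.ext (by omega)))]

theorem finrank_Nfil (i : ℕ) (hi : i ≤ 2 * c) : Module.finrank k (Nfil c k i) = i := by
  classical
  let φ : Fin (min i c) ⊕ Fin (c - (2 * c - i)) → Fin c ⊕ Fin c := fun t =>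
    match t with
    | Sum.inl t => Sum.inr ⟨t.val, by have := t.2; omega⟩
    | Sum.inr t => Sum.inl ⟨2 * c - i + t.val, by have := t.2; omega⟩
  have hφ : Function.Injective φ := by
    rintro (t | t) (t' | t') h
    · simp only [φ, Sum.inr.injEq, Fin.mk.injEq] at h
      exact congrArg Sum.inl (Fin.ext h)
    · simp [φ] at h
    · simp [φ] at h
    · simp only [φ, Sum.inl.injEq, Fin.mk.injEq] at h
      exact congrArg Sum.inr (Fin.ext (by omega))
  let B := (Pi.basisFun k (Fin c)).prod (Pi.basisFun k (Fin c))
  have hli : LinearIndependent k (fun t => B (φ t)) := B.linearIndependent.comp φ hφ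
  have hrange : Set.range (fun t => B (φ t)) =
      (fun n => Y c k n) '' Set.Icc 1 (min i c) ∪ (fun n => X c k n) '' Set.Ioc (2 * c - i) c := by
    ext v
    constructor
    · rintro ⟨t | t, rfl⟩
      · left
        refine ⟨t.val + 1, ?_, ?_⟩
        · rw [Set.mem_Icc]
          have := t.2
          omega
        · simp only [φ, B]
          rw [basis_inr]
      · right
        refine ⟨2 * c - i + t.val + 1, ?_, ?_⟩
        · rw [Set.mem_Ioc]
          have := t.2
          omega
        · simp only [φ, B]
          rw [basis_inl]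
    · rintro (⟨n, hn, rfl⟩ | ⟨n, hn, rfl⟩)
      · rw [Set.mem_Icc] at hn
        refine ⟨Sum.inl ⟨n - 1, by omega⟩, ?_⟩
        simp only [φ, B]
        rw [basis_inr]
        congr 1
        simp only
        omega
      · rw [Set.mem_Ioc] at hn
        refine ⟨Sum.inr ⟨n - 1 - (2 * c - i), by omega⟩, ?_⟩
        simp only [φ, B]
        rw [basis_inl]
        congr 1
        simp only
        omega
  unfold Nfil
  rw [← hrange, finrank_span_eq_card hli]
  simp only [Fintype.card_sum, Fintype.card_fin]
  omega

end Finrank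

end Groth.Agent.H9.DieuN
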