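import Mathlib
import Groth.Agent.Lib.Helper9.CubicForm
import Groth.Agent.Lib.Helper9.BinCubic

/-!
# Eckardt points and their involutions on smooth cubic surfaces
-/

set_option autoImplicit false

namespace Groth.Agent.H9.Eckardt

open MvPolynomial Groth.Agent.H9.CubicForm

abbrev V4 := Fin 4 → ℂ

/-- an Eckardt involution at `e` -/
def IsRefl (f : MvPolynomial (Fin 4) ℂ) (A : Matrix (Fin 4) (Fin 4) ℂ) (e : Fin 4 → ℂ) : Prop :=
  A * A = 1 ∧ Module.finrank ℂ ↥(LinearMap.ker (Matrix.toLin' A - LinearMap.id)) = 3 ∧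
    A.mulVec e = -e ∧ ∃ c : ℂ, aeval (fun i : Fin 4 => ∑ j : Fin 4, C (A i j) * X j) f = C c * f

/-- an Eckardt point -/
def IsEck (f : MvPolynomial (Fin 4) ℂ) (e : Fin 4 → ℂ) : Prop :=
  ∃ U : Fin 3 → Submodule ℂ (Fin 4 → ℂ), Function.Injective U ∧
    ∀ i : Fin 3, Module.finrank ℂ ↥(U i) = 2 ∧ e ∈ U i ∧ ∀ u ∈ U i, eval u f = 0

/-- smoothness -/
def Smooth (f : MvPolynomial (Fin 4) ℂ) : Prop :=
  ∀ v : Fin 4 → ℂ, v ≠ 0 → eval v f = 0 → ∃ i : Fin 4, eval v (pderiv i f) ≠ 0

theorem neg_eq_self {v : V4} (h : -v = v) : v = 0 := by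
  have h2 : (2 : ℂ) • v = 0 := by
    rw [two_smul]
    nth_rewrite 1 [← h]
    simp
  simpa using h2

theorem refl_decomp {A : Matrix (Fin 4) (Fin 4) ℂ} {e : V4}
    (h3 : Module.finrank ℂ ↥(LinearMap.ker (Matrix.toLin' A - LinearMap.id)) = 3)
    (hAe : A.mulVec e = -e) (he : e ≠ 0) (v : V4) :
    ∃ (h : V4) (t : ℂ), A.mulVec h = h ∧ v = h + t • e := by
  set H := LinearMap.ker (Matrix.toLin' A - LinearMap.id) with hH
  have hmem : ∀ x, x ∈ H ↔ A.mulVec x = x := by
    intro x
    simp [hH, LinearMap.mem_ker, sub_eq_zero, Matrix.toLin'_apply]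
  have heH : e ∉ H := by
    rw [hmem, hAe]
    intro h
    exact he (neg_eq_self h)
  have hdisj : H ⊓ Submodule.span ℂ {e} = ⊥ := by
    rw [Submodule.eq_bot_iff]
    rintro x ⟨hx1, hx2⟩
    obtain ⟨t, rfl⟩ := Submodule.mem_span_singleton.1 hx2
    by_cases ht : t = 0
    · simp [ht]
    · exfalso
      apply heH
      have := H.smul_mem t⁻¹ hx1
      rwa [smul_smul, inv_mul_cancel₀ ht, one_smul] at this
  have hsup : H ⊔ Submodule.span ℂ {e} = ⊤ := by
    apply Submodule.eq_top_of_finrank_eq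
    have := Submodule.finrank_sup_add_finrank_inf_eq H (Submodule.span ℂ {e})
    rw [hdisj, finrank_bot, h3, finrank_span_singleton he] at this
    simp at this ⊢
    omega
  have hv : v ∈ H ⊔ Submodule.span ℂ {e} := hsup ▸ Submodule.mem_top
  obtain ⟨h, hh, s, hs, rfl⟩ := Submodule.mem_sup.1 hv
  obtain ⟨t, rfl⟩ := Submodule.mem_span_singleton.1 hs
  exact ⟨h, t, (hmem h).1 hh, rfl⟩

theorem refl_apply {A : Matrix (Fin 4) (Fin 4) ℂ} {e : V4} (hAe : A.mulVec e = -e)
    {h : V4} (hh : A.mulVec h = h) (t : ℂ) : A.mulVec (h + t • e) = h - t • e := by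
  rw [Matrix.mulVec_add, Matrix.mulVec_smul, hh, hAe, smul_neg, sub_eq_add_neg]

theorem refl_eval {f : MvPolynomial (Fin 4) ℂ} {A : Matrix (Fin 4) (Fin 4) ℂ}
    (h : ∃ c : ℂ, aeval (fun i : Fin 4 => ∑ j : Fin 4, C (A i j) * X j) f = C c * f) :
    ∃ c : ℂ, ∀ v, eval (A.mulVec v) f = c * eval v f := by
  obtain ⟨c, hc⟩ := h
  refine ⟨c, fun v => ?_⟩
  rw [← eval_subst, hc]
  simp


section helpers

theorem sup_span_finrank (W : Submodule ℂ V4) {u : V4} (hu : u ∉ W) :
    Module.finrank ℂ ↥(W ⊔ Submodule.span ℂ {u}) = Module.finrank ℂ ↥W + 1 := by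
  have hu0 : u ≠ 0 := by
    rintro rfl
    exact hu W.zero_mem
  have hdisj : W ⊓ Submodule.span ℂ {u} = ⊥ := by
    rw [Submodule.eq_bot_iff]
    rintro x ⟨hx1, hx2⟩
    obtain ⟨t, rfl⟩ := Submodule.mem_span_singleton.1 hx2
    by_cases ht : t = 0
    · simp [ht]
    · exfalso
      apply hu
      have := W.smul_mem t⁻¹ hx1
      rwa [smul_smul, inv_mul_cancel₀ ht, one_smul] at this
  have := Submodule.finrank_sup_add_finrank_inf_eq W (Submodule.span ℂ {u})
  rw [hdisj, finrank_bot, finrank_span_singleton hu0] at this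
  omega

theorem exists_not_mem_span {U : Submodule ℂ V4} (hU : Module.finrank ℂ ↥U = 2) (e : V4) :
    ∃ u ∈ U, u ∉ Submodule.span ℂ {e} := by
  by_contra hcon
  push Not at hcon
  have hle : U ≤ Submodule.span ℂ {e} := hcon
  have h1 := Submodule.finrank_mono hle
  have h2 : Module.finrank ℂ ↥(Submodule.span ℂ {e}) ≤ 1 := by
    by_cases he : e = 0
    · subst he
      rw [Submodule.span_zero_singleton, finrank_bot]
      omega
    · rw [finrank_span_singleton he]
  omega

theorem mem_span_pair_of_finrank_two {U : Submodule ℂ V4} (hU : Module.finrank ℂ ↥U = 2)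
    {e w : V4} (heU : e ∈ U) (hwU : w ∈ U) (he : e ≠ 0) (hw : w ∉ Submodule.span ℂ {e})
    {x : V4} (hx : x ∈ U) : ∃ a b : ℂ, x = a • e + b • w := by
  have hle : Submodule.span ℂ {e} ⊔ Submodule.span ℂ {w} ≤ U := by
    apply sup_le
    · rw [Submodule.span_le]; simpa using heU
    · rw [Submodule.span_le]; simpa using hwU
  have hfr := sup_span_finrank (Submodule.span ℂ {e}) hw
  rw [finrank_span_singleton he] at hfr
  have heq := Submodule.eq_of_le_of_finrank_eq hle (by rw [hfr, hU])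
  rw [← heq] at hx
  obtain ⟨y, hy, z, hz, rfl⟩ := Submodule.mem_sup.1 hx
  obtain ⟨a, rfl⟩ := Submodule.mem_span_singleton.1 hy
  obtain ⟨b, rfl⟩ := Submodule.mem_span_singleton.1 hz
  exact ⟨a, b, rfl⟩

theorem finrank_span_pair {e w : V4} (he : e ≠ 0) (hw : w ∉ Submodule.span ℂ {e}) :
    Module.finrank ℂ ↥(Submodule.span ℂ {e, w}) = 2 := by
  have h : Submodule.span ℂ {e, w} = Submodule.span ℂ {e} ⊔ Submodule.span ℂ {w} := by
    rw [← Submodule.span_union]
    rfl
  rw [h, sup_span_finrank _ hw, finrank_span_singleton he]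

/-- the linear functional `T f u v ·` -/
noncomputable def Tlin (f : MvPolynomial (Fin 4) ℂ) (u v : V4) : V4 →ₗ[ℂ] ℂ where
  toFun := T f u v
  map_add' := T_add_right f u v
  map_smul' := fun a w => by simp [T_smul_right]

@[simp] theorem Tlin_apply (f : MvPolynomial (Fin 4) ℂ) (u v w : V4) : Tlin f u v w = T f u v w := rfl

theorem finrank_ker_of_ne_zero (φ : V4 →ₗ[ℂ] ℂ) {z : V4} (hz : φ z ≠ 0) :
    Module.finrank ℂ ↥(LinearMap.ker φ) = 3 := by
  have hsurj : Function.Surjective φ := by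
    intro c
    refine ⟨(c / φ z) • z, ?_⟩
    rw [map_smul, smul_eq_mul, div_mul_cancel₀ _ hz]
  have h1 := LinearMap.finrank_range_add_finrank_ker φ
  rw [LinearMap.range_eq_top.2 hsurj, finrank_top] at h1
  simp at h1
  omega

theorem matrix_ext_mulVec {A B : Matrix (Fin 4) (Fin 4) ℂ}
    (h : ∀ v, A.mulVec v = B.mulVec v) : A = B := by
  apply Matrix.toLin'.injective
  apply LinearMap.ext
  intro v
  simp [Matrix.toLin'_apply, h v]

end helpers

section struct

variable {f : MvPolynomial (Fin 4) ℂ} (hf : f.IsHomogeneous 3) (hsm : Smooth f)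
  {A : Matrix (Fin 4) (Fin 4) ℂ} {e : V4} (hA : IsRefl f A e) (he : e ≠ 0) (hfe : eval e f = 0)
include hf hsm hA he hfe

theorem refl_diag {h : V4} (hh : A.mulVec h = h) : T f h h e = 0 := by
  obtain ⟨-, h3, hAe, hc⟩ := hA
  obtain ⟨c, hc⟩ := refl_eval hc
  have hTe : T f e e e = 0 := by rw [← eval_eq_T hf, hfe]
  have key : ∀ (h : V4) (t : ℂ), A.mulVec h = h →
      eval (h + (-t) • e) f = c * eval (h + t • e) f := by
    intro h t hh
    rw [← hc, refl_apply hAe hh, neg_smul, sub_eq_add_neg]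
  by_cases hc1 : c = 1
  · have := key h 1 hh
    rw [eval_add_smul hf, eval_add_smul hf, hc1, hfe] at this
    linear_combination (-1 / 6 : ℂ) * this
  · exfalso
    -- F = 0 on H
    have hF : ∀ h : V4, A.mulVec h = h → eval h f = 0 := by
      intro h hh
      have := key h 0 hh
      simp only [neg_zero, zero_smul, add_zero] at this
      have h2 : (1 - c) * eval h f = 0 := by linear_combination this
      rcases mul_eq_zero.1 h2 with h3 | h3
      · exact absurd (by linear_combination -h3) hc1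
      · exact h3
    have hL : ∀ h : V4, A.mulVec h = h → T f h e e = 0 := by
      intro h hh
      have e1 := key h 1 hh
      have e2 := key h (-1) hh
      rw [eval_add_smul hf, eval_add_smul hf, hfe, hF h hh] at e1 e2
      simp only [neg_neg] at e2
      have h2 : (1 - c) * T f h e e = 0 := by
        linear_combination (1 / 6 : ℂ) * e1 + (1 / 6 : ℂ) * e2
      rcases mul_eq_zero.1 h2 with h3 | h3
      · exact absurd (by linear_combination -h3) hc1
      · exact h3
    obtain ⟨w, hw⟩ := smooth_T hf hsm e he hTe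
    obtain ⟨h, t, hh, rfl⟩ := refl_decomp h3 hAe he w
    apply hw
    rw [T_add_right, T_smul_right, hTe, T_symm13, hL h hh]
    ring

theorem refl_struct {h h' : V4} (hh : A.mulVec h = h) (hh' : A.mulVec h' = h') :
    T f e h h' = 0 := by
  have h1 := refl_diag hf hsm hA he hfe hh
  have h2 := refl_diag hf hsm hA he hfe hh'
  have h3 : A.mulVec (h + h') = h + h' := by rw [Matrix.mulVec_add, hh, hh']
  have h4 := refl_diag hf hsm hA he hfe h3
  simp only [T_add_left, T_add_mid] at h4
  rw [T_symm12 f h' h e] at h4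
  rw [T_symm13 f e h h', T_symm12 f h' h e]
  linear_combination (1 / 2 : ℂ) * h4 - (1 / 2 : ℂ) * h1 - (1 / 2 : ℂ) * h2

theorem refl_tangent {x : V4} (hx : T f e e x = 0) : T f e x x = 0 := by
  have hTe : T f e e e = 0 := by rw [← eval_eq_T hf, hfe]
  obtain ⟨h, t, hh, rfl⟩ := refl_decomp hA.2.1 hA.2.2.1 he x
  have h1 := refl_struct hf hsm hA he hfe hh hh
  simp only [T_add_right, T_smul_right, hTe] at hx
  simp only [T_add_right, T_add_mid, T_smul_right, T_smul_mid, hTe, h1]
  rw [T_symm23 f e h e]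
  linear_combination 2 * t * hx

theorem refl_coord {h k : V4} (hh : A.mulVec h = h) (hk : A.mulVec k = k) (t s : ℂ) :
    T f e (h + t • e) (k + s • e) = s * T f e e (h + t • e) + t * T f e e (k + s • e) := by
  have hTe : T f e e e = 0 := by rw [← eval_eq_T hf, hfe]
  have h1 := refl_struct hf hsm hA he hfe hh hk
  simp only [T_add_right, T_add_mid, T_smul_right, T_smul_mid, hTe, h1]
  rw [T_symm23 f e h e]
  ring

end struct

section unique

variable {f : MvPolynomial (Fin 4) ℂ} (hf : f.IsHomogeneous 3) (hsm : Smooth f)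
  {A B : Matrix (Fin 4) (Fin 4) ℂ} {e : V4} (hA : IsRefl f A e) (hB : IsRefl f B e)
  (he : e ≠ 0) (hfe : eval e f = 0)
include hf hsm hA hB he hfe

theorem refl_unique : A = B := by
  have hTe : T f e e e = 0 := by rw [← eval_eq_T hf, hfe]
  obtain ⟨z, hz⟩ := smooth_T hf hsm e he hTe
  apply matrix_ext_mulVec
  intro v
  obtain ⟨k1, s1, hk1, hz1⟩ := refl_decomp hA.2.1 hA.2.2.1 he z
  obtain ⟨k2, s2, hk2, hz2⟩ := refl_decomp hB.2.1 hB.2.2.1 he z
  obtain ⟨h1, t1, hh1, hv1⟩ := refl_decomp hA.2.1 hA.2.2.1 he v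
  obtain ⟨h2, t2, hh2, hv2⟩ := refl_decomp hB.2.1 hB.2.2.1 he v
  have a1 := refl_coord hf hsm hA he hfe hk1 hk1 s1 s1
  have a2 := refl_coord hf hsm hB he hfe hk2 hk2 s2 s2
  rw [← hz1] at a1
  rw [← hz2] at a2
  have hs : s1 = s2 := by
    have : (s1 - s2) * T f e e z = 0 := by linear_combination (-1 / 2 : ℂ) * a1 + (1 / 2 : ℂ) * a2
    rcases mul_eq_zero.1 this with h | h
    · linear_combination h
    · exact absurd h hz
  have b1 := refl_coord hf hsm hA he hfe hh1 hk1 t1 s1
  have b2 := refl_coord hf hsm hB he hfe hh2 hk2 t2 s2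
  rw [← hz1, ← hv1] at b1
  rw [← hz2, ← hv2] at b2
  have ht : t1 = t2 := by
    have : (t1 - t2) * T f e e z = 0 := by
      rw [hs] at b1
      linear_combination b2 - b1
    rcases mul_eq_zero.1 this with h | h
    · linear_combination h
    · exact absurd h hz
  have e1 : A.mulVec v = v - (2 * t1) • e := by
    rw [hv1, refl_apply hA.2.2.1 hh1]
    module
  have e2 : B.mulVec v = v - (2 * t2) • e := by
    rw [hv2, refl_apply hB.2.2.1 hh2]
    module
  rw [e1, e2, ht]

end unique

theorem refl_fixed_smul {A : Matrix (Fin 4) (Fin 4) ℂ} {p : V4} (hAp : A.mulVec p = -p)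
    (hp : p ≠ 0) {s : ℂ} (h : A.mulVec (s • p) = s • p) : s = 0 := by
  rw [Matrix.mulVec_smul, hAp, smul_neg] at h
  have := neg_eq_self h
  rcases smul_eq_zero.1 this with h | h
  · exact h
  · exact absurd h hp

theorem indep_of_not_mem_span {k1 k2 : V4} (hk1 : k1 ≠ 0) (hk2 : k2 ∉ Submodule.span ℂ {k1})
    (a b : ℂ) (hab : a • k1 + b • k2 = 0) : a = 0 ∧ b = 0 := by
  have hb : b = 0 := by
    by_contra hb
    apply hk2
    rw [Submodule.mem_span_singleton]
    refine ⟨-a / b, ?_⟩
    have h1 : b • k2 = -(a • k1) := eq_neg_of_add_eq_zero_right hab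
    have h2 : k2 = b⁻¹ • (b • k2) := by rw [smul_smul, inv_mul_cancel₀ hb, one_smul]
    rw [h2, h1, smul_neg, ← neg_smul, smul_smul]
    congr 1
    field_simp
  subst hb
  simp only [zero_smul, add_zero, smul_eq_zero] at hab
  exact ⟨hab.resolve_right hk1, rfl⟩

section eck_of_refl

variable {f : MvPolynomial (Fin 4) ℂ} (hf : f.IsHomogeneous 3) (hsm : Smooth f)
  {A : Matrix (Fin 4) (Fin 4) ℂ} {p : V4} (hA : IsRefl f A p) (hp : p ≠ 0) (hfp : eval p f = 0)
include hf hsm hA hp hfp

/-- no "double root" `u0` in the tangent plane section -/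
theorem no_double {u0 h0 : V4} (hu0 : A.mulVec u0 = u0) (hu0ne : u0 ≠ 0) (hLu0 : T f p p u0 = 0)
    (hh0 : A.mulVec h0 = h0) (hlam : T f p p h0 ≠ 0)
    (hprop : ∀ h, A.mulVec h = h → T f u0 u0 h * T f p p h0 = T f u0 u0 h0 * T f p p h) : False := by
  have hTp : T f p p p = 0 := by rw [← eval_eq_T hf, hfp]
  obtain ⟨σ, hσ⟩ := IsAlgClosed.exists_eq_mul_self (-(T f u0 u0 h0 / T f p p h0))
  have hP : u0 + σ • p ≠ 0 := by
    intro h
    have h1 : u0 = (-σ) • p := by
      rw [neg_smul]
      exact eq_neg_of_add_eq_zero_left h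
    have h2 : A.mulVec ((-σ) • p) = (-σ) • p := by rw [← h1]; exact hu0
    have h3 := refl_fixed_smul hA.2.2.1 hp h2
    apply hu0ne
    rw [h1, h3, zero_smul]
  have key : ∀ w, T f (u0 + σ • p) (u0 + σ • p) w = 0 := by
    intro w
    obtain ⟨h, t, hh, rfl⟩ := refl_decomp hA.2.1 hA.2.2.1 hp w
    have d1 := refl_diag hf hsm hA hp hfp hu0
    have d2 := refl_struct hf hsm hA hp hfp hu0 hh
    have d3 := hprop h hh
    simp only [T_add_left, T_add_mid, T_add_right, T_smul_left, T_smul_mid, T_smul_right, hTp]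
    have s1 : T f u0 p h = 0 := by rw [T_symm12]; exact d2
    have s2 : T f p u0 p = 0 := by rw [T_symm23]; exact hLu0
    have s3 : T f u0 p p = 0 := by rw [T_symm13]; exact hLu0
    rw [d2, s1, s2, s3, d1]
    have d4 : T f u0 u0 h = (T f u0 u0 h0 / T f p p h0) * T f p p h := by
      field_simp
      linear_combination d3
    rw [d4]
    linear_combination (-(T f p p h)) * hσ
  obtain ⟨w, hw⟩ := smooth_T hf hsm _ hP (key _)
  exact hw (key w)

theorem eck_of_refl : IsEck f p := by
  have hTp : T f p p p = 0 := by rw [← eval_eq_T hf, hfp]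
  have h3 := hA.2.1
  have hAp := hA.2.2.1
  set H := LinearMap.ker (Matrix.toLin' A - LinearMap.id) with hH
  have hmem : ∀ x, x ∈ H ↔ A.mulVec x = x := by
    intro x
    simp [hH, LinearMap.mem_ker, sub_eq_zero, Matrix.toLin'_apply]
  obtain ⟨z, hz⟩ := smooth_T hf hsm p hp hTp
  obtain ⟨h0, t0, hh0, rfl⟩ := refl_decomp h3 hAp hp z
  have hlam : T f p p h0 ≠ 0 := by
    simpa [T_add_right, T_smul_right, hTp] using hz
  set K := H ⊓ LinearMap.ker (Tlin f p p) with hK
  have hKmem : ∀ x, x ∈ K ↔ A.mulVec x = x ∧ T f p p x = 0 := by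
    intro x
    rw [hK, Submodule.mem_inf, hmem, LinearMap.mem_ker, Tlin_apply]
  have hKfr : Module.finrank ℂ ↥K = 2 := by
    have hker := finrank_ker_of_ne_zero (Tlin f p p) (z := h0) hlam
    have hsup : H ⊔ LinearMap.ker (Tlin f p p) = ⊤ := by
      apply Submodule.eq_top_of_finrank_eq
      have h1 := sup_span_finrank (LinearMap.ker (Tlin f p p)) (u := h0)
        (by simpa [LinearMap.mem_ker] using hlam)
      have h2 : LinearMap.ker (Tlin f p p) ⊔ Submodule.span ℂ {h0} ≤
          H ⊔ LinearMap.ker (Tlin f p p) := by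
        apply sup_le le_sup_right
        rw [Submodule.span_le]
        simp only [Set.singleton_subset_iff, SetLike.mem_coe]
        exact Submodule.mem_sup_left ((hmem h0).2 hh0)
      apply le_antisymm (Submodule.finrank_le _)
      calc Module.finrank ℂ V4 = 4 := by simp
        _ = Module.finrank ℂ ↥(LinearMap.ker (Tlin f p p)) + 1 := by rw [hker]
        _ = _ := h1.symm
        _ ≤ _ := Submodule.finrank_mono h2
    have := Submodule.finrank_sup_add_finrank_inf_eq H (LinearMap.ker (Tlin f p p))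
    rw [hsup, finrank_top, h3, hker] at this
    have h4 : Module.finrank ℂ V4 = 4 := by simp
    rw [h4] at this
    have h5 : Module.finrank ℂ ↥(H ⊓ LinearMap.ker (Tlin f p p)) = 2 := by omega
    exact h5
  obtain ⟨k1, hk1K, hk1ne⟩ : ∃ k ∈ K, k ≠ 0 := by
    by_contra hcon
    push Not at hcon
    have : K = ⊥ := (Submodule.eq_bot_iff _).2 hcon
    rw [this, finrank_bot] at hKfr
    omega
  obtain ⟨k2, hk2K, hk2⟩ := exists_not_mem_span hKfr k1
  have hKspan : ∀ x ∈ K, ∃ a b : ℂ, x = a • k1 + b • k2 := fun x hx =>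
    mem_span_pair_of_finrank_two hKfr hk1K hk2K hk1ne hk2 hx
  have hind := indep_of_not_mem_span hk1ne hk2
  obtain ⟨hk1A, hk1L⟩ := (hKmem k1).1 hk1K
  obtain ⟨hk2A, hk2L⟩ := (hKmem k2).1 hk2K
  have hcomb : ∀ x y : ℂ, A.mulVec (x • k1 + y • k2) = x • k1 + y • k2 ∧
      T f p p (x • k1 + y • k2) = 0 := by
    intro x y
    exact (hKmem _).1 (K.add_mem (K.smul_mem x hk1K) (K.smul_mem y hk2K))
  -- three roots
  obtain ⟨x1, y1, x2, y2, x3, y3, r1, r2, r3, n12, n13, n23⟩ :=
    BinCubic.three_roots (T f k1 k1 k1) (T f k1 k1 k2) (T f k1 k2 k2) (T f k2 k2 k2) (by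
      rintro x y hxy ⟨e1, e2⟩
      have hu0ne : x • k1 + y • k2 ≠ 0 := fun h => hxy (hind x y h)
      have c1 : T f (x • k1 + y • k2) (x • k1 + y • k2) k1 = 0 := by
        simp only [T_add_left, T_add_mid, T_smul_left, T_smul_mid]
        rw [T_symm12 f k2 k1 k1, T_symm13 f k2 k2 k1, T_symm23 f k1 k2 k1]
        linear_combination e1
      have c2 : T f (x • k1 + y • k2) (x • k1 + y • k2) k2 = 0 := by
        simp only [T_add_left, T_add_mid, T_smul_left, T_smul_mid]
        rw [T_symm12 f k2 k1 k2]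
        linear_combination e2
      refine no_double hf hsm hA hp hfp (hcomb x y).1 hu0ne (hcomb x y).2 hh0 hlam ?_
      intro h hh
      -- h - s h0 ∈ K
      have hmemK : h - (T f p p h / T f p p h0) • h0 ∈ K := by
        rw [hKmem]
        constructor
        · rw [Matrix.mulVec_sub, Matrix.mulVec_smul, hh, hh0]
        · rw [T_sub_right, T_smul_right]
          field_simp
          ring
      obtain ⟨a, b, hab⟩ := hKspan _ hmemK
      have hh' : h = a • k1 + b • k2 + (T f p p h / T f p p h0) • h0 := by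
        rw [← hab]
        abel
      have : T f (x • k1 + y • k2) (x • k1 + y • k2) h =
          (T f p p h / T f p p h0) * T f (x • k1 + y • k2) (x • k1 + y • k2) h0 := by
        conv_lhs => rw [hh']
        rw [T_add_right, T_add_right, T_smul_right, T_smul_right, T_smul_right, c1, c2]
        ring
      rw [this]
      field_simp)
  -- the three points
  have hroot' : ∀ x y : ℂ, T f k1 k1 k1 * x ^ 3 + 3 * T f k1 k1 k2 * x ^ 2 * y +
      3 * T f k1 k2 k2 * x * y ^ 2 + T f k2 k2 k2 * y ^ 3 = 0 →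
      eval (x • k1 + y • k2) f = 0 := by
    intro x y h
    rw [expand2 hf]
    linear_combination h
  set xs : Fin 3 → ℂ := ![x1, x2, x3] with hxs
  set ys : Fin 3 → ℂ := ![y1, y2, y3] with hys
  have hroot : ∀ i, eval (xs i • k1 + ys i • k2) f = 0 := by
    intro i
    apply hroot'
    fin_cases i
    · exact r1
    · exact r2
    · exact r3
  have hne : ∀ i j, i ≠ j → xs i * ys j ≠ xs j * ys i := by
    intro i j hij
    fin_cases i <;> fin_cases j
    · exact absurd rfl hij
    · exact n12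
    · exact n13
    · exact fun h => n12 h.symm
    · exact absurd rfl hij
    · exact n23
    · exact fun h => n13 h.symm
    · exact fun h => n23 h.symm
    · exact absurd rfl hij
  have hnz : ∀ i, xs i • k1 + ys i • k2 ≠ 0 := by
    intro i h
    obtain ⟨h1, h2⟩ := hind _ _ h
    have : ∃ j, i ≠ j := by
      fin_cases i
      · exact ⟨1, by decide⟩
      · exact ⟨0, by decide⟩
      · exact ⟨0, by decide⟩
    obtain ⟨j, hj⟩ := this
    apply hne i j hj
    rw [h1, h2]
    ring
  have hnsp : ∀ i, xs i • k1 + ys i • k2 ∉ Submodule.span ℂ {p} := by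
    intro i h
    obtain ⟨t, ht⟩ := Submodule.mem_span_singleton.1 h
    have h1 : A.mulVec (t • p) = t • p := by rw [ht]; exact (hcomb _ _).1
    have h2 := refl_fixed_smul hAp hp h1
    apply hnz i
    rw [← ht, h2, zero_smul]
  refine ⟨fun i => Submodule.span ℂ {p, xs i • k1 + ys i • k2}, ?_, ?_⟩
  · intro i j hij
    by_contra hij'
    have hmemj : xs j • k1 + ys j • k2 ∈ Submodule.span ℂ {p, xs i • k1 + ys i • k2} := by
      have : xs j • k1 + ys j • k2 ∈ Submodule.span ℂ {p, xs j • k1 + ys j • k2} :=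
        Submodule.subset_span (by simp)
      have hij2 : Submodule.span ℂ {p, xs i • k1 + ys i • k2} =
          Submodule.span ℂ {p, xs j • k1 + ys j • k2} := hij
      rw [hij2]
      exact this
    obtain ⟨a, b, hab⟩ := Submodule.mem_span_pair.1 hmemj
    have ha : a = 0 := by
      apply refl_fixed_smul hAp hp
      have : a • p = (xs j • k1 + ys j • k2) - b • (xs i • k1 + ys i • k2) := by
        rw [← hab]
        abel
      rw [this, Matrix.mulVec_sub, Matrix.mulVec_smul, (hcomb _ _).1, (hcomb _ _).1]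
    subst ha
    have h0 : (b * xs i - xs j) • k1 + (b * ys i - ys j) • k2 = 0 := by
      have : b • (xs i • k1 + ys i • k2) - (xs j • k1 + ys j • k2) = 0 := by
        rw [← hab]
        simp
      rw [← this]
      module
    obtain ⟨h1, h2⟩ := hind _ _ h0
    apply hne i j hij'
    linear_combination ys i * h1 - xs i * h2
  · intro i
    refine ⟨finrank_span_pair hp (hnsp i), Submodule.subset_span (by simp), ?_⟩
    intro w hw
    obtain ⟨a, b, rfl⟩ := Submodule.mem_span_pair.1 hw
    rw [expand2 hf, hTp, ← eval_eq_T hf, hroot i, (hcomb _ _).2,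
      refl_struct hf hsm hA hp hfp (hcomb _ _).1 (hcomb _ _).1]
    ring


end eck_of_refl

/-- along a line through `e` on the surface -/
theorem line_T {f : MvPolynomial (Fin 4) ℂ} (hf : f.IsHomogeneous 3) {e : V4}
    {U : Submodule ℂ V4} (heU : e ∈ U) (hU : ∀ u ∈ U, eval u f = 0) {u : V4} (hu : u ∈ U) :
    T f e e u = 0 ∧ T f e u u = 0 ∧ T f u u u = 0 := by
  have h1 := hU (e + (1 : ℂ) • u) (U.add_mem heU (U.smul_mem _ hu))
  have h2 := hU (e + (-1 : ℂ) • u) (U.add_mem heU (U.smul_mem _ hu))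
  rw [eval_add_smul hf, hU e heU, hU u hu] at h1 h2
  refine ⟨?_, ?_, ?_⟩
  · linear_combination (1 / 6 : ℂ) * h1 - (1 / 6 : ℂ) * h2
  · linear_combination (1 / 6 : ℂ) * h1 + (1 / 6 : ℂ) * h2
  · rw [← eval_eq_T hf]; exact hU u hu

section exists_refl

variable {f : MvPolynomial (Fin 4) ℂ} (hf : f.IsHomogeneous 3) (hsm : Smooth f)
  {e : V4} (hE : IsEck f e) (he : e ≠ 0)
include hf hsm hE he

omit hf hsm he in
theorem eck_eval : eval e f = 0 := by
  obtain ⟨U, -, hU⟩ := hE
  exact (hU 0).2.2 e (hU 0).2.1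

theorem eck_tangent {x : V4} (hx : T f e e x = 0) : T f e x x = 0 := by
  have hfe := eck_eval hE
  have hTe : T f e e e = 0 := by rw [← eval_eq_T hf, hfe]
  obtain ⟨U, hinj, hU⟩ := hE
  obtain ⟨u1, hu1, hu1'⟩ := exists_not_mem_span (hU 0).1 e
  obtain ⟨u2, hu2, hu2'⟩ := exists_not_mem_span (hU 1).1 e
  obtain ⟨u3, hu3, hu3'⟩ := exists_not_mem_span (hU 2).1 e
  -- u2 ∉ U 0 etc.
  have hnot : ∀ i j : Fin 3, i ≠ j → ∀ u ∈ U j, u ∉ Submodule.span ℂ {e} → u ∉ U i := by
    intro i j hij u huj hue hui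
    apply hij
    apply hinj
    symm
    apply Submodule.eq_of_le_of_finrank_eq
    · intro x hx
      obtain ⟨a, b, rfl⟩ := mem_span_pair_of_finrank_two (hU j).1 (hU j).2.1 huj he hue hx
      exact (U i).add_mem ((U i).smul_mem _ (hU i).2.1) ((U i).smul_mem _ hui)
    · rw [(hU i).1, (hU j).1]
  have h20 : u2 ∉ U 0 := hnot 0 1 (by decide) u2 hu2 hu2'
  have h30 : u3 ∉ U 0 := hnot 0 2 (by decide) u3 hu3 hu3'
  have h31 : u3 ∉ U 1 := hnot 1 2 (by decide) u3 hu3 hu3'
  obtain ⟨z, hz⟩ := smooth_T hf hsm e he hTe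
  have hker := finrank_ker_of_ne_zero (Tlin f e e) (z := z) hz
  have hW : U 0 ⊔ Submodule.span ℂ {u2} = LinearMap.ker (Tlin f e e) := by
    apply Submodule.eq_of_le_of_finrank_eq
    · apply sup_le
      · intro w hw
        rw [LinearMap.mem_ker, Tlin_apply]
        exact (line_T hf (hU 0).2.1 (hU 0).2.2 hw).1
      · rw [Submodule.span_le]
        simp only [Set.singleton_subset_iff, SetLike.mem_coe, LinearMap.mem_ker, Tlin_apply]
        exact (line_T hf (hU 1).2.1 (hU 1).2.2 hu2).1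
    · rw [sup_span_finrank _ h20, (hU 0).1, hker]
  have hdec : ∀ y, T f e e y = 0 → ∃ w ∈ U 0, ∃ s : ℂ, y = w + s • u2 := by
    intro y hy
    have : y ∈ U 0 ⊔ Submodule.span ℂ {u2} := by
      rw [hW, LinearMap.mem_ker, Tlin_apply]
      exact hy
    obtain ⟨w, hw, v, hv, rfl⟩ := Submodule.mem_sup.1 this
    obtain ⟨s, rfl⟩ := Submodule.mem_span_singleton.1 hv
    exact ⟨w, hw, s, rfl⟩
  have l2 := line_T hf (hU 1).2.1 (hU 1).2.2 hu2
  obtain ⟨w3, hw3, s3, h3eq⟩ := hdec u3 (line_T hf (hU 2).2.1 (hU 2).2.2 hu3).1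
  have hs3 : s3 ≠ 0 := by
    rintro rfl
    apply h30
    rw [h3eq, zero_smul, add_zero]
    exact hw3
  have hw3' : w3 ∉ Submodule.span ℂ {e} := by
    intro h
    obtain ⟨r, rfl⟩ := Submodule.mem_span_singleton.1 h
    apply h31
    rw [h3eq]
    exact (U 1).add_mem ((U 1).smul_mem _ (hU 1).2.1) ((U 1).smul_mem _ hu2)
  have hkey3 : T f e w3 u2 = 0 := by
    have l3 := (line_T hf (hU 2).2.1 (hU 2).2.2 hu3).2.1
    have lw := (line_T hf (hU 0).2.1 (hU 0).2.2 hw3).2.1
    rw [h3eq] at l3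
    simp only [T_add_right, T_add_mid, T_smul_right, T_smul_mid, lw, l2.2.1] at l3
    rw [T_symm23 f e u2 w3] at l3
    have : (2 * s3) * T f e w3 u2 = 0 := by linear_combination l3
    rcases mul_eq_zero.1 this with h | h
    · exact absurd (by simpa using h) hs3
    · exact h
  have hkey : ∀ w ∈ U 0, T f e w u2 = 0 := by
    intro w hw
    obtain ⟨a, b, rfl⟩ := mem_span_pair_of_finrank_two (hU 0).1 (hU 0).2.1 hw3 he hw3' hw
    rw [T_add_mid, T_smul_mid, T_smul_mid, hkey3, l2.1]
    ring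
  obtain ⟨w, hw, s, rfl⟩ := hdec x hx
  have lw := (line_T hf (hU 0).2.1 (hU 0).2.2 hw).2.1
  simp only [T_add_right, T_add_mid, T_smul_right, T_smul_mid, lw, l2.2.1, hkey w hw]
  rw [T_symm23 f e u2 w, hkey w hw]
  ring

theorem exists_refl : ∃ A, IsRefl f A e := by
  have hfe := eck_eval hE
  have hTe : T f e e e = 0 := by rw [← eval_eq_T hf, hfe]
  obtain ⟨z, hz⟩ := smooth_T hf hsm e he hTe
  set lam := T f e e z with hlam
  let m : V4 →ₗ[ℂ] ℂ := (1 / lam) • Tlin f e z - (T f e z z / (2 * lam ^ 2)) • Tlin f e e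
  have hm : ∀ y, m y = T f e z y / lam - T f e z z / (2 * lam ^ 2) * T f e e y := by
    intro y
    simp only [m, LinearMap.sub_apply, LinearMap.smul_apply, Tlin_apply, smul_eq_mul]
    ring
  have hme : m e = 1 := by
    rw [hm, hTe, T_symm23 f e z e, ← hlam]
    field_simp
    ring
  have hdiag : ∀ x, T f e x x = 2 * T f e e x * m x := by
    intro x
    obtain ⟨x', a, hx', rfl⟩ : ∃ (x' : V4) (a : ℂ), T f e e x' = 0 ∧ x = x' + a • z := by
      refine ⟨x - (T f e e x / lam) • z, T f e e x / lam, ?_, by simp⟩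
      rw [T_sub_right, T_smul_right, ← hlam]
      field_simp
      ring
    have h1 := eck_tangent hf hsm hE he hx'
    rw [hm]
    simp only [T_add_right, T_add_mid, T_smul_right, T_smul_mid, hx', h1, ← hlam]
    rw [T_symm23 f e z x']
    field_simp
    ring
  let g : V4 →ₗ[ℂ] V4 := LinearMap.id - (2 : ℂ) • m.smulRight e
  have hg : ∀ v, g v = v - (2 * m v) • e := by
    intro v
    simp only [g, LinearMap.sub_apply, LinearMap.id_apply, LinearMap.smul_apply,
      LinearMap.smulRight_apply, smul_smul]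
  have hAv : ∀ v, (LinearMap.toMatrix' g).mulVec v = v - (2 * m v) • e := by
    intro v
    rw [LinearMap.toMatrix'_mulVec, hg]
  refine ⟨LinearMap.toMatrix' g, ?_, ?_, ?_, 1, ?_⟩
  · apply matrix_ext_mulVec
    intro v
    rw [← Matrix.mulVec_mulVec, hAv, hAv, Matrix.one_mulVec]
    simp only [map_sub, map_smul, hme, smul_eq_mul]
    module
  · have hker : LinearMap.ker (Matrix.toLin' (LinearMap.toMatrix' g) - LinearMap.id) =
        LinearMap.ker m := by
      ext v
      simp only [LinearMap.mem_ker, LinearMap.sub_apply, Matrix.toLin'_apply, hAv,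
        LinearMap.id_apply]
      constructor
      · intro h
        have : (2 * m v) • e = 0 := by
          have h2 : v - (2 * m v) • e - v = -((2 * m v) • e) := by abel
          rw [h2] at h
          simpa using h
        rcases smul_eq_zero.1 this with h' | h'
        · simpa using h'
        · exact absurd h' he
      · intro h
        rw [h]
        simp
    rw [hker]
    exact finrank_ker_of_ne_zero m (z := e) (by rw [hme]; exact one_ne_zero)
  · rw [hAv, hme]
    module
  · rw [map_one, one_mul]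
    apply subst_eq_of_eval
    intro v
    rw [hAv]
    have hv : v = (v - m v • e) + m v • e := by abel
    have hmh : m (v - m v • e) = 0 := by
      simp only [map_sub, map_smul, hme, smul_eq_mul]
      ring
    have h1 : T f (v - m v • e) (v - m v • e) e = 0 := by
      rw [T_symm13, hdiag, hmh]
      ring
    have h2 : v - (2 * m v) • e = (v - m v • e) + (-(m v)) • e := by module
    rw [h2]
    conv_rhs => rw [hv]
    rw [eval_add_smul hf, eval_add_smul hf, h1, hfe]
    ring

end exists_refl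

theorem eck_map {f : MvPolynomial (Fin 4) ℂ} {A : Matrix (Fin 4) (Fin 4) ℂ} (hAA : A * A = 1)
    (hc : ∃ c : ℂ, ∀ v, eval (A.mulVec v) f = c * eval v f) {e' : V4} (hE : IsEck f e') :
    IsEck f (A.mulVec e') := by
  obtain ⟨c, hc⟩ := hc
  obtain ⟨U, hinj, hU⟩ := hE
  let φ : V4 ≃ₗ[ℂ] V4 := Matrix.toLin'OfInv hAA hAA
  have hφ : ∀ v, φ v = A.mulVec v := fun v => by
    simp [φ, Matrix.toLin'OfInv, Matrix.toLin'_apply]
  refine ⟨fun i => (U i).map (φ : V4 →ₗ[ℂ] V4), ?_, ?_⟩
  · intro i j hij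
    apply hinj
    exact Submodule.map_injective_of_injective (f := (φ : V4 →ₗ[ℂ] V4)) φ.injective hij
  · intro i
    refine ⟨?_, ?_, ?_⟩
    · rw [LinearEquiv.finrank_map_eq, (hU i).1]
    · rw [← hφ]
      exact Submodule.mem_map_of_mem (hU i).2.1
    · intro u hu
      obtain ⟨w, hw, rfl⟩ := Submodule.mem_map.1 hu
      show eval (φ w) f = 0
      rw [hφ, hc, (hU i).2.2 w hw, mul_zero]

section two_eck

variable {f : MvPolynomial (Fin 4) ℂ} (hf : f.IsHomogeneous 3) (hsm : Smooth f)
  {e e' : V4} (he : e ≠ 0) (he' : e' ∉ Submodule.span ℂ {e})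
  (hE : IsEck f e) (hE' : IsEck f e')
include hf hsm he he' hE hE'

omit hf hsm hE hE' he in
theorem e'_ne_zero : e' ≠ 0 := by
  rintro rfl
  exact he' (Submodule.zero_mem _)

omit hf hsm hE hE' in
theorem e_not_mem : e ∉ Submodule.span ℂ {e'} := by
  intro h
  obtain ⟨t, ht⟩ := Submodule.mem_span_singleton.1 h
  apply he'
  rw [Submodule.mem_span_singleton]
  have ht0 : t ≠ 0 := by
    rintro rfl
    apply he
    rw [← ht, zero_smul]
  refine ⟨t⁻¹, ?_⟩
  rw [← ht, smul_smul, inv_mul_cancel₀ ht0, one_smul]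

omit hsm he he' in
/-- the restriction of the cubic to the line through two Eckardt points -/
theorem eval_line (x y : ℂ) :
    eval (x • e + y • e') f = 3 * x ^ 2 * y * T f e e e' + 3 * x * y ^ 2 * T f e e' e' := by
  rw [expand2 hf, ← eval_eq_T hf, ← eval_eq_T hf, eck_eval hE, eck_eval hE']
  ring

omit he' hE' in
/-- with `e' = h + t e`: `β = 2 t α` -/
theorem beta_eq {A : Matrix (Fin 4) (Fin 4) ℂ} (hA : IsRefl f A e) {h : V4} {t : ℂ}
    (hh : A.mulVec h = h) (hdec : e' = h + t • e) :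
    T f e e' e' = 2 * t * T f e e e' := by
  have := refl_coord hf hsm hA he (eck_eval hE) hh hh t t
  rw [← hdec] at this
  rw [this]
  ring

theorem two_eck :
    Xor (∀ u ∈ Submodule.span ℂ {e, e'}, eval u f = 0)
      (∃ e'' : V4, e'' ∈ Submodule.span ℂ {e, e'} ∧ e'' ∉ Submodule.span ℂ {e} ∧
        e'' ∉ Submodule.span ℂ {e'} ∧ IsEck f e'' ∧
        ∀ u ∈ Submodule.span ℂ {e, e'}, eval u f = 0 →
          u ∈ Submodule.span ℂ {e} ∨ u ∈ Submodule.span ℂ {e'} ∨ u ∈ Submodule.span ℂ {e''}) := by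
  have hne' := e'_ne_zero he'
  have hind := indep_of_not_mem_span he he'
  obtain ⟨A, hA⟩ := exists_refl hf hsm hE he
  obtain ⟨A', hA'⟩ := exists_refl hf hsm hE' hne'
  obtain ⟨h, t, hh, hdec⟩ := refl_decomp hA.2.1 hA.2.2.1 he e'
  obtain ⟨h', t', hh', hdec'⟩ := refl_decomp hA'.2.1 hA'.2.2.1 hne' e
  have hb := beta_eq hf hsm he hE hA hh hdec
  have ha : T f e e e' = 2 * t' * T f e e' e' := by
    have := beta_eq hf hsm hne' hE' hA' hh' hdec'
    rw [T_symm13 f e e e', this, T_symm13 f e' e' e]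
  have hline := eval_line hf hE hE'
  by_cases hα : T f e e e' = 0
  · left
    have hβ : T f e e' e' = 0 := by rw [hb, hα, mul_zero]
    have hall : ∀ u ∈ Submodule.span ℂ {e, e'}, eval u f = 0 := by
      intro u hu
      obtain ⟨x, y, rfl⟩ := Submodule.mem_span_pair.1 hu
      rw [hline, hα, hβ]
      ring
    refine ⟨hall, ?_⟩
    rintro ⟨e'', hL, h1, h2, -, hz⟩
    obtain ⟨a, b, rfl⟩ := Submodule.mem_span_pair.1 hL
    have ha0 : a ≠ 0 := by
      rintro rfl
      apply h2
      rw [zero_smul, zero_add]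
      exact Submodule.smul_mem _ _ (Submodule.mem_span_singleton_self _)
    have hb0 : b ≠ 0 := by
      rintro rfl
      apply h1
      rw [zero_smul, add_zero]
      exact Submodule.smul_mem _ _ (Submodule.mem_span_singleton_self _)
    have hu : a • e + (-b) • e' ∈ Submodule.span ℂ {e, e'} :=
      Submodule.mem_span_pair.2 ⟨a, -b, rfl⟩
    rcases hz _ hu (hall _ hu) with h | h | h
    · obtain ⟨s, hs⟩ := Submodule.mem_span_singleton.1 h
      have : (s - a) • e + b • e' = 0 := by
        have : s • e - (a • e + (-b) • e') = 0 := by rw [hs]; simp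
        rw [← this]
        module
      exact hb0 (hind _ _ this).2
    · obtain ⟨s, hs⟩ := Submodule.mem_span_singleton.1 h
      have : a • e + (-b - s) • e' = 0 := by
        have : (a • e + (-b) • e') - s • e' = 0 := by rw [hs]; simp
        rw [← this]
        module
      exact ha0 (hind _ _ this).1
    · obtain ⟨s, hs⟩ := Submodule.mem_span_singleton.1 h
      have : (a * (s - 1)) • e + (b * (s + 1)) • e' = 0 := by
        have : s • (a • e + b • e') - (a • e + (-b) • e') = 0 := by rw [hs]; simp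
        rw [← this]
        module
      obtain ⟨z1, z2⟩ := hind _ _ this
      have s1 : s - 1 = 0 := (mul_eq_zero.1 z1).resolve_left ha0
      have s2 : s + 1 = 0 := (mul_eq_zero.1 z2).resolve_left hb0
      have : (2 : ℂ) = 0 := by linear_combination s2 - s1
      norm_num at this
  · right
    have hβ : T f e e' e' ≠ 0 := by
      intro hβ
      apply hα
      rw [ha, hβ, mul_zero]
    have ht : t ≠ 0 := by
      rintro rfl
      apply hβ
      rw [hb]
      ring
    have hnall : ¬ ∀ u ∈ Submodule.span ℂ {e, e'}, eval u f = 0 := by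
      intro hall
      have h1 := hall ((1 : ℂ) • e + (1 : ℂ) • e') (Submodule.mem_span_pair.2 ⟨1, 1, rfl⟩)
      have h2 := hall ((1 : ℂ) • e + (-1 : ℂ) • e') (Submodule.mem_span_pair.2 ⟨1, -1, rfl⟩)
      rw [hline] at h1 h2
      apply hα
      linear_combination (1 / 6 : ℂ) * h1 - (1 / 6 : ℂ) * h2
    refine ⟨?_, hnall⟩
    have hAe' : A.mulVec e' = (-2 * t) • e + (1 : ℂ) • e' := by
      rw [hdec, refl_apply hA.2.2.1 hh]
      module
    refine ⟨A.mulVec e', ?_, ?_, ?_, ?_, ?_⟩
    · rw [hAe']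
      exact Submodule.mem_span_pair.2 ⟨_, _, rfl⟩
    · intro hmem
      obtain ⟨s, hs⟩ := Submodule.mem_span_singleton.1 hmem
      rw [hAe'] at hs
      have : (s + 2 * t) • e + (-1 : ℂ) • e' = 0 := by
        have : s • e - ((-2 * t) • e + (1 : ℂ) • e') = 0 := by rw [hs]; simp
        rw [← this]
        module
      have := (hind _ _ this).2
      norm_num at this
    · intro hmem
      obtain ⟨s, hs⟩ := Submodule.mem_span_singleton.1 hmem
      rw [hAe'] at hs
      have : (2 * t) • e + (s - 1) • e' = 0 := by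
        have : s • e' - ((-2 * t) • e + (1 : ℂ) • e') = 0 := by rw [hs]; simp
        rw [← this]
        module
      have := (hind _ _ this).1
      exact ht (by simpa using this)
    · exact eck_map hA.1 (refl_eval hA.2.2.2) hE'
    · intro u hu hfu
      obtain ⟨x, y, rfl⟩ := Submodule.mem_span_pair.1 hu
      rw [hline, hb] at hfu
      have : x * y * (x + 2 * t * y) * (3 * T f e e e') = 0 := by linear_combination hfu
      rcases mul_eq_zero.1 this with h1 | h1
      · rcases mul_eq_zero.1 h1 with h2 | h2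
        · rcases mul_eq_zero.1 h2 with h3 | h3
          · right; left
            rw [h3, zero_smul, zero_add]
            exact Submodule.smul_mem _ _ (Submodule.mem_span_singleton_self _)
          · left
            rw [h3, zero_smul, add_zero]
            exact Submodule.smul_mem _ _ (Submodule.mem_span_singleton_self _)
        · right; right
          rw [Submodule.mem_span_singleton]
          refine ⟨y, ?_⟩
          rw [hAe']
          have hx : x = -2 * t * y := by linear_combination h2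
          rw [hx]
          module
      · exfalso
        apply hα
        simpa using h1

end two_eck

section line_on

variable {f : MvPolynomial (Fin 4) ℂ} (hf : f.IsHomogeneous 3) (hsm : Smooth f)
  {e e' : V4} (he : e ≠ 0) (he' : e' ∉ Submodule.span ℂ {e})
  (hfe : eval e f = 0) (hfe' : eval e' f = 0)
  (hL : ∀ u ∈ Submodule.span ℂ {e, e'}, eval u f = 0)
  {A A' : Matrix (Fin 4) (Fin 4) ℂ} (hA : IsRefl f A e) (hA' : IsRefl f A' e')
include hf hsm he he' hfe hfe' hL hA hA'

/-- if the line joining two Eckardt points lies on the surface, each involution fixes the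
other point -/
theorem fixed_of_line : A.mulVec e' = e' := by
  have hne' := e'_ne_zero he'
  have hTe : T f e e e = 0 := by rw [← eval_eq_T hf, hfe]
  obtain ⟨h, t, hh, hdec⟩ := refl_decomp hA.2.1 hA.2.2.1 he e'
  suffices ht : t = 0 by
    rw [hdec, ht, zero_smul, add_zero]
    exact hh
  by_contra ht
  have hhne : h ≠ 0 := by
    rintro rfl
    apply he'
    rw [hdec, zero_add]
    exact Submodule.smul_mem _ _ (Submodule.mem_span_singleton_self _)
  -- α = 0
  have hα : T f e e e' = 0 := by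
    have h1 := hL ((1 : ℂ) • e + (1 : ℂ) • e') (Submodule.mem_span_pair.2 ⟨1, 1, rfl⟩)
    have h2 := hL ((1 : ℂ) • e + (-1 : ℂ) • e') (Submodule.mem_span_pair.2 ⟨1, -1, rfl⟩)
    rw [expand2 hf, ← eval_eq_T hf, ← eval_eq_T hf, hfe, hfe'] at h1 h2
    linear_combination (1 / 6 : ℂ) * h1 - (1 / 6 : ℂ) * h2
  have hΛh : T f e e h = 0 := by
    rw [hdec, T_add_right, T_smul_right, hTe] at hα
    linear_combination hα
  obtain ⟨z, hz⟩ := smooth_T hf hsm e he hTe
  obtain ⟨h0, t0, hh0, rfl⟩ := refl_decomp hA.2.1 hA.2.2.1 he z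
  have hlam : T f e e h0 ≠ 0 := by
    simpa [T_add_right, T_smul_right, hTe] using hz
  have hstr := fun (a b : V4) (ha : A.mulVec a = a) (hb : A.mulVec b = b) =>
    refl_struct hf hsm hA he hfe ha hb
  have htan := fun (x : V4) (hx : T f e' e' x = 0) => refl_tangent hf hsm hA' hne' hfe' hx
  -- formulas
  have f1 : ∀ (h1 : V4) (s : ℂ), A.mulVec h1 = h1 →
      T f e' e' (h1 + s • e) = T f h h h1 + t ^ 2 * T f e e h1 := by
    intro h1 s hh1
    rw [hdec]
    simp only [T_add_left, T_add_mid, T_add_right, T_smul_left, T_smul_mid, T_smul_right, hTe]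
    have a1 : T f h h e = 0 := by rw [T_symm13]; exact hstr h h hh hh
    have a2 : T f e h h1 = 0 := hstr h h1 hh hh1
    have a3 : T f h e h1 = 0 := by rw [T_symm12]; exact a2
    have a4 : T f e h e = 0 := by rw [T_symm23]; exact hΛh
    have a5 : T f h e e = 0 := by rw [T_symm13]; exact hΛh
    rw [a1, a2, a3, a4, a5]
    ring
  have f2 : ∀ (h1 : V4) (s : ℂ), A.mulVec h1 = h1 →
      T f e' (h1 + s • e) (h1 + s • e) = T f h h1 h1 + 2 * t * s * T f e e h1 := by
    intro h1 s hh1
    rw [hdec]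
    simp only [T_add_left, T_add_mid, T_add_right, T_smul_left, T_smul_mid, T_smul_right, hTe]
    have a1 : T f h h1 e = 0 := by rw [T_symm13, T_symm23]; exact hstr h h1 hh hh1
    have a2 : T f h e h1 = 0 := by rw [T_symm12]; exact hstr h h1 hh hh1
    have a3 : T f h e e = 0 := by rw [T_symm13]; exact hΛh
    have a4 : T f e h1 h1 = 0 := hstr h1 h1 hh1 hh1
    have a5 : T f e h1 e = T f e e h1 := T_symm23 f e h1 e
    rw [a1, a2, a3, a4, a5]
    ring
  have claim : ∀ h1 : V4, A.mulVec h1 = h1 → T f h h h1 + t ^ 2 * T f e e h1 = 0 →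
      T f e e h1 = 0 := by
    intro h1 hh1 hψ
    have e0 := htan (h1 + (0 : ℂ) • e) (by rw [f1 h1 0 hh1]; exact hψ)
    have e1 := htan (h1 + (1 : ℂ) • e) (by rw [f1 h1 1 hh1]; exact hψ)
    rw [f2 h1 _ hh1] at e0 e1
    have : (2 * t) * T f e e h1 = 0 := by linear_combination e1 - e0
    rcases mul_eq_zero.1 this with h' | h'
    · exact absurd (by simpa using h') ht
    · exact h'
  apply no_double hf hsm hA he hfe hh hhne hΛh hh0 hlam
  intro h2 hh2
  by_contra hne
  set ψ : V4 → ℂ := fun x => T f h h x + t ^ 2 * T f e e x with hψ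
  have hfix : A.mulVec (ψ h2 • h0 - ψ h0 • h2) = ψ h2 • h0 - ψ h0 • h2 := by
    rw [Matrix.mulVec_sub, Matrix.mulVec_smul, Matrix.mulVec_smul, hh0, hh2]
  have hzero : T f h h (ψ h2 • h0 - ψ h0 • h2) + t ^ 2 * T f e e (ψ h2 • h0 - ψ h0 • h2) = 0 := by
    simp only [T_sub_right, T_smul_right, hψ]
    ring
  have := claim _ hfix hzero
  simp only [T_sub_right, T_smul_right, hψ] at this
  apply hne
  linear_combination this

end line_on

theorem comm_of_line {f : MvPolynomial (Fin 4) ℂ} (hf : f.IsHomogeneous 3) (hsm : Smooth f)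
    {e e' : V4} (he : e ≠ 0) (he' : e' ∉ Submodule.span ℂ {e})
    (hE : IsEck f e) (hE' : IsEck f e')
    (hL : ∀ u ∈ Submodule.span ℂ {e, e'}, eval u f = 0)
    {A A' : Matrix (Fin 4) (Fin 4) ℂ} (hA : IsRefl f A e) (hA' : IsRefl f A' e') :
    (∃ c : ℂ, A * A' = c • (A' * A)) ∧ (∃ d : ℂ, A.mulVec e' = d • e') ∧
      (∃ d : ℂ, A'.mulVec e = d • e) := by
  have hfe := eck_eval hE
  have hfe' := eck_eval hE'
  have hne' := e'_ne_zero he'
  have hL' : ∀ u ∈ Submodule.span ℂ {e', e}, eval u f = 0 := by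
    intro u hu
    apply hL
    rwa [Set.pair_comm]
  have h1 : A.mulVec e' = e' := fixed_of_line hf hsm he he' hfe hfe' hL hA hA'
  have h2 : A'.mulVec e = e := fixed_of_line hf hsm hne' (e_not_mem he he') hfe' hfe hL' hA' hA
  refine ⟨⟨1, ?_⟩, ⟨1, by rw [h1, one_smul]⟩, ⟨1, by rw [h2, one_smul]⟩⟩
  rw [one_smul]
  apply matrix_ext_mulVec
  intro v
  obtain ⟨h, t, hh, rfl⟩ := refl_decomp hA.2.1 hA.2.2.1 he v
  obtain ⟨h', t', hh', hdec⟩ := refl_decomp hA'.2.1 hA'.2.2.1 hne' h
  have hAh' : A.mulVec h' = h' := by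
    have : h' = h - t' • e' := by rw [hdec]; abel
    rw [this, Matrix.mulVec_sub, hh, Matrix.mulVec_smul, h1]
  rw [hdec]
  simp only [← Matrix.mulVec_mulVec, Matrix.mulVec_add, Matrix.mulVec_smul, hh', hAh', h1, h2,
    hA.2.2.1, hA'.2.2.1, Matrix.mulVec_neg]

theorem refl_conj {f : MvPolynomial (Fin 4) ℂ} {A B : Matrix (Fin 4) (Fin 4) ℂ} {e p : V4}
    (hA : IsRefl f A e) (hB : IsRefl f B p) : IsRefl f (A * B * A) (A.mulVec p) := by
  have hAA := hA.1
  have hBB := hB.1
  have hAAv : ∀ v, A.mulVec (A.mulVec v) = v := by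
    intro v
    rw [Matrix.mulVec_mulVec, hAA, Matrix.one_mulVec]
  refine ⟨?_, ?_, ?_, ?_⟩
  · calc A * B * A * (A * B * A) = A * B * (A * A) * B * A := by simp only [Matrix.mul_assoc]
      _ = A * (B * B) * A := by rw [hAA, Matrix.mul_one]; simp only [Matrix.mul_assoc]
      _ = 1 := by rw [hBB, Matrix.mul_one, hAA]
  · let φ : V4 ≃ₗ[ℂ] V4 := Matrix.toLin'OfInv hAA hAA
    have hφ : ∀ v, φ v = A.mulVec v := fun v => by
      simp [φ, Matrix.toLin'OfInv, Matrix.toLin'_apply]
    have hker : LinearMap.ker (Matrix.toLin' (A * B * A) - LinearMap.id) =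
        (LinearMap.ker (Matrix.toLin' B - LinearMap.id)).map (φ : V4 →ₗ[ℂ] V4) := by
      ext v
      simp only [LinearMap.mem_ker, LinearMap.sub_apply, Matrix.toLin'_apply, LinearMap.id_apply,
        sub_eq_zero, Submodule.mem_map]
      constructor
      · intro h
        refine ⟨A.mulVec v, ?_, ?_⟩
        · rw [← Matrix.mulVec_mulVec, ← Matrix.mulVec_mulVec] at h
          have := congrArg A.mulVec h
          rw [hAAv] at this
          exact this
        · show φ (A.mulVec v) = v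
          rw [hφ, hAAv]
      · rintro ⟨w, hw, rfl⟩
        show (A * B * A).mulVec (φ w) = φ w
        rw [hφ, ← Matrix.mulVec_mulVec, ← Matrix.mulVec_mulVec, hAAv, hw]
    rw [hker, LinearEquiv.finrank_map_eq, hB.2.1]
  · rw [← Matrix.mulVec_mulVec, ← Matrix.mulVec_mulVec, hAAv, hB.2.2.1, Matrix.mulVec_neg]
  · obtain ⟨cA, hcA⟩ := refl_eval hA.2.2.2
    obtain ⟨cB, hcB⟩ := refl_eval hB.2.2.2
    refine ⟨cA * cB * cA, ?_⟩
    apply subst_eq_of_eval
    intro v
    rw [← Matrix.mulVec_mulVec, ← Matrix.mulVec_mulVec, hcA, hcB, hcA]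
    simp only [map_mul, eval_C]
    ring

theorem refl_smul {f : MvPolynomial (Fin 4) ℂ} {A : Matrix (Fin 4) (Fin 4) ℂ} {e : V4}
    (hA : IsRefl f A e) {y : ℂ} (hy : y ≠ 0) {p : V4} (hp : e = y • p) : IsRefl f A p := by
  refine ⟨hA.1, hA.2.1, ?_, hA.2.2.2⟩
  have h1 := hA.2.2.1
  rw [hp, Matrix.mulVec_smul] at h1
  have h2 : y⁻¹ • (y • A.mulVec p) = y⁻¹ • -(y • p) := by rw [h1]
  rw [smul_smul, inv_mul_cancel₀ hy, one_smul, smul_neg, smul_smul, inv_mul_cancel₀ hy,
    one_smul] at h2
  exact h2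

section three_eck

variable {f : MvPolynomial (Fin 4) ℂ} (hf : f.IsHomogeneous 3) (hsm : Smooth f)
  {e e' e'' : V4} (he : e ≠ 0) (he' : e' ∉ Submodule.span ℂ {e})
  (he''1 : e'' ∉ Submodule.span ℂ {e}) (he''2 : e'' ∉ Submodule.span ℂ {e'})
  (he''L : e'' ∈ Submodule.span ℂ {e, e'})
  (hE : IsEck f e) (hE' : IsEck f e') (hE'' : IsEck f e'')
  (hL : ¬ ∀ u ∈ Submodule.span ℂ {e, e'}, eval u f = 0)
  {A A' A'' : Matrix (Fin 4) (Fin 4) ℂ}
  (hA : IsRefl f A e) (hA' : IsRefl f A' e') (hA'' : IsRefl f A'' e'')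
include hf hsm he he' he''1 he''2 he''L hE hE' hE'' hL hA hA' hA''

theorem three_eck :
    (¬ ∃ c : ℂ, A * A' = c • (1 : Matrix (Fin 4) (Fin 4) ℂ)) ∧
      (∃ c : ℂ, (A * A') ^ 3 = c • (1 : Matrix (Fin 4) (Fin 4) ℂ)) ∧
      ∃ c : ℂ, A'' = c • (A * A' * A) := by
  have hne' := e'_ne_zero he'
  have hind := indep_of_not_mem_span he he'
  have hfe := eck_eval hE
  have hfe' := eck_eval hE'
  obtain ⟨h, t, hh, hdec⟩ := refl_decomp hA.2.1 hA.2.2.1 he e'
  obtain ⟨h', t', hh', hdec'⟩ := refl_decomp hA'.2.1 hA'.2.2.1 hne' e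
  have hb := beta_eq hf hsm he hE hA hh hdec
  have ha : T f e e e' = 2 * t' * T f e e' e' := by
    have := beta_eq hf hsm hne' hE' hA' hh' hdec'
    rw [T_symm13 f e e e', this, T_symm13 f e' e' e]
  have hline := eval_line hf hE hE'
  have hα : T f e e e' ≠ 0 := by
    intro hα
    apply hL
    intro u hu
    obtain ⟨x, y, rfl⟩ := Submodule.mem_span_pair.1 hu
    rw [hline, hb, hα]
    ring
  have h4 : 4 * t * t' = 1 := by
    have : (4 * t * t' - 1) * T f e e e' = 0 := by
      have h1 := ha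
      rw [hb] at h1
      linear_combination -h1
    rcases mul_eq_zero.1 this with h | h
    · linear_combination h
    · exact absurd h hα
  have ht' : t' ≠ 0 := by
    rintro rfl
    norm_num at h4
  have hAe' : A.mulVec e' = (-2 * t) • e + (1 : ℂ) • e' := by
    rw [hdec, refl_apply hA.2.2.1 hh]
    module
  have hA'e : A'.mulVec e = (1 : ℂ) • e + (-2 * t') • e' := by
    rw [hdec', refl_apply hA'.2.2.1 hh']
    module
  have hAe := hA.2.2.1
  have hA'e' := hA'.2.2.1
  have ge : (A * A').mulVec e = (-2 * t') • e' := by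
    rw [← Matrix.mulVec_mulVec, hA'e, Matrix.mulVec_add, Matrix.mulVec_smul, Matrix.mulVec_smul,
      hAe, hAe']
    have : (1 : ℂ) • -e + (-2 * t') • ((-2 * t) • e + (1 : ℂ) • e') =
        (4 * t * t' - 1) • e + (-2 * t') • e' := by module
    rw [this, h4, sub_self, zero_smul, zero_add]
  have ge' : (A * A').mulVec e' = (2 * t) • e + (-1 : ℂ) • e' := by
    rw [← Matrix.mulVec_mulVec, hA'e', Matrix.mulVec_neg, hAe']
    module
  have hg : ∀ v : V4, ∃ a b : ℂ, (A * A').mulVec v = v + a • e + b • e' := by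
    intro v
    obtain ⟨k', s', hk', rfl⟩ := refl_decomp hA'.2.1 hA'.2.2.1 hne' v
    obtain ⟨k, s, hk, hks⟩ := refl_decomp hA.2.1 hA.2.2.1 he k'
    refine ⟨-2 * s + 2 * t * s', -2 * s', ?_⟩
    rw [← Matrix.mulVec_mulVec, refl_apply hA'.2.2.1 hk', Matrix.mulVec_sub, Matrix.mulVec_smul,
      hAe', hks, refl_apply hA.2.2.1 hk]
    module
  refine ⟨?_, ⟨1, ?_⟩, ⟨1, ?_⟩⟩
  · rintro ⟨c, hc⟩
    have h1 := ge
    rw [hc, Matrix.smul_mulVec, Matrix.one_mulVec] at h1
    have : c • e + (2 * t') • e' = 0 := by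
      rw [h1]
      module
    have := (hind _ _ this).2
    exact ht' (by simpa using this)
  · rw [one_smul]
    apply matrix_ext_mulVec
    intro v
    rw [Matrix.one_mulVec, pow_succ, pow_succ, pow_one, ← Matrix.mulVec_mulVec,
      ← Matrix.mulVec_mulVec]
    obtain ⟨a, b, hab⟩ := hg v
    rw [hab]
    simp only [Matrix.mulVec_add, Matrix.mulVec_smul, ge, ge', hab]
    have : v + a • e + b • e' + a • (-2 * t') • e' + b • ((2 * t) • e + (-1 : ℂ) • e') +
        a • (-2 * t') • ((2 * t) • e + (-1 : ℂ) • e') +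
        b • ((2 * t) • (-2 * t') • e' + (-1 : ℂ) • ((2 * t) • e + (-1 : ℂ) • e')) =
        v + (a * (1 - 4 * t * t')) • e + (b * (1 - 4 * t * t')) • e' := by module
    rw [this, h4]
    simp
  · rw [one_smul]
    -- e'' is proportional to A e'
    obtain ⟨x, y, hxy⟩ := Submodule.mem_span_pair.1 he''L
    have hfe'' := eck_eval hE''
    rw [← hxy, hline, hb] at hfe''
    have hx : x ≠ 0 := by
      rintro rfl
      apply he''2
      rw [← hxy, zero_smul, zero_add]
      exact Submodule.smul_mem _ _ (Submodule.mem_span_singleton_self _)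
    have hy : y ≠ 0 := by
      rintro rfl
      apply he''1
      rw [← hxy, zero_smul, add_zero]
      exact Submodule.smul_mem _ _ (Submodule.mem_span_singleton_self _)
    have hx2 : x = -2 * t * y := by
      have : x * y * (x + 2 * t * y) * (3 * T f e e e') = 0 := by linear_combination hfe''
      rcases mul_eq_zero.1 this with h1 | h1
      · rcases mul_eq_zero.1 h1 with h2 | h2
        · rcases mul_eq_zero.1 h2 with h3 | h3
          · exact absurd h3 hx
          · exact absurd h3 hy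
        · linear_combination h2
      · exact absurd (by simpa using h1) hα
    have hprop : e'' = y • A.mulVec e' := by
      rw [← hxy, hAe', hx2]
      module
    have r1 : IsRefl f A'' (A.mulVec e') := refl_smul hA'' hy hprop
    have r2 : IsRefl f (A * A' * A) (A.mulVec e') := refl_conj hA hA'
    have hne : A.mulVec e' ≠ 0 := by
      intro h0
      apply he''1
      rw [hprop, h0, smul_zero]
      exact Submodule.zero_mem _
    have hf0 : eval (A.mulVec e') f = 0 := by
      obtain ⟨c, hc⟩ := refl_eval hA.2.2.2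
      rw [hc, hfe', mul_zero]
    exact refl_unique hf hsm r1 r2 hne hf0

end three_eck

end Groth.Agent.H9.Eckardt
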