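import Mathlib

/-!
# Non-vanishing of `Ext¹` between torsion-free modules on two curves meeting at a point
-/

set_option autoImplicit false

namespace Groth.Agent.H9.ExtCurve

open IsLocalRing

section Ring

variable (S : Type*) [CommRing S] [IsNoetherianRing S] [IsLocalRing S] [IsReduced S]

/-- A reduced Noetherian local ring of dimension one has a non-zero-divisor in its maximal ideal. -/
theorem exists_nzd_mem_maximalIdeal (hdim : ringKrullDim S = 1) :
    ∃ x ∈ maximalIdeal S, x ∈ nonZeroDivisors S := by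
  classical
  have hfin := minimalPrimes.finite_of_isNoetherianRing S
  have hnot : ¬ ((maximalIdeal S : Set S) ⊆ ⋃ p ∈ (hfin.toFinset : Set (Ideal S)), (p : Set S)) := by
    intro hsub
    rw [Ideal.subset_union_prime (maximalIdeal S) (maximalIdeal S)] at hsub
    · obtain ⟨p, hp, hle⟩ := hsub
      rw [Set.Finite.mem_toFinset] at hp
      have hpprime : p.IsPrime := hp.1.1
      have hpeq : p = maximalIdeal S :=
        ((maximalIdeal.isMaximal S).eq_of_le hpprime.ne_top hle).symm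
      have hpos : 0 < ringKrullDim S := by rw [hdim]; exact zero_lt_one
      obtain ⟨q0, q1, hq⟩ := Order.krullDim_pos_iff.1 hpos
      have h1 : q0.asIdeal < maximalIdeal S :=
        lt_of_lt_of_le hq (IsLocalRing.le_maximalIdeal q1.2.ne_top)
      have h2 := hp.2 ⟨q0.2, bot_le⟩ (hpeq ▸ h1.le)
      rw [hpeq] at h2
      exact absurd h2 (not_le_of_gt h1)
    · intro p hp _ _
      rw [Set.Finite.mem_toFinset] at hp
      exact hp.1.1
  rw [Set.not_subset] at hnot
  obtain ⟨x, hxm, hx⟩ := hnot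
  refine ⟨x, hxm, ?_⟩
  rw [mem_nonZeroDivisors_iff_right]
  intro y hy
  have hmem : y ∈ sInf (minimalPrimes S) := by
    rw [Ideal.mem_sInf]
    intro p hp
    have hxp : x ∉ p := by
      intro hxp
      apply hx
      simp only [Set.mem_iUnion]
      exact ⟨p, by simpa using hp, hxp⟩
    have : y * x ∈ p := by rw [hy]; exact zero_mem _
    exact (hp.1.1.mem_or_mem this).resolve_right hxp
  rw [minimalPrimes, Ideal.sInf_minimalPrimes] at hmem
  have : (⊥ : Ideal S).radical = ⊥ := nilradical_eq_zero S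
  rw [this] at hmem
  exact hmem

end Ring

section Main

universe u

open CategoryTheory CategoryTheory.Abelian

variable {R : Type u} [CommRing R] [IsNoetherianRing R] [IsLocalRing R]

theorem exists_nzd_of_quotient (Q : Ideal R) [IsReduced (R ⧸ Q)]
    (hQdim : ringKrullDim (R ⧸ Q) = 1) :
    ∃ x ∈ maximalIdeal R, Ideal.Quotient.mk Q x ∈ nonZeroDivisors (R ⧸ Q) := by
  haveI : Nontrivial (R ⧸ Q) := by
    by_contra h
    rw [not_nontrivial_iff_subsingleton] at h
    rw [ringKrullDim_eq_bot_of_subsingleton] at hQdim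
    exact absurd hQdim (by decide)
  haveI : IsLocalRing (R ⧸ Q) :=
    .of_surjective' (Ideal.Quotient.mk Q) Ideal.Quotient.mk_surjective
  obtain ⟨xbar, hxm, hx⟩ := exists_nzd_mem_maximalIdeal (R ⧸ Q) hQdim
  obtain ⟨x, rfl⟩ := Ideal.Quotient.mk_surjective xbar
  refine ⟨x, ?_, hx⟩
  rw [mem_maximalIdeal, mem_nonunits_iff] at hxm ⊢
  exact fun h => hxm (h.map _)

theorem eq_maximalIdeal_of_mem (Q : Ideal R) (hQdim : ringKrullDim (R ⧸ Q) = 1) (x : R)
    (hx : Ideal.Quotient.mk Q x ∈ nonZeroDivisors (R ⧸ Q)) (𝔭 : Ideal R) [𝔭.IsPrime]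
    (hQ𝔭 : Q ≤ 𝔭) (hx𝔭 : x ∈ 𝔭) : 𝔭 = maximalIdeal R := by
  have h1 := ringKrullDim_succ_le_of_surjective (Ideal.Quotient.factor hQ𝔭)
    (Ideal.Quotient.factor_surjective hQ𝔭) hx
    (by rw [Ideal.Quotient.factor_mk, Ideal.Quotient.eq_zero_iff_mem]; exact hx𝔭)
  rw [hQdim] at h1
  have h2 : ringKrullDim (R ⧸ 𝔭) ≤ 0 := by
    rw [← ENat.WithBot.add_le_add_one_right_iff]
    simpa using h1
  haveI : Ring.KrullDimLE 0 (R ⧸ 𝔭) := Ring.krullDimLE_iff.2 (by simpa using h2)
  have hf : IsField (R ⧸ 𝔭) := Ring.KrullDimLE.isField_of_isDomain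
  have hmax : 𝔭.IsMaximal := Ideal.Quotient.maximal_of_isField 𝔭 hf
  exact IsLocalRing.eq_maximalIdeal hmax

/-- A nonzero map from a nonzero finite module to a module with a nonzero socle element. -/
theorem exists_ne_zero_hom (I : Type u) [AddCommGroup I] [Module R I] [Module.Finite R I]
    [Nontrivial I] {N : Type u} [AddCommGroup N] [Module R N] (z : N) (hz : z ≠ 0)
    (hmz : ∀ r ∈ maximalIdeal R, r • z = 0) : ∃ g : I →ₗ[R] N, g ≠ 0 := by
  -- Nakayama
  have hne : (maximalIdeal R) • (⊤ : Submodule R I) ≠ ⊤ := by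
    intro h
    have : (⊤ : Submodule R I) = ⊥ :=
      Submodule.eq_bot_of_le_smul_of_le_jacobson_bot (maximalIdeal R) ⊤ Module.Finite.fg_top
        (le_of_eq h.symm) (IsLocalRing.maximalIdeal_le_jacobson ⊥)
    exact top_ne_bot this
  obtain ⟨y, -, hy⟩ := SetLike.exists_of_lt (lt_top_iff_ne_top.2 hne)
  letI : Field (R ⧸ maximalIdeal R) := Ideal.Quotient.field (maximalIdeal R)
  have hv : (Submodule.Quotient.mk y : I ⧸ (maximalIdeal R) • (⊤ : Submodule R I)) ≠ 0 := by
    rwa [Ne, Submodule.Quotient.mk_eq_zero]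
  obtain ⟨φ, hφ⟩ : ∃ φ : Module.Dual (R ⧸ maximalIdeal R)
      (I ⧸ (maximalIdeal R) • (⊤ : Submodule R I)), φ (Submodule.Quotient.mk y) ≠ 0 := by
    by_contra hcon
    push Not at hcon
    exact hv ((Module.forall_dual_apply_eq_zero_iff (R ⧸ maximalIdeal R) _).1 hcon)
  -- the map `k → N`, `c ↦ c z`
  let ψ : (R ⧸ maximalIdeal R) →ₗ[R] N :=
    Submodule.liftQ (maximalIdeal R) (LinearMap.toSpanSingleton R N z) (by
      intro r hr
      rw [LinearMap.mem_ker, LinearMap.toSpanSingleton_apply]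
      exact hmz r hr)
  -- `φ` as an `R`-linear map
  let φR : (I ⧸ (maximalIdeal R) • (⊤ : Submodule R I)) →ₗ[R] (R ⧸ maximalIdeal R) :=
    { toFun := fun v => φ v
      map_add' := fun a b => map_add φ a b
      map_smul' := fun r v => by
        have h1 : r • v = (Ideal.Quotient.mk (maximalIdeal R) r) • v := by
          obtain ⟨w, rfl⟩ := Submodule.Quotient.mk_surjective _ v
          rfl
        rw [h1, map_smul]
        rfl }
  refine ⟨ψ ∘ₗ φR ∘ₗ Submodule.mkQ _, ?_⟩
  intro h0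
  have h1 := LinearMap.congr_fun h0 y
  simp only [LinearMap.coe_comp, Function.comp_apply, Submodule.mkQ_apply,
    LinearMap.zero_apply] at h1
  obtain ⟨c, hc⟩ := Ideal.Quotient.mk_surjective (φ (Submodule.Quotient.mk y))
  have hcu : IsUnit c := by
    by_contra hcu
    have : c ∈ maximalIdeal R := hcu
    apply hφ
    rw [← hc]
    exact Ideal.Quotient.eq_zero_iff_mem.2 this
  have h2 : ψ (φR (Submodule.Quotient.mk y)) = c • z := by
    change ψ (φ (Submodule.Quotient.mk y)) = c • z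
    rw [← hc]
    rfl
  rw [h2] at h1
  apply hz
  obtain ⟨u, rfl⟩ := hcu
  rw [← one_smul R z, ← u.inv_mul, mul_smul, h1, smul_zero]

theorem pow_smul_injective {J : Type*} [AddCommGroup J] [Module R J] (x : R)
    (hx : ∀ y : J, x • y = 0 → y = 0) (n : ℕ) (y : J) (h : x ^ n • y = 0) : y = 0 := by
  induction n with
  | zero => simpa using h
  | succ n ih =>
    apply ih
    apply hx
    rw [← mul_smul, ← pow_succ']
    exact h

theorem main (P Q : Ideal R) (hPQ : ∃ n : ℕ, maximalIdeal R ^ n ≤ P ⊔ Q)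
    [IsReduced (R ⧸ Q)] (hQdim : ringKrullDim (R ⧸ Q) = 1)
    (I J : Type u) [AddCommGroup I] [Module R I] [Module.Finite R I] [Nontrivial I]
    [AddCommGroup J] [Module R J] [Module.Finite R J] [Nontrivial J]
    (hPI : ∀ p ∈ P, ∀ x : I, p • x = 0) (hQJ : ∀ q ∈ Q, ∀ y : J, q • y = 0)
    (hJtf : ∀ r : R, Ideal.Quotient.mk Q r ∈ nonZeroDivisors (R ⧸ Q) →
      ∀ y : J, r • y = 0 → y = 0) :
    Nontrivial (Abelian.Ext (ModuleCat.of R I) (ModuleCat.of R J) 1) := by
  obtain ⟨x, hxm, hx⟩ := exists_nzd_of_quotient Q hQdim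
  have hxinj : ∀ y : J, x • y = 0 → y = 0 := hJtf x hx
  set xJ : Submodule R J := LinearMap.range (LinearMap.lsmul R J x) with hxJ
  -- `J / xJ ≠ 0`
  haveI hN : Nontrivial (J ⧸ xJ) := by
    rw [Submodule.Quotient.nontrivial_iff]
    intro htop
    have h1 : (⊤ : Submodule R J) ≤ Ideal.span {x} • (⊤ : Submodule R J) := by
      rw [Submodule.ideal_span_singleton_smul]
      intro y _
      have : y ∈ xJ := by rw [htop]; trivial
      obtain ⟨w, rfl⟩ := this
      exact Submodule.smul_mem_pointwise_smul w x ⊤ trivial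
    have h2 : (⊤ : Submodule R J) = ⊥ :=
      Submodule.eq_bot_of_le_smul_of_le_jacobson_bot (Ideal.span {x}) ⊤ Module.Finite.fg_top h1
        (((Ideal.span_singleton_le_iff_mem _).2 hxm).trans
          (IsLocalRing.maximalIdeal_le_jacobson ⊥))
    exact top_ne_bot h2
  -- an associated prime of `J / xJ`
  obtain ⟨𝔭, h𝔭⟩ := associatedPrimes.nonempty R (J ⧸ xJ)
  rw [AssociatedPrimes.mem_iff, isAssociatedPrime_iff] at h𝔭
  obtain ⟨h𝔭prime, z, h𝔭z⟩ := h𝔭
  have hmem : ∀ r : R, r ∈ 𝔭 ↔ r • z = 0 := by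
    intro r
    rw [h𝔭z, Submodule.mem_colon_singleton, Submodule.mem_bot]
  have hz : z ≠ 0 := by
    intro hz0
    apply h𝔭prime.ne_top
    rw [Ideal.eq_top_iff_one, hmem, hz0, smul_zero]
  have hQ𝔭 : Q ≤ 𝔭 := by
    intro q hq
    rw [hmem]
    obtain ⟨w, rfl⟩ := Submodule.Quotient.mk_surjective _ z
    rw [← Submodule.Quotient.mk_smul, hQJ q hq w, Submodule.Quotient.mk_zero]
  have hx𝔭 : x ∈ 𝔭 := by
    rw [hmem]
    obtain ⟨w, rfl⟩ := Submodule.Quotient.mk_surjective _ z
    rw [← Submodule.Quotient.mk_smul, Submodule.Quotient.mk_eq_zero]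
    exact ⟨w, rfl⟩
  have h𝔭m : 𝔭 = maximalIdeal R := eq_maximalIdeal_of_mem Q hQdim x hx 𝔭 hQ𝔭 hx𝔭
  have hmz : ∀ r ∈ maximalIdeal R, r • z = 0 := fun r hr => (hmem r).1 (h𝔭m ▸ hr)
  obtain ⟨g, hg⟩ := exists_ne_zero_hom I z hz hmz
  -- `Hom(I, J) = 0`
  have hhom : ∀ f : I →ₗ[R] J, f = 0 := by
    intro f
    obtain ⟨n, hn⟩ := hPQ
    have hxn : x ^ n ∈ P ⊔ Q := hn (Ideal.pow_mem_pow hxm n)
    obtain ⟨a, ha, b, hb, hab⟩ := Submodule.mem_sup.1 hxn
    ext y
    apply pow_smul_injective x hxinj n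
    rw [← hab, add_smul, hQJ b hb, add_zero, ← map_smul, hPI a ha, map_zero]
  -- the short exact sequence `0 → J → J → J / xJ → 0`
  by_contra hsub
  rw [not_nontrivial_iff_subsingleton] at hsub
  let S : ShortComplex (ModuleCat.{u} R) :=
    ShortComplex.mk (ModuleCat.ofHom (LinearMap.lsmul R J x)) (ModuleCat.ofHom xJ.mkQ) (by
      rw [← ModuleCat.ofHom_comp]
      have : xJ.mkQ ∘ₗ LinearMap.lsmul R J x = 0 := by
        ext y
        simp only [LinearMap.coe_comp, Function.comp_apply, Submodule.mkQ_apply,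
          LinearMap.zero_apply, Submodule.Quotient.mk_eq_zero]
        exact ⟨y, rfl⟩
      rw [this]
      rfl)
  have hS : S.ShortExact := by
    refine ModuleCat.shortComplex_shortExact _ ?_ ?_ (Submodule.mkQ_surjective _)
    · intro y
      change xJ.mkQ y = 0 ↔ y ∈ Set.range (LinearMap.lsmul R J x)
      rw [Submodule.mkQ_apply, Submodule.Quotient.mk_eq_zero]
      rfl
    · intro a b hab
      have h1 : x • (a - b) = 0 := by
        rw [smul_sub, sub_eq_zero]
        exact hab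
      exact sub_eq_zero.1 (hxinj _ h1)
  obtain ⟨x₂, hx₂⟩ := Ext.covariant_sequence_exact₃ (ModuleCat.of R I) hS
    (Ext.mk₀ (ModuleCat.ofHom g)) (zero_add 1) (Subsingleton.elim _ _)
  obtain ⟨f, rfl⟩ := (Ext.mk₀_bijective _ _).2 x₂
  have hf0 : f = 0 := by
    apply ModuleCat.hom_ext
    exact hhom f.hom
  rw [hf0, Ext.mk₀_zero, Ext.zero_comp] at hx₂
  have h3 : ModuleCat.ofHom g = 0 := (Ext.mk₀_bijective _ _).1 (by rw [← hx₂, Ext.mk₀_zero])
  apply hg
  have := congrArg ModuleCat.Hom.hom h3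
  simpa using this

end Main

end Groth.Agent.H9.ExtCurve
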