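import Mathlib
import Groth.Prelude.Def_GLin
import Groth.Prelude.Def_GLin2
import Groth.Prelude.Def_ComodSub
import Groth.Prelude.Def_ComodTens
import Groth.Agent.Lib.Helper9.Comod
import Groth.Agent.Lib.Helper9.ComodReynolds
import Groth.Agent.Lib.Helper9.ComodInv
import Groth.Agent.Lib.Helper9.ComodInvRing
import Groth.Agent.Lib.Helper9.ComodMatLine
import Groth.Agent.Lib.Helper9.ComodHilbert
import Groth.Agent.Lib.Helper9.ComodIntegral

/-!
# The relative form of Hilbert's finiteness theorem for linearly reductive groups (helper9)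

`A` a Noetherian comodule algebra, `C` a comodule algebra of finite type over `A`: then `C^G` is
finitely generated over `A^G`.
-/

set_option autoImplicit false
set_option linter.style.haveILetI false
set_option linter.unusedSectionVars false

universe u v w w'

open TensorProduct MvPolynomial

namespace Groth.Agent.H9.RelHilbert

open Groth.Agent.H9.Comod Groth.Agent.H9.InvRing Groth.Agent.H9.MatLine

section Struct

variable {k : Type u} [Field k] {H : Type v} [CommRing H] [Bialgebra k H]
  {A : Type w} [CommRing A] [Algebra k A] [HopfRep.Comod k H A] [GLin.IsCoactAlg k H A]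
  {σ : Type w'} [Fintype σ] [DecidableEq σ] (M : Matrix σ σ H)

/-- the coaction on `A[x]` extending that of `A` with `x_i ↦ Σ_j x_j ⊗ M_ji` -/
noncomputable def coactAlg : MvPolynomial σ A →ₐ[k] MvPolynomial σ A ⊗[k] H :=
  MvPolynomial.aevalTower
    ((Algebra.TensorProduct.map (IsScalarTower.toAlgHom k A (MvPolynomial σ A))
      (AlgHom.id k H)).comp (GLin.coactAlgHom k H A))
    (fun i => ∑ j, (X j : MvPolynomial σ A) ⊗ₜ[k] M j i)

lemma coactAlg_X (i : σ) :
    coactAlg (k := k) (A := A) M (X i) = ∑ j, (X j : MvPolynomial σ A) ⊗ₜ[k] M j i :=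
  MvPolynomial.aevalTower_X _ _ _

lemma coactAlg_C (a : A) :
    coactAlg (k := k) (A := A) M (C a) =
      LinearMap.rTensor H (IsScalarTower.toAlgHom k A (MvPolynomial σ A)).toLinearMap
        (HopfRep.Comod.coact (k := k) (A := H) a) := by
  rw [coactAlg, MvPolynomial.aevalTower_C]
  rfl

lemma coactAlg_comp_C :
    (coactAlg (k := k) (A := A) M).toLinearMap ∘ₗ
        (IsScalarTower.toAlgHom k A (MvPolynomial σ A)).toLinearMap =
      LinearMap.rTensor H (IsScalarTower.toAlgHom k A (MvPolynomial σ A)).toLinearMap ∘ₗ
        HopfRep.Comod.coact (k := k) (A := H) (V := A) := by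
  apply LinearMap.ext
  intro a
  exact coactAlg_C M a

variable {M}

theorem coactAlg_coassoc (hM : IsMult (k := k) M) :
    (Algebra.TensorProduct.assoc k k k (MvPolynomial σ A) H H).toAlgHom.comp
        ((Algebra.TensorProduct.map (coactAlg (k := k) (A := A) M) (AlgHom.id k H)).comp
          (coactAlg M)) =
      (Algebra.TensorProduct.map (AlgHom.id k _) (Bialgebra.comulAlgHom k H)).comp
        (coactAlg M) := by
  apply MvPolynomial.algHom_ext'
  · apply AlgHom.ext
    intro a
    exact ComodTens.coassoc_apply_of_hom (inferInstance : HopfRep.Comod k H A)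
      (coactAlg (k := k) (A := A) M).toLinearMap _ (coactAlg_comp_C M) a
  · intro i
    simp only [AlgHom.comp_apply, coactAlg_X, map_sum, Algebra.TensorProduct.map_tmul,
      AlgHom.id_apply, TensorProduct.sum_tmul, TensorProduct.tmul_sum,
      Bialgebra.comulAlgHom_apply, hM.comul]
    exact Finset.sum_comm

theorem coactAlg_counit (hM : IsMult (k := k) M) :
    (Algebra.TensorProduct.rid k k (MvPolynomial σ A)).toAlgHom.comp
        ((Algebra.TensorProduct.map (AlgHom.id k _) (Bialgebra.counitAlgHom k H)).comp
          (coactAlg (k := k) (A := A) M)) = AlgHom.id k _ := by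
  apply MvPolynomial.algHom_ext'
  · apply AlgHom.ext
    intro a
    have := ComodTens.counit_apply_of_hom (inferInstance : HopfRep.Comod k H A)
      (coactAlg (k := k) (A := A) M).toLinearMap _ (coactAlg_comp_C M) a
    have h2 := congrArg (Algebra.TensorProduct.rid k k (MvPolynomial σ A)) this
    refine h2.trans ?_
    simp
  · intro i
    simp [coactAlg_X, Bialgebra.counitAlgHom_apply, hM.counit, Finset.sum_ite_eq', tmul_ite]

/-- the comodule structure on `A[x]` -/
@[reducible] noncomputable def polyComod (hM : IsMult (k := k) M) :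
    HopfRep.Comod k H (MvPolynomial σ A) where
  coact := (coactAlg (k := k) (A := A) M).toLinearMap
  coassoc := by
    refine LinearMap.ext fun p => ?_
    exact congrArg (fun φ => φ p) (coactAlg_coassoc (A := A) hM)
  counit_comp := by
    refine LinearMap.ext fun p => ?_
    have h' : (Algebra.TensorProduct.rid k k (MvPolynomial σ A))
        (LinearMap.lTensor (MvPolynomial σ A) (CoalgebraStruct.counit (R := k) (A := H))
          (coactAlg (k := k) (A := A) M p)) = p :=
      congrArg (fun φ => φ p) (coactAlg_counit (A := A) hM)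
    apply (Algebra.TensorProduct.rid k k (MvPolynomial σ A)).injective
    simpa using h'

theorem polyComod_coact (hM : IsMult (k := k) M) (p : MvPolynomial σ A) :
    (polyComod (A := A) hM).coact p = coactAlg (k := k) (A := A) M p := rfl

theorem polyComod_isCoactAlg (hM : IsMult (k := k) M) :
    letI := polyComod (A := A) hM; GLin.IsCoactAlg k H (MvPolynomial σ A) := by
  letI := polyComod (A := A) hM
  exact ⟨by simp [polyComod_coact], fun f g => by simp [polyComod_coact]⟩

end Struct

section Graded

variable {k : Type u} [Field k] {H : Type v} [CommRing H] [Bialgebra k H]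
  {A : Type w} [CommRing A] [Algebra k A] {σ : Type w'}
  [HopfRep.Comod k H (MvPolynomial σ A)] [GLin.IsCoactAlg k H (MvPolynomial σ A)]

/-- the degree `d` part of `A[x] ⊗ H` -/
noncomputable def T (k : Type u) [Field k] (H : Type v) [CommRing H] [Bialgebra k H]
    (A : Type w) [CommRing A] [Algebra k A] (σ : Type w') (d : ℕ) :
    Submodule k (MvPolynomial σ A ⊗[k] H) :=
  LinearMap.range (((homogeneousSubmodule σ A d).restrictScalars k).subtype.rTensor H)

lemma T_mul {d e : ℕ} {y z : MvPolynomial σ A ⊗[k] H} (hy : y ∈ T k H A σ d)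
    (hz : z ∈ T k H A σ e) : y * z ∈ T k H A σ (d + e) := by
  obtain ⟨y', rfl⟩ := hy
  obtain ⟨z', rfl⟩ := hz
  induction y' using TensorProduct.induction_on with
  | zero => simp
  | add y₁ y₂ h₁ h₂ =>
    rw [map_add, add_mul]
    exact Submodule.add_mem _ h₁ h₂
  | tmul p a =>
    induction z' using TensorProduct.induction_on with
    | zero => simp
    | add z₁ z₂ h₁ h₂ =>
      rw [map_add, mul_add]
      exact Submodule.add_mem _ h₁ h₂
    | tmul q b =>
      simp only [LinearMap.rTensor_tmul, Submodule.subtype_apply,
        Algebra.TensorProduct.tmul_mul_tmul]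
      exact ⟨(⟨(p : MvPolynomial σ A) * q, p.2.mul q.2⟩ :
        (homogeneousSubmodule σ A (d + e)).restrictScalars k) ⊗ₜ[k] (a * b), rfl⟩

/-- if the coaction maps constants to degree `0` and variables to degree `1`, all homogeneous parts
are subcomodules -/
theorem isSubcomod_homogeneous
    (h0 : ∀ a : A, HopfRep.Comod.coact (k := k) (A := H) (C a : MvPolynomial σ A) ∈ T k H A σ 0)
    (h1 : ∀ i : σ, HopfRep.Comod.coact (k := k) (A := H) (X i : MvPolynomial σ A) ∈
      T k H A σ 1) (d : ℕ) :
    HopfRep.IsSubcomod (k := k) (A := H) ((homogeneousSubmodule σ A d).restrictScalars k) := by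
  have hlin : ∀ b ∈ homogeneousSubmodule σ A 1,
      HopfRep.Comod.coact (k := k) (A := H) b ∈ T k H A σ 1 := by
    intro b hb
    rw [homogeneousSubmodule_one_eq_span_X] at hb
    induction hb using Submodule.span_induction with
    | mem x hx =>
      obtain ⟨i, rfl⟩ := hx
      exact h1 i
    | zero => simp
    | add x y _ _ hx hy => rw [map_add]; exact Submodule.add_mem _ hx hy
    | smul c x _ hx =>
      rw [MvPolynomial.smul_eq_C_mul, GLin.IsCoactAlg.coact_mul (k := k) (A := H)]
      have := T_mul (h0 c) hx
      rwa [zero_add] at this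
  induction d with
  | zero =>
    intro p hp
    rw [Submodule.restrictScalars_mem, homogeneousSubmodule_zero, Submodule.mem_one] at hp
    obtain ⟨c, rfl⟩ := hp
    exact h0 c
  | succ d ih =>
    intro p hp
    rw [Submodule.restrictScalars_mem, ← homogeneousSubmodule_one_pow, pow_succ,
      homogeneousSubmodule_one_pow] at hp
    induction hp using Submodule.mul_induction_on' with
    | mem_mul_mem a ha b hb =>
      rw [GLin.IsCoactAlg.coact_mul (k := k) (A := H)]
      exact T_mul (ih a ha) (hlin b hb)
    | add x _ y _ hx hy =>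
      rw [map_add]
      exact Submodule.add_mem _ hx hy

/-- homogeneous components of invariants are invariant, when the grading is stable -/
theorem homogeneousComponent_mem_fixedPts
    (hss : HopfRep.IsSemisimpleComod k H (MvPolynomial σ A))
    (hsub : ∀ d, HopfRep.IsSubcomod (k := k) (A := H)
      ((homogeneousSubmodule σ A d).restrictScalars k))
    {f : MvPolynomial σ A} (hfix : f ∈ HopfRep.fixedPts k H (MvPolynomial σ A)) (j : ℕ) :
    homogeneousComponent j f ∈ HopfRep.fixedPts k H (MvPolynomial σ A) := by
  classical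
  obtain ⟨E, hE₁, hE₂, hE₃⟩ := exists_reynolds hss
  have hEH : ∀ d p, p ∈ homogeneousSubmodule σ A d → E p ∈ homogeneousSubmodule σ A d :=
    fun d p hp => reynolds_mem_of_isSubcomod hss E hE₁ hE₂ hE₃ _ (hsub d) hp
  have hEfix : ∀ p, E p ∈ HopfRep.fixedPts k H (MvPolynomial σ A) :=
    reynolds_mem_fixedPts E hE₂ hE₃
  have hEf : E f = f := (hE₃ f).mpr hfix
  have h1 : homogeneousComponent j (E f) = E (homogeneousComponent j f) := by
    conv_lhs => rw [← sum_homogeneousComponent f, map_sum, map_sum]
    rw [Finset.sum_eq_single j]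
    · rw [homogeneousComponent_of_mem (hEH j _ (homogeneousComponent_mem j f)), if_pos rfl]
    · intro i _ hij
      rw [homogeneousComponent_of_mem (hEH i _ (homogeneousComponent_mem i f)),
        if_neg (fun h => hij h.symm)]
    · intro hj
      have : homogeneousComponent j f = 0 := by
        apply homogeneousComponent_eq_zero
        rw [Finset.mem_range, not_lt] at hj
        omega
      rw [this, map_zero, map_zero]
  rw [hEf] at h1
  rw [h1]
  exact hEfix _

/-- **relative Hilbert finiteness**, graded form -/
theorem exists_finset_invariants [Finite σ] [IsNoetherianRing A]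
    (hss : HopfRep.IsSemisimpleComod k H (MvPolynomial σ A))
    (hsub : ∀ d, HopfRep.IsSubcomod (k := k) (A := H)
      ((homogeneousSubmodule σ A d).restrictScalars k))
    (I0 : Set (MvPolynomial σ A))
    (hI0 : ∀ a : A, (C a : MvPolynomial σ A) ∈ HopfRep.fixedPts k H (MvPolynomial σ A) →
      (C a : MvPolynomial σ A) ∈ I0) :
    ∃ s : Finset (MvPolynomial σ A),
      (∀ f ∈ s, f ∈ HopfRep.fixedPts k H (MvPolynomial σ A)) ∧
      ∀ f ∈ HopfRep.fixedPts k H (MvPolynomial σ A),
        f ∈ Algebra.adjoin k (I0 ∪ (s : Set (MvPolynomial σ A))) := by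
  classical
  obtain ⟨E, hE₁, hE₂, hE₃⟩ := exists_reynolds hss
  have hEH : ∀ d p, p ∈ homogeneousSubmodule σ A d → E p ∈ homogeneousSubmodule σ A d :=
    fun d p hp => reynolds_mem_of_isSubcomod hss E hE₁ hE₂ hE₃ _ (hsub d) hp
  have hEfix : ∀ p, E p ∈ HopfRep.fixedPts k H (MvPolynomial σ A) :=
    reynolds_mem_fixedPts E hE₂ hE₃
  have hEmul : ∀ (r c : MvPolynomial σ A), c ∈ HopfRep.fixedPts k H (MvPolynomial σ A) →
      E (c * r) = c * E r :=
    fun r c hc => reynolds_mul_of_mem_invariants hss E hE₁ hE₂ hE₃ r hc
  let Gen : Set (MvPolynomial σ A) :=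
    {f | f ∈ HopfRep.fixedPts k H (MvPolynomial σ A) ∧ ∃ d, 0 < d ∧ f.IsHomogeneous d}
  have hJfg : (Ideal.span Gen).FG := (isNoetherianRing_iff_ideal_fg _).mp inferInstance _
  obtain ⟨s, hsGen, hspan⟩ := (Submodule.fg_span_iff_fg_span_finset_subset Gen).mp hJfg
  refine ⟨s, fun f hf => (hsGen hf).1, ?_⟩
  have key : ∀ d : ℕ, ∀ f : MvPolynomial σ A, f ∈ HopfRep.fixedPts k H (MvPolynomial σ A) →
      f.IsHomogeneous d → f ∈ Algebra.adjoin k (I0 ∪ (s : Set (MvPolynomial σ A))) := by
    intro d
    induction d using Nat.strong_induction_on with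
    | _ d ih =>
    intro f hfix hhom
    rcases Nat.eq_zero_or_pos d with h0 | hpos
    · subst h0
      have : f ∈ homogeneousSubmodule σ A 0 := hhom
      rw [homogeneousSubmodule_zero, Submodule.mem_one] at this
      obtain ⟨c, rfl⟩ := this
      exact Algebra.subset_adjoin (Or.inl (hI0 c hfix))
    · have hfJ : f ∈ Submodule.span (MvPolynomial σ A) (s : Set (MvPolynomial σ A)) := by
        have : f ∈ Ideal.span Gen := Ideal.subset_span ⟨hfix, d, hpos, hhom⟩
        rw [Ideal.span, hspan] at this
        exact this
      obtain ⟨a, -, ha⟩ := Submodule.mem_span_finset.mp hfJ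
      have hdeg : ∀ g ∈ s, ∃ e, 0 < e ∧ g.IsHomogeneous e := fun g hg => (hsGen hg).2
      let e : MvPolynomial σ A → ℕ := fun g => if hg : g ∈ s then (hdeg g hg).choose else 0
      have he : ∀ g ∈ s, 0 < e g ∧ g.IsHomogeneous (e g) := by
        intro g hg
        simp only [e, dif_pos hg]
        exact (hdeg g hg).choose_spec
      let b : MvPolynomial σ A → MvPolynomial σ A := fun g =>
        if e g ≤ d then homogeneousComponent (d - e g) (a g) else 0
      have hf1 : f = ∑ g ∈ s, b g * g := by
        have h1 : homogeneousComponent d f = f := by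
          rw [homogeneousComponent_of_mem hhom, if_pos rfl]
        rw [← h1, ← ha, map_sum]
        refine Finset.sum_congr rfl fun g hg => ?_
        rw [smul_eq_mul,
          Groth.Agent.H9.Hilbert.homogeneousComponent_mul_of_isHomogeneous _ _ (he g hg).2]
        simp only [b]
        split_ifs
        · rfl
        · rw [zero_mul]
      have hf2 : f = ∑ g ∈ s, g * E (b g) := by
        have h2 : E f = f := (hE₃ f).mpr hfix
        rw [← h2]
        conv_lhs => rw [hf1]
        rw [map_sum]
        refine Finset.sum_congr rfl fun g hg => ?_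
        rw [mul_comm, hEmul _ _ (hsGen hg).1]
      rw [hf2]
      refine Subalgebra.sum_mem _ fun g hg => ?_
      refine Subalgebra.mul_mem _ (Algebra.subset_adjoin (Or.inr hg)) ?_
      by_cases hed : e g ≤ d
      · have hb : b g = homogeneousComponent (d - e g) (a g) := by simp only [b, if_pos hed]
        have hlt : d - e g < d := Nat.sub_lt hpos (he g hg).1
        apply ih (d - e g) hlt _ (hEfix _)
        apply hEH
        rw [hb]
        exact homogeneousComponent_mem _ _
      · have hb : b g = 0 := by simp only [b, if_neg hed]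
        rw [hb, map_zero]
        exact Subalgebra.zero_mem _
  intro f hfix
  rw [← sum_homogeneousComponent f]
  refine Subalgebra.sum_mem _ fun j _ => ?_
  exact key j _ (homogeneousComponent_mem_fixedPts hss hsub hfix j)
    (homogeneousComponent_isHomogeneous j f)

end Graded

section Relative

variable {k : Type u} [Field k] {H : Type v} [CommRing H] [HopfAlgebra k H]
  {A : Type w} [CommRing A] [Algebra k A] [HopfRep.Comod k H A] [GLin.IsCoactAlg k H A]
  {R : Type w'} [CommRing R] [Algebra k R] [HopfRep.Comod k H R] [GLin.IsCoactAlg k H R]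
  [Algebra A R] [IsScalarTower k A R]

/-- **relative Hilbert finiteness** for a group with a normalised integral: `R^G` is finitely
generated over `A^G` -/
theorem exists_finset_invariants_relative_of_integral [IsNoetherianRing A]
    [Algebra.FiniteType A R]
    {α : H →ₗ[k] k} (hα : Groth.Agent.H9.Integral.IsIntegral α) (hα1 : α 1 = 1)
    (hAR : Hoch.IsComodHom H (IsScalarTower.toAlgHom k A R).toLinearMap) :
    ∃ s : Finset R, GLin.invariants k H R =
      Algebra.adjoin k (⇑(algebraMap A R) '' ↑(GLin.invariants k H A) ∪ ↑s) := by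
  classical
  obtain ⟨t, ht⟩ := (Algebra.FiniteType.out : (⊤ : Subalgebra A R).FG)
  set U : Submodule k R := gen H (Submodule.span k (t : Set R)) with hUdef
  have hU : HopfRep.IsSubcomod (k := k) (A := H) U := isSubcomod_gen _
  have hUfg : U.FG := fg_gen _ (Submodule.fg_span t.finite_toSet)
  haveI : Module.Finite k U := Module.Finite.iff_fg.mpr hUfg
  have htU : (t : Set R) ⊆ U := fun x hx => le_gen _ (Submodule.subset_span hx)
  let cR : HopfRep.Comod k H R := inferInstance
  let cA : HopfRep.Comod k H A := inferInstance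
  let cU : HopfRep.Comod k H U := ComodSub.Comod.restr cR U hU
  let m := Module.finrank k U
  let b : Module.Basis (Fin m) k U := Module.finBasis k U
  let M : Matrix (Fin m) (Fin m) H := mat cU b
  have hM : IsMult (k := k) M := isMult_mat cU b
  let cS : HopfRep.Comod k H (MvPolynomial (Fin m) A) := polyComod (A := A) hM
  letI := cS
  haveI hCA : GLin.IsCoactAlg k H (MvPolynomial (Fin m) A) := polyComod_isCoactAlg (A := A) hM
  have hX : ∀ i : Fin m, HopfRep.Comod.coact (k := k) (A := H) (X i : MvPolynomial (Fin m) A) =
      ∑ j, X j ⊗ₜ[k] M j i := fun i => coactAlg_X M i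
  have hCc : ∀ a : A, HopfRep.Comod.coact (k := k) (A := H) (C a : MvPolynomial (Fin m) A) =
      LinearMap.rTensor H (IsScalarTower.toAlgHom k A (MvPolynomial (Fin m) A)).toLinearMap
        (cA.coact a) := fun a => coactAlg_C M a
  have hbR : ∀ i : Fin m, HopfRep.Comod.coact (k := k) (A := H) ((b i : U) : R) =
      ∑ j, ((b j : U) : R) ⊗ₜ[k] M j i := by
    intro i
    have h := ComodSub.restr_coact_coe cR U hU (b i)
    rw [coact_basis cU b i, map_sum] at h
    rw [← h]
    rfl
  let φ : MvPolynomial (Fin m) A →ₐ[A] R := aeval (fun i => ((b i : U) : R))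
  let φk : MvPolynomial (Fin m) A →ₐ[k] R := φ.restrictScalars k
  have hφC : ∀ a : A, φk (C a) = algebraMap A R a := fun a => by
    show φ (C a) = _
    simp only [φ, aeval_C]
  have hφ : Hoch.IsComodHom H φk.toLinearMap := by
    have h1 : (GLin.coactAlgHom k H R).comp φk =
        (Algebra.TensorProduct.map φk (AlgHom.id k H)).comp
          (GLin.coactAlgHom k H (MvPolynomial (Fin m) A)) := by
      apply MvPolynomial.algHom_ext'
      · apply AlgHom.ext
        intro a
        show cR.coact (φk (C a)) =
          Algebra.TensorProduct.map φk (AlgHom.id k H)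
            (HopfRep.Comod.coact (k := k) (A := H) (C a : MvPolynomial (Fin m) A))
        rw [hφC, hCc]
        have h2 := LinearMap.congr_fun hAR a
        rw [LinearMap.comp_apply, LinearMap.comp_apply] at h2
        refine h2.trans ?_
        generalize cA.coact a = y
        induction y using TensorProduct.induction_on with
        | zero => simp
        | add x y hx hy => simp only [map_add, hx, hy]
        | tmul a' h' =>
          simp only [LinearMap.rTensor_tmul, AlgHom.toLinearMap_apply,
            Algebra.TensorProduct.map_tmul, AlgHom.id_apply, IsScalarTower.coe_toAlgHom']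
          rw [MvPolynomial.algebraMap_eq, hφC]
      · intro i
        simp only [AlgHom.comp_apply, GLin.coactAlgHom_apply]
        rw [hX, map_sum]
        simp only [φk, φ, AlgHom.restrictScalars_apply, aeval_X, Algebra.TensorProduct.map_tmul,
          AlgHom.id_apply]
        exact hbR i
    apply LinearMap.ext
    intro p
    exact congrArg (fun f => f p) h1
  have hsurj : Function.Surjective φk := by
    have : Function.Surjective φ := by
      rw [← AlgHom.range_eq_top, eq_top_iff, ← ht, Algebra.adjoin_le_iff]
      intro x hx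
      have hxU : x ∈ U := htU hx
      have : x = φ (∑ i, C (algebraMap k A (b.repr ⟨x, hxU⟩ i)) * X i) := by
        rw [map_sum]
        simp only [φ, map_mul, aeval_C, aeval_X]
        have h2 := congrArg (Submodule.subtype U) (b.sum_repr ⟨x, hxU⟩)
        rw [map_sum] at h2
        simp only [map_smul, Submodule.subtype_apply] at h2
        refine h2.symm.trans ?_
        refine Finset.sum_congr rfl fun i _ => ?_
        rw [Algebra.smul_def, IsScalarTower.algebraMap_apply k A R]
      rw [this]
      exact ⟨_, rfl⟩
    exact this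
  have hss : HopfRep.IsSemisimpleComod k H (MvPolynomial (Fin m) A) :=
    Groth.Agent.H9.Integral.isSemisimpleComod_of_integral hα hα1
  have h0 : ∀ a : A, HopfRep.Comod.coact (k := k) (A := H) (C a : MvPolynomial (Fin m) A) ∈
      T k H A (Fin m) 0 := by
    intro a
    rw [hCc]
    generalize cA.coact a = y
    induction y using TensorProduct.induction_on with
    | zero => simp
    | add x y hx hy => rw [map_add]; exact Submodule.add_mem _ hx hy
    | tmul a' h' =>
      exact ⟨(⟨C a', isHomogeneous_C _ a'⟩ :
        (homogeneousSubmodule (Fin m) A 0).restrictScalars k) ⊗ₜ[k] h', rfl⟩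
  have hT : ∀ i : Fin m, HopfRep.Comod.coact (k := k) (A := H) (X i : MvPolynomial (Fin m) A) ∈
      T k H A (Fin m) 1 := by
    intro i
    rw [hX]
    refine Submodule.sum_mem _ fun j _ => ?_
    exact ⟨(⟨X j, isHomogeneous_X A j⟩ :
      (homogeneousSubmodule (Fin m) A 1).restrictScalars k) ⊗ₜ[k] M j i, rfl⟩
  let I0 : Set (MvPolynomial (Fin m) A) := C '' (GLin.invariants k H A : Set A)
  have hI0 : ∀ a : A, (C a : MvPolynomial (Fin m) A) ∈
      HopfRep.fixedPts k H (MvPolynomial (Fin m) A) → (C a : MvPolynomial (Fin m) A) ∈ I0 := by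
    intro a ha
    refine ⟨a, ?_, rfl⟩
    have h1 : HopfRep.Comod.coact (k := k) (A := H) (C a : MvPolynomial (Fin m) A) =
        (C a : MvPolynomial (Fin m) A) ⊗ₜ[k] (1 : H) := ha
    rw [hCc] at h1
    have hinj : Function.Injective (LinearMap.rTensor H
        (IsScalarTower.toAlgHom k A (MvPolynomial (Fin m) A)).toLinearMap) := by
      apply Module.Flat.rTensor_preserves_injective_linearMap
      intro x y hxy
      exact MvPolynomial.C_injective (Fin m) A hxy
    apply hinj
    rw [h1, LinearMap.rTensor_tmul]
    rfl
  obtain ⟨s₀, hs₁, hs₂⟩ := exists_finset_invariants hss (isSubcomod_homogeneous h0 hT) I0 hI0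
  refine ⟨s₀.image φk, ?_⟩
  apply le_antisymm
  · intro f hf
    obtain ⟨g, hg, rfl⟩ := exists_fixedPts_map_eq hss hφ hsurj
      (show f ∈ HopfRep.fixedPts k H R from hf)
    have h3 := hs₂ g hg
    have h4 : φk g ∈ (Algebra.adjoin k (I0 ∪ (s₀ : Set (MvPolynomial (Fin m) A)))).map φk :=
      ⟨g, h3, rfl⟩
    rw [AlgHom.map_adjoin] at h4
    refine Algebra.adjoin_mono ?_ h4
    rw [Set.image_union]
    apply Set.union_subset_union
    · rintro _ ⟨_, ⟨a, ha, rfl⟩, rfl⟩
      exact ⟨a, ha, (hφC a).symm⟩
    · rw [Finset.coe_image]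
  · apply Algebra.adjoin_le
    rintro x (⟨a, ha, rfl⟩ | hx)
    · have : (IsScalarTower.toAlgHom k A R).toLinearMap a ∈ HopfRep.fixedPts k H R :=
        map_mem_fixedPts hAR (show a ∈ HopfRep.fixedPts k H A from ha)
      exact this
    · rw [Finset.coe_image] at hx
      obtain ⟨g, hg, rfl⟩ := hx
      exact map_mem_fixedPts hφ (hs₁ g hg)

end Relative

section RelativeLR

variable {k : Type u} [Field k] {H : Type u} [CommRing H] [HopfAlgebra k H]
  {A : Type u} [CommRing A] [Algebra k A] [HopfRep.Comod k H A] [GLin.IsCoactAlg k H A]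
  {R : Type u} [CommRing R] [Algebra k R] [HopfRep.Comod k H R] [GLin.IsCoactAlg k H R]
  [Algebra A R] [IsScalarTower k A R]

/-- **relative Hilbert finiteness** for a linearly reductive group: `R^G` is finitely generated
over `A^G` -/
theorem exists_finset_invariants_relative [IsNoetherianRing A] [Algebra.FiniteType A R]
    (hG : ∀ (X : Type u) [AddCommGroup X] [Module k X] [HopfRep.Comod k H X],
      Module.Finite k X → HopfRep.IsSemisimpleComod k H X)
    (hAR : Hoch.IsComodHom H (IsScalarTower.toAlgHom k A R).toLinearMap) :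
    ∃ s : Finset R, GLin.invariants k H R =
      Algebra.adjoin k (⇑(algebraMap A R) '' ↑(GLin.invariants k H A) ∪ ↑s) := by
  have hH : HopfRep.IsSemisimpleComod k H H :=
    isSemisimpleComod_of_fd_semisimple (fun X _ _ _ hX => hG X hX)
  obtain ⟨α, hα, h1⟩ := Groth.Agent.H9.Integral.exists_integral hH
  exact exists_finset_invariants_relative_of_integral hα h1 hAR

end RelativeLR

end Groth.Agent.H9.RelHilbert
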