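import Mathlib
import Groth.Prelude.Def_GLin
import Groth.Prelude.Def_ComodTens
import Groth.Agent.Lib.Helper9.RelHilbert
import Groth.Agent.Lib.Helper9.FF.Conv
import Groth.Agent.Lib.Helper9.NQ.Basic

/-!
# A Noetherian algebra with an action of a linearly reductive group is of finite type over its
invariants (helper9)

Apply relative Hilbert finiteness to `A ⊗ H` with the diagonal coaction, whose invariants are `A`.
-/

set_option autoImplicit false
set_option linter.style.haveILetI false
set_option linter.unusedSectionVars false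

universe u v w w'

open TensorProduct

namespace Groth.Agent.H9.FTInv

open Groth.Agent.H9.FF.Conv Groth.Agent.H9.NQ

section PAct

variable {k : Type u} [CommRing k] {H : Type v} [CommRing H] [HopfAlgebra k H]
  {A : Type w} [CommRing A] [Algebra k A] [HopfRep.Comod k H A] [GLin.IsCoactAlg k H A]
  {T : Type*} [CommRing T] [Algebra k T] {T' : Type*} [CommRing T'] [Algebra k T']

/-- the point `x` moved by the point `g` -/
noncomputable def pact (x : A →ₐ[k] T) (g : H →ₐ[k] T) : A →ₐ[k] T :=
  (Algebra.TensorProduct.lift x g (fun _ _ => .all _ _)).comp (GLin.coactAlgHom k H A)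

lemma pact_apply (x : A →ₐ[k] T) (g : H →ₐ[k] T) (a : A) :
    pact x g a = Algebra.TensorProduct.lift x g (fun _ _ => .all _ _)
      (HopfRep.Comod.coact (k := k) (A := H) a) := rfl

lemma comp_pact (h : T →ₐ[k] T') (x : A →ₐ[k] T) (g : H →ₐ[k] T) :
    h.comp (pact x g) = pact (h.comp x) (h.comp g) := by
  unfold pact
  rw [← AlgHom.comp_assoc]
  congr 1
  apply Algebra.TensorProduct.ext
  · ext a
    simp
  · ext b
    simp

lemma pact_cone (x : A →ₐ[k] T) : pact x (cone : H →ₐ[k] T) = x := by
  ext a
  rw [pact_apply]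
  have key : ∀ y : A ⊗[k] H, Algebra.TensorProduct.lift x (cone : H →ₐ[k] T)
      (fun _ _ => .all _ _) y =
      x (TensorProduct.rid k A (LinearMap.lTensor A (CoalgebraStruct.counit (R := k) (A := H))
        y)) := by
    intro y
    induction y using TensorProduct.induction_on with
    | zero => simp
    | add y z hy hz => simp only [map_add, hy, hz]
    | tmul a' h' =>
      rw [Algebra.TensorProduct.lift_tmul, cone_apply, LinearMap.lTensor_tmul,
        TensorProduct.rid_tmul, map_smul, Algebra.smul_def, mul_comm]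
  rw [key]
  have hc := LinearMap.congr_fun (HopfRep.Comod.counit_comp (k := k) (A := H) (V := A)) a
  rw [LinearMap.comp_apply] at hc
  rw [hc]
  simp

lemma pact_pact (x : A →ₐ[k] T) (g g' : H →ₐ[k] T) :
    pact (pact x g) g' = pact x (cmul g g') := by
  ext a
  rw [pact_apply, pact_apply]
  let L : A ⊗[k] (H ⊗[k] H) →ₐ[k] T :=
    Algebra.TensorProduct.lift x (Algebra.TensorProduct.lift g g' (fun _ _ => .all _ _))
      (fun _ _ => .all _ _)
  have k1 : ∀ y : A ⊗[k] H, Algebra.TensorProduct.lift x (cmul g g') (fun _ _ => .all _ _) y =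
      L (LinearMap.lTensor A (CoalgebraStruct.comul (R := k) (A := H)) y) := by
    intro y
    induction y using TensorProduct.induction_on with
    | zero => simp
    | add y z hy hz => simp only [map_add, hy, hz]
    | tmul a' h' =>
      rw [Algebra.TensorProduct.lift_tmul, cmul_apply, LinearMap.lTensor_tmul]
      simp only [L, Algebra.TensorProduct.lift_tmul]
  have k2 : ∀ (u : A ⊗[k] H) (h' : H),
      Algebra.TensorProduct.lift x g (fun _ _ => .all _ _) u * g' h' =
        L (TensorProduct.assoc k A H H (u ⊗ₜ[k] h')) := by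
    intro u h'
    induction u using TensorProduct.induction_on with
    | zero => simp
    | add y z hy hz => simp only [map_add, TensorProduct.add_tmul, add_mul, hy, hz]
    | tmul a'' h'' =>
      simp only [L, Algebra.TensorProduct.lift_tmul, TensorProduct.assoc_tmul, mul_assoc]
  have k3 : ∀ y : A ⊗[k] H, Algebra.TensorProduct.lift (pact x g) g' (fun _ _ => .all _ _) y =
      L (TensorProduct.assoc k A H H
        (LinearMap.rTensor H (HopfRep.Comod.coact (k := k) (A := H) (V := A)) y)) := by
    intro y
    induction y using TensorProduct.induction_on with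
    | zero => simp
    | add y z hy hz => simp only [map_add, hy, hz]
    | tmul a' h' =>
      rw [Algebra.TensorProduct.lift_tmul, pact_apply, LinearMap.rTensor_tmul, k2]
  rw [k3, k1]
  have hco := LinearMap.congr_fun (HopfRep.Comod.coassoc (k := k) (A := H) (V := A)) a
  simp only [LinearMap.comp_apply, LinearEquiv.coe_coe] at hco
  rw [hco]

end PAct

section Diag

variable {k : Type u} [Field k] {H : Type v} [CommRing H] [HopfAlgebra k H]
  {A : Type w} [CommRing A] [Algebra k A] [HopfRep.Comod k H A] [GLin.IsCoactAlg k H A]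

variable (k H A) in
/-- `a ↦ (a ⊗ 1) ⊗ 1` -/
noncomputable def x₀ : A →ₐ[k] (A ⊗[k] H) ⊗[k] H :=
  (Algebra.TensorProduct.includeLeft : A ⊗[k] H →ₐ[k] (A ⊗[k] H) ⊗[k] H).comp
    (Algebra.TensorProduct.includeLeft : A →ₐ[k] A ⊗[k] H)

variable (k H A) in
/-- `h ↦ (1 ⊗ h) ⊗ 1` -/
noncomputable def g₀ : H →ₐ[k] (A ⊗[k] H) ⊗[k] H :=
  (Algebra.TensorProduct.includeLeft : A ⊗[k] H →ₐ[k] (A ⊗[k] H) ⊗[k] H).comp
    (Algebra.TensorProduct.includeRight : H →ₐ[k] A ⊗[k] H)

variable (k H A) in
/-- `h ↦ (1 ⊗ 1) ⊗ h` -/
noncomputable def g₁ : H →ₐ[k] (A ⊗[k] H) ⊗[k] H :=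
  (Algebra.TensorProduct.includeRight : H →ₐ[k] (A ⊗[k] H) ⊗[k] H)

variable (k H A) in
/-- the diagonal coaction on `A ⊗ H` as an algebra map -/
noncomputable def Φ : A ⊗[k] H →ₐ[k] (A ⊗[k] H) ⊗[k] H :=
  Algebra.TensorProduct.lift (pact (x₀ k H A) (g₁ k H A)) (cmul (g₀ k H A) (g₁ k H A))
    (fun _ _ => .all _ _)

variable (k H A) in
/-- the diagonal comodule structure on `A ⊗ H` -/
@[reducible] noncomputable def cC : HopfRep.Comod k H (A ⊗[k] H) :=
  ComodTens.Comod.tensor (inferInstance : HopfRep.Comod k H A) (HopfRep.Comod.regular k H)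

lemma cC_coact_eq (c : A ⊗[k] H) : (cC k H A).coact c = Φ k H A c := by
  have key : ∀ (y : A ⊗[k] H) (z : H ⊗[k] H),
      TensorProduct.map LinearMap.id (LinearMap.mul' k H)
        (AlgebraTensorModule.tensorTensorTensorComm k k k k A H H H (y ⊗ₜ[k] z)) =
      Algebra.TensorProduct.lift (x₀ k H A) (g₁ k H A) (fun _ _ => .all _ _) y *
        Algebra.TensorProduct.lift (g₀ k H A) (g₁ k H A) (fun _ _ => .all _ _) z := by
    intro y z
    induction y using TensorProduct.induction_on with
    | zero => simp
    | add y y' hy hy' => simp only [TensorProduct.add_tmul, map_add, add_mul, hy, hy']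
    | tmul a h =>
      induction z using TensorProduct.induction_on with
      | zero => simp
      | add z z' hz hz' => simp only [TensorProduct.tmul_add, map_add, mul_add, hz, hz']
      | tmul h' h'' =>
        simp only [AlgebraTensorModule.tensorTensorTensorComm_tmul, TensorProduct.map_tmul,
          LinearMap.id_apply, LinearMap.mul'_apply, Algebra.TensorProduct.lift_tmul, x₀, g₀, g₁,
          AlgHom.comp_apply, Algebra.TensorProduct.includeLeft_apply,
          Algebra.TensorProduct.includeRight_apply, Algebra.TensorProduct.tmul_mul_tmul, one_mul,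
          mul_one]
  induction c using TensorProduct.induction_on with
  | zero => simp
  | add c c' hc hc' => simp only [map_add, hc, hc']
  | tmul a h =>
    rw [ComodTens.tensor_coact_tmul, key, Φ, Algebra.TensorProduct.lift_tmul, pact_apply,
      cmul_apply]
    rfl

lemma isCoactAlg_cC : letI := cC k H A; GLin.IsCoactAlg k H (A ⊗[k] H) := by
  letI := cC k H A
  refine ⟨?_, fun f g => ?_⟩
  · show (cC k H A).coact 1 = 1
    rw [cC_coact_eq, map_one]
  · show (cC k H A).coact (f * g) = (cC k H A).coact f * (cC k H A).coact g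
    rw [cC_coact_eq, cC_coact_eq, cC_coact_eq, map_mul]

lemma isComodHom_includeLeft : letI := cC k H A
    Hoch.IsComodHom H (IsScalarTower.toAlgHom k A (A ⊗[k] H)).toLinearMap := by
  letI := cC k H A
  apply LinearMap.ext
  intro a
  rw [LinearMap.comp_apply, LinearMap.comp_apply]
  show (cC k H A).coact (algebraMap A (A ⊗[k] H) a) = _
  rw [Algebra.TensorProduct.algebraMap_apply, Algebra.algebraMap_self, RingHom.id_apply,
    cC_coact_eq, Φ, Algebra.TensorProduct.lift_tmul, map_one, mul_one, pact_apply]
  generalize HopfRep.Comod.coact (k := k) (A := H) a = y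
  induction y using TensorProduct.induction_on with
  | zero => simp
  | add y z hy hz => simp only [map_add, hy, hz]
  | tmul a' h' =>
    simp only [Algebra.TensorProduct.lift_tmul, x₀, g₁, AlgHom.comp_apply,
      Algebra.TensorProduct.includeLeft_apply, Algebra.TensorProduct.includeRight_apply,
      Algebra.TensorProduct.tmul_mul_tmul, one_mul, mul_one, LinearMap.rTensor_tmul,
      AlgHom.toLinearMap_apply, IsScalarTower.coe_toAlgHom',
      Algebra.TensorProduct.algebraMap_apply, Algebra.algebraMap_self, RingHom.id_apply]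

variable (k H A) in
/-- `a ↦ Σ a₀ ⊗ S(a₁)` -/
noncomputable def θ : A →ₐ[k] A ⊗[k] H :=
  pact (Algebra.TensorProduct.includeLeft : A →ₐ[k] A ⊗[k] H)
    (cinv (Algebra.TensorProduct.includeRight : H →ₐ[k] A ⊗[k] H))

lemma Φ_comp_θ : (Φ k H A).comp (θ k H A) =
    (Algebra.TensorProduct.includeLeft : A ⊗[k] H →ₐ[k] (A ⊗[k] H) ⊗[k] H).comp (θ k H A) := by
  unfold θ
  rw [comp_pact, comp_cinv, comp_pact, comp_cinv]
  have e1 : (Φ k H A).comp (Algebra.TensorProduct.includeLeft : A →ₐ[k] A ⊗[k] H) =
      pact (x₀ k H A) (g₁ k H A) := Algebra.TensorProduct.lift_comp_includeLeft _ _ _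
  have e2 : (Φ k H A).comp (Algebra.TensorProduct.includeRight : H →ₐ[k] A ⊗[k] H) =
      cmul (g₀ k H A) (g₁ k H A) :=
    Algebra.TensorProduct.lift_comp_includeRight _ _ (fun _ _ => .all _ _)
  rw [e1, e2, pact_pact, cinv_cmul_rev, cmul_cinv_cancel_left]
  rfl

variable (k H A) in
/-- `a ⊗ h ↦ ε(h) a` -/
noncomputable def εC : A ⊗[k] H →ₐ[k] A :=
  Algebra.TensorProduct.lift (AlgHom.id k A) (cone : H →ₐ[k] A) (fun _ _ => .all _ _)

lemma εC_comp_θ : (εC k H A).comp (θ k H A) = AlgHom.id k A := by
  unfold θ
  rw [comp_pact, comp_cinv]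
  have e1 : (εC k H A).comp (Algebra.TensorProduct.includeLeft : A →ₐ[k] A ⊗[k] H) =
      AlgHom.id k A := Algebra.TensorProduct.lift_comp_includeLeft _ _ _
  have e2 : (εC k H A).comp (Algebra.TensorProduct.includeRight : H →ₐ[k] A ⊗[k] H) =
      cone := Algebra.TensorProduct.lift_comp_includeRight _ _ (fun _ _ => .all _ _)
  rw [e1, e2, cinv_cone, pact_cone]

lemma εC_algebraMap (a : A) : εC k H A (algebraMap A (A ⊗[k] H) a) = a := by
  rw [Algebra.TensorProduct.algebraMap_apply, Algebra.algebraMap_self, RingHom.id_apply, εC,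
    Algebra.TensorProduct.lift_tmul, map_one, mul_one]
  rfl

/-- **finite generation over the invariants**: a Noetherian comodule algebra over a Hopf algebra of
finite type with a normalised integral is of finite type over its ring of invariants -/
theorem finiteType_over_invariants [Algebra.FiniteType k H] [IsNoetherianRing A]
    {α : H →ₗ[k] k} (hα : Groth.Agent.H9.Integral.IsIntegral α) (hα1 : α 1 = 1) :
    Algebra.FiniteType ↥(GLin.invariants k H A) A := by
  classical
  letI := cC k H A
  haveI := isCoactAlg_cC (k := k) (H := H) (A := A)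
  haveI : Algebra.FiniteType A (A ⊗[k] H) := inferInstance
  obtain ⟨s, hs⟩ := Groth.Agent.H9.RelHilbert.exists_finset_invariants_relative_of_integral
    (A := A) (R := A ⊗[k] H) hα hα1 (isComodHom_includeLeft (k := k) (H := H) (A := A))
  have key : ∀ a : A, a ∈ Algebra.adjoin k
      ((GLin.invariants k H A : Set A) ∪ ((s.image (εC k H A) : Finset A) : Set A)) := by
    intro a
    have h1 : θ k H A a ∈ GLin.invariants k H (A ⊗[k] H) := by
      show (cC k H A).coact (θ k H A a) = θ k H A a ⊗ₜ[k] (1 : H)
      rw [cC_coact_eq]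
      exact congrArg (fun F : A →ₐ[k] (A ⊗[k] H) ⊗[k] H => F a) Φ_comp_θ
    rw [hs] at h1
    have h2 : εC k H A (θ k H A a) ∈ (Algebra.adjoin k
        (⇑(algebraMap A (A ⊗[k] H)) '' ↑(GLin.invariants k H A) ∪ (s : Set (A ⊗[k] H)))).map
        (εC k H A) := ⟨_, h1, rfl⟩
    have h3 : εC k H A (θ k H A a) = a :=
      congrArg (fun F : A →ₐ[k] A => F a) εC_comp_θ
    rw [AlgHom.map_adjoin, h3] at h2
    refine Algebra.adjoin_mono ?_ h2
    rw [Set.image_union]
    apply Set.union_subset_union
    · rintro _ ⟨_, ⟨a', ha', rfl⟩, rfl⟩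
      rw [εC_algebraMap]
      exact ha'
    · rw [Finset.coe_image]
  refine ⟨⟨s.image (εC k H A), ?_⟩⟩
  rw [eq_top_iff]
  intro a _
  clear * - key
  have := key a
  induction this using Algebra.adjoin_induction with
  | mem x hx =>
    rcases hx with hx | hx
    · have : x = algebraMap (GLin.invariants k H A) A ⟨x, hx⟩ := rfl
      rw [this]
      exact Subalgebra.algebraMap_mem _ _
    · exact Algebra.subset_adjoin hx
  | algebraMap r =>
    have : algebraMap k A r = algebraMap (GLin.invariants k H A) A
        (algebraMap k (GLin.invariants k H A) r) := rfl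
    rw [this]
    exact Subalgebra.algebraMap_mem _ _
  | add x y _ _ hx hy => exact Subalgebra.add_mem _ hx hy
  | mul x y _ _ hx hy => exact Subalgebra.mul_mem _ hx hy

end Diag

end Groth.Agent.H9.FTInv
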