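import Mathlib

/-!
# Split filtrations of modules indexed by a linearly ordered type

General lemmas on `Γ`-indexed antitone families of submodules split by a grading.
-/

namespace Groth.Agent.H9.FiltSplit

open scoped DirectSum

variable {Γ : Type*} [LinearOrder Γ] {R : Type*} [CommRing R] {N : Type*} [AddCommGroup N] [Module R N]

/-- independence from "triangularity": if each `K γ` lies in `H γ` and meets the span of the later `H η`
trivially, then the family `K` is independent. -/
theorem iSupIndep_of_disjoint_Ioi (K H : Γ → Submodule R N) (hKH : ∀ γ, K γ ≤ H γ)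
    (hdisj : ∀ γ, K γ ⊓ ⨆ η ∈ Set.Ioi γ, H η = ⊥) : iSupIndep K := by
  classical
  rw [iSupIndep_iff_finsetSum_eq_zero_imp_eq_zero]
  intro s
  induction s using Finset.induction_on_min with
  | empty => intro v _ _ i hi; exact absurd hi (Finset.notMem_empty i)
  | insert a s ha ih =>
    intro v hv hsum i hi
    have ha' : a ∉ s := fun h => lt_irrefl _ (ha a h)
    rw [Finset.sum_insert ha'] at hsum
    have h1 : v a ∈ ⨆ η ∈ Set.Ioi a, H η := by
      have : v a = - ∑ i ∈ s, v i := eq_neg_of_add_eq_zero_left hsum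
      rw [this]
      apply Submodule.neg_mem
      apply Submodule.sum_mem
      intro j hj
      exact Submodule.mem_iSup_of_mem j (Submodule.mem_iSup_of_mem (ha j hj)
        (hKH j (hv j (Finset.mem_insert_of_mem hj))))
    have h2 : v a = 0 := by
      have : v a ∈ K a ⊓ ⨆ η ∈ Set.Ioi a, H η := ⟨hv a (Finset.mem_insert_self _ _), h1⟩
      rw [hdisj] at this
      exact (Submodule.mem_bot R).mp this
    rw [h2, zero_add] at hsum
    rcases Finset.mem_insert.mp hi with rfl | hi'
    · exact h2
    · exact ih v (fun j hj => hv j (Finset.mem_insert_of_mem hj)) hsum i hi'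

/-- A filtration with finitely many jumps, exhaustive, all of whose steps `H_+ γ ≤ H γ` have complements
`K γ`, is split by the family of complements. -/
theorem split_of_compl (H K : Γ → Submodule R N) (hH : Antitone H) (s : Finset Γ)
    (h1 : ∀ γ, H γ ≤ ⨆ t ∈ s, ⨆ (_ : γ ≤ t), H t)
    (h3 : ⊤ ≤ ⨆ t ∈ s, H t)
    (hKH : ∀ γ, K γ ≤ H γ)
    (hdisj : ∀ γ, K γ ⊓ ⨆ η ∈ Set.Ioi γ, H η = ⊥)
    (hsup : ∀ γ, H γ ≤ K γ ⊔ ⨆ η ∈ Set.Ioi γ, H η) :
    DirectSum.IsInternal K ∧ ∀ γ, H γ = ⨆ η ∈ Set.Ici γ, K η := by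
  classical
  have claimA : ∀ (n : ℕ) (t : Γ), t ∈ s → (s.filter (fun t' => t < t')).card = n →
      H t ≤ ⨆ η ∈ Set.Ici t, K η := by
    intro n
    induction n using Nat.strong_induction_on with
    | _ n ih =>
      intro t ht hcard
      refine (hsup t).trans (sup_le ?_ ?_)
      · exact le_iSup₂ (f := fun η (_ : η ∈ Set.Ici t) => K η) t (Set.mem_Ici.mpr le_rfl)
      · refine iSup₂_le fun η hη => ?_
        refine (h1 η).trans ?_
        refine iSup₂_le fun t' ht' => iSup_le fun hηt' => ?_
        have htt' : t < t' := lt_of_lt_of_le hη hηt'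
        have hlt : (s.filter (fun x => t' < x)).card < n := by
          rw [← hcard]
          apply Finset.card_lt_card
          rw [Finset.ssubset_iff_of_subset]
          · refine ⟨t', ?_, ?_⟩
            · exact Finset.mem_filter.mpr ⟨ht', htt'⟩
            · intro h
              exact lt_irrefl _ (Finset.mem_filter.mp h).2
          · intro x hx
            rw [Finset.mem_filter] at hx ⊢
            exact ⟨hx.1, htt'.trans hx.2⟩
        refine (ih _ hlt t' ht' rfl).trans ?_
        exact biSup_mono (fun η' hη' => Set.mem_Ici.mpr (htt'.le.trans (Set.mem_Ici.mp hη')))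
  have claimB : ∀ γ, H γ = ⨆ η ∈ Set.Ici γ, K η := by
    intro γ
    apply le_antisymm
    · refine (h1 γ).trans ?_
      refine iSup₂_le fun t ht => iSup_le fun hγt => ?_
      refine (claimA _ t ht rfl).trans ?_
      exact biSup_mono (fun η' hη' => Set.mem_Ici.mpr (hγt.trans (Set.mem_Ici.mp hη')))
    · exact iSup₂_le fun η hη => (hKH η).trans (hH (Set.mem_Ici.mp hη))
  refine ⟨?_, claimB⟩
  apply DirectSum.isInternal_submodule_of_iSupIndep_of_iSup_eq_top
    (iSupIndep_of_disjoint_Ioi K H hKH hdisj)
  rw [eq_top_iff]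
  refine h3.trans ?_
  refine iSup₂_le fun t ht => ?_
  refine (claimA _ t ht rfl).trans ?_
  exact iSup₂_le fun η _ => le_iSup K η

/-- an internal grading of a finitely generated module has finite support -/
theorem finite_support_of_isInternal [Module.Finite R N] (G : Γ → Submodule R N)
    (hG : DirectSum.IsInternal G) : ∃ s : Finset Γ, (⊤ : Submodule R N) ≤ ⨆ t ∈ s, G t ∧ ∀ γ ∉ s, G γ = ⊥ := by
  classical
  have htop := hG.submodule_iSup_eq_top
  have hc : IsCompactElement (⊤ : Submodule R N) :=
    (Submodule.fg_iff_compact _).mp Module.Finite.fg_top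
  obtain ⟨s, hs⟩ := CompleteLattice.IsCompactElement.exists_finset_of_le_iSup _ hc G (le_of_eq htop.symm)
  refine ⟨s, hs, fun γ hγ => ?_⟩
  have hind := hG.submodule_iSupIndep γ
  have : (⊤ : Submodule R N) ≤ ⨆ j, ⨆ (_ : j ≠ γ), G j := by
    refine hs.trans ?_
    refine iSup₂_le fun t ht => ?_
    exact le_iSup₂ (f := fun j (_ : j ≠ γ) => G j) t (fun h => hγ (h ▸ ht))
  rw [top_le_iff] at this
  rw [this] at hind
  exact disjoint_top.mp hind

/-- retraction onto the later part of an internal grading -/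
theorem exists_retraction (G : Γ → Submodule R N) (hG : DirectSum.IsInternal G) (γ : Γ) :
    ∃ r : N →ₗ[R] N, (∀ x, r x ∈ ⨆ η ∈ Set.Ioi γ, G η) ∧ ∀ x ∈ ⨆ η ∈ Set.Ioi γ, G η, r x = x := by
  classical
  have hcompl : IsCompl (⨆ η ∈ Set.Ioi γ, G η) (⨆ η ∈ Set.Iic γ, G η) := by
    constructor
    · apply hG.submodule_iSupIndep.disjoint_biSup_biSup
      rw [Set.disjoint_left]
      intro x hx hx'
      exact not_le_of_gt (Set.mem_Ioi.mp hx) (Set.mem_Iic.mp hx')
    · rw [codisjoint_iff, eq_top_iff, ← hG.submodule_iSup_eq_top]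
      refine iSup_le fun η => ?_
      rcases lt_or_ge γ η with h | h
      · exact le_sup_of_le_left (le_iSup₂ (f := fun η (_ : η ∈ Set.Ioi γ) => G η) η h)
      · exact le_sup_of_le_right (le_iSup₂ (f := fun η (_ : η ∈ Set.Iic γ) => G η) η h)
  refine ⟨Submodule.projection _ _ hcompl, fun x => Submodule.projection_apply_mem hcompl x,
    fun x hx => Submodule.projection_apply_of_mem_left hcompl hx⟩

end Groth.Agent.H9.FiltSplit
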