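import Mathlib
import Groth.Agent.Lib.Helper9.FiltSplit

/-!
# Split filtrations: dimension counts and base change
-/

namespace Groth.Agent.H9.FiltSplit

open scoped DirectSum TensorProduct

section LA

variable {Γ : Type*} {K : Type*} [Field K] {V : Type*} [AddCommGroup V] [Module K V]
  [FiniteDimensional K V]

theorem finrank_biSup_of_iSupIndep (C : Γ → Submodule K V) (hC : iSupIndep C) (t : Finset Γ) :
    Module.finrank K ↥(⨆ γ ∈ t, C γ) = ∑ γ ∈ t, Module.finrank K (C γ) := by
  classical
  induction t using Finset.induction_on with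
  | empty => simp
  | insert a t ha ih =>
    rw [Finset.sum_insert ha, ← ih]
    have h1 : (⨆ γ ∈ insert a t, C γ) = C a ⊔ ⨆ γ ∈ t, C γ := by
      rw [Finset.iSup_insert]
    rw [h1]
    have h2 := Submodule.finrank_sup_add_finrank_inf_eq (C a) (⨆ γ ∈ t, C γ)
    have h3 : C a ⊓ (⨆ γ ∈ t, C γ) = ⊥ :=
      (hC.disjoint_biSup (y := (t : Set Γ)) (by simpa using ha)).eq_bot
    rw [h3, finrank_bot, add_zero] at h2
    exact h2

theorem finrank_iSup_of_iSupIndep (C : Γ → Submodule K V) (hC : iSupIndep C) :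
    (Function.support fun γ => Module.finrank K (C γ)).Finite ∧
    Module.finrank K ↥(⨆ γ, C γ) = ∑ᶠ γ, Module.finrank K (C γ) := by
  classical
  have hft : Fintype { i : Γ // C i ≠ ⊥ } := hC.fintypeNeBotOfFiniteDimensional
  have hfin : {γ | C γ ≠ ⊥}.Finite := @Set.toFinite _ _ (@Finite.of_fintype _ hft)
  have hsupp : (Function.support fun γ => Module.finrank K (C γ)) ⊆ {γ | C γ ≠ ⊥} := by
    intro γ hγ h
    apply hγ
    simp [h]
  refine ⟨hfin.subset hsupp, ?_⟩
  rw [finsum_eq_sum_of_support_subset _ (s := hfin.toFinset) (by simpa using hsupp)]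
  rw [← finrank_biSup_of_iSupIndep C hC]
  have : (⨆ γ, C γ) = ⨆ γ ∈ hfin.toFinset, C γ := by
    apply le_antisymm
    · refine iSup_le fun γ => ?_
      by_cases h : C γ = ⊥
      · rw [h]; exact bot_le
      · exact le_iSup₂ (f := fun γ (_ : γ ∈ hfin.toFinset) => C γ) γ (by simpa using h)
    · exact iSup₂_le fun γ _ => le_iSup C γ
  rw [this]

variable [LinearOrder Γ]

/-- The sum of the jumps of a filtration with complements `C γ` is the dimension of the span of the
complements. -/
theorem finsum_jumps (W C : Γ → Submodule K V) (hW : Antitone W) (hCW : ∀ γ, C γ ≤ W γ)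
    (hdisj : ∀ γ, C γ ⊓ ⨆ η ∈ Set.Ioi γ, W η = ⊥)
    (hsup : ∀ γ, W γ ≤ C γ ⊔ ⨆ η ∈ Set.Ioi γ, W η) :
    ∑ᶠ γ, (Module.finrank K (W γ) - Module.finrank K ↥(⨆ η ∈ Set.Ioi γ, W η)) =
      Module.finrank K ↥(⨆ γ, C γ) := by
  have hind : iSupIndep C := iSupIndep_of_disjoint_Ioi C W hCW hdisj
  rw [(finrank_iSup_of_iSupIndep C hind).2]
  apply finsum_congr
  intro γ
  have hle : (⨆ η ∈ Set.Ioi γ, W η) ≤ W γ := iSup₂_le fun η hη => hW (le_of_lt hη)
  have heq : W γ = C γ ⊔ ⨆ η ∈ Set.Ioi γ, W η := le_antisymm (hsup γ) (sup_le (hCW γ) hle)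
  have h2 := Submodule.finrank_sup_add_finrank_inf_eq (C γ) (⨆ η ∈ Set.Ioi γ, W η)
  rw [hdisj γ, finrank_bot, add_zero, ← heq] at h2
  omega

/-- complements inside a given spanning part -/
theorem exists_compl_le (A B : Submodule K V) :
    ∃ C : Submodule K V, C ≤ A ∧ C ⊓ B = ⊥ ∧ A ≤ C ⊔ B := by
  obtain ⟨q, hq⟩ := Submodule.exists_isCompl (A ⊓ B)
  refine ⟨A ⊓ q, inf_le_left, ?_, ?_⟩
  · rw [inf_right_comm, hq.inf_eq_bot]
  · have h1 : (A ⊓ B) ⊔ q ⊓ A = ((A ⊓ B) ⊔ q) ⊓ A := (sup_inf_assoc_of_le q inf_le_left).symm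
    rw [hq.sup_eq_top, top_inf_eq] at h1
    calc A = (A ⊓ B) ⊔ q ⊓ A := h1.symm
      _ ≤ A ⊓ q ⊔ B := by
        rw [sup_comm, inf_comm q A]
        exact sup_le_sup_left inf_le_right _

end LA

section Ring

variable {Γ : Type*} [LinearOrder Γ] {R : Type*} [CommRing R] {N : Type*} [AddCommGroup N]
  [Module R N]

/-- if the "triangular" complements span everything then they recover the filtration -/
theorem eq_biSup_Ici (H K : Γ → Submodule R N) (hH : Antitone H) (hKH : ∀ γ, K γ ≤ H γ)
    (hdisj : ∀ γ, K γ ⊓ ⨆ η ∈ Set.Ioi γ, H η = ⊥) (htop : ⨆ γ, K γ = ⊤) (γ : Γ) :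
    H γ = ⨆ η ∈ Set.Ici γ, K η := by
  classical
  apply le_antisymm
  · intro x hx
    have hx' : x ∈ ⨆ γ, K γ := by rw [htop]; trivial
    rw [Submodule.mem_iSup_iff_exists_finsupp] at hx'
    obtain ⟨f, hf, hsum⟩ := hx'
    have claim : ∀ (t : Finset Γ) (c : Γ → N), (∀ η ∈ t, c η ∈ K η) → ∑ η ∈ t, c η ∈ H γ →
        ∀ η ∈ t, η < γ → c η = 0 := by
      intro t
      induction t using Finset.induction_on_min with
      | empty => intro c _ _ η hη; exact absurd hη (Finset.notMem_empty η)
      | insert a t ha ih =>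
        intro c hc hs η hη hηγ
        have ha' : a ∉ t := fun h => lt_irrefl _ (ha a h)
        rw [Finset.sum_insert ha'] at hs
        by_cases haγ : a < γ
        · have h1 : c a ∈ ⨆ η ∈ Set.Ioi a, H η := by
            have : c a = (c a + ∑ η ∈ t, c η) - ∑ η ∈ t, c η := by abel
            rw [this]
            apply Submodule.sub_mem
            · exact Submodule.mem_iSup_of_mem γ (Submodule.mem_iSup_of_mem haγ hs)
            · apply Submodule.sum_mem
              intro j hj
              exact Submodule.mem_iSup_of_mem j (Submodule.mem_iSup_of_mem (ha j hj)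
                (hKH j (hc j (Finset.mem_insert_of_mem hj))))
          have h2 : c a = 0 := by
            have : c a ∈ K a ⊓ ⨆ η ∈ Set.Ioi a, H η := ⟨hc a (Finset.mem_insert_self _ _), h1⟩
            rw [hdisj] at this
            exact (Submodule.mem_bot R).mp this
          rw [h2, zero_add] at hs
          rcases Finset.mem_insert.mp hη with rfl | hη'
          · exact h2
          · exact ih c (fun j hj => hc j (Finset.mem_insert_of_mem hj)) hs η hη' hηγ
        · exfalso
          rcases Finset.mem_insert.mp hη with rfl | hη'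
          · exact haγ hηγ
          · exact haγ ((ha η hη').trans hηγ)
    have hz := claim f.support f (fun η _ => hf η) (by rw [← hsum] at hx; exact hx)
    rw [← hsum]
    show ∑ η ∈ f.support, f η ∈ _
    apply Submodule.sum_mem
    intro η hη
    by_cases hηγ : η < γ
    · rw [hz η hη hηγ]; exact Submodule.zero_mem _
    · exact Submodule.mem_iSup_of_mem η (Submodule.mem_iSup_of_mem (not_lt.mp hηγ) (hf η))
  · exact iSup₂_le fun η hη => (hKH η).trans (hH (Set.mem_Ici.mp hη))

end Ring

section BC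

variable {R : Type*} [CommRing R] (A : Type*) [CommRing A] [Algebra R A]
  {M : Type*} [AddCommGroup M] [Module R M] {M' : Type*} [AddCommGroup M'] [Module R M']

theorem baseChange_iSup {ι : Sort*} (p : ι → Submodule R M) :
    (⨆ i, p i).baseChange A = ⨆ i, (p i).baseChange A := by
  apply le_antisymm
  · rw [Submodule.baseChange_eq_span, Submodule.span_le]
    rintro _ ⟨m, hm, rfl⟩
    refine Submodule.iSup_induction p (motive := fun m => (TensorProduct.mk R A M 1) m ∈
      (⨆ i, (p i).baseChange A : Submodule A (A ⊗[R] M))) hm ?_ ?_ ?_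
    · intro i x hx
      exact Submodule.mem_iSup_of_mem i (Submodule.tmul_mem_baseChange_of_mem 1 hx)
    · simp
    · intro x y hx hy
      rw [map_add]
      exact Submodule.add_mem _ hx hy
  · exact iSup_le fun i => Submodule.baseChange_mono A (le_iSup p i)

theorem baseChange_sup (p q : Submodule R M) :
    (p ⊔ q).baseChange A = p.baseChange A ⊔ q.baseChange A := by
  rw [sup_eq_iSup, baseChange_iSup, sup_eq_iSup]
  congr 1
  funext b
  cases b <;> rfl

theorem baseChange_eqOn (p : Submodule R M) (f g : M →ₗ[R] M') (h : ∀ x ∈ p, f x = g x)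
    {y : A ⊗[R] M} (hy : y ∈ p.baseChange A) : f.baseChange A y = g.baseChange A y := by
  obtain ⟨z, rfl⟩ := hy
  have : f ∘ₗ p.subtype = g ∘ₗ p.subtype := by
    ext x
    exact h x x.2
  rw [← LinearMap.comp_apply, ← LinearMap.comp_apply, ← LinearMap.baseChange_comp,
    ← LinearMap.baseChange_comp, this]

end BC

end Groth.Agent.H9.FiltSplit
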