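import Mathlib

/-!
# Groups acting unipotently on a flag are nilpotent (helper9)
-/

set_option autoImplicit false

universe u v w

namespace Groth.Agent.H9.FlagNilp

open scoped commutatorElement

section Flag

variable {k : Type u} [CommRing k] {M : Type v} [AddCommGroup M] [Module k M]

/-- endomorphisms lowering the flag by `i` steps -/
def InF (W : ℕ → Submodule k M) (i : ℕ) (T : Module.End k M) : Prop :=
  ∀ j, ∀ a ∈ W (i + j), T a ∈ W j

variable {W : ℕ → Submodule k M}

lemma InF.add {i : ℕ} {T S : Module.End k M} (hT : InF W i T) (hS : InF W i S) :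
    InF W i (T + S) := fun j a ha => by
  rw [LinearMap.add_apply]
  exact (W j).add_mem (hT j a ha) (hS j a ha)

lemma InF.neg {i : ℕ} {T : Module.End k M} (hT : InF W i T) : InF W i (-T) := fun j a ha => by
  rw [LinearMap.neg_apply]
  exact (W j).neg_mem (hT j a ha)

lemma InF.sub {i : ℕ} {T S : Module.End k M} (hT : InF W i T) (hS : InF W i S) :
    InF W i (T - S) := by
  rw [sub_eq_add_neg]
  exact hT.add hS.neg

lemma InF.zero (i : ℕ) : InF W i (0 : Module.End k M) := fun j a _ => by
  rw [LinearMap.zero_apply]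
  exact (W j).zero_mem

lemma InF.one : InF W 0 (1 : Module.End k M) := fun j a ha => by
  rw [zero_add] at ha
  exact ha

lemma InF.mul {i j : ℕ} {T S : Module.End k M} (hT : InF W i T) (hS : InF W j S) :
    InF W (i + j) (T * S) := fun l a ha => by
  rw [Module.End.mul_apply]
  apply hT l
  apply hS (i + l)
  rw [show j + (i + l) = i + j + l by omega]
  exact ha

lemma InF.mono (hW : Monotone W) {i i' : ℕ} (h : i' ≤ i) {T : Module.End k M} (hT : InF W i T) :
    InF W i' T := fun j a ha => hT j a (hW (by omega) ha)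

variable {G : Type w} [Group G]

/-- a group acting on a module, unipotently with respect to an exhaustive-enough flag, is
nilpotent -/
theorem isNilpotent_of_flag (ρ : G →* Module.End k M) (W : ℕ → Submodule k M) (hW : Monotone W)
    (h0 : W 0 = ⊥) (h1 : ∀ g, InF W 1 (ρ g - 1)) (N : ℕ)
    (hN : ∀ g, (∀ a ∈ W N, ρ g a = a) → g = 1) : Group.IsNilpotent G := by
  have hρ0 : ∀ g, InF W 0 (ρ g) := by
    intro g
    have h2 : ρ g = (ρ g - 1) + 1 := by abel
    rw [h2]
    exact ((h1 g).mono hW (Nat.zero_le 1)).add InF.one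
  let H : ℕ → Subgroup G := fun n =>
    { carrier := {g | InF W (n + 1) (ρ g - 1)}
      mul_mem' := by
        intro g h hg hh
        show InF W (n + 1) (ρ (g * h) - 1)
        have h2 : ρ (g * h) - 1 = (ρ g - 1) * ρ h + (ρ h - 1) := by
          rw [map_mul]; noncomm_ring
        rw [h2]
        have h3 := InF.mul hg (hρ0 h)
        rw [add_zero] at h3
        exact h3.add hh
      one_mem' := by
        show InF W (n + 1) (ρ 1 - 1)
        rw [map_one, sub_self]
        exact InF.zero _
      inv_mem' := by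
        intro g hg
        show InF W (n + 1) (ρ g⁻¹ - 1)
        have h2 : ρ g⁻¹ - 1 = -((ρ g - 1) * ρ g⁻¹) := by
          have h3 : ρ g * ρ g⁻¹ = 1 := by rw [← map_mul, mul_inv_cancel, map_one]
          rw [sub_mul, h3, one_mul]; abel
        rw [h2]
        have h3 := InF.mul hg (hρ0 g⁻¹)
        rw [add_zero] at h3
        exact h3.neg }
  rw [Subgroup.nilpotent_iff_finite_descending_central_series]
  refine ⟨N, H, ⟨?_, ?_⟩, ?_⟩
  · rw [eq_top_iff]
    intro g _
    exact h1 g
  · intro x n hx g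
    show InF W (n + 1 + 1) (ρ ⁅x, g⁆ - 1)
    have hx' : InF W (n + 1) (ρ x - 1) := hx
    have h2 : ρ ⁅x, g⁆ - 1 =
        ((ρ x - 1) * (ρ g - 1) - (ρ g - 1) * (ρ x - 1)) * (ρ x⁻¹ * ρ g⁻¹) := by
      have h3 : ρ x * ρ x⁻¹ = 1 := by rw [← map_mul, mul_inv_cancel, map_one]
      have h4 : ρ g * ρ g⁻¹ = 1 := by rw [← map_mul, mul_inv_cancel, map_one]
      have h5 : ((ρ x - 1) * (ρ g - 1) - (ρ g - 1) * (ρ x - 1)) = ρ x * ρ g - ρ g * ρ x := by
        noncomm_ring
      rw [h5, commutatorElement_def, map_mul, map_mul, map_mul, sub_mul]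
      have h6 : ρ g * ρ x * (ρ x⁻¹ * ρ g⁻¹) = 1 := by
        rw [mul_assoc, ← mul_assoc (ρ x), h3, one_mul, h4]
      rw [h6, mul_assoc, mul_assoc]
    rw [h2]
    have h7 : InF W (n + 1 + 1) ((ρ x - 1) * (ρ g - 1) - (ρ g - 1) * (ρ x - 1)) := by
      apply InF.sub
      · exact InF.mul hx' (h1 g)
      · have := InF.mul (h1 g) hx'
        rw [add_comm 1 (n + 1)] at this
        exact this
    have h8 := InF.mul h7 (InF.mul (hρ0 x⁻¹) (hρ0 g⁻¹))
    rw [add_zero, add_zero] at h8
    exact h8
  · rw [eq_bot_iff]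
    intro g hg
    rw [Subgroup.mem_bot]
    apply hN
    intro a ha
    have hg' : InF W (N + 1) (ρ g - 1) := hg
    have h2 := hg'.mono hW (Nat.le_succ N) 0 a (by rw [add_zero]; exact ha)
    rw [h0, Submodule.mem_bot, LinearMap.sub_apply, Module.End.one_apply, sub_eq_zero] at h2
    exact h2

end Flag

end Groth.Agent.H9.FlagNilp
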