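import Mathlib
import Groth.Agent.Lib.Helper9.FlagNilp
import Groth.Agent.Lib.Helper9.UnipFil.Basic
import Groth.Agent.Lib.Helper9.CocommDiag.Semisimple

/-!
# The group of points of a unipotent algebraic group is nilpotent (helper9)
-/

set_option autoImplicit false

universe u v

open TensorProduct WithConv

namespace Groth.Agent.H9.PtsNilp

open Groth.Agent.H9 Groth.Agent.H9.UnipLie Groth.Agent.H9.UnipFil

section Reg

variable {k : Type u} [Field k] {A : Type v} [CommRing A] [Bialgebra k A]

variable (k A) in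
/-- the regular representation of the dual algebra -/
noncomputable def reg : WithConv (A →ₗ[k] k) →ₐ[k] Module.End k A :=
  @CocommDiag.Tact k _ A _ _ A _ _ (HopfRep.Comod.regular k A)

lemma reg_apply (φ : WithConv (A →ₗ[k] k)) (a : A) :
    reg k A φ a = Comod.slice φ.ofConv (CoalgebraStruct.comul (R := k) a) := rfl

lemma apply_eq_counit_reg (φ : WithConv (A →ₗ[k] k)) (a : A) :
    φ.ofConv a = CoalgebraStruct.counit (R := k) (reg k A φ a) := by
  rw [reg_apply]
  exact apply_eq_counit_slice φ.ofConv a

variable (k A) in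
/-- the flag of the regular representation cut out by the augmentation ideal of the dual -/
noncomputable def flag : ℕ → Submodule k A
  | 0 => ⊥
  | (j + 1) => ⨅ θ : {θ : WithConv (A →ₗ[k] k) // θ.ofConv 1 = 0},
      (flag j).comap (reg k A θ.1)

lemma flag_zero : flag k A 0 = ⊥ := rfl

lemma mem_flag_succ {j : ℕ} {a : A} :
    a ∈ flag k A (j + 1) ↔ ∀ θ : WithConv (A →ₗ[k] k), θ.ofConv 1 = 0 → reg k A θ a ∈ flag k A j := by
  rw [flag, Submodule.mem_iInf]
  constructor
  · intro h θ hθ
    exact h ⟨θ, hθ⟩
  · intro h θ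
    exact h θ.1 θ.2

lemma flag_le_succ (j : ℕ) : flag k A j ≤ flag k A (j + 1) := by
  induction j with
  | zero => rw [flag_zero]; exact bot_le
  | succ j ih =>
    intro a ha
    rw [mem_flag_succ] at ha ⊢
    intro θ hθ
    exact ih (ha θ hθ)

lemma flag_mono : Monotone (flag k A) := monotone_nat_of_le_succ flag_le_succ

lemma mem_flag_of_kill (j : ℕ) : ∀ a : A,
    (∀ l : List (WithConv (A →ₗ[k] k)), l.length = j → (∀ θ ∈ l, θ.ofConv 1 = 0) →
      reg k A l.prod a = 0) → a ∈ flag k A j := by
  induction j with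
  | zero =>
    intro a h
    have h1 := h [] rfl (by simp)
    rw [List.prod_nil, map_one, Module.End.one_apply] at h1
    rw [flag_zero, Submodule.mem_bot]
    exact h1
  | succ j ih =>
    intro a h
    rw [mem_flag_succ]
    intro θ hθ
    apply ih
    intro l hl hl1
    rw [← Module.End.mul_apply, ← map_mul]
    have h2 := h (l ++ [θ]) (by rw [List.length_append, hl]; rfl) (by
      intro θ' hθ'
      rw [List.mem_append, List.mem_singleton] at hθ'
      rcases hθ' with h3 | h3
      · exact hl1 θ' h3
      · rw [h3]; exact hθ)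
    rw [List.prod_append, List.prod_singleton] at h2
    exact h2

theorem exists_mem_flag (hU : HopfRep.IsUnipotent k A) (a : A) : ∃ n : ℕ, a ∈ flag k A n := by
  obtain ⟨n, hn⟩ := exists_kills_slice (fun a => exists_kills hU a)
    (CoalgebraStruct.comul (R := k) a)
  refine ⟨n, mem_flag_of_kill n a fun l hl hl1 => ?_⟩
  rw [reg_apply]
  exact hn l hl.ge hl1

/-- points as elements of the dual algebra -/
noncomputable def toLin : WithConv (A →ₐ[k] k) →* WithConv (A →ₗ[k] k) where
  toFun g := toConv g.ofConv.toLinearMap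
  map_one' := rfl
  map_mul' _ _ := rfl

lemma toLin_apply (g : WithConv (A →ₐ[k] k)) (a : A) : (toLin g).ofConv a = g.ofConv a := rfl

/-- the regular representation of the group of points -/
noncomputable def ρ : WithConv (A →ₐ[k] k) →* Module.End k A :=
  ((reg k A : WithConv (A →ₗ[k] k) →* Module.End k A)).comp toLin

lemma ρ_apply (g : WithConv (A →ₐ[k] k)) : ρ g = reg k A (toLin g) := rfl

lemma inF_ρ (g : WithConv (A →ₐ[k] k)) : FlagNilp.InF (flag k A) 1 (ρ g - 1) := by
  intro j a ha
  rw [add_comm, mem_flag_succ] at ha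
  have h1 : ρ g - 1 = reg k A (toLin g - 1) := by rw [map_sub, map_one]; rfl
  rw [h1]
  apply ha
  rw [ofConv_sub, LinearMap.sub_apply, toLin_apply, map_one]
  show (1 : k) - algebraMap k k (CoalgebraStruct.counit (R := k) (1 : A)) = 0
  rw [Bialgebra.counit_one, map_one, sub_self]

end Reg

section Main

variable {k : Type u} [Field k] {A : Type v} [CommRing A] [HopfAlgebra k A]
  [Algebra.FiniteType k A]

theorem exists_flag_generates (hU : HopfRep.IsUnipotent k A) :
    ∃ N : ℕ, ∃ s : Finset A, Algebra.adjoin k (s : Set A) = ⊤ ∧ ∀ a ∈ s, a ∈ flag k A N := by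
  classical
  obtain ⟨s, hs⟩ := (Algebra.FiniteType.out : (⊤ : Subalgebra k A).FG)
  choose n hn using fun a => exists_mem_flag hU a
  refine ⟨s.sup n, s, hs, fun a ha => ?_⟩
  exact flag_mono (Finset.le_sup ha) (hn a)

theorem isNilpotent_points (hU : HopfRep.IsUnipotent k A) :
    Group.IsNilpotent (WithConv (A →ₐ[k] k)) := by
  obtain ⟨N, s, hs, hsN⟩ := exists_flag_generates hU
  apply FlagNilp.isNilpotent_of_flag (ρ (k := k) (A := A)) (flag k A) flag_mono flag_zero inF_ρ N
  intro g hg
  apply WithConv.ofConv_injective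
  apply AlgHom.ext_of_adjoin_eq_top hs
  intro a ha
  have h1 := hg a (hsN a ha)
  have h2 := apply_eq_counit_reg (toLin g) a
  rw [← ρ_apply, h1] at h2
  exact h2

end Main

end Groth.Agent.H9.PtsNilp
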