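import Mathlib
import Groth.Prelude.Def_CohTop

/-!
# Towers of flasque abelian sheaves on a topological space

Sections of a limit of an `ℕᵒᵖ`-tower of abelian sheaves, the lifting step for an epimorphism with
flasque kernel, and flasqueness of the limit of a flasque tower.
-/

universe u
open CategoryTheory CategoryTheory.Limits TopologicalSpace Opposite
open CohTop

namespace Groth.Agent.H9.Tower

variable {X : TopCat.{u}}

noncomputable abbrev secF (X : TopCat.{u}) (U : (Opens X)ᵒᵖ) : CohTop.Ab X ⥤ AddCommGrpCat.{u} :=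
  sheafToPresheaf (Opens.grothendieckTopology X) AddCommGrpCat.{u} ⋙ (evaluation (Opens X)ᵒᵖ AddCommGrpCat.{u}).obj U

/-- transition map of a tower -/
noncomputable abbrev tr (M : ℕᵒᵖ ⥤ CohTop.Ab X) (n : ℕ) : M.obj (op (n + 1)) ⟶ M.obj (op n) :=
  M.map (homOfLE (Nat.le_succ n)).op

/-- compatibility along successor steps implies compatibility along all maps of `ℕᵒᵖ` -/
theorem compat_of_succ (M : ℕᵒᵖ ⥤ CohTop.Ab X) (U : (Opens X)ᵒᵖ) (t : ∀ n : ℕ, (M.obj (op n)).obj.obj U)
    (ht : ∀ n, (tr M n).hom.app U (t (n + 1)) = t n) (m n : ℕ) (h : m ≤ n) :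
    (M.map (homOfLE h).op).hom.app U (t n) = t m := by
  induction n, h using Nat.le_induction with
  | base =>
    have : (homOfLE (le_refl m)).op = 𝟙 (op m) := rfl
    rw [this, M.map_id]
    rfl
  | succ n hmn ih =>
    have : (homOfLE (hmn.trans (Nat.le_succ n))).op = (homOfLE (Nat.le_succ n)).op ≫ (homOfLE hmn).op := rfl
    rw [this, M.map_comp]
    have h2 : ((M.map (homOfLE (Nat.le_succ n)).op ≫ M.map (homOfLE hmn).op).hom.app U) (t (n + 1))
        = (M.map (homOfLE hmn).op).hom.app U ((tr M n).hom.app U (t (n + 1))) := rfl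
    rw [h2, ht n, ih]

theorem limit_ext (M : ℕᵒᵖ ⥤ CohTop.Ab X) (U : (Opens X)ᵒᵖ) (x y : (limit M : CohTop.Ab X).obj.obj U)
    (h : ∀ n : ℕ, (limit.π M (op n)).hom.app U x = (limit.π M (op n)).hom.app U y) : x = y := by
  have hc : IsLimit ((secF X U).mapCone (limit.cone M)) := isLimitOfPreserves (secF X U) (limit.isLimit M)
  exact Concrete.isLimit_ext (M ⋙ secF X U) hc x y (fun j => h j.unop)

theorem limit_exists (M : ℕᵒᵖ ⥤ CohTop.Ab X) (U : (Opens X)ᵒᵖ) (t : ∀ n : ℕ, (M.obj (op n)).obj.obj U)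
    (ht : ∀ n, (tr M n).hom.app U (t (n + 1)) = t n) :
    ∃ x : (limit M : CohTop.Ab X).obj.obj U, ∀ n : ℕ, (limit.π M (op n)).hom.app U x = t n := by
  have hc : IsLimit ((secF X U).mapCone (limit.cone M)) := isLimitOfPreserves (secF X U) (limit.isLimit M)
  have hc' := isLimitOfPreserves (forget AddCommGrpCat.{u}) hc
  let σ : ((M ⋙ secF X U) ⋙ forget AddCommGrpCat.{u}).sections :=
    ⟨fun j => t j.unop, by
      intro j j' f
      have hle : j'.unop ≤ j.unop := leOfHom f.unop
      have : f = (homOfLE hle).op := Subsingleton.elim _ _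
      rw [this]
      exact compat_of_succ M U t ht _ _ hle⟩
  refine ⟨(Types.isLimitEquivSections hc').symm σ, fun n => ?_⟩
  exact Types.isLimitEquivSections_symm_apply hc' σ (op n)

/-- naturality on sections -/
theorem nat_apply {F G : CohTop.Ab X} (φ : F ⟶ G) {U V : (Opens X)ᵒᵖ} (i : U ⟶ V) (x : F.obj.obj U) :
    φ.hom.app V (F.obj.map i x) = G.obj.map i (φ.hom.app U x) := by
  have := φ.hom.naturality i
  exact ConcreteCategory.congr_hom this x

/-- the short exact sequence attached to an epimorphism -/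
theorem shortExact_kernel {F G : CohTop.Ab X} (f : F ⟶ G) [Epi f] :
    (ShortComplex.mk (kernel.ι f) f (kernel.condition f)).ShortExact := by
  refine ShortComplex.ShortExact.mk' ?_ ?_ ?_
  · apply ShortComplex.exact_of_f_is_kernel
    exact kernelIsKernel f
  · dsimp; infer_instance
  · dsimp; infer_instance

/-- surjectivity on sections of an epi with flasque kernel -/
theorem surj_sections {F G : CohTop.Ab X} (f : F ⟶ G) [Epi f]
    [TopCat.Sheaf.IsFlasque (kernel f : CohTop.Ab X)] (U : (Opens X)ᵒᵖ) (y : G.obj.obj U) :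
    ∃ x : F.obj.obj U, f.hom.app U x = y := by
  have hS := shortExact_kernel f
  have := TopCat.Sheaf.IsFlasque.epi_of_shortExact hS (U := U.unop)
  exact (AddCommGrpCat.epi_iff_surjective _).mp this y

/-- the key lifting step -/
theorem lift_step {F G : CohTop.Ab X} (f : F ⟶ G) [Epi f]
    [TopCat.Sheaf.IsFlasque (kernel f : CohTop.Ab X)] {U V : (Opens X)ᵒᵖ} (i : U ⟶ V)
    (t : G.obj.obj U) (s : F.obj.obj V) (hs : f.hom.app V s = G.obj.map i t) :
    ∃ t' : F.obj.obj U, f.hom.app U t' = t ∧ F.obj.map i t' = s := by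
  have hS := shortExact_kernel f
  obtain ⟨t₁, ht₁⟩ := surj_sections f U t
  have h0 : f.hom.app V (F.obj.map i t₁ - s) = 0 := by
    rw [map_sub, nat_apply, ht₁, hs, sub_self]
  obtain ⟨a, ha⟩ := TopCat.Sheaf.sections_exact_of_left_exact hS.1 hS.2 (U := V.unop) _ h0
  have hfl : Epi ((kernel f : CohTop.Ab X).obj.map i) := inferInstance
  obtain ⟨a', ha'⟩ := (AddCommGrpCat.epi_iff_surjective _).mp hfl a
  refine ⟨t₁ - (kernel.ι f).hom.app U a', ?_, ?_⟩
  · rw [map_sub, ht₁]
    have : f.hom.app U ((kernel.ι f).hom.app U a') = 0 := by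
      have h := kernel.condition f
      have h2 : (kernel.ι f ≫ f).hom.app U a' = 0 := by rw [h]; rfl
      exact h2
    rw [this, sub_zero]
  · rw [map_sub]
    have h1 : F.obj.map i ((kernel.ι f).hom.app U a') = (kernel.ι f).hom.app V ((kernel f : CohTop.Ab X).obj.map i a') :=
      (nat_apply (kernel.ι f) i a').symm
    rw [h1, ha']
    have ha2 : (kernel.ι f).hom.app V a = F.obj.map i t₁ - s := ha
    rw [ha2]
    abel


theorem limit_flasque (M : ℕᵒᵖ ⥤ CohTop.Ab X)
    (h0 : ∀ n : ℕ, TopCat.Sheaf.IsFlasque (M.obj (op n)))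
    (h1 : ∀ n : ℕ, Epi (tr M n))
    (h2 : ∀ n : ℕ, TopCat.Sheaf.IsFlasque (kernel (tr M n) : CohTop.Ab X)) :
    TopCat.Sheaf.IsFlasque (limit M : CohTop.Ab X) := by
  constructor
  intro U V i
  refine (AddCommGrpCat.epi_iff_surjective _).mpr (fun s => ?_)
  -- components of s
  let sn : ∀ n : ℕ, (M.obj (op n)).obj.obj V := fun n => (limit.π M (op n)).hom.app V s
  have hsn : ∀ n, (tr M n).hom.app V (sn (n + 1)) = sn n := by
    intro n
    have : limit.π M (op (n + 1)) ≫ tr M n = limit.π M (op n) := limit.w M _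
    show ((limit.π M (op (n + 1)) ≫ tr M n).hom.app V) s = _
    rw [this]
  -- recursive construction
  have hstep : ∀ (n : ℕ) (t : {t : (M.obj (op n)).obj.obj U // (M.obj (op n)).obj.map i t = sn n}),
      ∃ t' : {t : (M.obj (op (n + 1))).obj.obj U // (M.obj (op (n + 1))).obj.map i t = sn (n + 1)},
        (tr M n).hom.app U t'.1 = t.1 := by
    intro n t
    have := h1 n
    have := h2 n
    obtain ⟨t', ht'1, ht'2⟩ := lift_step (tr M n) i t.1 (sn (n + 1)) (by rw [hsn n, t.2])
    exact ⟨⟨t', ht'2⟩, ht'1⟩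
  have hbase : ∃ t : (M.obj (op 0)).obj.obj U, (M.obj (op 0)).obj.map i t = sn 0 := by
    have := h0 0
    have hfl : Epi ((M.obj (op 0)).obj.map i) := inferInstance
    exact (AddCommGrpCat.epi_iff_surjective _).mp hfl (sn 0)
  obtain ⟨t0, ht0⟩ := hbase
  let a : ∀ n : ℕ, {t : (M.obj (op n)).obj.obj U // (M.obj (op n)).obj.map i t = sn n} :=
    fun n => Nat.rec ⟨t0, ht0⟩ (fun n t => Classical.choose (hstep n t)) n
  have ha : ∀ n, (tr M n).hom.app U (a (n + 1)).1 = (a n).1 := fun n =>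
    Classical.choose_spec (hstep n (a n))
  obtain ⟨x, hx⟩ := limit_exists M U (fun n => (a n).1) ha
  refine ⟨x, ?_⟩
  apply limit_ext M V
  intro n
  have e1 : (limit.π M (op n)).hom.app V ((limit M : CohTop.Ab X).obj.map i x)
      = (M.obj (op n)).obj.map i ((limit.π M (op n)).hom.app U x) := nat_apply _ i x
  show (limit.π M (op n)).hom.app V ((limit M : CohTop.Ab X).obj.map i x) = sn n
  rw [e1, hx n, (a n).2]

end Groth.Agent.H9.Tower
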