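import Mathlib
import Groth.Prelude.Def_GLin

/-!
# Diagonal actions of the multiplicative group on affine space (coaction form)
-/

namespace Groth.Agent.H9.GmDiag

open TensorProduct LaurentPolynomial

universe u

section Pt

variable {k : Type u} [Field k]

/-- the point of `𝔾_m` given by a unit -/
noncomputable def gmPt (u : kˣ) : k[T;T⁻¹] →ₐ[k] k :=
  AddMonoidAlgebra.lift k k ℤ ((Units.coeHom k).comp (zpowersHom kˣ u))

theorem gmPt_T (u : kˣ) (n : ℤ) : gmPt u (T n : k[T;T⁻¹]) = ((u ^ n : kˣ) : k) := by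
  unfold gmPt LaurentPolynomial.T
  rw [AddMonoidAlgebra.lift_single, one_smul]
  rfl

end Pt

section Diag

variable {k : Type u} [Field k] {ι : Type u} [Fintype ι]
  [HopfRep.Comod k k[T;T⁻¹] (MvPolynomial ι k)] [GLin.IsCoactAlg k k[T;T⁻¹] (MvPolynomial ι k)]
  (r : ι → ℤ)
  (hr : ∀ i : ι, HopfRep.Comod.coact (k := k) (A := k[T;T⁻¹]) (MvPolynomial.X i : MvPolynomial ι k) =
      (MvPolynomial.X i : MvPolynomial ι k) ⊗ₜ[k] (T (r i) : k[T;T⁻¹]))

include hr in
theorem orbitHom_X (v : ι → k) (i : ι) :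
    GLin.orbitHom k k[T;T⁻¹] (GLin.vecPt k ι v) (MvPolynomial.X i) = v i • (T (r i) : k[T;T⁻¹]) := by
  unfold GLin.orbitHom
  simp only [AlgHom.comp_apply, GLin.coactAlgHom_apply, hr, Algebra.TensorProduct.map_tmul,
    AlgHom.coe_id, id_eq, MvPolynomial.aeval_X]
  exact Algebra.TensorProduct.lid_tmul _ _

include hr in
theorem actPt_gm (u : kˣ) (v : ι → k) :
    GLin.actPt k (gmPt u) (GLin.vecPt k ι v) =
      GLin.vecPt k ι (fun i => v i * ((u ^ r i : kˣ) : k)) := by
  apply MvPolynomial.algHom_ext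
  intro i
  unfold GLin.actPt
  rw [AlgHom.comp_apply, orbitHom_X r hr, map_smul, gmPt_T, MvPolynomial.aeval_X, smul_eq_mul]

omit [Fintype ι] in
theorem orbitHom_of_mem_invariants (x : MvPolynomial ι k →ₐ[k] k) (F : MvPolynomial ι k)
    (hF : F ∈ GLin.invariants k k[T;T⁻¹] (MvPolynomial ι k)) :
    GLin.orbitHom k k[T;T⁻¹] x F = algebraMap k k[T;T⁻¹] (x F) := by
  rw [GLin.mem_invariants_iff] at hF
  unfold GLin.orbitHom
  simp only [AlgHom.comp_apply, GLin.coactAlgHom_apply, hF, Algebra.TensorProduct.map_tmul,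
    map_one]
  rw [Algebra.algebraMap_eq_smul_one]
  exact Algebra.TensorProduct.lid_tmul _ _

include hr in
/-- an invariant polynomial is constant along `𝔾_m`-orbits -/
theorem eval_gm_of_mem_invariants (u : kˣ) (v : ι → k) (F : MvPolynomial ι k)
    (hF : F ∈ GLin.invariants k k[T;T⁻¹] (MvPolynomial ι k)) :
    MvPolynomial.eval (fun i => v i * ((u ^ r i : kˣ) : k)) F = MvPolynomial.eval v F := by
  have h1 : GLin.actPt k (gmPt u) (GLin.vecPt k ι v) F =
      GLin.vecPt k ι (fun i => v i * ((u ^ r i : kˣ) : k)) F := by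
    rw [actPt_gm r hr u v]
  unfold GLin.actPt at h1
  rw [AlgHom.comp_apply, orbitHom_of_mem_invariants _ F hF, AlgHom.commutes] at h1
  simp only [GLin.vecPt, MvPolynomial.aeval_def, Algebra.algebraMap_self, MvPolynomial.eval₂_id,
    RingHom.id_apply] at h1
  exact h1.symm

omit [HopfRep.Comod k k[T;T⁻¹] (MvPolynomial ι k)]
  [GLin.IsCoactAlg k k[T;T⁻¹] (MvPolynomial ι k)] in
/-- a polynomial which is constant along a curve `t ↦ (v i * t ^ e i)` degenerating to the origin,
and homogeneous of positive degree, vanishes at `v` -/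
theorem eval_eq_zero_of_degenerate [Infinite k] (v : ι → k) (e : ι → ℕ)
    (he : ∀ i, v i ≠ 0 → 0 < e i) (F : MvPolynomial ι k) (d : ℕ) (hd : 0 < d)
    (hF : F.IsHomogeneous d)
    (hconst : ∀ t : k, t ≠ 0 → MvPolynomial.eval (fun i => v i * t ^ e i) F = MvPolynomial.eval v F) :
    MvPolynomial.eval v F = 0 := by
  set P : Polynomial k :=
    MvPolynomial.aeval (fun i => Polynomial.C (v i) * Polynomial.X ^ e i) F with hP
  have hPeval : ∀ t : k, P.eval t = MvPolynomial.eval (fun i => v i * t ^ e i) F := by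
    intro t
    have h1 : (Polynomial.aeval t).comp
        (MvPolynomial.aeval (fun i => Polynomial.C (v i) * Polynomial.X ^ e i)) =
        (MvPolynomial.aeval (fun i => v i * t ^ e i) : MvPolynomial ι k →ₐ[k] k) := by
      apply MvPolynomial.algHom_ext
      intro i
      simp
    have h2 : (Polynomial.aeval t)
        (MvPolynomial.aeval (fun i => Polynomial.C (v i) * Polynomial.X ^ e i) F) =
        (MvPolynomial.aeval (fun i => v i * t ^ e i) : MvPolynomial ι k →ₐ[k] k) F := by
      rw [← h1]; rfl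
    rw [MvPolynomial.aeval_def (fun i => v i * t ^ e i), Algebra.algebraMap_self,
      MvPolynomial.eval₂_id] at h2
    rw [← h2, hP]
    simp [Polynomial.aeval_def, Polynomial.eval₂_eq_eval_map]
  have hQ : P - Polynomial.C (MvPolynomial.eval v F) = 0 := by
    apply Polynomial.eq_zero_of_infinite_isRoot
    refine Set.Infinite.mono ?_ (Set.Infinite.diff (Set.infinite_univ (α := k)) (Set.finite_singleton 0))
    intro t ht
    have ht0 : t ≠ 0 := by
      simpa using ht.2
    simp only [Set.mem_setOf_eq, Polynomial.IsRoot.def, Polynomial.eval_sub, Polynomial.eval_C]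
    rw [hPeval, hconst t ht0, sub_self]
  have h0 : P.eval 0 = MvPolynomial.eval v F := by
    have := congrArg (Polynomial.eval 0) (sub_eq_zero.mp hQ)
    simpa using this
  rw [← h0, hPeval]
  have hw : (fun i => v i * (0 : k) ^ e i) = 0 := by
    funext i
    by_cases hvi : v i = 0
    · simp [hvi]
    · simp [zero_pow (he i hvi).ne']
  rw [hw, MvPolynomial.eval_zero]
  simp only [MvPolynomial.constantCoeff_eq]
  apply hF.coeff_eq_zero
  simp [hd.ne]

end Diag

end Groth.Agent.H9.GmDiag
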