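import Mathlib
import Groth.Prelude.Def_GLin
import Groth.Agent.Lib.Helper9.GmDiag

/-!
# Stability for diagonal actions of the multiplicative group on affine space
-/

namespace Groth.Agent.H9.GmDiag

open TensorProduct LaurentPolynomial

universe u

section Integral

/-- a quotient-like image of the Laurent polynomial ring is integral as soon as the images of the
constants, of a positive power of `T` and of a positive power of `T⁻¹` are -/
theorem isIntegral_of_T {R B k : Type*} [CommRing R] [CommRing B] [Algebra R B] [CommRing k]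
    (g : k[T;T⁻¹] →+* B) (hC : ∀ a : k, IsIntegral R (g (C a))) (n n' : ℕ) (hn : 0 < n)
    (hn' : 0 < n') (h1 : IsIntegral R (g (T (n : ℤ)))) (h2 : IsIntegral R (g (T (-(n' : ℤ)))))
    (p : k[T;T⁻¹]) : IsIntegral R (g p) := by
  have hT1 : IsIntegral R (g (T 1)) := by
    apply IsIntegral.of_pow hn
    rw [← map_pow, T_pow, mul_one]
    exact h1
  have hT1' : IsIntegral R (g (T (-1))) := by
    apply IsIntegral.of_pow hn'
    rw [← map_pow, T_pow, mul_neg, mul_one]
    exact h2
  induction p using LaurentPolynomial.induction_on' with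
  | add p q hp hq => rw [map_add]; exact hp.add hq
  | C_mul_T m a =>
    rw [map_mul]
    refine (hC a).mul ?_
    rcases Int.eq_nat_or_neg m with ⟨j, rfl | rfl⟩
    · have : (T (j : ℤ) : k[T;T⁻¹]) = T 1 ^ j := by rw [T_pow, mul_one]
      rw [this, map_pow]
      exact hT1.pow j
    · have : (T (-(j : ℤ)) : k[T;T⁻¹]) = T (-1) ^ j := by rw [T_pow, mul_neg, mul_one]
      rw [this, map_pow]
      exact hT1'.pow j

end Integral

section Curve

variable {k : Type u} [Field k] {ι : Type u} [Fintype ι]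

/-- a polynomial function which is constant along the punctured curve `t ↦ (v i * t ^ e i)` takes
the same value at `t = 0` -/
theorem eval_const_of_curve [Infinite k] (v : ι → k) (e : ι → ℕ) (F : MvPolynomial ι k) (c : k)
    (hconst : ∀ t : k, t ≠ 0 → MvPolynomial.eval (fun i => v i * t ^ e i) F = c) :
    MvPolynomial.eval (fun i => v i * (0 : k) ^ e i) F = c := by
  set P : Polynomial k :=
    MvPolynomial.aeval (fun i => Polynomial.C (v i) * Polynomial.X ^ e i) F with hP
  have hPeval : ∀ t : k, P.eval t = MvPolynomial.eval (fun i => v i * t ^ e i) F := by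
    intro t
    have h1 : (Polynomial.aeval t).comp
        (MvPolynomial.aeval (fun i => Polynomial.C (v i) * Polynomial.X ^ e i)) =
        (MvPolynomial.aeval (fun i => v i * t ^ e i) : MvPolynomial ι k →ₐ[k] k) := by
      apply MvPolynomial.algHom_ext
      intro i
      simp
    have h2 : (Polynomial.aeval t)
        (MvPolynomial.aeval (fun i => Polynomial.C (v i) * Polynomial.X ^ e i) F) =
        (MvPolynomial.aeval (fun i => v i * t ^ e i) : MvPolynomial ι k →ₐ[k] k) F := by
      rw [← h1]; rfl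
    rw [MvPolynomial.aeval_def (fun i => v i * t ^ e i), Algebra.algebraMap_self,
      MvPolynomial.eval₂_id] at h2
    rw [← h2, hP]
    simp [Polynomial.aeval_def, Polynomial.eval₂_eq_eval_map]
  have hQ : P - Polynomial.C c = 0 := by
    apply Polynomial.eq_zero_of_infinite_isRoot
    refine Set.Infinite.mono ?_
      (Set.Infinite.diff (Set.infinite_univ (α := k)) (Set.finite_singleton 0))
    intro t ht
    have ht0 : t ≠ 0 := by
      simpa using ht.2
    simp only [Set.mem_setOf_eq, Polynomial.IsRoot.def, Polynomial.eval_sub, Polynomial.eval_C]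
    rw [hPeval, hconst t ht0, sub_self]
  have h0 : P.eval 0 = c := by
    have := congrArg (Polynomial.eval 0) (sub_eq_zero.mp hQ)
    simpa using this
  rw [← h0, hPeval]

end Curve

section Stable

variable {k : Type u} [Field k] {ι : Type u} [Fintype ι]
  [HopfRep.Comod k k[T;T⁻¹] (MvPolynomial ι k)] [GLin.IsCoactAlg k k[T;T⁻¹] (MvPolynomial ι k)]
  (r : ι → ℤ)
  (hr : ∀ i : ι, HopfRep.Comod.coact (k := k) (A := k[T;T⁻¹]) (MvPolynomial.X i : MvPolynomial ι k) =
      (MvPolynomial.X i : MvPolynomial ι k) ⊗ₜ[k] (T (r i) : k[T;T⁻¹]))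

include hr in
theorem orbitHom_C_mul_X (v : ι → k) (i : ι) (hvi : v i ≠ 0) :
    GLin.orbitHom k k[T;T⁻¹] (GLin.vecPt k ι v) (MvPolynomial.C (v i)⁻¹ * MvPolynomial.X i) =
      (T (r i) : k[T;T⁻¹]) := by
  rw [map_mul, orbitHom_X r hr, ← MvPolynomial.algebraMap_eq, AlgHom.commutes,
    Algebra.algebraMap_eq_smul_one, smul_mul_assoc, one_mul, smul_smul, inv_mul_cancel₀ hvi,
    one_smul]

include hr in
/-- closedness of the orbit when weights of both signs occur on the support -/
theorem isClosedOrbit_of_signs (v : ι → k) (i j : ι) (hvi : v i ≠ 0) (hvj : v j ≠ 0)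
    (hri : r i < 0) (hrj : 0 < r j) :
    GLin.IsClosedOrbit k k[T;T⁻¹] (GLin.vecPt k ι v) := by
  unfold GLin.IsClosedOrbit
  set φ := (GLin.orbitHom k k[T;T⁻¹] (GLin.vecPt k ι v)).toRingHom with hφ
  have hint : φ.IsIntegral := by
    intro p
    letI := φ.toAlgebra
    show IsIntegral (MvPolynomial ι k) p
    have hC : ∀ a : k, IsIntegral (MvPolynomial ι k) ((RingHom.id k[T;T⁻¹]) (C a)) := by
      intro a
      have : (C a : k[T;T⁻¹]) = algebraMap (MvPolynomial ι k) k[T;T⁻¹] (MvPolynomial.C a) := by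
        show _ = φ (MvPolynomial.C a)
        rw [hφ]
        show _ = (GLin.orbitHom k k[T;T⁻¹] (GLin.vecPt k ι v)) (MvPolynomial.C a)
        rw [← MvPolynomial.algebraMap_eq, AlgHom.commutes]
        rfl
      rw [RingHom.id_apply, this]
      exact isIntegral_algebraMap
    have h1 : IsIntegral (MvPolynomial ι k) ((RingHom.id k[T;T⁻¹]) (T ((r j).toNat : ℤ))) := by
      have : (T ((r j).toNat : ℤ) : k[T;T⁻¹]) =
          algebraMap (MvPolynomial ι k) k[T;T⁻¹] (MvPolynomial.C (v j)⁻¹ * MvPolynomial.X j) := by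
        show _ = φ _
        rw [hφ]
        show _ = (GLin.orbitHom k k[T;T⁻¹] (GLin.vecPt k ι v)) _
        rw [orbitHom_C_mul_X r hr v j hvj, Int.toNat_of_nonneg hrj.le]
      rw [RingHom.id_apply, this]
      exact isIntegral_algebraMap
    have h2 : IsIntegral (MvPolynomial ι k)
        ((RingHom.id k[T;T⁻¹]) (T (-((-(r i)).toNat : ℤ)))) := by
      have : (T (-((-(r i)).toNat : ℤ)) : k[T;T⁻¹]) =
          algebraMap (MvPolynomial ι k) k[T;T⁻¹] (MvPolynomial.C (v i)⁻¹ * MvPolynomial.X i) := by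
        show _ = φ _
        rw [hφ]
        show _ = (GLin.orbitHom k k[T;T⁻¹] (GLin.vecPt k ι v)) _
        rw [orbitHom_C_mul_X r hr v i hvi, Int.toNat_of_nonneg (by omega), neg_neg]
      rw [RingHom.id_apply, this]
      exact isIntegral_algebraMap
    exact isIntegral_of_T (RingHom.id _) hC (r j).toNat (-(r i)).toNat (by omega) (by omega) h1 h2 p
  have := PrimeSpectrum.isClosedMap_comap_of_isIntegral φ hint
  rw [← Set.image_univ]
  exact this _ isClosed_univ

include hr in
/-- finiteness of the stabiliser when a nonzero weight occurs on the support -/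
theorem hasFiniteStab_of_pos (v : ι → k) (j : ι) (hvj : v j ≠ 0) (hrj : 0 < r j) :
    GLin.HasFiniteStab k k[T;T⁻¹] (GLin.vecPt k ι v) := by
  unfold GLin.HasFiniteStab
  set I := GLin.stabIdeal k k[T;T⁻¹] (GLin.vecPt k ι v) with hI
  have hmem : (T (r j) : k[T;T⁻¹]) - 1 ∈ I := by
    have h1 : (MvPolynomial.X j - MvPolynomial.C (v j) : MvPolynomial ι k) ∈
        RingHom.ker (GLin.vecPt k ι v) := by
      rw [RingHom.mem_ker, map_sub, MvPolynomial.aeval_X, MvPolynomial.aeval_C]
      simp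
    have h2 := Ideal.mem_map_of_mem (GLin.orbitHom k k[T;T⁻¹] (GLin.vecPt k ι v)) h1
    have h3 : (GLin.orbitHom k k[T;T⁻¹] (GLin.vecPt k ι v))
        (MvPolynomial.X j - MvPolynomial.C (v j)) = C (v j) * ((T (r j) : k[T;T⁻¹]) - 1) := by
      rw [map_sub, orbitHom_X r hr, ← MvPolynomial.algebraMap_eq, AlgHom.commutes, mul_sub,
        mul_one, Algebra.smul_def]
      rfl
    rw [h3] at h2
    have h4 := I.mul_mem_left (C (v j)⁻¹) h2
    rw [← mul_assoc, ← map_mul, inv_mul_cancel₀ hvj, map_one, one_mul] at h4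
    exact h4
  have hn : (Ideal.Quotient.mk I) (T ((r j).toNat : ℤ)) = 1 := by
    rw [Int.toNat_of_nonneg hrj.le, ← map_one (Ideal.Quotient.mk I), Ideal.Quotient.eq]
    exact hmem
  have hn' : (Ideal.Quotient.mk I) (T (-((r j).toNat : ℤ))) = 1 := by
    have h1 : (Ideal.Quotient.mk I) (T (-((r j).toNat : ℤ))) *
        (Ideal.Quotient.mk I) (T ((r j).toNat : ℤ)) = 1 := by
      rw [← map_mul, ← T_add, neg_add_cancel, T_zero, map_one]
    rw [hn, mul_one] at h1
    exact h1
  haveI : Algebra.IsIntegral k (k[T;T⁻¹] ⧸ I) := by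
    constructor
    intro q
    obtain ⟨p, rfl⟩ := Ideal.Quotient.mk_surjective q
    refine isIntegral_of_T (Ideal.Quotient.mk I) ?_ (r j).toNat (r j).toNat (by omega) (by omega)
      ?_ ?_ p
    · intro a
      have : (Ideal.Quotient.mk I) (C a) = algebraMap k (k[T;T⁻¹] ⧸ I) a := rfl
      rw [this]
      exact isIntegral_algebraMap
    · rw [hn]; exact isIntegral_one
    · rw [hn']; exact isIntegral_one
  haveI : Algebra.FiniteType k (k[T;T⁻¹] ⧸ I) :=
    Algebra.FiniteType.of_surjective (Ideal.Quotient.mkₐ k I) (Ideal.Quotient.mkₐ_surjective k I)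
  exact Algebra.IsIntegral.finite

include hr in
theorem eval_eq_zero_of_mem_ker (v : ι → k) (F : MvPolynomial ι k)
    (hF : GLin.orbitHom k k[T;T⁻¹] (GLin.vecPt k ι v) F = 0) (u : kˣ) :
    MvPolynomial.eval (fun i => v i * ((u ^ r i : kˣ) : k)) F = 0 := by
  have h1 : GLin.actPt k (gmPt u) (GLin.vecPt k ι v) F =
      GLin.vecPt k ι (fun i => v i * ((u ^ r i : kˣ) : k)) F := by
    rw [actPt_gm r hr u v]
  unfold GLin.actPt at h1
  rw [AlgHom.comp_apply, hF, map_zero] at h1
  simp only [GLin.vecPt, MvPolynomial.aeval_def, Algebra.algebraMap_self, MvPolynomial.eval₂_id] at h1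
  exact h1.symm

include hr in
/-- the orbit is not closed when it degenerates along a curve -/
theorem not_isClosedOrbit_of_degenerate [Infinite k] (v : ι → k) (e : ι → ℕ)
    (hU : ∀ t : k, t ≠ 0 → ∃ u : kˣ, ∀ i, v i * ((u ^ r i : kˣ) : k) = v i * t ^ e i)
    (j₀ : ι) (hvj₀ : v j₀ ≠ 0) (hej₀ : 0 < e j₀) :
    ¬ GLin.IsClosedOrbit k k[T;T⁻¹] (GLin.vecPt k ι v) := by
  intro hcl
  unfold GLin.IsClosedOrbit at hcl
  set φ := (GLin.orbitHom k k[T;T⁻¹] (GLin.vecPt k ι v)).toRingHom with hφ
  set w : ι → k := fun i => v i * (0 : k) ^ e i with hw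
  let 𝔪 : PrimeSpectrum (MvPolynomial ι k) :=
    ⟨RingHom.ker (MvPolynomial.aeval w : MvPolynomial ι k →ₐ[k] k), RingHom.ker_isPrime _⟩
  have hker : RingHom.ker φ ≤ 𝔪.asIdeal := by
    intro F hF
    rw [RingHom.mem_ker] at hF
    show F ∈ RingHom.ker (MvPolynomial.aeval w : MvPolynomial ι k →ₐ[k] k)
    rw [RingHom.mem_ker, MvPolynomial.aeval_def, Algebra.algebraMap_self, MvPolynomial.eval₂_id]
    apply eval_const_of_curve v e F 0
    intro t ht
    obtain ⟨u, hu⟩ := hU t ht
    have h1 := eval_eq_zero_of_mem_ker r hr v F hF u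
    rw [← h1]
    congr 2
    funext i
    exact (hu i).symm
  have hmem : 𝔪 ∈ closure (Set.range (PrimeSpectrum.comap φ)) := by
    rw [PrimeSpectrum.closure_range_comap, PrimeSpectrum.mem_zeroLocus]
    exact hker
  rw [hcl.closure_eq] at hmem
  obtain ⟨𝔭, h𝔭⟩ := hmem
  have hX : (MvPolynomial.X j₀ : MvPolynomial ι k) ∈ 𝔪.asIdeal := by
    show _ ∈ RingHom.ker (MvPolynomial.aeval w : MvPolynomial ι k →ₐ[k] k)
    rw [RingHom.mem_ker, MvPolynomial.aeval_X, hw]
    simp [zero_pow hej₀.ne']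
  rw [← h𝔭] at hX
  have hX' : φ (MvPolynomial.X j₀) ∈ 𝔭.asIdeal := hX
  have hunit : IsUnit (φ (MvPolynomial.X j₀)) := by
    have : φ (MvPolynomial.X j₀) = v j₀ • (T (r j₀) : k[T;T⁻¹]) := orbitHom_X r hr v j₀
    rw [this]
    refine IsUnit.of_mul_eq_one ((v j₀)⁻¹ • (T (-(r j₀)) : k[T;T⁻¹])) ?_
    rw [smul_mul_smul_comm, mul_inv_cancel₀ hvj₀, ← T_add, add_neg_cancel, T_zero, one_smul]
  exact 𝔭.isPrime.ne_top (Ideal.eq_top_of_isUnit_mem _ hX' hunit)

include hr in
/-- the stabiliser is not finite when all weights on the support vanish -/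
theorem not_hasFiniteStab_of_zero (v : ι → k) (h0 : ∀ i, v i ≠ 0 → r i = 0) :
    ¬ GLin.HasFiniteStab k k[T;T⁻¹] (GLin.vecPt k ι v) := by
  intro hfin
  unfold GLin.HasFiniteStab at hfin
  have hφ : GLin.orbitHom k k[T;T⁻¹] (GLin.vecPt k ι v) =
      (Algebra.ofId k k[T;T⁻¹]).comp (GLin.vecPt k ι v) := by
    apply MvPolynomial.algHom_ext
    intro i
    rw [orbitHom_X r hr, AlgHom.comp_apply, MvPolynomial.aeval_X, Algebra.ofId_apply,
      Algebra.algebraMap_eq_smul_one]
    by_cases hvi : v i = 0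
    · rw [hvi, zero_smul, zero_smul]
    · rw [h0 i hvi, T_zero]
  have hbot : GLin.stabIdeal k k[T;T⁻¹] (GLin.vecPt k ι v) = ⊥ := by
    unfold GLin.stabIdeal
    rw [eq_bot_iff, Ideal.map_le_iff_le_comap]
    intro F hF
    rw [RingHom.mem_ker] at hF
    rw [Ideal.mem_comap, hφ, AlgHom.comp_apply, hF, map_zero]
    exact Ideal.zero_mem _
  rw [hbot] at hfin
  have h1 : Module.Finite k k[T;T⁻¹] :=
    Module.Finite.equiv ((AlgEquiv.quotientBot k k[T;T⁻¹]).toLinearEquiv)
  haveI : IsNoetherian k k[T;T⁻¹] := isNoetherian_of_isNoetherianRing_of_finite k _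
  have h2 : Module.Finite k (Polynomial k) :=
    Module.Finite.of_injective (Polynomial.toLaurentAlg (R := k)).toLinearMap
      Polynomial.toLaurent_injective
  exact Polynomial.not_finite h2

end Stable

end Groth.Agent.H9.GmDiag
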