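import Mathlib

/-!
# Polynomial facts on cyclotomic polynomials over a ring in which `n` is invertible
-/

open Polynomial

namespace Groth.Agent.H9.GrpAlg

variable {Λ : Type*} [CommRing Λ]

theorem separable_X_pow_sub_one {n : ℕ} (hn : IsUnit (n : Λ)) :
    (X ^ n - 1 : Λ[X]).Separable := by
  have := separable_X_pow_sub_C_unit (1 : Λˣ) hn
  simpa using this

/-- For `n` invertible in `Λ` and `d` a proper divisor of `n`, `X^d − 1` and `Φ_n` are coprime. -/
theorem isCoprime_X_pow_sub_one_cyclotomic {n d : ℕ} (hn : IsUnit (n : Λ)) (hd : d ∣ n)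
    (hdn : d < n) : IsCoprime (X ^ d - 1 : Λ[X]) (cyclotomic n Λ) := by
  have h1 : ((X ^ d - 1) * cyclotomic n Λ : Λ[X]) ∣ X ^ n - 1 :=
    X_pow_sub_one_mul_cyclotomic_dvd_X_pow_sub_one_of_dvd Λ (Nat.mem_properDivisors.2 ⟨hd, hdn⟩)
  exact ((separable_X_pow_sub_one hn).of_dvd h1).isCoprime

/-- For `n` invertible in `Λ`, the cyclotomic polynomials `Φ_d`, `d ∣ n`, are pairwise coprime. -/
theorem isCoprime_cyclotomic {n d e : ℕ} (hn : IsUnit (n : Λ)) (hd : d ∣ n) (he : e ∣ n)
    (hde : d ≠ e) : IsCoprime (cyclotomic d Λ) (cyclotomic e Λ) := by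
  rcases subsingleton_or_nontrivial Λ with hS | hN
  · exact ⟨0, 0, Subsingleton.elim _ _⟩
  have hn0 : n ≠ 0 := by
    rintro rfl
    simp at hn
  have hdm : d ∈ n.divisors := Nat.mem_divisors.2 ⟨hd, hn0⟩
  have hem : e ∈ n.divisors.erase d := Finset.mem_erase.2 ⟨hde.symm, Nat.mem_divisors.2 ⟨he, hn0⟩⟩
  have h1 : (cyclotomic d Λ * cyclotomic e Λ : Λ[X]) ∣ X ^ n - 1 := by
    rw [← prod_cyclotomic_eq_X_pow_sub_one (Nat.pos_of_ne_zero hn0) Λ,
      ← Finset.mul_prod_erase _ _ hdm, ← Finset.mul_prod_erase _ _ hem, ← mul_assoc]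
    exact dvd_mul_right _ _
  exact ((separable_X_pow_sub_one hn).of_dvd h1).isCoprime

/-- `Φ_d ∣ Φ_d(X^k)` for `k` coprime to `d`. -/
theorem cyclotomic_dvd_expand (k : ℕ) : ∀ d : ℕ, Nat.Coprime k d →
    cyclotomic d Λ ∣ expand Λ k (cyclotomic d Λ) := by
  induction k using Nat.recOnMul with
  | zero =>
    intro d hd
    have : d = 1 := by simpa using hd
    subst this
    simp [cyclotomic_one]
  | one => intro d _; simp
  | prime p hp =>
    intro d hd
    have hpd : ¬ p ∣ d := fun h => by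
      have := Nat.Coprime.eq_one_of_dvd hd h
      exact hp.one_lt.ne' this
    rw [cyclotomic_expand_eq_cyclotomic_mul hp hpd]
    exact dvd_mul_left _ _
  | mul a b ha hb =>
    intro d hd
    have hda : Nat.Coprime a d := Nat.Coprime.coprime_mul_right hd
    have hdb : Nat.Coprime b d := Nat.Coprime.coprime_mul_left hd
    rw [expand_mul]
    exact (ha d hda).trans (map_dvd (expand Λ a) (hb d hdb))

end Groth.Agent.H9.GrpAlg
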