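import Mathlib
import Groth.Prelude.Def_W4c6equivkfinstabCyc
import Groth.Agent.Lib.Helper9.GrpAlgPoly

/-!
# Cyclotomic quotients of group rings of finite cyclic groups: the unit lemma
-/

open Polynomial W4c6equivkfinstab AddMonoidAlgebra

namespace Groth.Agent.H9.GrpAlg

variable {Λ : Type*} [CommRing Λ]

section Unit
variable {C : Type*} [AddCommGroup C]

theorem single_one_pow (g : C) (k : ℕ) : (single g (1 : Λ)) ^ k = single (k • g) 1 := by
  rw [AddMonoidAlgebra.single_pow, one_pow]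

theorem aeval_single_mem_cycIdeal {g : C} (hg : AddSubgroup.zmultiples g = ⊤) :
    aeval (single g (1 : Λ)) (cyclotomic (Nat.card C) Λ) ∈ cycIdeal Λ C :=
  Ideal.subset_span ⟨g, hg, rfl⟩

theorem aeval_mk (I : Ideal (AddMonoidAlgebra Λ C)) (x : AddMonoidAlgebra Λ C) (p : Λ[X]) :
    aeval (Ideal.Quotient.mk I x) p = Ideal.Quotient.mk I (aeval x p) :=
  Polynomial.aeval_algHom_apply (Ideal.Quotient.mkₐ Λ I) x p

/-- In the cyclotomic quotient of the group ring of a finite cyclic group `C` whose order is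
invertible in `Λ`, the element `[c] - 1` is a unit for each `c ≠ 0`. -/
theorem isUnit_single_sub_one [Finite C] [IsAddCyclic C] (hn : IsUnit ((Nat.card C : ℕ) : Λ))
    {c : C} (hc : c ≠ 0) :
    IsUnit (Ideal.Quotient.mk (cycIdeal Λ C) (single c 1) - 1) := by
  obtain ⟨g, hg⟩ := IsAddCyclic.exists_addMonoid_generator (α := C)
  set n := Nat.card C with hn_def
  have hn0 : 0 < n := Nat.card_pos
  have hgtop : AddSubgroup.zmultiples g = ⊤ := by
    rw [AddSubgroup.eq_top_iff']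
    intro y
    obtain ⟨k, hk⟩ := (AddSubmonoid.mem_multiples_iff _ _).1 (hg y)
    exact AddSubgroup.mem_zmultiples_iff.2 ⟨k, by simpa using hk⟩
  set ζ : CycQuot Λ C := Ideal.Quotient.mk (cycIdeal Λ C) (single g 1) with hζ
  have hζpow : ∀ k : ℕ, ζ ^ k = Ideal.Quotient.mk (cycIdeal Λ C) (single (k • g) 1) := by
    intro k
    rw [hζ, ← map_pow, single_one_pow]
  have hζn : ζ ^ n = 1 := by
    rw [hζpow, hn_def, card_nsmul_eq_zero']
    rfl
  have hΦ : aeval ζ (cyclotomic n Λ) = 0 := by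
    rw [hζ, aeval_mk, Ideal.Quotient.eq_zero_iff_mem]
    exact aeval_single_mem_cycIdeal hgtop
  obtain ⟨k, hk⟩ := (AddSubmonoid.mem_multiples_iff _ _).1 (hg c)
  have hkn : ¬ n ∣ k := by
    rintro ⟨j, rfl⟩
    apply hc
    rw [← hk, mul_smul, hn_def, card_nsmul_eq_zero']
  have hd : Nat.gcd k n < n := by
    rcases (Nat.le_of_dvd hn0 (Nat.gcd_dvd_right k n)).lt_or_eq with h | h
    · exact h
    · exact absurd (h ▸ Nat.gcd_dvd_left k n) hkn
  have hunit : IsUnit (ζ ^ (Nat.gcd k n) - 1) := by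
    obtain ⟨a, b, hab⟩ := isCoprime_X_pow_sub_one_cyclotomic (Λ := Λ) hn
      (Nat.gcd_dvd_right k n) hd
    have := congrArg (aeval ζ) hab
    simp only [map_add, map_mul, map_sub, map_pow, aeval_X, map_one, hΦ, mul_zero,
      add_zero] at this
    exact IsUnit.of_mul_eq_one _ (by rw [mul_comm]; exact this)
  obtain ⟨m, -, hm⟩ := Nat.exists_mul_mod_eq_gcd hd
  have h1 : ζ ^ (Nat.gcd k n) = (ζ ^ k) ^ m := by
    rw [← pow_mul, pow_eq_pow_mod (k * m) hζn, hm]
  rw [h1] at hunit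
  have h2 : Ideal.Quotient.mk (cycIdeal Λ C) (single c 1) = ζ ^ k := by rw [hζpow, hk]
  rw [h2]
  exact isUnit_of_dvd_unit (sub_one_dvd_pow_sub_one _ m) hunit

end Unit

end Groth.Agent.H9.GrpAlg
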