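import Mathlib

/-!
# A finite abelian group that is not cyclic contains `(ℤ/p)²` for some prime `p`
-/

namespace Groth.Agent.H9.GrpAlg

open Finset

variable {A : Type*} [AddCommGroup A]

/-- If the `p`-torsion of `A` is "cyclic" then it has at most `p` elements. -/
theorem card_torsion_prime_le [Fintype A] [DecidableEq A] {p : ℕ} (hp : p.Prime)
    (h : ∀ a b : A, p • a = 0 → p • b = 0 → a ≠ 0 → b ∈ AddSubgroup.zmultiples a) :
    #{a : A | p • a = 0} ≤ p := by
  by_cases h0 : ∀ a : A, p • a = 0 → a = 0
  · have : ({a : A | p • a = 0} : Finset A) ⊆ {0} := by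
      intro a ha
      simp only [mem_filter, mem_univ, true_and] at ha
      simp [h0 a ha]
    exact (card_le_card this).trans (by simpa using hp.one_lt.le)
  · push Not at h0
    obtain ⟨a, hpa, ha⟩ := h0
    have hsub : ({b : A | p • b = 0} : Finset A) ⊆ (range p).image (fun i : ℕ => i • a) := by
      intro b hb
      simp only [mem_filter, mem_univ, true_and] at hb
      obtain ⟨z, hz⟩ := AddSubgroup.mem_zmultiples_iff.1 (h a b hpa hb ha)
      rw [mem_image]
      have hp0 : (p : ℤ) ≠ 0 := by exact_mod_cast hp.ne_zero
      refine ⟨(z % p).toNat, ?_, ?_⟩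
      · rw [mem_range]
        have := Int.emod_lt_of_pos z (by exact_mod_cast hp.pos : (0 : ℤ) < p)
        omega
      · rw [← hz, ← natCast_zsmul, Int.toNat_of_nonneg (Int.emod_nonneg z hp0)]
        conv_rhs => rw [← Int.emod_add_mul_ediv z p]
        rw [add_zsmul, mul_zsmul, natCast_zsmul, smul_comm, hpa, smul_zero, add_zero]
    exact (card_le_card hsub).trans (card_image_le.trans (by simp))

theorem card_torsion_le [Fintype A] [DecidableEq A]
    (h : ∀ p : ℕ, p.Prime → ∀ a b : A, p • a = 0 → p • b = 0 → a ≠ 0 →
      b ∈ AddSubgroup.zmultiples a) :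
    ∀ n : ℕ, 0 < n → #{a : A | n • a = 0} ≤ n := by
  intro n
  induction n using Nat.strong_induction_on with
  | _ n ih =>
    intro hn
    rcases Nat.lt_or_ge 1 n with h1 | h1
    · set p := n.minFac with hp_def
      have hp : p.Prime := Nat.minFac_prime (by omega)
      obtain ⟨n', hn'⟩ : p ∣ n := Nat.minFac_dvd n
      have hn'0 : 0 < n' := by
        rcases Nat.eq_zero_or_pos n' with h0 | h0
        · rw [h0, mul_zero] at hn'; omega
        · exact h0
      have hn'lt : n' < n := by
        rw [hn']
        exact lt_mul_of_one_lt_left hn'0 hp.one_lt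
      have key := card_le_mul_card_image_of_maps_to
        (s := ({a : A | n • a = 0} : Finset A)) (t := ({a : A | n' • a = 0} : Finset A))
        (f := fun a => p • a) ?_ p ?_
      · calc #{a : A | n • a = 0} ≤ p * #{a : A | n' • a = 0} := key
          _ ≤ p * n' := Nat.mul_le_mul_left _ (ih n' hn'lt hn'0)
          _ = n := hn'.symm
      · intro a ha
        simp only [mem_filter, mem_univ, true_and] at ha ⊢
        rw [← mul_smul, mul_comm, ← hn']
        exact ha
      · intro y _
        by_cases hy : ∃ x₀ : A, n • x₀ = 0 ∧ p • x₀ = y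
        · obtain ⟨x₀, hx₀, hx₀y⟩ := hy
          have hinj : #{a ∈ ({a : A | n • a = 0} : Finset A) | p • a = y} ≤
              #{a : A | p • a = 0} := by
            apply card_le_card_of_injOn (fun a => a - x₀)
            · intro a ha
              simp only [coe_filter, mem_filter, mem_univ, true_and, Set.mem_ofPred_eq] at ha ⊢
              rw [smul_sub, ha.2, hx₀y, sub_self]
            · intro a _ b _ hab
              simpa using hab
          exact hinj.trans (card_torsion_prime_le hp (h p hp))
        · have : ({a ∈ ({a : A | n • a = 0} : Finset A) | p • a = y} : Finset A) = ∅ := by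
            rw [eq_empty_iff_forall_notMem]
            intro a ha
            simp only [mem_filter, mem_univ, true_and] at ha
            exact hy ⟨a, ha.1, ha.2⟩
          rw [this]
          simp
    · have hn1 : n = 1 := by omega
      subst hn1
      have : ({a : A | 1 • a = 0} : Finset A) ⊆ {0} := by
        intro a ha
        simpa using ha
      exact (card_le_card this).trans (by simp)

/-- A finite abelian group that is not cyclic contains two independent elements of some prime
order `p`. -/
theorem exists_prime_of_not_isAddCyclic [Finite A] (hA : ¬ IsAddCyclic A) :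
    ∃ p : ℕ, p.Prime ∧ ∃ a b : A, p • a = 0 ∧ p • b = 0 ∧ a ≠ 0 ∧
      b ∉ AddSubgroup.zmultiples a := by
  classical
  by_contra hcon
  push Not at hcon
  apply hA
  have := Fintype.ofFinite A
  exact isAddCyclic_of_card_nsmul_eq_zero_le (card_torsion_le fun p hp a b ha hb ha0 =>
    hcon p hp a b ha hb ha0)

end Groth.Agent.H9.GrpAlg
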