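import Mathlib
import Groth.Prelude.Def_W4c6equivkfinstabCyc
import Groth.Agent.Lib.Helper9.GrpAlgCyc

/-!
# Kernel of `quotMap`, and separation of distinct dual cyclic subgroups
-/

open Polynomial W4c6equivkfinstab AddMonoidAlgebra

namespace Groth.Agent.H9.GrpAlg

variable {Λ : Type*} [CommRing Λ] {M : Type*} [AddCommGroup M]

theorem quotMap_single (B : AddSubgroup M) (m : M) (r : Λ) :
    quotMap Λ M B (single m r) = single (QuotientAddGroup.mk' B m) r := by
  simp [quotMap]

theorem quotMap_single_of_mem {B : AddSubgroup M} {b : M} (hb : b ∈ B) :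
    quotMap Λ M B (single b 1 - 1) = 0 := by
  rw [map_sub, map_one, quotMap_single]
  have : QuotientAddGroup.mk' B b = 0 := (QuotientAddGroup.eq_zero_iff b).2 hb
  rw [this]
  exact sub_self _

theorem quotMap_surjective (B : AddSubgroup M) : Function.Surjective (quotMap Λ M B) := by
  intro y
  induction y using AddMonoidAlgebra.induction_linear with
  | zero => exact ⟨0, map_zero _⟩
  | add x y hx hy =>
    obtain ⟨a, rfl⟩ := hx
    obtain ⟨b, rfl⟩ := hy
    exact ⟨a + b, map_add _ _ _⟩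
  | single c r =>
    obtain ⟨m, rfl⟩ := QuotientAddGroup.mk'_surjective B c
    exact ⟨single m r, quotMap_single B m r⟩

theorem cycQuotMap_surjective (B : AddSubgroup M) :
    Function.Surjective (cycQuotMap Λ M B) :=
  Ideal.Quotient.mk_surjective.comp (quotMap_surjective B)

theorem cycQuotMap_apply (B : AddSubgroup M) (x : AddMonoidAlgebra Λ M) :
    cycQuotMap Λ M B x = Ideal.Quotient.mk _ (quotMap Λ M B x) := rfl

theorem cycQuotMap_eq_zero_of_quotMap {B : AddSubgroup M} {x : AddMonoidAlgebra Λ M}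
    (h : quotMap Λ M B x = 0) : cycQuotMap Λ M B x = 0 := by
  rw [cycQuotMap_apply, h, map_zero]

variable (Λ) in
/-- The ideal of `Λ[M]` generated by the `[b] - 1`, `b ∈ B`. -/
noncomputable def augIdeal (B : AddSubgroup M) : Ideal (AddMonoidAlgebra Λ M) :=
  Ideal.span {x | ∃ b ∈ B, x = single b 1 - 1}

theorem single_sub_single_mem_augIdeal {B : AddSubgroup M} {m m' : M} (h : m - m' ∈ B) (r : Λ) :
    single m r - single m' r ∈ augIdeal Λ B := by
  have : single m r - single m' r = single m' r * (single (m - m') 1 - 1) := by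
    rw [mul_sub, mul_one, AddMonoidAlgebra.single_mul_single, mul_one, add_sub_cancel]
  rw [this]
  exact Ideal.mul_mem_left _ _ (Ideal.subset_span ⟨_, h, rfl⟩)

theorem sub_mapDomain_out_mem (B : AddSubgroup M) (x : AddMonoidAlgebra Λ M) :
    x - AddMonoidAlgebra.mapDomain (fun m => (QuotientAddGroup.mk' B m).out) x ∈ augIdeal Λ B := by
  induction x using AddMonoidAlgebra.induction_linear with
  | zero => simp
  | add x y hx hy =>
    rw [AddMonoidAlgebra.mapDomain_add, add_sub_add_comm]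
    exact add_mem hx hy
  | single m r =>
    rw [AddMonoidAlgebra.mapDomain_single]
    apply single_sub_single_mem_augIdeal
    have h1 : QuotientAddGroup.mk' B ((QuotientAddGroup.mk' B m).out) = QuotientAddGroup.mk' B m :=
      QuotientAddGroup.out_eq' _
    have h2 : QuotientAddGroup.mk' B (m - (QuotientAddGroup.mk' B m).out) = 0 := by
      rw [map_sub, h1, sub_self]
    exact (QuotientAddGroup.eq_zero_iff _).1 h2

theorem ker_quotMap (B : AddSubgroup M) :
    RingHom.ker (quotMap Λ M B) = augIdeal Λ B := by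
  apply le_antisymm
  · intro x hx
    rw [RingHom.mem_ker] at hx
    have h1 := sub_mapDomain_out_mem (Λ := Λ) B x
    have h2 : AddMonoidAlgebra.mapDomain (fun m => (QuotientAddGroup.mk' B m).out) x =
        AddMonoidAlgebra.mapDomain (fun c : M ⧸ B => c.out) (quotMap Λ M B x) := by
      ext : 1
      simp [quotMap, AddMonoidAlgebra.mapDomain, ← Finsupp.mapDomain_comp, Function.comp_def]
    rw [h2, hx, AddMonoidAlgebra.mapDomain_zero, sub_zero] at h1
    exact h1
  · rw [augIdeal, Ideal.span_le]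
    rintro _ ⟨b, hb, rfl⟩
    exact quotMap_single_of_mem hb

theorem exists_sep' {B₀ B : AddSubgroup M} [B.FiniteIndex] [IsAddCyclic (M ⧸ B)]
    (hle : ¬ B₀ ≤ B) (hB : IsUnit ((B.index : ℕ) : Λ)) :
    ∃ s : AddMonoidAlgebra Λ M, quotMap Λ M B₀ s = 0 ∧ cycQuotMap Λ M B s = 1 := by
  obtain ⟨b, hb0, hb⟩ := SetLike.not_le_iff_exists.1 hle
  have hfin : Finite (M ⧸ B) := AddSubgroup.finite_quotient_of_finiteIndex
  have hc : (QuotientAddGroup.mk' B b) ≠ 0 := fun h => hb ((QuotientAddGroup.eq_zero_iff b).1 h)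
  have hcard : IsUnit ((Nat.card (M ⧸ B) : ℕ) : Λ) := by
    rw [← AddSubgroup.index_eq_card]; exact hB
  have hu := isUnit_single_sub_one (Λ := Λ) hcard hc
  obtain ⟨u, hu'⟩ := hu.exists_right_inv
  obtain ⟨w, rfl⟩ := cycQuotMap_surjective (Λ := Λ) B u
  refine ⟨(single b 1 - 1) * w, ?_, ?_⟩
  · rw [map_mul, quotMap_single_of_mem hb0, zero_mul]
  · rw [map_mul, ← hu']
    congr 1
    rw [cycQuotMap_apply, map_sub, map_one, quotMap_single, map_sub, map_one]

theorem exists_sep {B B' : AddSubgroup M} [B.FiniteIndex] [B'.FiniteIndex]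
    [IsAddCyclic (M ⧸ B)] [IsAddCyclic (M ⧸ B')] (hne : B ≠ B')
    (hB : IsUnit ((B.index : ℕ) : Λ)) (hB' : IsUnit ((B'.index : ℕ) : Λ)) :
    ∃ s : AddMonoidAlgebra Λ M, cycQuotMap Λ M B s = 0 ∧ cycQuotMap Λ M B' s = 1 := by
  by_cases h : B ≤ B'
  · have h' : ¬ B' ≤ B := fun h' => hne (le_antisymm h h')
    obtain ⟨s, hs0, hs1⟩ := exists_sep' (Λ := Λ) h' hB
    refine ⟨1 - s, ?_, ?_⟩
    · rw [map_sub, map_one, hs1, sub_self]
    · rw [map_sub, map_one, cycQuotMap_eq_zero_of_quotMap hs0, sub_zero]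
  · obtain ⟨s, hs0, hs1⟩ := exists_sep' (Λ := Λ) h hB'
    exact ⟨s, cycQuotMap_eq_zero_of_quotMap hs0, hs1⟩

end Groth.Agent.H9.GrpAlg
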