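import Mathlib
import Groth.Prelude.Def_W4c6equivkfinstabCyc
import Groth.Agent.Lib.Helper9.GrpAlgSep
import Groth.Agent.Lib.Helper9.GrpAlgNoncyc

/-!
# The intersection of the kernels of the cyclotomic quotients of `Λ[A]` is zero
-/

open Polynomial W4c6equivkfinstab AddMonoidAlgebra

namespace Groth.Agent.H9.GrpAlg

variable {Λ : Type*} [CommRing Λ] {A : Type*} [AddCommGroup A]

/-- Cyclic case. -/
theorem eq_zero_of_cyclic [Finite A] (hu : IsUnit ((Nat.card A : ℕ) : Λ)) [IsAddCyclic A]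
    (y : AddMonoidAlgebra Λ A)
    (hb : ∀ H : AddSubgroup A, H ≠ ⊥ → y ∈ augIdeal Λ H) (ha : y ∈ cycIdeal Λ A) : y = 0 := by
  obtain ⟨g, hg⟩ := IsAddCyclic.exists_addMonoid_generator (α := A)
  set m := Nat.card A with hm_def
  have hm0 : 0 < m := Nat.card_pos
  set γ : AddMonoidAlgebra Λ A := single g 1 with hγ
  have hγpow : ∀ k : ℕ, γ ^ k = single (k • g) 1 := fun k => single_one_pow g k
  have hγm : γ ^ m = 1 := by rw [hγpow, hm_def, card_nsmul_eq_zero']; rfl
  have hord : addOrderOf g = m := addOrderOf_eq_card_of_forall_mem_multiples hg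
  have hdvd : ∀ e ∈ m.divisors, aeval γ (cyclotomic e Λ) ∣ y := by
    intro e he
    rw [Nat.mem_divisors] at he
    rcases eq_or_ne e m with hem | hem
    · rw [hem]
      have : cycIdeal Λ A ≤ Ideal.span {aeval γ (cyclotomic m Λ)} := by
        rw [cycIdeal, Ideal.span_le]
        rintro _ ⟨g', hg', rfl⟩
        obtain ⟨k, rfl⟩ := (AddSubmonoid.mem_multiples_iff _ _).1 (hg g')
        have hcop : Nat.Coprime k m := by
          have h1 := addOrderOf_eq_card_of_zmultiples_eq_top hg'
          rw [addOrderOf_nsmul, hord, ← hm_def] at h1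
          rcases Nat.div_eq_self.1 h1 with h2 | h2
          · omega
          · rw [Nat.coprime_comm]; exact h2
        rw [SetLike.mem_coe, Ideal.mem_span_singleton, ← hm_def, ← hγpow, ← expand_aeval]
        exact map_dvd (aeval γ) (cyclotomic_dvd_expand k m hcop)
      exact Ideal.mem_span_singleton.1 (this ha)
    · have helt : e < m := lt_of_le_of_ne (Nat.le_of_dvd hm0 he.1) hem
      have he0 : 0 < e := Nat.pos_of_dvd_of_pos he.1 hm0
      have hne : AddSubgroup.zmultiples (e • g) ≠ ⊥ := by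
        rw [Ne, AddSubgroup.zmultiples_eq_bot]
        intro h
        have := addOrderOf_dvd_of_nsmul_eq_zero h
        rw [hord] at this
        exact absurd (Nat.le_of_dvd he0 this) (not_le.2 helt)
      have h1 := hb _ hne
      have h2 : augIdeal Λ (AddSubgroup.zmultiples (e • g)) ≤ Ideal.span {γ ^ e - 1} := by
        rw [augIdeal, Ideal.span_le]
        rintro _ ⟨h, hh, rfl⟩
        rw [← mem_multiples_iff_mem_zmultiples] at hh
        obtain ⟨j, rfl⟩ := (AddSubmonoid.mem_multiples_iff _ _).1 hh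
        rw [SetLike.mem_coe, Ideal.mem_span_singleton, ← mul_smul, mul_comm, ← hγpow, pow_mul]
        exact sub_one_dvd_pow_sub_one _ j
      have h3 : aeval γ (cyclotomic e Λ) ∣ γ ^ e - 1 := by
        have := map_dvd (aeval γ) (cyclotomic.dvd_X_pow_sub_one e Λ)
        simpa using this
      exact h3.trans (Ideal.mem_span_singleton.1 (h2 h1))
  have hprod : ∏ e ∈ m.divisors, aeval γ (cyclotomic e Λ) ∣ y := by
    apply Finset.prod_dvd_of_coprime _ hdvd
    intro d hd e he hde
    exact (isCoprime_cyclotomic hu (Nat.mem_divisors.1 hd).1 (Nat.mem_divisors.1 he).1 hde).map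
      (aeval γ : Λ[X] →ₐ[Λ] AddMonoidAlgebra Λ A).toRingHom
  rw [← map_prod, prod_cyclotomic_eq_X_pow_sub_one hm0] at hprod
  simp only [map_sub, map_pow, aeval_X, map_one, hγm, sub_self] at hprod
  exact zero_dvd_iff.1 hprod

end Groth.Agent.H9.GrpAlg

namespace Groth.Agent.H9.GrpAlg

open Polynomial W4c6equivkfinstab AddMonoidAlgebra

variable {Λ : Type*} [CommRing Λ] {A : Type*} [AddCommGroup A]

section Noncyclic

variable {p : ℕ} [Fact p.Prime]

variable (Λ) in
/-- The sum of the group-ring elements of the image of `φ : ZMod p →+ A`. -/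
noncomputable def sSum (φ : ZMod p →+ A) : AddMonoidAlgebra Λ A :=
  ∑ i : ZMod p, single (φ i) 1

theorem single_mul_sSum (φ : ZMod p →+ A) (j : ZMod p) :
    single (φ j) (1 : Λ) * sSum Λ φ = sSum Λ φ := by
  unfold sSum
  rw [Finset.mul_sum]
  simp_rw [AddMonoidAlgebra.single_mul_single, mul_one, ← map_add]
  exact Fintype.sum_equiv (Equiv.addLeft j) _ _ (fun i => rfl)

theorem mul_sSum_eq_zero_of_mem (φ : ZMod p →+ A) {y : AddMonoidAlgebra Λ A}
    (hy : y ∈ augIdeal Λ φ.range) : y * sSum Λ φ = 0 := by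
  unfold augIdeal at hy
  induction hy using Submodule.span_induction with
  | mem x hx =>
    obtain ⟨b, ⟨j, rfl⟩, rfl⟩ := hx
    rw [sub_mul, one_mul, single_mul_sSum, sub_self]
  | zero => exact zero_mul _
  | add x y _ _ hx hy => rw [add_mul, hx, hy, add_zero]
  | smul a x _ hx => rw [smul_eq_mul, mul_assoc, hx, mul_zero]

theorem sum_single_mul (φ : ZMod p →+ A) {i : ZMod p} (hi : i ≠ 0) :
    ∑ j : ZMod p, single (φ (j * i)) (1 : Λ) = sSum Λ φ :=
  Fintype.sum_equiv (Equiv.mulRight₀ i hi) _ _ (fun _ => rfl)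

theorem sSum_identity (φa φb : ZMod p →+ A) :
    sSum Λ φa + ∑ j : ZMod p, sSum Λ (φb + φa.comp (AddMonoidHom.mulLeft j)) =
      (p : AddMonoidAlgebra Λ A) + sSum Λ φa * sSum Λ φb := by
  classical
  have hT : ∀ i : ZMod p, ∑ j : ZMod p, single (φa (j * i)) (1 : Λ) =
      sSum Λ φa + (if i = 0 then ((p : AddMonoidAlgebra Λ A) - sSum Λ φa) else 0) := by
    intro i
    by_cases hi : i = 0
    · subst hi
      simp only [mul_zero, map_zero, if_true, add_sub_cancel]
      rw [Finset.sum_const, Finset.card_univ, ZMod.card, nsmul_eq_mul]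
      rw [show (single (0 : A) (1 : Λ)) = 1 from rfl, mul_one]
    · rw [if_neg hi, add_zero, sum_single_mul φa hi]
  have h1 : ∑ j : ZMod p, sSum Λ (φb + φa.comp (AddMonoidHom.mulLeft j)) =
      ∑ i : ZMod p, single (φb i) (1 : Λ) * ∑ j : ZMod p, single (φa (j * i)) (1 : Λ) := by
    unfold sSum
    rw [Finset.sum_comm]
    refine Finset.sum_congr rfl fun i _ => ?_
    rw [Finset.mul_sum]
    refine Finset.sum_congr rfl fun j _ => ?_
    rw [AddMonoidAlgebra.single_mul_single, mul_one]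
    rfl
  rw [h1]
  simp_rw [hT, mul_add, Finset.sum_add_distrib, mul_ite, mul_zero]
  rw [Finset.sum_ite_eq' Finset.univ (0 : ZMod p), if_pos (Finset.mem_univ _), map_zero,
    show (single (0 : A) (1 : Λ)) = 1 from rfl, one_mul, ← Finset.sum_mul]
  have : ∑ i : ZMod p, single (φb i) (1 : Λ) = sSum Λ φb := rfl
  rw [this]
  ring

/-- Non-cyclic case. -/
theorem eq_zero_of_not_cyclic [Finite A] (hu : IsUnit ((Nat.card A : ℕ) : Λ))
    (hA : ¬ IsAddCyclic A) (y : AddMonoidAlgebra Λ A)
    (hb : ∀ H : AddSubgroup A, H ≠ ⊥ → y ∈ augIdeal Λ H) : y = 0 := by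
  obtain ⟨p, hp, a, b, hpa, hpb, ha0, hba⟩ := exists_prime_of_not_isAddCyclic hA
  haveI : Fact p.Prime := ⟨hp⟩
  let φa : ZMod p →+ A := ZMod.lift p ⟨zmultiplesHom A a, by simpa using hpa⟩
  let φb : ZMod p →+ A := ZMod.lift p ⟨zmultiplesHom A b, by simpa using hpb⟩
  have hφa1 : φa 1 = a := by
    have := ZMod.lift_coe p ⟨zmultiplesHom A a, by simpa using hpa⟩ 1
    simpa [φa] using this
  have hφb1 : φb 1 = b := by
    have := ZMod.lift_coe p ⟨zmultiplesHom A b, by simpa using hpb⟩ 1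
    simpa [φb] using this
  have hφaj : ∀ j : ZMod p, φa j ∈ AddSubgroup.zmultiples a := by
    intro j
    have : φa j = j.val • a := by
      conv_lhs => rw [← ZMod.natCast_zmod_val j, ← nsmul_one, map_nsmul, hφa1]
    rw [this]
    exact AddSubgroup.nsmul_mem_zmultiples a _
  have hpdvd : p ∣ Nat.card A := by
    have : addOrderOf a = p := addOrderOf_eq_prime hpa ha0
    rw [← this]; exact addOrderOf_dvd_natCard a
  have hpu : IsUnit ((p : ℕ) : Λ) := by
    obtain ⟨c, hc⟩ := hpdvd
    rw [hc, Nat.cast_mul] at hu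
    exact isUnit_of_mul_isUnit_left hu
  have hra : φa.range ≠ ⊥ := by
    intro h
    have : φa 1 ∈ φa.range := ⟨1, rfl⟩
    rw [h, AddSubgroup.mem_bot, hφa1] at this
    exact ha0 this
  have hrj : ∀ j : ZMod p, (φb + φa.comp (AddMonoidHom.mulLeft j)).range ≠ ⊥ := by
    intro j h
    have hmem : (φb + φa.comp (AddMonoidHom.mulLeft j)) 1 ∈
        (φb + φa.comp (AddMonoidHom.mulLeft j)).range := ⟨1, rfl⟩
    rw [h, AddSubgroup.mem_bot] at hmem
    simp only [AddMonoidHom.add_apply, AddMonoidHom.comp_apply, AddMonoidHom.coe_mulLeft,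
      mul_one, hφb1] at hmem
    apply hba
    have : b = - φa j := eq_neg_of_add_eq_zero_left hmem
    rw [this]
    exact neg_mem (hφaj j)
  have h1 := mul_sSum_eq_zero_of_mem φa (hb _ hra)
  have h2 : ∀ j, y * sSum Λ (φb + φa.comp (AddMonoidHom.mulLeft j)) = 0 :=
    fun j => mul_sSum_eq_zero_of_mem _ (hb _ (hrj j))
  have h3 := congrArg (y * ·) (sSum_identity (Λ := Λ) φa φb)
  simp only [mul_add, Finset.mul_sum, h1, h2, Finset.sum_const_zero, add_zero, ← mul_assoc,
    zero_mul] at h3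
  have hpu' : IsUnit ((p : ℕ) : AddMonoidAlgebra Λ A) := by
    have := hpu.map (algebraMap Λ (AddMonoidAlgebra Λ A))
    simpa using this
  exact (hpu'.mul_left_eq_zero).1 h3.symm

end Noncyclic

end Groth.Agent.H9.GrpAlg
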