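import Mathlib

/-!
# A module killed by the intersection of finitely many pairwise comaximal ideals is the product
of its localizations at the multiplicative sets `1 + I_i`
-/

namespace Groth.Agent.H9.GrpAlg

open Function

theorem bijective_pi_mkLinearMap {T : Type*} [CommRing T] {P : Type*} [AddCommGroup P]
    [Module T P] {ι : Type*} [Finite ι] (I : ι → Ideal T) (S : ι → Submonoid T)
    (hS : ∀ i s, s ∈ S i ↔ s - 1 ∈ I i)
    (hI : Pairwise (IsCoprime on I))
    (hP : ∀ t : T, (∀ i, t ∈ I i) → ∀ p : P, t • p = 0) :
    Function.Bijective (LinearMap.pi fun i => LocalizedModule.mkLinearMap (S i) P) := by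
  classical
  cases nonempty_fintype ι
  have hex : ∀ i : ι, ∃ e : T, ∀ j, e - (if j = i then 1 else 0) ∈ I j := fun i =>
    Ideal.exists_forall_sub_mem_ideal hI (fun j => if j = i then 1 else 0)
  choose ε hε using hex
  have hε1 : ∀ i, ε i - 1 ∈ I i := fun i => by simpa using hε i i
  have hε0 : ∀ i j, j ≠ i → ε i ∈ I j := fun i j hji => by simpa [hji] using hε i j
  have hεS : ∀ i, ε i ∈ S i := fun i => (hS i _).2 (hε1 i)
  have F1 : ∀ i j, i ≠ j → ∀ p : P, (ε i * ε j) • p = 0 := by
    intro i j hij p
    apply hP
    intro k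
    by_cases hk : k = i
    · subst hk
      exact Ideal.mul_mem_left _ _ (hε0 j k hij)
    · exact Ideal.mul_mem_right _ _ (hε0 i k hk)
  have F2 : ∀ p : P, (∑ i, ε i) • p = p := by
    intro p
    have : (∑ i, ε i - 1) • p = 0 := by
      apply hP
      intro k
      rw [← Finset.add_sum_erase _ _ (Finset.mem_univ k), add_sub_right_comm]
      refine add_mem (hε1 k) (Ideal.sum_mem _ fun i hi => ?_)
      exact hε0 i k (Finset.ne_of_mem_erase hi).symm
    rw [sub_smul, one_smul, sub_eq_zero] at this
    exact this
  have F3 : ∀ i s, s ∈ S i → ∀ p : P, (ε i * s) • p = ε i • p := by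
    intro i s hs p
    have : (ε i * (s - 1)) • p = 0 := by
      apply hP
      intro k
      by_cases hk : k = i
      · subst hk
        exact Ideal.mul_mem_left _ _ ((hS k s).1 hs)
      · exact Ideal.mul_mem_right _ _ (hε0 i k hk)
    rw [mul_sub, mul_one, sub_smul, sub_eq_zero] at this
    exact this
  constructor
  · rw [injective_iff_map_eq_zero]
    intro p hp
    have hp' : ∀ i, ∃ s ∈ S i, s • p = 0 := by
      intro i
      have := congrFun hp i
      simp only [LinearMap.pi_apply, Pi.zero_apply] at this
      exact LocalizedModule.mem_ker_mkLinearMap_iff.1 this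
    choose s hsS hs using hp'
    rw [← F2 p, Finset.sum_smul]
    refine Finset.sum_eq_zero fun i _ => ?_
    rw [← F3 i (s i) (hsS i) p, mul_smul, hs i, smul_zero]
  · intro q
    have hq : ∀ i, ∃ (p : P) (s : S i), q i = LocalizedModule.mk p s := by
      intro i
      induction q i using LocalizedModule.induction_on with
      | h m s => exact ⟨m, s, rfl⟩
    choose p s hps using hq
    refine ⟨∑ j, ε j • p j, ?_⟩
    funext i
    rw [LinearMap.pi_apply, LocalizedModule.mkLinearMap_apply, hps i, LocalizedModule.mk_eq]
    refine ⟨⟨ε i, hεS i⟩, ?_⟩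
    simp only [Submonoid.smul_def, one_smul]
    have key : ε i • (∑ j, ε j • p j) = ε i • p i := by
      rw [Finset.smul_sum, Finset.sum_eq_single i]
      · rw [← mul_smul, F3 i (ε i) (hεS i)]
      · intro j _ hji
        rw [← mul_smul, F1 i j hji.symm]
      · intro h; exact absurd (Finset.mem_univ i) h
    rw [smul_comm, key, ← mul_smul, mul_comm, F3 i _ (s i).2]

end Groth.Agent.H9.GrpAlg
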