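import Mathlib
import Groth.Prelude.Def_W4c6equivkfinstabCyc
import Groth.Agent.Lib.Helper9.GrpAlgFin
import Groth.Agent.Lib.Helper9.GrpAlgLoc

/-!
# The group ring of a finite quotient is detected by its dual cyclic subgroups
-/

open Polynomial W4c6equivkfinstab AddMonoidAlgebra

namespace Groth.Agent.H9.GrpAlg

variable {Λ : Type*} [CommRing Λ]

theorem eq_zero_fin {A : Type*} [AddCommGroup A] [Finite A] (hu : IsUnit ((Nat.card A : ℕ) : Λ))
    (y : AddMonoidAlgebra Λ A) (hb : ∀ H : AddSubgroup A, H ≠ ⊥ → y ∈ augIdeal Λ H)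
    (ha : IsAddCyclic A → y ∈ cycIdeal Λ A) : y = 0 := by
  by_cases hA : IsAddCyclic A
  · exact eq_zero_of_cyclic hu y hb (ha hA)
  · exact eq_zero_of_not_cyclic hu hA y hb

variable {M : Type*} [AddCommGroup M]

theorem augIdeal_bot : augIdeal Λ (⊥ : AddSubgroup M) = ⊥ := by
  rw [augIdeal, Ideal.span_eq_bot]
  rintro _ ⟨b, hb, rfl⟩
  rw [AddSubgroup.mem_bot] at hb
  subst hb
  exact sub_self _

theorem quotMap_mem_augIdeal {B₀ : AddSubgroup M} (H : AddSubgroup (M ⧸ B₀))
    {x : AddMonoidAlgebra Λ M}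
    (hx : x ∈ augIdeal Λ (H.comap (QuotientAddGroup.mk' B₀))) :
    quotMap Λ M B₀ x ∈ augIdeal Λ H := by
  have : augIdeal Λ (H.comap (QuotientAddGroup.mk' B₀)) ≤
      (augIdeal Λ H).comap (quotMap Λ M B₀) := by
    rw [augIdeal, Ideal.span_le]
    rintro _ ⟨b, hb, rfl⟩
    rw [SetLike.mem_coe, Ideal.mem_comap, map_sub, map_one, quotMap_single]
    exact Ideal.subset_span ⟨_, hb, rfl⟩
  exact this hx

theorem quotMap_eq_zero_aux : ∀ (n : ℕ) (B₀ : AddSubgroup M) [B₀.FiniteIndex], B₀.index = n →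
    IsUnit ((B₀.index : ℕ) : Λ) → ∀ x : AddMonoidAlgebra Λ M,
    (∀ B : AddSubgroup M, B₀ ≤ B → IsAddCyclic (M ⧸ B) → cycQuotMap Λ M B x = 0) →
    quotMap Λ M B₀ x = 0 := by
  intro n
  induction n using Nat.strong_induction_on with
  | _ n ih =>
    intro B₀ hfi hn hu x hx
    have hfin : Finite (M ⧸ B₀) := AddSubgroup.finite_quotient_of_finiteIndex
    have hcard : IsUnit ((Nat.card (M ⧸ B₀) : ℕ) : Λ) := by
      rw [← AddSubgroup.index_eq_card]; exact hu
    apply eq_zero_fin hcard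
    · intro H hH
      set B₁ := H.comap (QuotientAddGroup.mk' B₀) with hB₁
      have hle : B₀ ≤ B₁ := QuotientAddGroup.le_comap_mk' B₀ H
      have hne : ¬ B₁ ≤ B₀ := by
        intro h
        apply hH
        have h1 : H = B₁.map (QuotientAddGroup.mk' B₀) := by
          rw [hB₁, AddSubgroup.map_comap_eq_self_of_surjective (QuotientAddGroup.mk'_surjective B₀)]
        rw [h1, eq_bot_iff, ← QuotientAddGroup.map_mk'_self B₀]
        exact AddSubgroup.map_mono h
      haveI : B₁.FiniteIndex := AddSubgroup.finiteIndex_of_le hle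
      have hmul := AddSubgroup.relIndex_mul_index hle
      have hidx0 : B₀.index ≠ 0 := AddSubgroup.FiniteIndex.index_ne_zero
      have hlt : B₁.index < n := by
        rw [← hn]
        have hdvd : B₁.index ∣ B₀.index := AddSubgroup.index_dvd_of_le hle
        rcases (Nat.le_of_dvd (Nat.pos_of_ne_zero hidx0) hdvd).lt_or_eq with h | h
        · exact h
        · exfalso
          apply hne
          rw [← AddSubgroup.relIndex_eq_one]
          rw [h] at hmul
          exact Nat.eq_of_mul_eq_mul_right (Nat.pos_of_ne_zero hidx0) (by rw [hmul, one_mul])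
      have hu₁ : IsUnit ((B₁.index : ℕ) : Λ) := by
        rw [← hmul, Nat.cast_mul] at hu
        exact isUnit_of_mul_isUnit_right hu
      have h0 := ih B₁.index hlt B₁ rfl hu₁ x (fun B hB hcyc => hx B (hle.trans hB) hcyc)
      have hmem : x ∈ augIdeal Λ B₁ := by
        rw [← ker_quotMap]; exact h0
      exact quotMap_mem_augIdeal H hmem
    · intro hcyc
      have := hx B₀ le_rfl hcyc
      rw [cycQuotMap_apply, Ideal.Quotient.eq_zero_iff_mem] at this
      exact this

/-- If `x ∈ Λ[M]` dies in all the cyclotomic quotients attached to the subgroups `B ⊇ B₀` with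
cyclic quotient, then `x` dies in `Λ[M ⧸ B₀]`. -/
theorem quotMap_eq_zero (B₀ : AddSubgroup M) [B₀.FiniteIndex]
    (hu : IsUnit ((B₀.index : ℕ) : Λ)) (x : AddMonoidAlgebra Λ M)
    (hx : ∀ B : AddSubgroup M, B₀ ≤ B → IsAddCyclic (M ⧸ B) → cycQuotMap Λ M B x = 0) :
    quotMap Λ M B₀ x = 0 :=
  quotMap_eq_zero_aux _ B₀ rfl hu x hx

theorem isCoprime_ker_cycQuotMap {B B' : AddSubgroup M} [B.FiniteIndex] [B'.FiniteIndex]
    [IsAddCyclic (M ⧸ B)] [IsAddCyclic (M ⧸ B')] (hne : B ≠ B')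
    (hB : IsUnit ((B.index : ℕ) : Λ)) (hB' : IsUnit ((B'.index : ℕ) : Λ)) :
    IsCoprime (RingHom.ker (cycQuotMap Λ M B)) (RingHom.ker (cycQuotMap Λ M B')) := by
  obtain ⟨s, hs0, hs1⟩ := exists_sep (Λ := Λ) hne hB hB'
  rw [Ideal.isCoprime_iff_exists]
  refine ⟨s, hs0, 1 - s, ?_, by ring⟩
  rw [RingHom.mem_ker, map_sub, map_one, hs1, sub_self]

end Groth.Agent.H9.GrpAlg
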