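import Mathlib

/-!
# Hadamard's lemma: a smooth function vanishing at `0` is `x * g x` with `g` smooth
-/

set_option autoImplicit false

namespace Groth.Agent.H9.Hadamard

open MeasureTheory intervalIntegral Set Metric
open scoped ContDiff Topology

/-- The parametric integral over `[0,1]` of a smooth function is smooth. -/
theorem contDiff_parametric (n : ℕ) : ∀ (F : ℝ → ℝ → ℝ), ContDiff ℝ ∞ (Function.uncurry F) →
    ContDiff ℝ n (fun x => ∫ t in (0 : ℝ)..1, F x t) := by
  induction n with
  | zero =>
    intro F hF
    rw [Nat.cast_zero, contDiff_zero]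
    exact continuous_parametric_intervalIntegral_of_continuous' hF.continuous 0 1
  | succ n ih =>
    intro F hF
    set F' : ℝ → ℝ → ℝ := fun x t => fderiv ℝ (Function.uncurry F) (x, t) (1, 0) with hF'
    have hF'smooth : ContDiff ℝ ∞ (Function.uncurry F') := by
      have h1 : ContDiff ℝ ∞ (fderiv ℝ (Function.uncurry F)) :=
        hF.fderiv_right (by simp)
      have : Function.uncurry F' = fun p : ℝ × ℝ => fderiv ℝ (Function.uncurry F) p (1, 0) := by
        funext p
        rfl
      rw [this]
      exact h1.clm_apply contDiff_const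
    have hderiv : ∀ x t : ℝ, HasDerivAt (fun y => F y t) (F' x t) x := by
      intro x t
      have h1 : HasFDerivAt (Function.uncurry F) (fderiv ℝ (Function.uncurry F) (x, t)) (x, t) :=
        (hF.differentiable (by simp) (x, t)).hasFDerivAt
      have h2 : HasDerivAt (fun y : ℝ => (y, t)) ((1 : ℝ), (0 : ℝ)) x :=
        (hasDerivAt_id x).prodMk (hasDerivAt_const x t)
      exact h1.comp_hasDerivAt x h2
    have hG : ∀ x : ℝ, HasDerivAt (fun x => ∫ t in (0 : ℝ)..1, F x t)
        (∫ t in (0 : ℝ)..1, F' x t) x := by
      intro x
      have hK : IsCompact (closedBall x 1 ×ˢ Icc (0 : ℝ) 1) :=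
        (isCompact_closedBall x 1).prod isCompact_Icc
      obtain ⟨C, hC⟩ := hK.exists_bound_of_continuousOn hF'smooth.continuous.continuousOn
      have hcont : ∀ y : ℝ, Continuous (F y) := fun y =>
        hF.continuous.comp (Continuous.prodMk continuous_const continuous_id)
      have hcont' : ∀ y : ℝ, Continuous (F' y) := fun y =>
        hF'smooth.continuous.comp (Continuous.prodMk continuous_const continuous_id)
      refine (hasDerivAt_integral_of_dominated_loc_of_deriv_le (F := F) (F' := F')
        (bound := fun _ => C) (ball_mem_nhds x one_pos)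
        (Filter.Eventually.of_forall fun y => (hcont y).aestronglyMeasurable)
        ((hcont x).intervalIntegrable 0 1) (hcont' x).aestronglyMeasurable ?_
        intervalIntegrable_const ?_).2
      · refine Filter.Eventually.of_forall fun t ht y hy => ?_
        rw [uIoc_of_le zero_le_one] at ht
        exact hC (y, t) ⟨ball_subset_closedBall hy, Ioc_subset_Icc_self ht⟩
      · exact Filter.Eventually.of_forall fun t _ y _ => hderiv y t
    have hderivG : deriv (fun x => ∫ t in (0 : ℝ)..1, F x t) =
        fun x => ∫ t in (0 : ℝ)..1, F' x t := by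
      funext x
      exact (hG x).deriv
    rw [Nat.cast_succ, contDiff_succ_iff_deriv]
    refine ⟨fun x => (hG x).differentiableAt, ?_, ?_⟩
    · intro h
      exact absurd h (by exact_mod_cast WithTop.coe_ne_top)
    · rw [hderivG]
      exact ih F' hF'smooth

/-- Hadamard's lemma. -/
theorem main (f : ℝ → ℝ) (hf : ContDiff ℝ ∞ f) (h0 : f 0 = 0) :
    ∃ g : ℝ → ℝ, ContDiff ℝ ∞ g ∧ ∀ x : ℝ, f x = x * g x := by
  have hdf : ContDiff ℝ ∞ (deriv f) := (contDiff_infty_iff_deriv.1 hf).2
  refine ⟨fun x => ∫ t in (0 : ℝ)..1, deriv f (t * x), ?_, ?_⟩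
  · rw [contDiff_infty]
    intro n
    apply contDiff_parametric n (fun x t => deriv f (t * x))
    have : Function.uncurry (fun x t : ℝ => deriv f (t * x)) =
        deriv f ∘ (fun p : ℝ × ℝ => p.2 * p.1) := by
      funext p
      rfl
    rw [this]
    exact hdf.comp (contDiff_snd.mul contDiff_fst)
  · intro x
    have hd : ∀ t ∈ uIcc (0 : ℝ) 1, HasDerivAt (fun t : ℝ => f (t * x)) (deriv f (t * x) * x) t := by
      intro t _
      have h1 : HasDerivAt f (deriv f (t * x)) (t * x) :=
        (hf.differentiable (by simp) (t * x)).hasDerivAt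
      have h2 : HasDerivAt (fun t : ℝ => t * x) x t := by
        simpa using (hasDerivAt_id t).mul_const x
      exact h1.comp t h2
    have hint : IntervalIntegrable (fun t : ℝ => deriv f (t * x) * x) volume 0 1 := by
      apply Continuous.intervalIntegrable
      exact (hdf.continuous.comp (continuous_id.mul continuous_const)).mul continuous_const
    have := integral_eq_sub_of_hasDerivAt hd hint
    rw [one_mul, zero_mul, h0, sub_zero, intervalIntegral.integral_mul_const] at this
    rw [← this, mul_comm]

end Groth.Agent.H9.Hadamard
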