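import Mathlib
import Groth.Prelude.Def_W4c5monodromycubicsHesse

/-!
# Flexes of the Hesse cubic
-/

set_option autoImplicit false

namespace Groth.Agent.H9.HesseFlex

open MvPolynomial

section Gram

variable {K : Type*} [CommRing K]

/-- symmetric bilinear form with matrix `(h11 h12 h13; h12 h22 h23; h13 h23 h33)` -/
def Q (h11 h12 h13 h22 h23 h33 x y z a b c : K) : K :=
  h11 * x * a + h12 * (x * b + y * a) + h13 * (x * c + z * a) + h22 * y * b +
    h23 * (y * c + z * b) + h33 * z * c

/-- If a symmetric form vanishes identically on the span of `v, w`, then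
`det[v,w,u]² det H = 0` for every `u`. -/
theorem gram_zero (h11 h12 h13 h22 h23 h33 x y z a b c p q r : K)
    (hvv : Q h11 h12 h13 h22 h23 h33 x y z x y z = 0)
    (hvw : Q h11 h12 h13 h22 h23 h33 x y z a b c = 0)
    (hww : Q h11 h12 h13 h22 h23 h33 a b c a b c = 0) :
    (x * (b * r - c * q) - y * (a * r - c * p) + z * (a * q - b * p)) ^ 2 *
      (h11 * (h22 * h33 - h23 * h23) - h12 * (h12 * h33 - h23 * h13) +
        h13 * (h12 * h23 - h22 * h13)) = 0 := by
  linear_combination (norm := skip)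
    (Q h11 h12 h13 h22 h23 h33 a b c a b c * Q h11 h12 h13 h22 h23 h33 p q r p q r -
      Q h11 h12 h13 h22 h23 h33 a b c p q r ^ 2) * hvv +
    (-(Q h11 h12 h13 h22 h23 h33 x y z a b c) * Q h11 h12 h13 h22 h23 h33 p q r p q r +
      2 * Q h11 h12 h13 h22 h23 h33 a b c p q r * Q h11 h12 h13 h22 h23 h33 x y z p q r) * hvw +
    (-(Q h11 h12 h13 h22 h23 h33 x y z p q r) ^ 2) * hww
  simp only [Q]
  ring

end Gram

section Hesse

theorem eval_form (k : ℂ) (v : Fin 3 → ℂ) :
    eval v (HesseCubic.form k) = v 0 ^ 3 + v 1 ^ 3 + v 2 ^ 3 - 3 * k * (v 0 * v 1 * v 2) := by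
  simp [HesseCubic.form]

/-- A flex of the Hesse cubic lies on a coordinate line. -/
theorem xyz_eq_zero (k : ℂ) (hk : k ^ 3 ≠ 1) (x y z a b c : ℂ)
    (hv : ¬ (x = 0 ∧ y = 0 ∧ z = 0))
    (hind : ∀ s t : ℂ, s * x + t * a = 0 → s * y + t * b = 0 → s * z + t * c = 0 → s = 0 ∧ t = 0)
    (h0 : x ^ 3 + y ^ 3 + z ^ 3 - 3 * k * (x * y * z) = 0)
    (hA : 3 * (x ^ 2 * a + y ^ 2 * b + z ^ 2 * c) - 3 * k * (y * z * a + x * z * b + x * y * c) = 0)
    (hB : 3 * (x * a ^ 2 + y * b ^ 2 + z * c ^ 2) - 3 * k * (z * a * b + y * a * c + x * b * c) = 0) :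
    x * y * z = 0 := by
  have hvv : Q (2 * x) (-(k * z)) (-(k * y)) (2 * y) (-(k * x)) (2 * z) x y z x y z = 0 := by
    simp only [Q]
    linear_combination 2 * h0
  have hvw : Q (2 * x) (-(k * z)) (-(k * y)) (2 * y) (-(k * x)) (2 * z) x y z a b c = 0 := by
    simp only [Q]
    linear_combination (2 / 3 : ℂ) * hA
  have hww : Q (2 * x) (-(k * z)) (-(k * y)) (2 * y) (-(k * x)) (2 * z) a b c a b c = 0 := by
    simp only [Q]
    linear_combination (2 / 3 : ℂ) * hB
  have hdet : (2 * x) * ((2 * y) * (2 * z) - (-(k * x)) * (-(k * x))) -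
      (-(k * z)) * ((-(k * z)) * (2 * z) - (-(k * x)) * (-(k * y))) +
        (-(k * y)) * ((-(k * z)) * (-(k * x)) - (2 * y) * (-(k * y))) =
      8 * (1 - k ^ 3) * (x * y * z) := by
    linear_combination (-2 * k ^ 2) * h0
  have hk8 : (8 : ℂ) * (1 - k ^ 3) ≠ 0 := by
    apply mul_ne_zero (by norm_num)
    intro h
    apply hk
    linear_combination -h
  by_contra hxyz
  have hm : ∀ p q r : ℂ, x * (b * r - c * q) - y * (a * r - c * p) + z * (a * q - b * p) = 0 := by
    intro p q r
    have := gram_zero (2 * x) (-(k * z)) (-(k * y)) (2 * y) (-(k * x)) (2 * z) x y z a b c p q r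
      hvv hvw hww
    rw [hdet] at this
    rcases mul_eq_zero.1 this with h | h
    · exact pow_eq_zero_iff (two_ne_zero) |>.1 h
    · exact absurd h (mul_ne_zero hk8 hxyz)
  have m0 := hm 1 0 0
  have m1 := hm 0 1 0
  have m2 := hm 0 0 1
  apply hv
  refine ⟨?_, ?_, ?_⟩
  · have := (hind a (-x) (by ring) (by linear_combination -m2) (by linear_combination m1)).2
    linear_combination -this
  · have := (hind b (-y) (by linear_combination m2) (by ring) (by linear_combination -m0)).2
    linear_combination -this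
  · have := (hind c (-z) (by linear_combination -m1) (by linear_combination m0) (by ring)).2
    linear_combination -this

theorem vec_eq (v : Fin 3 → ℂ) (p q r : ℂ) (h0 : v 0 = p) (h1 : v 1 = q) (h2 : v 2 = r) :
    v = ![p, q, r] := by
  funext i
  fin_cases i
  · exact h0
  · exact h1
  · exact h2

theorem necessity (k : ℂ) (hk : k ^ 3 ≠ 1) (v : Fin 3 → ℂ) (hv : v ≠ 0)
    (hCv : eval v (HesseCubic.form k) = 0)
    (w : Fin 3 → ℂ) (hli : LinearIndependent ℂ ![v, w])
    (hid : ∀ t : ℂ, eval (v + t • w) (HesseCubic.form k) = t ^ 3 * eval w (HesseCubic.form k)) :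
    ∃ γ c : ℂ, γ ^ 3 = 1 ∧ (v = c • ![0, 1, -γ] ∨ v = c • ![-γ, 0, 1] ∨ v = c • ![1, -γ, 0]) := by
  rw [eval_form] at hCv
  have E1 := hid 1
  have E2 := hid (-1)
  simp only [eval_form, Pi.add_apply, Pi.smul_apply, smul_eq_mul] at E1 E2
  have hA : 3 * (v 0 ^ 2 * w 0 + v 1 ^ 2 * w 1 + v 2 ^ 2 * w 2) -
      3 * k * (v 1 * v 2 * w 0 + v 0 * v 2 * w 1 + v 0 * v 1 * w 2) = 0 := by
    linear_combination (1 / 2 : ℂ) * E1 - (1 / 2 : ℂ) * E2
  have hB : 3 * (v 0 * w 0 ^ 2 + v 1 * w 1 ^ 2 + v 2 * w 2 ^ 2) -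
      3 * k * (v 2 * w 0 * w 1 + v 1 * w 0 * w 2 + v 0 * w 1 * w 2) = 0 := by
    linear_combination (1 / 2 : ℂ) * E1 + (1 / 2 : ℂ) * E2 - hCv
  have hv' : ¬ (v 0 = 0 ∧ v 1 = 0 ∧ v 2 = 0) := by
    rintro ⟨h0, h1, h2⟩
    apply hv
    funext i
    fin_cases i
    · exact h0
    · exact h1
    · exact h2
  have hind : ∀ s t : ℂ, s * v 0 + t * w 0 = 0 → s * v 1 + t * w 1 = 0 → s * v 2 + t * w 2 = 0 →
      s = 0 ∧ t = 0 := by
    intro s t h0 h1 h2
    apply LinearIndependent.pair_iff.1 hli s t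
    funext i
    fin_cases i
    · simpa using h0
    · simpa using h1
    · simpa using h2
  have hxyz := xyz_eq_zero k hk (v 0) (v 1) (v 2) (w 0) (w 1) (w 2) hv' hind hCv hA hB
  rcases mul_eq_zero.1 hxyz with hxy | hz
  · rcases mul_eq_zero.1 hxy with hx | hy
    · -- v 0 = 0
      have hy : v 1 ≠ 0 := by
        intro hy
        apply hv'
        refine ⟨hx, hy, ?_⟩
        rw [hx, hy] at hCv
        have : v 2 ^ 3 = 0 := by linear_combination hCv
        exact pow_eq_zero_iff (by norm_num) |>.1 this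
      refine ⟨-(v 2) / v 1, v 1, ?_, Or.inl ?_⟩
      · rw [hx] at hCv
        field_simp
        linear_combination -hCv
      · funext i
        fin_cases i
        · simp [hx]
        · simp
        · simp
          field_simp
    · -- v 1 = 0
      have hz : v 2 ≠ 0 := by
        intro hz
        apply hv'
        refine ⟨?_, hy, hz⟩
        rw [hy, hz] at hCv
        have : v 0 ^ 3 = 0 := by linear_combination hCv
        exact pow_eq_zero_iff (by norm_num) |>.1 this
      refine ⟨-(v 0) / v 2, v 2, ?_, Or.inr (Or.inl ?_)⟩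
      · rw [hy] at hCv
        field_simp
        linear_combination -hCv
      · funext i
        fin_cases i
        · simp
          field_simp
        · simp [hy]
        · simp
  · -- v 2 = 0
    have hx : v 0 ≠ 0 := by
      intro hx
      apply hv'
      refine ⟨hx, ?_, hz⟩
      rw [hx, hz] at hCv
      have : v 1 ^ 3 = 0 := by linear_combination hCv
      exact pow_eq_zero_iff (by norm_num) |>.1 this
    refine ⟨-(v 1) / v 0, v 0, ?_, Or.inr (Or.inr ?_)⟩
    · rw [hz] at hCv
      field_simp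
      linear_combination -hCv
    · funext i
      fin_cases i
      · simp
      · simp
        field_simp
      · simp [hz]

theorem sufficiency (k : ℂ) (v : Fin 3 → ℂ) (hv : v ≠ 0)
    (γ c : ℂ) (hγ : γ ^ 3 = 1)
    (h : v = c • ![0, 1, -γ] ∨ v = c • ![-γ, 0, 1] ∨ v = c • ![1, -γ, 0]) :
    ∃ w : Fin 3 → ℂ, LinearIndependent ℂ ![v, w] ∧
        ∀ t : ℂ, eval (v + t • w) (HesseCubic.form k) = t ^ 3 * eval w (HesseCubic.form k) := by
  have hc : c ≠ 0 := by
    rintro rfl
    apply hv
    rcases h with h | h | h <;> rw [h, zero_smul]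
  rcases h with h | h | h
  · refine ⟨![1, -(k * γ), 0], ?_, ?_⟩
    · rw [LinearIndependent.pair_iff]
      intro s t hst
      have h0 := congrFun hst 0
      have h1 := congrFun hst 1
      simp [h] at h0 h1
      subst h0
      simpa [hc] using h1
    · intro t
      simp only [eval_form, h, Pi.add_apply, Pi.smul_apply, smul_eq_mul]
      simp
      linear_combination (-c ^ 3) * hγ
  · refine ⟨![0, 1, -(k * γ)], ?_, ?_⟩
    · rw [LinearIndependent.pair_iff]
      intro s t hst
      have h1 := congrFun hst 1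
      have h2 := congrFun hst 2
      simp [h] at h1 h2
      subst h1
      simpa [hc] using h2
    · intro t
      simp only [eval_form, h, Pi.add_apply, Pi.smul_apply, smul_eq_mul]
      simp
      linear_combination (-c ^ 3) * hγ
  · refine ⟨![-(k * γ), 0, 1], ?_, ?_⟩
    · rw [LinearIndependent.pair_iff]
      intro s t hst
      have h2 := congrFun hst 2
      have h0 := congrFun hst 0
      simp [h] at h2 h0
      subst h2
      simpa [hc] using h0
    · intro t
      simp only [eval_form, h, Pi.add_apply, Pi.smul_apply, smul_eq_mul]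
      simp
      linear_combination (-c ^ 3) * hγ

end Hesse

end Groth.Agent.H9.HesseFlex
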