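import Mathlib

/-!
# Matching a Weierstrass cubic with a member of the Hesse pencil
-/

set_option autoImplicit false

namespace Groth.Agent.H9.HesseParam

open Polynomial

/-- the quartic in `K = k³` has a root -/
theorem exists_K (P Q : ℂ) (hΔ : 4 * P ^ 3 + 27 * Q ^ 2 ≠ 0) :
    ∃ K : ℂ, K ≠ 1 ∧
      27 * K * (K + 8) ^ 3 * Q ^ 2 + 4 * (K ^ 2 - 20 * K - 8) ^ 2 * P ^ 3 = 0 := by
  let p : ℂ[X] := C (27 * Q ^ 2) * X * (X + C 8) ^ 3 + C (4 * P ^ 3) * (X ^ 2 - C 20 * X - C 8) ^ 2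
  have hev : ∀ x : ℂ, p.eval x =
      27 * x * (x + 8) ^ 3 * Q ^ 2 + 4 * (x ^ 2 - 20 * x - 8) ^ 2 * P ^ 3 := by
    intro x
    simp only [p, eval_add, eval_mul, eval_C, eval_X, eval_pow, eval_sub]
    ring
  have hdeg : p.degree ≠ 0 := by
    intro h0
    have hC := eq_C_of_degree_eq_zero h0
    have e0 : p.eval 0 = p.coeff 0 := by rw [hC]; simp
    have e1 : p.eval 1 = p.coeff 0 := by rw [hC]; simp
    have e8 : p.eval (-8) = p.coeff 0 := by rw [hC]; simp
    rw [hev] at e0 e1 e8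
    have hP : P ^ 3 = 0 := by linear_combination (1 / 186368 : ℂ) * (e8 - e0)
    have hQ : Q ^ 2 = 0 := by linear_combination (1 / 19683 : ℂ) * (e1 - e0) + (-4 / 27 + 256 / 19683 : ℂ) * hP
    apply hΔ
    rw [hP, hQ]
    ring
  obtain ⟨K, hK⟩ := IsAlgClosed.exists_root p hdeg
  rw [IsRoot.def, hev] at hK
  refine ⟨K, ?_, hK⟩
  rintro rfl
  apply hΔ
  linear_combination (1 / 729 : ℂ) * hK

/-- the parameters `k`, `Λ` -/
theorem hesse_param (P Q : ℂ) (hΔ : 4 * P ^ 3 + 27 * Q ^ 2 ≠ 0) :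
    ∃ k L : ℂ, k ^ 3 ≠ 1 ∧ L ≠ 0 ∧ P * L ^ 2 = -3 * k * (8 + k ^ 3) ∧
      Q * L ^ 3 = -2 * (k ^ 6 - 20 * k ^ 3 - 8) := by
  obtain ⟨K, hK1, hK⟩ := exists_K P Q hΔ
  obtain ⟨k, hk⟩ := IsAlgClosed.exists_pow_nat_eq K (n := 3) (by norm_num)
  subst hk
  set pn : ℂ := -3 * k * (8 + k ^ 3) with hpn
  set qn : ℂ := -2 * (k ^ 6 - 20 * k ^ 3 - 8) with hqn
  have hrel : qn ^ 2 * P ^ 3 = pn ^ 3 * Q ^ 2 := by
    rw [hpn, hqn]
    linear_combination hK
  have hdisc : 4 * pn ^ 3 + 27 * qn ^ 2 ≠ 0 := by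
    have : 4 * pn ^ 3 + 27 * qn ^ 2 = -6912 * (k ^ 3 - 1) ^ 3 := by
      rw [hpn, hqn]
      ring
    rw [this]
    apply mul_ne_zero (by norm_num)
    apply pow_ne_zero
    intro h
    apply hK1
    linear_combination h
  refine ⟨k, ?_⟩
  show ∃ L : ℂ, k ^ 3 ≠ 1 ∧ L ≠ 0 ∧ P * L ^ 2 = pn ∧ Q * L ^ 3 = qn
  by_cases hP : P = 0
  · have hQ : Q ≠ 0 := by
      rintro rfl
      apply hΔ
      rw [hP]
      ring
    have hp0 : pn = 0 := by
      rw [hP] at hrel
      have : pn ^ 3 * Q ^ 2 = 0 := by linear_combination -hrel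
      rcases mul_eq_zero.1 this with h | h
      · exact pow_eq_zero_iff (by norm_num) |>.1 h
      · exact absurd (pow_eq_zero_iff (by norm_num) |>.1 h) hQ
    have hq0 : qn ≠ 0 := by
      intro hq0
      apply hdisc
      rw [hp0, hq0]
      ring
    obtain ⟨L, hL⟩ := IsAlgClosed.exists_pow_nat_eq (qn / Q) (n := 3) (by norm_num)
    refine ⟨L, hK1, ?_, ?_, ?_⟩
    · rintro rfl
      have : qn / Q = 0 := by rw [← hL]; ring
      rcases div_eq_zero_iff.1 this with h | h
      · exact hq0 h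
      · exact hQ h
    · rw [hP, hp0]
      ring
    · rw [hL]
      field_simp
  · by_cases hQ : Q = 0
    · have hq0 : qn = 0 := by
        rw [hQ] at hrel
        have : qn ^ 2 * P ^ 3 = 0 := by linear_combination hrel
        rcases mul_eq_zero.1 this with h | h
        · exact pow_eq_zero_iff (by norm_num) |>.1 h
        · exact absurd (pow_eq_zero_iff (by norm_num) |>.1 h) hP
      have hp0 : pn ≠ 0 := by
        intro hp0
        apply hdisc
        rw [hp0, hq0]
        ring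
      obtain ⟨L, hL⟩ := IsAlgClosed.exists_pow_nat_eq (pn / P) (n := 2) (by norm_num)
      refine ⟨L, hK1, ?_, ?_, ?_⟩
      · rintro rfl
        have : pn / P = 0 := by rw [← hL]; ring
        rcases div_eq_zero_iff.1 this with h | h
        · exact hp0 h
        · exact hP h
      · rw [hL]
        field_simp
      · rw [hQ, hq0]
        ring
    · have hp0 : pn ≠ 0 := by
        intro hp0
        have : qn ^ 2 * P ^ 3 = 0 := by rw [hrel, hp0]; ring
        have hq0 : qn = 0 := by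
          rcases mul_eq_zero.1 this with h | h
          · exact pow_eq_zero_iff (by norm_num) |>.1 h
          · exact absurd (pow_eq_zero_iff (by norm_num) |>.1 h) hP
        apply hdisc
        rw [hp0, hq0]
        ring
      have hq0 : qn ≠ 0 := by
        intro hq0
        have : pn ^ 3 * Q ^ 2 = 0 := by rw [← hrel, hq0]; ring
        rcases mul_eq_zero.1 this with h | h
        · exact hp0 (pow_eq_zero_iff (by norm_num) |>.1 h)
        · exact hQ (pow_eq_zero_iff (by norm_num) |>.1 h)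
      refine ⟨qn * P / (Q * pn), hK1, ?_, ?_, ?_⟩
      · exact div_ne_zero (mul_ne_zero hq0 hP) (mul_ne_zero hQ hp0)
      · field_simp
        linear_combination hrel
      · field_simp
        linear_combination hrel

end Groth.Agent.H9.HesseParam
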