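import Mathlib

/-!
# Common zeros of homogeneous forms

`m < n` forms of positive degree in `n` variables over `ℂ` have a common nontrivial zero
(projective dimension theorem), via Krull's height theorem, the Jacobson property and the
Nullstellensatz.
-/

set_option autoImplicit false

namespace Groth.Agent.H9.ProjZero

open MvPolynomial

variable {n : ℕ}

/-- kill the first `j` variables -/
noncomputable def kill (n j : ℕ) : MvPolynomial (Fin n) ℂ →ₐ[ℂ] MvPolynomial (Fin n) ℂ :=
  aeval (fun i : Fin n => if (i : ℕ) < j then 0 else X i)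

theorem kill_X (j : ℕ) (i : Fin n) :
    kill n j (X i) = if (i : ℕ) < j then 0 else X i := by
  simp [kill]

theorem kill_comp (j : ℕ) : (kill n (j + 1)).comp (kill n j) = kill n (j + 1) := by
  apply MvPolynomial.algHom_ext
  intro i
  rw [AlgHom.comp_apply, kill_X, kill_X]
  by_cases h : (i : ℕ) < j
  · have h' : (i : ℕ) < j + 1 := by omega
    simp [h, h']
  · simp [h, kill_X]

/-- the prime ideal `P_j` -/
noncomputable def P (n j : ℕ) : Ideal (MvPolynomial (Fin n) ℂ) := RingHom.ker (kill n j)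

instance (j : ℕ) : (P n j).IsPrime := RingHom.ker_isPrime _

theorem P_lt (j : ℕ) (hj : j < n) : P n j < P n (j + 1) := by
  constructor
  · intro p hp
    have hp' : kill n j p = 0 := hp
    show kill n (j + 1) p = 0
    rw [← kill_comp, AlgHom.comp_apply, hp', map_zero]
  · intro h
    have h1 : (X ⟨j, hj⟩ : MvPolynomial (Fin n) ℂ) ∈ P n (j + 1) := by
      show kill n (j + 1) (X ⟨j, hj⟩) = 0
      rw [kill_X]
      simp
    have h2 := h h1
    have h3 : kill n j (X ⟨j, hj⟩) = 0 := h2
    rw [kill_X] at h3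
    simp at h3

theorem height_P (j : ℕ) (hj : j ≤ n) : (j : ℕ∞) ≤ (P n j).height := by
  induction j with
  | zero => simp
  | succ j ih =>
    have h1 := ih (by omega)
    have h2 := Ideal.height_add_one_le_of_lt_of_isPrime (P_lt j (by omega : j < n))
    calc ((j + 1 : ℕ) : ℕ∞) = (j : ℕ∞) + 1 := by push_cast; rfl
      _ ≤ (P n j).height + 1 := by gcongr
      _ ≤ _ := h2

theorem mem_P_n (p : MvPolynomial (Fin n) ℂ) : p ∈ P n n ↔ eval 0 p = 0 := by
  have h : ∀ p : MvPolynomial (Fin n) ℂ, kill n n p = C (eval 0 p) := by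
    intro p
    induction p using MvPolynomial.induction_on with
    | C a => simp [kill]
    | add p q hp hq => simp [hp, hq]
    | mul_X p i hp => simp [hp, kill_X]
  show kill n n p = 0 ↔ _
  rw [h]
  simp

theorem eval_zero_of_isHomogeneous {d : ℕ} (hd : 0 < d) {p : MvPolynomial (Fin n) ℂ}
    (hp : p.IsHomogeneous d) : eval 0 p = 0 := by
  rw [MvPolynomial.eval_zero]
  rw [MvPolynomial.constantCoeff_eq]
  apply hp.coeff_eq_zero
  simp
  omega

/-- **Projective dimension theorem** (weak form): `m < n` forms of positive degree in `n`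
variables over `ℂ` have a common nontrivial zero. -/
theorem exists_common_zero {m : ℕ} (hmn : m < n) (F : Fin m → MvPolynomial (Fin n) ℂ)
    (d : Fin m → ℕ) (hd : ∀ i, 0 < d i) (hF : ∀ i, (F i).IsHomogeneous (d i)) :
    ∃ v : Fin n → ℂ, v ≠ 0 ∧ ∀ i, eval v (F i) = 0 := by
  classical
  set M : Ideal (MvPolynomial (Fin n) ℂ) := P n n with hM
  have hsub : Set.range F ⊆ (M : Set (MvPolynomial (Fin n) ℂ)) := by
    rintro _ ⟨i, rfl⟩
    exact (mem_P_n _).2 (eval_zero_of_isHomogeneous (hd i) (hF i))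
  have h1 := Ideal.height_le_height_add_encard_of_subset (Set.range F) hsub
  have h2 : (Set.range F).encard ≤ m := by
    calc (Set.range F).encard ≤ (Set.univ : Set (Fin m)).encard := by
          rw [← Set.image_univ]; exact Set.encard_image_le _ _
      _ = m := by simp
  have h3 : (n : ℕ∞) ≤ M.height := height_P n le_rfl
  set I : Ideal (MvPolynomial (Fin n) ℂ) := Ideal.span (Set.range F) with hI
  have hIM : I ≤ M := Ideal.span_le.2 hsub
  set Mbar : Ideal (MvPolynomial (Fin n) ℂ ⧸ I) := M.map (Ideal.Quotient.mk I) with hMbar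
  have : Mbar.IsPrime := Ideal.isPrime_map_quotientMk_of_isPrime hIM
  have h4 : Mbar.height ≠ 0 := by
    intro h0
    rw [h0, zero_add] at h1
    have : (n : ℕ∞) ≤ m := h3.trans (h1.trans h2)
    have : n ≤ m := by exact_mod_cast this
    omega
  rw [Ne, Ideal.height_eq_zero_iff] at h4
  -- a strictly smaller prime
  have h5 : ∃ q : Ideal (MvPolynomial (Fin n) ℂ ⧸ I), q.IsPrime ∧ q < Mbar := by
    by_contra hcon
    apply h4
    rw [minimalPrimes_eq_minimals]
    refine ⟨inferInstance, ?_⟩
    intro q hq hle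
    by_contra hne
    exact hcon ⟨q, hq, lt_of_le_not_ge hle hne⟩
  obtain ⟨q, hq, hqlt⟩ := h5
  set Q : Ideal (MvPolynomial (Fin n) ℂ) := q.comap (Ideal.Quotient.mk I) with hQ
  have : Q.IsPrime := Ideal.comap_isPrime _ _
  have hIQ : I ≤ Q := by
    intro x hx
    show Ideal.Quotient.mk I x ∈ q
    rw [Ideal.Quotient.eq_zero_iff_mem.2 hx]
    exact q.zero_mem
  have hQM : Q ≤ M := by
    intro x hx
    have : Ideal.Quotient.mk I x ∈ Mbar := hqlt.le hx
    rw [hMbar, Ideal.mem_map_iff_of_surjective _ Ideal.Quotient.mk_surjective] at this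
    obtain ⟨y, hy, hyx⟩ := this
    have : y - x ∈ I := by
      rw [← Ideal.Quotient.eq_zero_iff_mem, map_sub, hyx, sub_self]
    have hx' : x = y - (y - x) := by ring
    rw [hx']
    exact M.sub_mem hy (hIM this)
  have hQne : Q ≠ M := by
    intro h
    apply hqlt.ne
    rw [hMbar, ← h, hQ, Ideal.map_comap_of_surjective _ Ideal.Quotient.mk_surjective]
  -- Jacobson
  have hjac : Q.jacobson = Q :=
    IsJacobsonRing.out (inferInstance : IsJacobsonRing (MvPolynomial (Fin n) ℂ)) (Ideal.IsPrime.isRadical inferInstance)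
  have h6 : ∃ N : Ideal (MvPolynomial (Fin n) ℂ), N.IsMaximal ∧ Q ≤ N ∧ N ≠ M := by
    by_contra hcon
    push Not at hcon
    apply hQne
    apply le_antisymm hQM
    rw [← hjac, Ideal.jacobson]
    apply le_sInf
    rintro N ⟨hQN, hN⟩
    rw [hcon N hN hQN]
  obtain ⟨N, hN, hQN, hNM⟩ := h6
  obtain ⟨v, hv⟩ := MvPolynomial.isMaximal_iff_eq_vanishingIdeal_singleton.1 hN
  refine ⟨v, ?_, ?_⟩
  · rintro rfl
    apply hNM
    rw [hv]
    ext p
    rw [mem_vanishingIdeal_singleton_iff, hM, mem_P_n]
    simp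
  · intro i
    have : F i ∈ N := hQN (hIQ (Ideal.subset_span ⟨i, rfl⟩))
    rw [hv, mem_vanishingIdeal_singleton_iff] at this
    simpa [MvPolynomial.aeval_eq_eval] using this

end Groth.Agent.H9.ProjZero
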