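import Mathlib
import Groth.Agent.Lib.Helper9.CubicForm
import Groth.Agent.Lib.Helper9.ProjZero

/-!
# Smooth plane cubics: flexes and Weierstrass normal form
-/

set_option autoImplicit false

namespace Groth.Agent.H9.PlaneCubic

open MvPolynomial Groth.Agent.H9.CubicForm

abbrev V3 := Fin 3 → ℂ

/-- smoothness -/
def Smooth (f : MvPolynomial (Fin 3) ℂ) : Prop :=
  ∀ v : Fin 3 → ℂ, v ≠ 0 → eval v f = 0 → ∃ i : Fin 3, eval v (pderiv i f) ≠ 0

/-- Hessian matrix of polynomials -/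
noncomputable def hessMat (f : MvPolynomial (Fin 3) ℂ) :
    Matrix (Fin 3) (Fin 3) (MvPolynomial (Fin 3) ℂ) :=
  Matrix.of fun i j => pderiv i (pderiv j f)

theorem hess_homog {f : MvPolynomial (Fin 3) ℂ} (hf : f.IsHomogeneous 3) :
    (hessMat f).det.IsHomogeneous 3 := by
  rw [Matrix.det_apply']
  apply IsHomogeneous.sum
  intro σ _
  have h1 : (∏ i, hessMat f (σ i) i).IsHomogeneous (∑ _i : Fin 3, 1) := by
    apply IsHomogeneous.prod
    intro i _
    exact hf.pderiv.pderiv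
  have h2 : ((Equiv.Perm.sign σ : ℤ) : MvPolynomial (Fin 3) ℂ).IsHomogeneous 0 := by
    have : ((Equiv.Perm.sign σ : ℤ) : MvPolynomial (Fin 3) ℂ) = C ((Equiv.Perm.sign σ : ℤ) : ℂ) := by
      simp
    rw [this]
    exact isHomogeneous_C _ _
  have := h2.mul h1
  simpa using this

theorem exists_flex {f : MvPolynomial (Fin 3) ℂ} (hf : f.IsHomogeneous 3) :
    ∃ v w : V3, v ≠ 0 ∧ w ≠ 0 ∧ T f v v v = 0 ∧ ∀ u, T f v w u = 0 := by
  obtain ⟨v, hv, hz⟩ := ProjZero.exists_common_zero (n := 3) (m := 2) (by norm_num)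
    ![f, (hessMat f).det] ![3, 3]
    (by intro i; fin_cases i <;> simp)
    (by
      intro i
      fin_cases i
      · exact hf
      · exact hess_homog hf)
  have h0 : eval v f = 0 := hz 0
  have h1 : eval v (hessMat f).det = 0 := hz 1
  rw [RingHom.map_det] at h1
  obtain ⟨w, hw, hmul⟩ := Matrix.exists_mulVec_eq_zero_iff.2 h1
  refine ⟨v, w, hv, hw, by rw [← eval_eq_T hf, h0], ?_⟩
  intro u
  have hL2 : ∀ k, L2 f v w k = 0 := by
    intro k
    have := congrFun hmul k
    simp only [Matrix.mulVec, dotProduct, RingHom.mapMatrix_apply, Matrix.map_apply, hessMat,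
      Matrix.of_apply, Pi.zero_apply] at this
    have h3 : ∀ j, L1 f v k j = L1 f v j k := by
      intro j
      simp only [L1]
      apply Finset.sum_congr rfl
      intro i _
      rw [c3_symm23]
    calc L2 f v w k = ∑ j, (eval v) (pderiv k (pderiv j f)) * w j :=
          Finset.sum_congr rfl (fun j _ => by rw [eval_pderiv2 hf, h3 j, mul_comm])
      _ = 0 := this
  simp [T, hL2]

theorem li_of_T {f : MvPolynomial (Fin 3) ℂ} {v w u : V3} (hvw : ∀ u, T f v w u = 0)
    (hvvv : T f v v v = 0) (ha : T f v v u ≠ 0) (hw : w ≠ 0) :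
    LinearIndependent ℂ ![v, w, u] := by
  rw [Fintype.linearIndependent_iff]
  intro g hg
  have hg' : g 0 • v + g 1 • w + g 2 • u = 0 := by
    simpa [Fin.sum_univ_three] using hg
  have h1 := congrArg (T f v v) hg'
  simp only [T_add_right, T_smul_right, hvvv, T_zero_right] at h1
  rw [T_symm23 f v v w, hvw] at h1
  have g2 : g 2 = 0 := by
    have : g 2 * T f v v u = 0 := by linear_combination h1
    exact (mul_eq_zero.1 this).resolve_right ha
  have h2 := congrArg (fun y => T f v y u) hg'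
  simp only [T_add_mid, T_smul_mid, hvw, T_zero_mid, g2] at h2
  have g0 : g 0 = 0 := by
    have : g 0 * T f v v u = 0 := by linear_combination h2
    exact (mul_eq_zero.1 this).resolve_right ha
  have g1 : g 1 = 0 := by
    rw [g0, g2, zero_smul, zero_smul, zero_add, add_zero] at hg'
    exact (smul_eq_zero.1 hg').resolve_right hw
  intro i
  fin_cases i
  · exact g0
  · exact g1
  · exact g2

theorem span3 {v w u : V3} (hli : LinearIndependent ℂ ![v, w, u]) (x : V3) :
    ∃ a b c : ℂ, x = a • v + b • w + c • u := by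
  let b := basisOfLinearIndependentOfCardEqFinrank hli (by simp)
  refine ⟨b.repr x 0, b.repr x 1, b.repr x 2, ?_⟩
  have := b.sum_repr x
  rw [Fin.sum_univ_three] at this
  have hb : ∀ i, b i = ![v, w, u] i := fun i => by simp [b]
  rw [hb 0, hb 1, hb 2] at this
  exact this.symm

theorem exists_weierstrass {f : MvPolynomial (Fin 3) ℂ} (hf : f.IsHomogeneous 3)
    (hsm : Smooth f) :
    ∃ v w u : V3, LinearIndependent ℂ ![v, w, u] ∧ ∃ a c P Q : ℂ, a ≠ 0 ∧ c ≠ 0 ∧
      4 * P ^ 3 + 27 * Q ^ 2 ≠ 0 ∧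
      ∀ x y z : ℂ, eval (x • v + y • w + z • u) f =
        3 * a * x ^ 2 * z + c * (y ^ 3 + P * y * z ^ 2 + Q * z ^ 3) := by
  obtain ⟨v, w, hv, hw, hvvv, hvw⟩ := exists_flex hf
  obtain ⟨u0, hu0⟩ := smooth_T hf hsm v hv hvvv
  obtain ⟨a, ha⟩ : ∃ a, a = T f v v u0 := ⟨_, rfl⟩
  rw [← ha] at hu0
  have hvvw : T f v v w = 0 := by rw [T_symm23]; exact hvw v
  have hvww : T f v w w = 0 := hvw w
  -- first adjustment
  obtain ⟨s1, hs1⟩ : ∃ s, s = T f u0 u0 v / (2 * a) := ⟨_, rfl⟩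
  obtain ⟨u1, hu1⟩ : ∃ u1, u1 = u0 - s1 • v := ⟨_, rfl⟩
  have h1a : T f v v u1 = a := by
    rw [hu1, T_sub_right, T_smul_right, hvvv, ← ha]
    ring
  have h1b : T f u1 u1 v = 0 := by
    rw [hu1]
    simp only [T_sub_left, T_sub_mid, T_smul_left, T_smul_mid, hvvv]
    simp only [T_symm12 f, T_symm23 f] at ha hs1 ⊢
    rw [← ha, hs1]
    field_simp
    ring
  have hvwu1 : T f v w u1 = 0 := hvw u1
  have hli1 : LinearIndependent ℂ ![v, w, u1] := li_of_T hvw hvvv (by rw [h1a]; exact hu0) hw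
  -- c ≠ 0
  obtain ⟨c, hc⟩ : ∃ c, c = T f w w w := ⟨_, rfl⟩
  obtain ⟨b', hb'⟩ : ∃ b, b = T f w w u1 := ⟨_, rfl⟩
  have hc0 : c ≠ 0 := by
    intro hc0
    obtain ⟨x, hx⟩ := IsAlgClosed.exists_eq_mul_self (-b' / a)
    have hxa : x * x * a = -b' := by
      rw [← hx]
      field_simp
    have key : ∀ y, T f (x • v + w) (x • v + w) y = 0 := by
      intro y
      obtain ⟨α, β, γ, rfl⟩ := span3 hli1 y
      simp only [T_add_left, T_add_mid, T_add_right, T_smul_left, T_smul_mid, T_smul_right]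
      simp only [T_symm12 f, T_symm23 f] at hvvv hvvw hvww hvwu1 h1a hc hb' ⊢
      simp only [hvvv, hvvw, hvww, hvwu1, h1a, ← hc, ← hb', hc0]
      linear_combination γ * hxa
    have hP : x • v + w ≠ 0 := by
      intro h
      have h2 := congrArg (fun y => T f v y u1) h
      simp only [T_add_mid, T_smul_mid, hvw, T_zero_mid, h1a] at h2
      have hx0 : x = 0 := by
        have : x * a = 0 := by linear_combination h2
        exact (mul_eq_zero.1 this).resolve_right hu0
      rw [hx0, zero_smul, zero_add] at h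
      exact hw h
    obtain ⟨y, hy⟩ := smooth_T hf hsm _ hP (key _)
    exact hy (key y)
  -- second adjustment
  obtain ⟨s2, hs2⟩ : ∃ s, s = b' / c := ⟨_, rfl⟩
  obtain ⟨u, hu⟩ : ∃ u, u = u1 - s2 • w := ⟨_, rfl⟩
  have h2a : T f v v u = a := by
    rw [hu, T_sub_right, T_smul_right, hvvw, h1a]
    ring
  have h2b : T f u u v = 0 := by
    rw [hu]
    simp only [T_sub_left, T_sub_mid, T_smul_left, T_smul_mid]
    simp only [T_symm12 f, T_symm23 f] at h1b hvww hvwu1 ⊢
    simp only [h1b, hvww, hvwu1]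
    ring
  have h2c : T f w w u = 0 := by
    rw [hu, T_sub_right, T_smul_right, ← hc, ← hb', hs2]
    field_simp
    ring
  have hvwu : T f v w u = 0 := hvw u
  have hli : LinearIndependent ℂ ![v, w, u] := li_of_T hvw hvvv (by rw [h2a]; exact hu0) hw
  obtain ⟨e, he⟩ : ∃ e, e = T f w u u := ⟨_, rfl⟩
  obtain ⟨g, hg⟩ : ∃ g, g = T f u u u := ⟨_, rfl⟩
  obtain ⟨P, hP⟩ : ∃ P, P = 3 * e / c := ⟨_, rfl⟩
  obtain ⟨Q, hQ⟩ : ∃ Q, Q = g / c := ⟨_, rfl⟩
  have he' : e = c * P / 3 := by rw [hP]; field_simp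
  have hg' : g = c * Q := by rw [hQ]; field_simp
  have hform : ∀ x y z : ℂ, eval (x • v + y • w + z • u) f =
      3 * a * x ^ 2 * z + c * (y ^ 3 + P * y * z ^ 2 + Q * z ^ 3) := by
    intro x y z
    rw [expand3 hf]
    simp only [T_symm12 f, T_symm23 f] at hvvv hvvw hvww hvwu h2a h2b h2c hc he hg ⊢
    simp only [hvvv, hvvw, hvww, hvwu, h2a, h2b, h2c, ← hc, ← he, ← hg, he', hg']
    ring
  refine ⟨v, w, u, hli, a, c, P, Q, hu0, hc0, ?_, hform⟩
  -- discriminant
  intro hdisc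
  obtain ⟨r, hrA, hrB⟩ : ∃ r : ℂ, 3 * r ^ 2 + P = 0 ∧ 2 * P * r + 3 * Q = 0 := by
    by_cases hP0 : P = 0
    · refine ⟨0, by rw [hP0]; ring, ?_⟩
      rw [hP0] at hdisc ⊢
      have : Q ^ 2 = 0 := by linear_combination (1 / 27 : ℂ) * hdisc
      have : Q = 0 := by simpa using this
      rw [this]
      ring
    · refine ⟨-3 * Q / (2 * P), ?_, ?_⟩
      · field_simp
        linear_combination hdisc
      · field_simp
        ring
  have key : ∀ y, T f (r • w + u) (r • w + u) y = 0 := by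
    intro y
    obtain ⟨α, β, γ, rfl⟩ := span3 hli y
    simp only [T_add_left, T_add_mid, T_add_right, T_smul_left, T_smul_mid, T_smul_right]
    simp only [T_symm12 f, T_symm23 f] at hvvv hvvw hvww hvwu h2a h2b h2c hc he hg ⊢
    simp only [hvww, hvwu, h2b, h2c, ← hc, ← he, ← hg, he', hg']
    linear_combination (β * c / 3) * hrA + (γ * c / 3) * hrB
  have hP' : r • w + u ≠ 0 := by
    intro h
    have := Fintype.linearIndependent_iff.1 hli ![0, r, 1] (by
      simpa [Fin.sum_univ_three] using h) 2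
    simp at this
  obtain ⟨y, hy⟩ := smooth_T hf hsm _ hP' (key _)
  exact hy (key y)

end Groth.Agent.H9.PlaneCubic
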