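import Mathlib
import Groth.Prelude.Def_W4c5monodromycubicsHesse
import Groth.Agent.Lib.Helper9.PlaneCubic
import Groth.Agent.Lib.Helper9.HesseParam

/-!
# Hesse normal form of a smooth plane cubic
-/

set_option autoImplicit false

namespace Groth.Agent.H9.PlaneCubic

open MvPolynomial Groth.Agent.H9.CubicForm

theorem eval_hesse (k : ℂ) (v : Fin 3 → ℂ) :
    eval v (HesseCubic.form k) = v 0 ^ 3 + v 1 ^ 3 + v 2 ^ 3 - 3 * k * (v 0 * v 1 * v 2) := by
  simp [HesseCubic.form]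

theorem isUnit_det_of_li {v w u : V3} (hli : LinearIndependent ℂ ![v, w, u]) :
    IsUnit (Matrix.of fun i j => ![v, w, u] j i : Matrix (Fin 3) (Fin 3) ℂ).det := by
  have h1 : (Matrix.of fun i j => ![v, w, u] j i : Matrix (Fin 3) (Fin 3) ℂ) =
      (Matrix.of ![v, w, u]).transpose := by
    ext i j
    rfl
  rw [h1, Matrix.det_transpose]
  have h2 : LinearIndependent ℂ (Matrix.of ![v, w, u] : Matrix (Fin 3) (Fin 3) ℂ).row := hli
  exact (Matrix.isUnit_iff_isUnit_det _).1 (Matrix.linearIndependent_rows_iff_isUnit.1 h2)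

theorem hesse_normal_form {f : MvPolynomial (Fin 3) ℂ} (hf : f.IsHomogeneous 3)
    (hsm : Smooth f) :
    ∃ (A : Matrix (Fin 3) (Fin 3) ℂ) (k c : ℂ), IsUnit A.det ∧ k ^ 3 ≠ 1 ∧ c ≠ 0 ∧
      aeval (fun i : Fin 3 => ∑ j : Fin 3, C (A i j) * X j) f = C c * HesseCubic.form k := by
  obtain ⟨v, w, u, hli, a, c, P, Q, ha, hc, hΔ, hform⟩ := exists_weierstrass hf hsm
  obtain ⟨k, L, hk, hL, E1, E2⟩ := HesseParam.hesse_param P Q hΔ
  obtain ⟨D, hD⟩ : ∃ D : ℂ, D = 4 * (1 - k ^ 3) := ⟨_, rfl⟩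
  have hD0 : D ≠ 0 := by
    rw [hD]
    apply mul_ne_zero (by norm_num)
    intro h
    apply hk
    linear_combination -h
  obtain ⟨ξ, hξ⟩ := IsAlgClosed.exists_eq_mul_self (c * D ^ 2 / (a * L))
  have E3 : a * ξ ^ 2 * L = c * D ^ 2 := by
    rw [pow_two ξ, ← hξ]
    field_simp
  have hξ0 : ξ ≠ 0 := by
    rintro rfl
    have : c * D ^ 2 = 0 := by rw [← E3]; ring
    rcases mul_eq_zero.1 this with h | h
    · exact hc h
    · exact hD0 (pow_eq_zero_iff (by norm_num) |>.1 h)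
  let N : Matrix (Fin 3) (Fin 3) ℂ :=
    !![ξ, -ξ, 0; 3 * k ^ 2, 3 * k ^ 2, D + 3 * k ^ 3; L, L, L * k]
  let M : Matrix (Fin 3) (Fin 3) ℂ := Matrix.of fun i j => ![v, w, u] j i
  refine ⟨M * N, k, 4 * c * D ^ 2, ?_, hk, ?_, ?_⟩
  · rw [Matrix.det_mul]
    apply IsUnit.mul (isUnit_det_of_li hli)
    have hdet : N.det = -2 * ξ * L * D := by
      rw [Matrix.det_fin_three]
      simp [N]
      ring
    rw [isUnit_iff_ne_zero, hdet]
    exact mul_ne_zero (mul_ne_zero (mul_ne_zero (by norm_num) hξ0) hL) hD0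
  · exact mul_ne_zero (mul_ne_zero (by norm_num) hc) (pow_ne_zero _ hD0)
  · apply subst_eq_of_eval
    intro x
    have hMN : (M * N).mulVec x = (ξ * (x 0 - x 1)) • v +
        (3 * k ^ 2 * (x 0 + x 1) + (D + 3 * k ^ 3) * x 2) • w +
        (L * (x 0 + x 1 + k * x 2)) • u := by
      funext i
      simp [M, N, Matrix.mulVec, dotProduct, Fin.sum_univ_three, Matrix.mul_apply]
      ring
    rw [hMN, hform, map_mul, eval_C, eval_hesse]
    subst hD
    linear_combination (3 * (x 0 - x 1) ^ 2 * (x 0 + x 1 + k * x 2)) * E3 +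
      (c * (3 * k ^ 2 * (x 0 + x 1) + (4 * (1 - k ^ 3) + 3 * k ^ 3) * x 2) *
        (x 0 + x 1 + k * x 2) ^ 2) * E1 +
      (c * (x 0 + x 1 + k * x 2) ^ 3) * E2

end Groth.Agent.H9.PlaneCubic
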