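import Mathlib
import Groth.Agent.Lib.Helper9.PlaneCubicHesse
import Groth.Agent.Lib.Helper9.HesseFlex

/-!
# The Hesse group acting on the flexes; automorphisms of smooth plane cubics and flexes
-/

set_option autoImplicit false

namespace Groth.Agent.H9.PlaneCubic

open MvPolynomial Groth.Agent.H9.CubicForm

/-- flex condition -/
def IsFlex (f : MvPolynomial (Fin 3) ℂ) (v : Fin 3 → ℂ) : Prop :=
  ∃ w : Fin 3 → ℂ, LinearIndependent ℂ ![v, w] ∧ ∀ t : ℂ, eval (v + t • w) f = t ^ 3 * eval w f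

theorem mulVec_inv_cancel {A : Matrix (Fin 3) (Fin 3) ℂ} (hA : IsUnit A.det) (x : V3) :
    A⁻¹.mulVec (A.mulVec x) = x := by
  rw [Matrix.mulVec_mulVec, Matrix.nonsing_inv_mul A hA, Matrix.one_mulVec]

theorem mulVec_cancel_inv {A : Matrix (Fin 3) (Fin 3) ℂ} (hA : IsUnit A.det) (x : V3) :
    A.mulVec (A⁻¹.mulVec x) = x := by
  rw [Matrix.mulVec_mulVec, Matrix.mul_nonsing_inv A hA, Matrix.one_mulVec]

theorem flex_transport {f g : MvPolynomial (Fin 3) ℂ} {A : Matrix (Fin 3) (Fin 3) ℂ} {c : ℂ}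
    (hA : IsUnit A.det) (h : ∀ x, eval (A.mulVec x) f = c * eval x g) {v : V3}
    (hv : IsFlex g v) : IsFlex f (A.mulVec v) := by
  obtain ⟨w, hli, hw⟩ := hv
  refine ⟨A.mulVec w, ?_, ?_⟩
  · rw [LinearIndependent.pair_iff] at hli ⊢
    intro s t hst
    apply hli s t
    have : A.mulVec (s • v + t • w) = 0 := by
      rw [Matrix.mulVec_add, Matrix.mulVec_smul, Matrix.mulVec_smul, hst]
    have h2 := congrArg A⁻¹.mulVec this
    rw [mulVec_inv_cancel hA, Matrix.mulVec_zero] at h2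
    exact h2
  · intro t
    rw [← Matrix.mulVec_smul, ← Matrix.mulVec_add, h, hw, h]
    ring

/-- the group of linear automorphisms of the Hesse form -/
def InG (k : ℂ) (G : Matrix (Fin 3) (Fin 3) ℂ) : Prop :=
  IsUnit G.det ∧ ∀ x, eval (G.mulVec x) (HesseCubic.form k) = eval x (HesseCubic.form k)

theorem InG.mul {k : ℂ} {G H : Matrix (Fin 3) (Fin 3) ℂ} (hG : InG k G) (hH : InG k H) :
    InG k (G * H) := by
  refine ⟨?_, ?_⟩
  · rw [Matrix.det_mul]
    exact hG.1.mul hH.1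
  · intro x
    rw [← Matrix.mulVec_mulVec, hG.2, hH.2]

theorem InG.one (k : ℂ) : InG k 1 := ⟨by simp, fun x => by rw [Matrix.one_mulVec]⟩

/-- cyclic shift `(x0,x1,x2) ↦ (x2,x0,x1)` -/
def S : Matrix (Fin 3) (Fin 3) ℂ := !![0, 0, 1; 1, 0, 0; 0, 1, 0]

theorem S_mulVec (x : V3) : S.mulVec x = ![x 2, x 0, x 1] := by
  funext i
  fin_cases i <;> simp [S, Matrix.mulVec, dotProduct, Fin.sum_univ_three]

theorem S_InG (k : ℂ) : InG k S := by
  refine ⟨?_, ?_⟩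
  · rw [Matrix.det_fin_three]
    simp [S]
  · intro x
    rw [S_mulVec, eval_hesse, eval_hesse]
    simp
    ring

/-- `diag(1, δ, δ²)` -/
def Dg (δ : ℂ) : Matrix (Fin 3) (Fin 3) ℂ := !![1, 0, 0; 0, δ, 0; 0, 0, δ ^ 2]

theorem Dg_mulVec (δ : ℂ) (x : V3) : (Dg δ).mulVec x = ![x 0, δ * x 1, δ ^ 2 * x 2] := by
  funext i
  fin_cases i <;> simp [Dg, Matrix.mulVec, dotProduct, Fin.sum_univ_three]

theorem Dg_InG (k : ℂ) {δ : ℂ} (hδ : δ ^ 3 = 1) : InG k (Dg δ) := by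
  refine ⟨?_, ?_⟩
  · rw [Matrix.det_fin_three]
    simp [Dg]
    intro h
    rw [h] at hδ
    norm_num at hδ
  · intro x
    rw [Dg_mulVec, eval_hesse, eval_hesse]
    simp
    have h6 : δ ^ 6 = 1 := by
      have : δ ^ 6 = (δ ^ 3) ^ 2 := by ring
      rw [this, hδ]
      ring
    linear_combination (x 1 ^ 3 - 3 * k * x 0 * x 1 * x 2) * hδ + x 2 ^ 3 * h6

theorem to_P0 (k : ℂ) {q : V3} {c γ : ℂ}
    (h : q = c • ![0, 1, -γ] ∨ q = c • ![-γ, 0, 1] ∨ q = c • ![1, -γ, 0]) :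
    ∃ G, InG k G ∧ G.mulVec q = c • ![0, 1, -γ] := by
  rcases h with h | h | h
  · exact ⟨1, InG.one k, by rw [Matrix.one_mulVec, h]⟩
  · refine ⟨S * S, (S_InG k).mul (S_InG k), ?_⟩
    rw [← Matrix.mulVec_mulVec, S_mulVec, S_mulVec, h]
    funext i
    fin_cases i <;> simp
  · refine ⟨S, S_InG k, ?_⟩
    rw [S_mulVec, h]
    funext i
    fin_cases i <;> simp

theorem from_P0 (k : ℂ) {q : V3} {c γ : ℂ}
    (h : q = c • ![0, 1, -γ] ∨ q = c • ![-γ, 0, 1] ∨ q = c • ![1, -γ, 0]) :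
    ∃ G, InG k G ∧ G.mulVec (c • ![0, 1, -γ]) = q := by
  rcases h with h | h | h
  · exact ⟨1, InG.one k, by rw [Matrix.one_mulVec, h]⟩
  · refine ⟨S, S_InG k, ?_⟩
    rw [S_mulVec, h]
    funext i
    fin_cases i <;> simp
  · refine ⟨S * S, (S_InG k).mul (S_InG k), ?_⟩
    rw [← Matrix.mulVec_mulVec, S_mulVec, S_mulVec, h]
    funext i
    fin_cases i <;> simp

/-- transitivity of the Hesse group on the nine flexes -/
theorem hesse_move (k : ℂ) {q q' : V3} {c γ c' γ' : ℂ} (hγ : γ ^ 3 = 1) (hγ' : γ' ^ 3 = 1)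
    (hc' : c' ≠ 0)
    (h : q = c • ![0, 1, -γ] ∨ q = c • ![-γ, 0, 1] ∨ q = c • ![1, -γ, 0])
    (h' : q' = c' • ![0, 1, -γ'] ∨ q' = c' • ![-γ', 0, 1] ∨ q' = c' • ![1, -γ', 0]) :
    ∃ G, InG k G ∧ ∃ d : ℂ, G.mulVec q = d • q' := by
  obtain ⟨G1, hG1, e1⟩ := to_P0 k h
  obtain ⟨G2, hG2, e2⟩ := from_P0 k h'
  have hγ0 : γ ≠ 0 := by
    rintro rfl
    norm_num at hγ
  have hδ : (γ' / γ) ^ 3 = 1 := by
    rw [div_pow, hγ, hγ']
    norm_num
  refine ⟨G2 * Dg (γ' / γ) * G1, (hG2.mul (Dg_InG k hδ)).mul hG1, c * (γ' / γ) / c', ?_⟩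
  rw [← Matrix.mulVec_mulVec, ← Matrix.mulVec_mulVec, e1, ← e2, Dg_mulVec, ← Matrix.mulVec_smul]
  congr 1
  funext i
  fin_cases i
  · simp
  · simp
    field_simp
  · simp
    field_simp

/-- reduction data: `f ∘ A0 = c0 h_k` -/
theorem hesse_data {f : MvPolynomial (Fin 3) ℂ} (hf : f.IsHomogeneous 3) (hsm : Smooth f) :
    ∃ (A0 : Matrix (Fin 3) (Fin 3) ℂ) (k c0 : ℂ), IsUnit A0.det ∧ k ^ 3 ≠ 1 ∧ c0 ≠ 0 ∧
      (∀ x, eval (A0.mulVec x) f = c0 * eval x (HesseCubic.form k)) ∧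
      (∀ y, eval (A0⁻¹.mulVec y) (HesseCubic.form k) = c0⁻¹ * eval y f) := by
  obtain ⟨A0, k, c0, hA0, hk, hc0, hsub⟩ := hesse_normal_form hf hsm
  have h0 : ∀ x, eval (A0.mulVec x) f = c0 * eval x (HesseCubic.form k) := by
    intro x
    rw [← eval_subst, hsub]
    simp
  refine ⟨A0, k, c0, hA0, hk, hc0, h0, ?_⟩
  intro y
  have := h0 (A0⁻¹.mulVec y)
  rw [mulVec_cancel_inv hA0] at this
  rw [this]
  field_simp

theorem flex_transitive {f : MvPolynomial (Fin 3) ℂ} (hf : f.IsHomogeneous 3) (hsm : Smooth f)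
    {v v' : V3} (hv : v ≠ 0) (hv' : v' ≠ 0) (hfv : eval v f = 0) (hfv' : eval v' f = 0)
    (hflex : IsFlex f v) (hflex' : IsFlex f v') :
    ∃ (A : Matrix (Fin 3) (Fin 3) ℂ) (c d : ℂ), IsUnit A.det ∧
      aeval (fun i : Fin 3 => ∑ j : Fin 3, C (A i j) * X j) f = C c * f ∧
      A.mulVec v = d • v' := by
  obtain ⟨A0, k, c0, hA0, hk, hc0, h0, h0'⟩ := hesse_data hf hsm
  have hB0 : IsUnit (A0⁻¹).det := by
    rw [Matrix.det_nonsing_inv]
    exact (Ring.inverse_unit hA0.unit).symm ▸ (hA0.unit⁻¹).isUnit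
  have hp : A0⁻¹.mulVec v ≠ 0 := by
    intro h
    apply hv
    rw [← mulVec_cancel_inv hA0 v, h, Matrix.mulVec_zero]
  have hp' : A0⁻¹.mulVec v' ≠ 0 := by
    intro h
    apply hv'
    rw [← mulVec_cancel_inv hA0 v', h, Matrix.mulVec_zero]
  have hCp : eval (A0⁻¹.mulVec v) (HesseCubic.form k) = 0 := by rw [h0', hfv, mul_zero]
  have hCp' : eval (A0⁻¹.mulVec v') (HesseCubic.form k) = 0 := by rw [h0', hfv', mul_zero]
  obtain ⟨w, hli, hw⟩ := flex_transport hB0 h0' hflex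
  obtain ⟨w', hli', hw'⟩ := flex_transport hB0 h0' hflex'
  obtain ⟨γ, c, hγ, hq⟩ := HesseFlex.necessity k hk _ hp hCp w hli hw
  obtain ⟨γ', c', hγ', hq'⟩ := HesseFlex.necessity k hk _ hp' hCp' w' hli' hw'
  have hc' : c' ≠ 0 := by
    rintro rfl
    apply hp'
    rcases hq' with h | h | h <;> rw [h, zero_smul]
  obtain ⟨G, hG, d, hGd⟩ := hesse_move k hγ hγ' hc' hq hq'
  refine ⟨A0 * G * A0⁻¹, 1, d, ?_, ?_, ?_⟩
  · rw [Matrix.det_mul, Matrix.det_mul]
    exact (hA0.mul hG.1).mul hB0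
  · rw [map_one, one_mul]
    apply subst_eq_of_eval
    intro x
    rw [← Matrix.mulVec_mulVec, ← Matrix.mulVec_mulVec, h0, hG.2, h0']
    field_simp
  · rw [← Matrix.mulVec_mulVec, ← Matrix.mulVec_mulVec, hGd, Matrix.mulVec_smul,
      mulVec_cancel_inv hA0]

/-- eigenvector lemma on a line through three "cube-root" points -/
theorem eig_pair {B : Matrix (Fin 3) (Fin 3) ℂ} {a b : V3}
    (hind : ∀ s t : ℂ, s • a + t • b = 0 → s = 0 ∧ t = 0)
    {ω : ℂ} (hω : ω ^ 2 + ω + 1 = 0)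
    (h1 : ∃ d : ℂ, B.mulVec (a - b) = d • (a - b))
    (h2 : ∃ d : ℂ, B.mulVec (a - ω • b) = d • (a - ω • b))
    (h3 : ∃ d : ℂ, B.mulVec (a - ω ^ 2 • b) = d • (a - ω ^ 2 • b)) :
    ∃ l : ℂ, B.mulVec a = l • a ∧ B.mulVec b = l • b := by
  obtain ⟨d1, h1⟩ := h1
  obtain ⟨d2, h2⟩ := h2
  obtain ⟨d3, h3⟩ := h3
  rw [Matrix.mulVec_sub] at h1
  rw [Matrix.mulVec_sub, Matrix.mulVec_smul] at h2 h3
  set X := B.mulVec a
  set Y := B.mulVec b
  have hω3 : ω ^ 3 = 1 := by linear_combination (ω - 1) * hω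
  have hω1 : ω - 1 ≠ 0 := by
    intro h
    have : ω = 1 := by linear_combination h
    rw [this] at hω
    norm_num at hω
  have hU : (d3 + ω * d1 + ω ^ 2 * d2) • a + (-(ω ^ 2) * d3 - ω * d1 - d2) • b = 0 := by
    linear_combination (norm := module) (-1 : ℂ) • h3 - ω • h1 - ω ^ 2 • h2 + hω • X - hω • Y -
      hω3 • Y + d2 • hω3 • b
  obtain ⟨u1, u2⟩ := hind _ _ hU
  have hd12 : d1 = d2 := by
    have : (ω - 1) * (d1 - d2) = 0 := by
      linear_combination (-(ω ^ 2)) * u1 - u2 + (d1 + ω * d2) * hω3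
    rcases mul_eq_zero.1 this with h | h
    · exact absurd h hω1
    · linear_combination h
  subst hd12
  have hY : Y = d1 • b := by
    have : (ω - 1) • Y = (ω - 1) • (d1 • b) := by
      linear_combination (norm := module) h1 - h2
    have h5 := congrArg (fun z => (ω - 1)⁻¹ • z) this
    simp only [smul_smul, inv_mul_cancel₀ hω1, one_smul] at h5
    rw [h5]
    congr 1
    field_simp
  refine ⟨d1, ?_, hY⟩
  linear_combination (norm := module) h1 + hY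

theorem matrix_ext_mulVec3 {A B : Matrix (Fin 3) (Fin 3) ℂ}
    (h : ∀ v, A.mulVec v = B.mulVec v) : A = B := by
  apply Matrix.toLin'.injective
  apply LinearMap.ext
  intro v
  simp [Matrix.toLin'_apply, h v]

theorem exists_omega : ∃ ω : ℂ, ω ^ 2 + ω + 1 = 0 := by
  obtain ⟨s, hs⟩ := IsAlgClosed.exists_eq_mul_self (-3 : ℂ)
  refine ⟨(-1 + s) / 2, ?_⟩
  field_simp
  linear_combination -hs

theorem faithful_on_flexes {f : MvPolynomial (Fin 3) ℂ} (hf : f.IsHomogeneous 3)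
    (hsm : Smooth f) {A : Matrix (Fin 3) (Fin 3) ℂ}
    (hfix : ∀ v : Fin 3 → ℂ, v ≠ 0 → eval v f = 0 → IsFlex f v → ∃ d : ℂ, A.mulVec v = d • v) :
    ∃ c : ℂ, A = c • (1 : Matrix (Fin 3) (Fin 3) ℂ) := by
  obtain ⟨A0, k, c0, hA0, hk, hc0, h0, h0'⟩ := hesse_data hf hsm
  set B := A0⁻¹ * A * A0 with hB
  -- B fixes the nine flexes
  have hfixB : ∀ (q : V3) (γ : ℂ), γ ^ 3 = 1 →
      (q = (1 : ℂ) • ![0, 1, -γ] ∨ q = (1 : ℂ) • ![-γ, 0, 1] ∨ q = (1 : ℂ) • ![1, -γ, 0]) →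
      ∃ d : ℂ, B.mulVec q = d • q := by
    intro q γ hγ hq
    have hq0 : q ≠ 0 := by
      intro h
      rcases hq with h' | h' | h' <;>
      · rw [h, one_smul] at h'
        have := congrFun h' 1
        have := congrFun h' 2
        have := congrFun h' 0
        simp_all
    have hCq : eval q (HesseCubic.form k) = 0 := by
      rcases hq with h' | h' | h' <;>
      · rw [h', one_smul, eval_hesse]
        simp
        linear_combination -hγ
    have hflexq : IsFlex (HesseCubic.form k) q := HesseFlex.sufficiency k q hq0 γ 1 hγ hq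
    have hflex : IsFlex f (A0.mulVec q) := flex_transport hA0 h0 hflexq
    have hne : A0.mulVec q ≠ 0 := by
      intro h
      apply hq0
      rw [← mulVec_inv_cancel hA0 q, h, Matrix.mulVec_zero]
    obtain ⟨d, hd⟩ := hfix _ hne (by rw [h0, hCq, mul_zero]) hflex
    refine ⟨d, ?_⟩
    rw [hB, ← Matrix.mulVec_mulVec, ← Matrix.mulVec_mulVec, hd, Matrix.mulVec_smul,
      mulVec_inv_cancel hA0]
  obtain ⟨ω, hω⟩ := exists_omega
  have hω3 : ω ^ 3 = 1 := by linear_combination (ω - 1) * hω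
  have hω6 : (ω ^ 2) ^ 3 = 1 := by
    have : (ω ^ 2) ^ 3 = (ω ^ 3) ^ 2 := by ring
    rw [this, hω3]
    ring
  -- the three coordinate lines
  have L0 : ∃ l : ℂ, B.mulVec ![0, 1, 0] = l • ![0, 1, 0] ∧ B.mulVec ![0, 0, 1] = l • ![0, 0, 1] := by
    apply eig_pair (ω := ω) _ hω
    · have e : (![0, 1, 0] : V3) - ![0, 0, 1] = (1 : ℂ) • ![0, 1, -1] := by
        funext i; fin_cases i <;> simp
      rw [e]
      exact hfixB _ 1 (by norm_num) (Or.inl rfl)
    · have e : (![0, 1, 0] : V3) - ω • ![0, 0, 1] = (1 : ℂ) • ![0, 1, -ω] := by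
        funext i; fin_cases i <;> simp
      rw [e]
      exact hfixB _ ω hω3 (Or.inl rfl)
    · have e : (![0, 1, 0] : V3) - ω ^ 2 • ![0, 0, 1] = (1 : ℂ) • ![0, 1, -ω ^ 2] := by
        funext i; fin_cases i <;> simp
      rw [e]
      exact hfixB _ (ω ^ 2) hω6 (Or.inl rfl)
    · intro s t hst
      have h1 := congrFun hst 1
      have h2 := congrFun hst 2
      simp at h1 h2
      exact ⟨h1, h2⟩
  have L1 : ∃ l : ℂ, B.mulVec ![0, 0, 1] = l • ![0, 0, 1] ∧ B.mulVec ![1, 0, 0] = l • ![1, 0, 0] := by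
    apply eig_pair (ω := ω) _ hω
    · have e : (![0, 0, 1] : V3) - ![1, 0, 0] = (1 : ℂ) • ![-1, 0, 1] := by
        funext i; fin_cases i <;> simp
      rw [e]
      exact hfixB _ 1 (by norm_num) (Or.inr (Or.inl rfl))
    · have e : (![0, 0, 1] : V3) - ω • ![1, 0, 0] = (1 : ℂ) • ![-ω, 0, 1] := by
        funext i; fin_cases i <;> simp
      rw [e]
      exact hfixB _ ω hω3 (Or.inr (Or.inl rfl))
    · have e : (![0, 0, 1] : V3) - ω ^ 2 • ![1, 0, 0] = (1 : ℂ) • ![-ω ^ 2, 0, 1] := by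
        funext i; fin_cases i <;> simp
      rw [e]
      exact hfixB _ (ω ^ 2) hω6 (Or.inr (Or.inl rfl))
    · intro s t hst
      have h1 := congrFun hst 2
      have h2 := congrFun hst 0
      simp at h1 h2
      exact ⟨h1, h2⟩
  have L2 : ∃ l : ℂ, B.mulVec ![1, 0, 0] = l • ![1, 0, 0] ∧ B.mulVec ![0, 1, 0] = l • ![0, 1, 0] := by
    apply eig_pair (ω := ω) _ hω
    · have e : (![1, 0, 0] : V3) - ![0, 1, 0] = (1 : ℂ) • ![1, -1, 0] := by
        funext i; fin_cases i <;> simp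
      rw [e]
      exact hfixB _ 1 (by norm_num) (Or.inr (Or.inr rfl))
    · have e : (![1, 0, 0] : V3) - ω • ![0, 1, 0] = (1 : ℂ) • ![1, -ω, 0] := by
        funext i; fin_cases i <;> simp
      rw [e]
      exact hfixB _ ω hω3 (Or.inr (Or.inr rfl))
    · have e : (![1, 0, 0] : V3) - ω ^ 2 • ![0, 1, 0] = (1 : ℂ) • ![1, -ω ^ 2, 0] := by
        funext i; fin_cases i <;> simp
      rw [e]
      exact hfixB _ (ω ^ 2) hω6 (Or.inr (Or.inr rfl))
    · intro s t hst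
      have h1 := congrFun hst 0
      have h2 := congrFun hst 1
      simp at h1 h2
      exact ⟨h1, h2⟩
  obtain ⟨l0, a1, a2⟩ := L0
  obtain ⟨l1, b2, b0⟩ := L1
  obtain ⟨l2, c0', c1⟩ := L2
  have e01 : l0 = l1 := by
    have := a2.symm.trans b2
    have := congrFun this 2
    simpa using this
  have e12 : l1 = l2 := by
    have := b0.symm.trans c0'
    have := congrFun this 0
    simpa using this
  subst e01
  subst e12
  have hBx : ∀ x : V3, B.mulVec x = l0 • x := by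
    intro x
    have hx : x = x 0 • ![1, 0, 0] + x 1 • ![0, 1, 0] + x 2 • ![0, 0, 1] := by
      funext i; fin_cases i <;> simp
    conv_lhs => rw [hx]
    rw [Matrix.mulVec_add, Matrix.mulVec_add, Matrix.mulVec_smul, Matrix.mulVec_smul,
      Matrix.mulVec_smul, b0, a1, a2]
    conv_rhs => rw [hx]
    module
  refine ⟨l0, ?_⟩
  apply matrix_ext_mulVec3
  intro x
  have := hBx (A0⁻¹.mulVec x)
  rw [hB, ← Matrix.mulVec_mulVec, ← Matrix.mulVec_mulVec, mulVec_cancel_inv hA0] at this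
  have h2 := congrArg A0.mulVec this
  rw [mulVec_cancel_inv hA0, Matrix.mulVec_smul, mulVec_cancel_inv hA0] at h2
  rw [h2, Matrix.smul_mulVec, Matrix.one_mulVec]

end Groth.Agent.H9.PlaneCubic


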