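import Mathlib
import Groth.Agent.Lib.Helper9.HesseGroup

/-!
# Automorphisms of a general member of the Hesse pencil
-/

set_option autoImplicit false

namespace Groth.Agent.H9.HesseAut

open MvPolynomial Groth.Agent.H9.CubicForm Groth.Agent.H9.PlaneCubic

/-- Weierstrass-type cubic `3 d² t + D (y³ + p y t² + q t³)` in coordinates `(d, t, y)` -/
noncomputable def W (D p q : ℂ) (v : Fin 3 → ℂ) : ℂ :=
  3 * v 0 ^ 2 * v 1 + D * (v 2 ^ 3 + p * v 2 * v 1 ^ 2 + q * v 1 ^ 3)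

/-- its polar form -/
noncomputable def TW (D p q : ℂ) (u v w : Fin 3 → ℂ) : ℂ :=
  u 0 * v 0 * w 1 + u 0 * v 1 * w 0 + u 1 * v 0 * w 0 +
    D * (u 2 * v 2 * w 2 + (p / 3) * (u 2 * v 1 * w 1 + u 1 * v 2 * w 1 + u 1 * v 1 * w 2) +
      q * (u 1 * v 1 * w 1))

theorem TW_polar (D p q : ℂ) (u v w : Fin 3 → ℂ) :
    TW D p q u v w = (W D p q (u + v + w) - W D p q (u + v) - W D p q (u + w) - W D p q (v + w) +
      W D p q u + W D p q v + W D p q w) / 6 := by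
  simp only [TW, W, Pi.add_apply]
  ring

theorem TW_M {D p q c : ℂ} {M : Matrix (Fin 3) (Fin 3) ℂ}
    (hW : ∀ v, W D p q (M.mulVec v) = c * W D p q v) (u v w : Fin 3 → ℂ) :
    TW D p q (M.mulVec u) (M.mulVec v) (M.mulVec w) = c * TW D p q u v w := by
  rw [TW_polar, TW_polar, ← Matrix.mulVec_add, ← Matrix.mulVec_add, ← Matrix.mulVec_add,
    ← Matrix.mulVec_add, hW, hW, hW, hW, hW, hW, hW]
  ring

theorem col (M : Matrix (Fin 3) (Fin 3) ℂ) (j : Fin 3) :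
    M.mulVec (Pi.single j 1) = fun i => M i j := by
  funext i
  simp [Matrix.mulVec, dotProduct, Pi.single_apply]

theorem W_aut {D p q c : ℂ} (hD : D ≠ 0) (hp : p ≠ 0) (hq : q ≠ 0) (hc : c ≠ 0)
    {M : Matrix (Fin 3) (Fin 3) ℂ} (h10 : M 1 0 = 0) (h20 : M 2 0 = 0) (h00 : M 0 0 ≠ 0)
    (hW : ∀ v, W D p q (M.mulVec v) = c * W D p q v) :
    ∃ α : ℂ, M = α • (1 : Matrix (Fin 3) (Fin 3) ℂ) ∨ M = α • Matrix.diagonal ![-1, 1, 1] := by
  have hT := TW_M hW
  have E := fun i j l : Fin 3 => hT (Pi.single i 1) (Pi.single j 1) (Pi.single l 1)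
  simp only [col] at E
  -- (a) m12 = 0
  have Ea := E 0 0 2
  simp [TW, h10, h20] at Ea
  have h12 : M 1 2 = 0 := Ea.resolve_left h00
  have Eb := E 0 0 1
  have Ec := E 0 1 2
  have Ed := E 0 1 1
  simp only [TW, h10, h20, h12, Pi.single_apply] at Eb Ec Ed
  norm_num [Fin.ext_iff] at Eb Ec Ed
  have h11 : M 1 1 ≠ 0 := by
    intro h
    apply hc
    rw [← Eb, h, mul_zero]
  have h02 : M 0 2 = 0 := by
    rcases Ec with (h | h) | h
    · exact absurd h h00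
    · exact absurd h h11
    · exact h
  have h01 : M 0 1 = 0 := by
    have : (2 * M 0 0 * M 1 1) * M 0 1 = 0 := by linear_combination Ed
    rcases mul_eq_zero.1 this with h | h
    · exact absurd h (mul_ne_zero (mul_ne_zero (by norm_num) h00) h11)
    · exact h
  have Ee := E 2 2 2
  have Ef := E 2 2 1
  have Eg := E 2 1 1
  have Eh := E 1 1 1
  simp only [TW, h12, h01, h02, Pi.single_apply] at Ee Ef Eg Eh
  norm_num [Fin.ext_iff] at Ee Ef Eg Eh
  have hα3 : M 2 2 ^ 3 = c := by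
    have : D * (M 2 2 ^ 3 - c) = 0 := by linear_combination Ee
    rcases mul_eq_zero.1 this with h | h
    · exact absurd h hD
    · linear_combination h
  have hα : M 2 2 ≠ 0 := by
    intro h
    apply hc
    rw [← hα3, h]
    ring
  have h21 : M 2 1 = 0 := by
    rcases Ef with h | h | h
    · exact absurd h hD
    · exact absurd h hα
    · exact h
  rw [h21] at Eg Eh
  have hg : M 2 2 * M 1 1 ^ 2 = c := by
    have : (D * (p / 3)) * (M 2 2 * M 1 1 ^ 2 - c) = 0 := by linear_combination Eg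
    rcases mul_eq_zero.1 this with h | h
    · exact absurd h (mul_ne_zero hD (div_ne_zero hp (by norm_num)))
    · linear_combination h
  have hh : M 1 1 ^ 3 = c := by
    have : (D * q) * (M 1 1 ^ 3 - c) = 0 := by linear_combination Eh
    rcases mul_eq_zero.1 this with h | h
    · exact absurd h (mul_ne_zero hD hq)
    · linear_combination h
  have hτ : M 1 1 = M 2 2 := by
    have : M 1 1 ^ 2 * (M 1 1 - M 2 2) = 0 := by linear_combination hh - hg
    rcases mul_eq_zero.1 this with h | h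
    · exact absurd (pow_eq_zero_iff (by norm_num) |>.1 h) h11
    · linear_combination h
  have hlam : (M 0 0 - M 2 2) * (M 0 0 + M 2 2) = 0 := by
    have : M 2 2 * ((M 0 0 - M 2 2) * (M 0 0 + M 2 2)) = 0 := by
      rw [hτ] at Eb
      linear_combination Eb - hα3
    exact (mul_eq_zero.1 this).resolve_left hα
  refine ⟨M 2 2, ?_⟩
  rcases mul_eq_zero.1 hlam with h | h
  · left
    have h00' : M 0 0 = M 2 2 := by linear_combination h
    ext i j
    fin_cases i <;> fin_cases j <;> simp [h00', h01, h02, h10, hτ, h12, h20, h21]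
  · right
    have h00' : M 0 0 = -M 2 2 := by linear_combination h
    ext i j
    fin_cases i <;> fin_cases j <;> simp [h00', h01, h02, h10, hτ, h12, h20, h21]

/-- coordinate change `x ↦ (d, t, y)` -/
noncomputable def Cm (k : ℂ) : Matrix (Fin 3) (Fin 3) ℂ :=
  !![1, -1, 0; 1, 1, k;
    3 * k ^ 2 / (4 * (1 - k ^ 3)), 3 * k ^ 2 / (4 * (1 - k ^ 3)),
      1 + 3 * k ^ 2 / (4 * (1 - k ^ 3)) * k]

/-- inverse coordinate change -/
noncomputable def Ci (k : ℂ) : Matrix (Fin 3) (Fin 3) ℂ :=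
  !![1 / 2, (1 + k * (3 * k ^ 2 / (4 * (1 - k ^ 3)))) / 2, -k / 2;
    -1 / 2, (1 + k * (3 * k ^ 2 / (4 * (1 - k ^ 3)))) / 2, -k / 2;
    0, -(3 * k ^ 2 / (4 * (1 - k ^ 3))), 1]

theorem Cm_mulVec (k : ℂ) (x : Fin 3 → ℂ) : (Cm k).mulVec x =
    ![x 0 - x 1, x 0 + x 1 + k * x 2,
      3 * k ^ 2 / (4 * (1 - k ^ 3)) * (x 0 + x 1 + k * x 2) + x 2] := by
  funext i
  fin_cases i <;> simp [Cm, Matrix.mulVec, dotProduct, Fin.sum_univ_three] <;> ring

theorem Ci_mulVec (k : ℂ) (v : Fin 3 → ℂ) : (Ci k).mulVec v =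
    ![v 0 / 2 + (1 + k * (3 * k ^ 2 / (4 * (1 - k ^ 3)))) / 2 * v 1 - k / 2 * v 2,
      -(v 0) / 2 + (1 + k * (3 * k ^ 2 / (4 * (1 - k ^ 3)))) / 2 * v 1 - k / 2 * v 2,
      -(3 * k ^ 2 / (4 * (1 - k ^ 3))) * v 1 + v 2] := by
  funext i
  fin_cases i <;> simp [Ci, Matrix.mulVec, dotProduct, Fin.sum_univ_three] <;> ring

theorem hD_ne {k : ℂ} (hk : k ^ 3 ≠ 1) : (4 : ℂ) * (1 - k ^ 3) ≠ 0 := by
  apply mul_ne_zero (by norm_num)
  intro h
  apply hk
  linear_combination -h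

theorem Ci_Cm {k : ℂ} (hk : k ^ 3 ≠ 1) (x : Fin 3 → ℂ) : (Ci k).mulVec ((Cm k).mulVec x) = x := by
  have hD := hD_ne hk
  rw [Cm_mulVec, Ci_mulVec]
  funext i
  fin_cases i <;> simp <;> field_simp <;> ring

theorem Cm_Ci {k : ℂ} (hk : k ^ 3 ≠ 1) (x : Fin 3 → ℂ) : (Cm k).mulVec ((Ci k).mulVec x) = x := by
  have hD := hD_ne hk
  rw [Ci_mulVec, Cm_mulVec]
  funext i
  fin_cases i <;> simp <;> field_simp <;> ring

theorem W_hesse {k : ℂ} (hk : k ^ 3 ≠ 1) (v : Fin 3 → ℂ) :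
    4 * eval ((Ci k).mulVec v) (HesseCubic.form k) =
      W (4 * (1 - k ^ 3)) (-3 * k * (8 + k ^ 3) / (4 * (1 - k ^ 3)) ^ 2)
        (-2 * (k ^ 6 - 20 * k ^ 3 - 8) / (4 * (1 - k ^ 3)) ^ 3) v := by
  have hD := hD_ne hk
  rw [Ci_mulVec, eval_hesse, W]
  simp only [Matrix.cons_val_zero, Matrix.cons_val_one, Matrix.cons_val_two, Matrix.tail_cons,
    Matrix.head_cons]
  field_simp
  ring

/-- swap of the first two coordinates -/
def R : Matrix (Fin 3) (Fin 3) ℂ := !![0, 1, 0; 1, 0, 0; 0, 0, 1]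

theorem R_mulVec (x : Fin 3 → ℂ) : R.mulVec x = ![x 1, x 0, x 2] := by
  funext i
  fin_cases i <;> simp [R, Matrix.mulVec, dotProduct, Fin.sum_univ_three]

/-- genericity of the parameter -/
structure Generic (k : ℂ) : Prop where
  h0 : k ≠ 0
  h1 : k ^ 3 ≠ 1
  h8 : k ^ 3 + 8 ≠ 0
  hq : k ^ 6 - 20 * k ^ 3 - 8 ≠ 0

theorem stab {k : ℂ} (hk : Generic k) {A : Matrix (Fin 3) (Fin 3) ℂ} (hA : IsUnit A.det) {c : ℂ}
    (hAc : ∀ x, eval (A.mulVec x) (HesseCubic.form k) = c * eval x (HesseCubic.form k))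
    {lam : ℂ} (hq0 : A.mulVec ![1, -1, 0] = lam • ![1, -1, 0]) :
    ∃ α : ℂ, A = α • (1 : Matrix (Fin 3) (Fin 3) ℂ) ∨ A = α • R := by
  have hk1 := hk.h1
  have hD := hD_ne hk1
  have hc : c ≠ 0 := by
    rintro rfl
    have := hAc (A⁻¹.mulVec ![1, 0, 0])
    rw [mulVec_cancel_inv hA, eval_hesse] at this
    simp at this
  have hlam : lam ≠ 0 := by
    rintro rfl
    rw [zero_smul] at hq0
    have := congrArg A⁻¹.mulVec hq0
    rw [mulVec_inv_cancel hA, Matrix.mulVec_zero] at this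
    have := congrFun this 0
    simp at this
  set M := Cm k * A * Ci k with hM
  have hMv : ∀ v, M.mulVec v = (Cm k).mulVec (A.mulVec ((Ci k).mulVec v)) := by
    intro v
    rw [hM, ← Matrix.mulVec_mulVec, ← Matrix.mulVec_mulVec]
  have hW : ∀ v, W (4 * (1 - k ^ 3)) (-3 * k * (8 + k ^ 3) / (4 * (1 - k ^ 3)) ^ 2)
      (-2 * (k ^ 6 - 20 * k ^ 3 - 8) / (4 * (1 - k ^ 3)) ^ 3) (M.mulVec v) =
      c * W (4 * (1 - k ^ 3)) (-3 * k * (8 + k ^ 3) / (4 * (1 - k ^ 3)) ^ 2)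
      (-2 * (k ^ 6 - 20 * k ^ 3 - 8) / (4 * (1 - k ^ 3)) ^ 3) v := by
    intro v
    rw [← W_hesse hk1, ← W_hesse hk1, hMv, Ci_Cm hk1, hAc]
    ring
  have hMe0 : M.mulVec (Pi.single 0 1) = lam • Pi.single 0 1 := by
    rw [hMv]
    have e1 : (Ci k).mulVec (Pi.single 0 1) = (1 / 2 : ℂ) • ![1, -1, 0] := by
      rw [Ci_mulVec]
      funext i
      fin_cases i <;> simp
      ring
    rw [e1, Matrix.mulVec_smul, hq0, Matrix.mulVec_smul, Matrix.mulVec_smul, Cm_mulVec]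
    funext i
    fin_cases i <;> simp
    ring
  rw [col] at hMe0
  have h00 : M 0 0 = lam := by simpa using congrFun hMe0 0
  have h10 : M 1 0 = 0 := by simpa using congrFun hMe0 1
  have h20 : M 2 0 = 0 := by simpa using congrFun hMe0 2
  have hpn : -3 * k * (8 + k ^ 3) / (4 * (1 - k ^ 3)) ^ 2 ≠ 0 := by
    apply div_ne_zero _ (pow_ne_zero _ hD)
    apply mul_ne_zero (mul_ne_zero (by norm_num) hk.h0)
    intro h
    apply hk.h8
    linear_combination h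
  have hqn : -2 * (k ^ 6 - 20 * k ^ 3 - 8) / (4 * (1 - k ^ 3)) ^ 3 ≠ 0 := by
    apply div_ne_zero _ (pow_ne_zero _ hD)
    exact mul_ne_zero (by norm_num) hk.hq
  obtain ⟨α, hα⟩ := W_aut hD hpn hqn hc h10 h20 (by rw [h00]; exact hlam) hW
  have hAM : A = Ci k * M * Cm k := by
    apply matrix_ext_mulVec3
    intro x
    rw [← Matrix.mulVec_mulVec, ← Matrix.mulVec_mulVec, hMv, Ci_Cm hk1, Ci_Cm hk1]
  refine ⟨α, ?_⟩
  rcases hα with h | h
  · left
    rw [hAM, h]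
    apply matrix_ext_mulVec3
    intro x
    rw [← Matrix.mulVec_mulVec, ← Matrix.mulVec_mulVec, Matrix.smul_mulVec, Matrix.one_mulVec,
      Matrix.mulVec_smul, Ci_Cm hk1, Matrix.smul_mulVec, Matrix.one_mulVec]
  · right
    rw [hAM, h]
    apply matrix_ext_mulVec3
    intro x
    rw [← Matrix.mulVec_mulVec, ← Matrix.mulVec_mulVec, Matrix.smul_mulVec, Matrix.mulVec_smul,
      Matrix.smul_mulVec, R_mulVec]
    congr 1
    have e2 : (Matrix.diagonal ![-1, 1, 1] : Matrix (Fin 3) (Fin 3) ℂ).mulVec ((Cm k).mulVec x) =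
        (Cm k).mulVec ![x 1, x 0, x 2] := by
      rw [Cm_mulVec, Cm_mulVec]
      funext i
      fin_cases i <;> simp [Matrix.mulVec, dotProduct, Matrix.diagonal] <;>
        first | (left; ring) | ring
    rw [e2, Ci_Cm hk1]

section count

/-- powers of the cyclic shift -/
def Sp : Fin 3 → Matrix (Fin 3) (Fin 3) ℂ := ![1, S, S * S]

/-- `1` and `-R` -/
def Rp : Fin 2 → Matrix (Fin 3) (Fin 3) ℂ := ![1, -R]

theorem Sp_InG (k : ℂ) (b : Fin 3) : InG k (Sp b) := by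
  fin_cases b
  · exact InG.one k
  · exact S_InG k
  · exact (S_InG k).mul (S_InG k)

theorem Sp_det (b : Fin 3) : (Sp b).det = 1 := by
  have hS : S.det = 1 := by
    rw [Matrix.det_fin_three]
    simp [S]
  fin_cases b
  · simp [Sp]
  · simpa [Sp] using hS
  · simp [Sp, Matrix.det_mul, hS]

theorem Dg_det {δ : ℂ} (hδ : δ ^ 3 = 1) : (Dg δ).det = 1 := by
  rw [Matrix.det_fin_three]
  simp [Dg]
  linear_combination hδ

theorem Rp_det (e : Fin 2) : (Rp e).det = 1 := by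
  fin_cases e
  · simp [Rp]
  · simp only [Rp]
    show (-R).det = 1
    rw [Matrix.det_neg, Matrix.det_fin_three]
    simp [R]
    norm_num

theorem Rp_eval (k : ℂ) (e : Fin 2) (x : Fin 3 → ℂ) :
    eval ((Rp e).mulVec x) (HesseCubic.form k) = (-1) ^ (e : ℕ) * eval x (HesseCubic.form k) := by
  fin_cases e
  · simp [Rp]
  · show eval ((-R).mulVec x) (HesseCubic.form k) = _
    rw [Matrix.neg_mulVec, R_mulVec, eval_hesse, eval_hesse]
    simp
    ring

theorem Rp_q0 (e : Fin 2) : (Rp e).mulVec ![1, -1, 0] = ![1, -1, 0] := by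
  fin_cases e
  · simp [Rp]
  · show (-R).mulVec ![1, -1, 0] = _
    rw [Matrix.neg_mulVec, R_mulVec]
    funext i
    fin_cases i <;> simp

theorem Sp_mulVec (b : Fin 3) (γ : ℂ) : (Sp b).mulVec ![1, -γ, 0] =
    ![![1, -γ, 0], ![0, 1, -γ], ![-γ, 0, 1]] b := by
  fin_cases b
  · simp [Sp]
  · show S.mulVec _ = _
    rw [S_mulVec]
    funext i
    fin_cases i <;> simp
  · show (S * S).mulVec _ = _
    rw [← Matrix.mulVec_mulVec, S_mulVec, S_mulVec]
    funext i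
    fin_cases i <;> simp

variable {ω : ℂ} (hω : ω ^ 2 + ω + 1 = 0)
include hω

theorem omega_cube : ω ^ 3 = 1 := by linear_combination (ω - 1) * hω

theorem omega_ne_zero : ω ≠ 0 := by
  rintro rfl
  norm_num at hω

theorem omega_ne_one : ω ≠ 1 := by
  rintro rfl
  norm_num at hω

theorem omega_pow_cube (j : ℕ) : (ω ^ j) ^ 3 = 1 := by
  rw [← pow_mul, mul_comm, pow_mul, omega_cube hω, one_pow]

theorem omega_pow_inj (a a' : Fin 3) (h : ω ^ (a : ℕ) = ω ^ (a' : ℕ)) : a = a' := by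
  have h1 := omega_ne_one hω
  have h0 := omega_ne_zero hω
  have h2 : ω ^ 2 ≠ 1 := by
    intro h2
    apply h0
    have : ω = -2 := by linear_combination hω - h2
    rw [this] at h2
    norm_num at h2
  have h3 : ω ^ 2 ≠ ω := by
    intro h3
    have : ω * (ω - 1) = 0 := by linear_combination h3
    rcases mul_eq_zero.1 this with h | h
    · exact h0 h
    · exact h1 (by linear_combination h)
  fin_cases a <;> fin_cases a'
  · rfl
  · exfalso
    have h' : ω ^ 0 = ω ^ 1 := h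
    rw [pow_zero, pow_one] at h'
    exact h1 h'.symm
  · exfalso
    have h' : ω ^ 0 = ω ^ 2 := h
    rw [pow_zero] at h'
    exact h2 h'.symm
  · exfalso
    have h' : ω ^ 1 = ω ^ 0 := h
    rw [pow_zero, pow_one] at h'
    exact h1 h'
  · rfl
  · exfalso
    have h' : ω ^ 1 = ω ^ 2 := h
    rw [pow_one] at h'
    exact h3 h'.symm
  · exfalso
    have h' : ω ^ 2 = ω ^ 0 := h
    rw [pow_zero] at h'
    exact h2 h'
  · exfalso
    have h' : ω ^ 2 = ω ^ 1 := h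
    rw [pow_one] at h'
    exact h3 h'
  · rfl

theorem cube_root_cases {γ : ℂ} (hγ : γ ^ 3 = 1) : ∃ j : Fin 3, γ = ω ^ (j : ℕ) := by
  have : (γ - 1) * ((γ - ω) * (γ - ω ^ 2)) = 0 := by
    linear_combination hγ + (γ - 1) * (-γ + ω - 1) * hω
  rcases mul_eq_zero.1 this with h | h
  · exact ⟨0, by simp; linear_combination h⟩
  · rcases mul_eq_zero.1 h with h | h
    · exact ⟨1, by simp; linear_combination h⟩
    · exact ⟨2, by simp; linear_combination h⟩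

end count

/-- membership predicate of the automorphism set -/
def P (k : ℂ) (A : Matrix (Fin 3) (Fin 3) ℂ) : Prop :=
  A.det = 1 ∧ ∃ c : ℂ, aeval (fun i : Fin 3 => ∑ j : Fin 3, C (A i j) * X j) (HesseCubic.form k) =
    C c * HesseCubic.form k

theorem P_iff (k : ℂ) (A : Matrix (Fin 3) (Fin 3) ℂ) : P k A ↔ A.det = 1 ∧
    ∃ c : ℂ, ∀ x, eval (A.mulVec x) (HesseCubic.form k) = c * eval x (HesseCubic.form k) := by
  constructor
  · rintro ⟨h1, c, hc⟩
    refine ⟨h1, c, fun x => ?_⟩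
    rw [← eval_subst, hc]
    simp
  · rintro ⟨h1, c, hc⟩
    refine ⟨h1, c, ?_⟩
    apply subst_eq_of_eval
    intro x
    rw [hc]
    simp

theorem eval_smul_hesse (k ζ : ℂ) (y : Fin 3 → ℂ) :
    eval (ζ • y) (HesseCubic.form k) = ζ ^ 3 * eval y (HesseCubic.form k) := by
  rw [eval_hesse, eval_hesse]
  simp
  ring

theorem q_inj {α α' γ γ' : ℂ} (hα : α ≠ 0) (hα' : α' ≠ 0) (hγ : γ ≠ 0) (hγ' : γ' ≠ 0)
    (b b' : Fin 3)
    (h : α • ((![![1, -γ, 0], ![0, 1, -γ], ![-γ, 0, 1]] : Fin 3 → Fin 3 → ℂ) b) =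
      α' • ((![![1, -γ', 0], ![0, 1, -γ'], ![-γ', 0, 1]] : Fin 3 → Fin 3 → ℂ) b')) :
    b = b' ∧ α = α' ∧ γ = γ' := by
  have e0 := congrFun h 0
  have e1 := congrFun h 1
  have e2 := congrFun h 2
  fin_cases b <;> fin_cases b' <;> simp at e0 e1 e2
  · subst e0
    exact ⟨rfl, rfl, mul_left_cancel₀ hα e1⟩
  · exact absurd e0 hα
  · rcases e1 with h | h
    · exact absurd h hα
    · exact absurd h hγ
  · exact absurd e0.symm hα'
  · subst e1
    exact ⟨rfl, rfl, mul_left_cancel₀ hα e2⟩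
  · exact absurd e1 hα
  · rcases e1 with h | h
    · exact absurd h hα'
    · exact absurd h hγ'
  · exact absurd e1.symm hα'
  · subst e2
    exact ⟨rfl, rfl, mul_left_cancel₀ hα e0⟩

/-- the 54 automorphisms -/
noncomputable def Psi (ω : ℂ) (t : Fin 3 × Fin 3 × Fin 3 × Fin 2) : Matrix (Fin 3) (Fin 3) ℂ :=
  (ω ^ (t.1 : ℕ)) • (Sp t.2.1 * Dg (ω ^ (t.2.2.1 : ℕ)) * Rp t.2.2.2)

section count2

variable {ω : ℂ} (hω : ω ^ 2 + ω + 1 = 0)
include hω

theorem Psi_mem (k : ℂ) (t : Fin 3 × Fin 3 × Fin 3 × Fin 2) : P k (Psi ω t) := by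
  rw [P_iff]
  obtain ⟨a, b, c, e⟩ := t
  refine ⟨?_, (-1) ^ (e : ℕ), ?_⟩
  · simp only [Psi]
    rw [Matrix.det_smul, Matrix.det_mul, Matrix.det_mul, Sp_det, Dg_det (omega_pow_cube hω _),
      Rp_det]
    simp [omega_pow_cube hω]
  · intro x
    simp only [Psi]
    rw [Matrix.smul_mulVec, eval_smul_hesse, omega_pow_cube hω, one_mul, ← Matrix.mulVec_mulVec,
      ← Matrix.mulVec_mulVec, (Sp_InG k b).2, (Dg_InG k (omega_pow_cube hω _)).2, Rp_eval]

omit hω in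
theorem Psi_q0 (t : Fin 3 × Fin 3 × Fin 3 × Fin 2) : (Psi ω t).mulVec ![1, -1, 0] =
    (ω ^ (t.1 : ℕ)) • (![![1, -(ω ^ (t.2.2.1 : ℕ)), 0], ![0, 1, -(ω ^ (t.2.2.1 : ℕ))],
      ![-(ω ^ (t.2.2.1 : ℕ)), 0, 1]] t.2.1) := by
  obtain ⟨a, b, c, e⟩ := t
  simp only [Psi]
  rw [Matrix.smul_mulVec, ← Matrix.mulVec_mulVec, ← Matrix.mulVec_mulVec, Rp_q0, Dg_mulVec]
  have : (![(![1, -1, 0] : Fin 3 → ℂ) 0, ω ^ (c : ℕ) * (![1, -1, 0] : Fin 3 → ℂ) 1,
      (ω ^ (c : ℕ)) ^ 2 * (![1, -1, 0] : Fin 3 → ℂ) 2] : Fin 3 → ℂ) = ![1, -(ω ^ (c : ℕ)), 0] := by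
    funext i
    fin_cases i <;> simp
  rw [this, Sp_mulVec]

theorem Psi_inj : Function.Injective (Psi ω) := by
  have h0 := omega_ne_zero hω
  rintro ⟨a, b, c, e⟩ ⟨a', b', c', e'⟩ h
  have hv := congrArg (fun M : Matrix (Fin 3) (Fin 3) ℂ => M.mulVec ![1, -1, 0]) h
  simp only [Psi_q0] at hv
  have ha0 : ω ^ (a : ℕ) ≠ 0 := pow_ne_zero _ h0
  have ha0' : ω ^ (a' : ℕ) ≠ 0 := pow_ne_zero _ h0
  have hc0 : ω ^ (c : ℕ) ≠ 0 := pow_ne_zero _ h0
  have hc0' : ω ^ (c' : ℕ) ≠ 0 := pow_ne_zero _ h0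
  obtain ⟨hb, haa, hcc⟩ := q_inj ha0 ha0' hc0 hc0' b b' hv
  subst hb
  have haa := omega_pow_inj hω _ _ haa
  have hcc := omega_pow_inj hω _ _ hcc
  subst haa
  subst hcc
  have he : e = e' := by
    have hG : InG (0 : ℂ) (Sp b * Dg (ω ^ (c : ℕ))) :=
      (Sp_InG 0 b).mul (Dg_InG 0 (omega_pow_cube hω _))
    have hw := congrArg (fun M : Matrix (Fin 3) (Fin 3) ℂ => M.mulVec ![1, 0, 0]) h
    simp only [Psi, Matrix.smul_mulVec] at hw
    have hw2 := smul_right_injective _ ha0 hw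
    have hsplit : ∀ e : Fin 2, (Sp b * Dg (ω ^ (c : ℕ)) * Rp e).mulVec ![1, 0, 0] =
        (Sp b * Dg (ω ^ (c : ℕ))).mulVec ((Rp e).mulVec ![1, 0, 0]) :=
      fun e => (Matrix.mulVec_mulVec _ _ _).symm
    rw [hsplit, hsplit] at hw2
    have hw3 := congrArg (Sp b * Dg (ω ^ (c : ℕ)))⁻¹.mulVec hw2
    rw [mulVec_inv_cancel hG.1, mulVec_inv_cancel hG.1] at hw3
    fin_cases e <;> fin_cases e'
    · rfl
    · exfalso
      have := congrFun hw3 0
      simp [Rp, Matrix.neg_mulVec, R_mulVec] at this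
    · exfalso
      have := congrFun hw3 0
      simp [Rp, Matrix.neg_mulVec, R_mulVec] at this
    · rfl
  subst he
  rfl

theorem Psi_surj {k : ℂ} (hk : Generic k) {A : Matrix (Fin 3) (Fin 3) ℂ} (hA : P k A) :
    ∃ t, Psi ω t = A := by
  rw [P_iff] at hA
  obtain ⟨hdet, c, hc⟩ := hA
  have hAu : IsUnit A.det := by rw [hdet]; exact isUnit_one
  have hq0ne : (![1, -1, 0] : Fin 3 → ℂ) ≠ 0 := by
    intro h
    have := congrFun h 0
    simp at this
  have hq0flex : IsFlex (HesseCubic.form k) ![1, -1, 0] :=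
    HesseFlex.sufficiency k _ hq0ne 1 1 (by norm_num) (Or.inr (Or.inr (by simp)))
  have hflex : IsFlex (HesseCubic.form k) (A.mulVec ![1, -1, 0]) := flex_transport hAu hc hq0flex
  obtain ⟨w, hli, hw⟩ := hflex
  have hne : A.mulVec ![1, -1, 0] ≠ 0 := by
    have := hli.ne_zero 0
    simpa using this
  have hzero : eval (A.mulVec ![1, -1, 0]) (HesseCubic.form k) = 0 := by
    rw [hc, eval_hesse]
    simp
    right
    norm_num
  obtain ⟨γ, c', hγ, hcases⟩ := HesseFlex.necessity k hk.h1 _ hne hzero w hli hw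
  obtain ⟨j, rfl⟩ := cube_root_cases hω hγ
  have key : ∃ b : Fin 3, A.mulVec ![1, -1, 0] =
      c' • ((![![1, -(ω ^ (j : ℕ)), 0], ![0, 1, -(ω ^ (j : ℕ))], ![-(ω ^ (j : ℕ)), 0, 1]] :
        Fin 3 → Fin 3 → ℂ) b) := by
    rcases hcases with h | h | h
    · exact ⟨1, h⟩
    · exact ⟨2, h⟩
    · exact ⟨0, h⟩
  obtain ⟨b, hb⟩ := key
  obtain ⟨G, hGdef⟩ : ∃ G, G = Sp b * Dg (ω ^ (j : ℕ)) := ⟨_, rfl⟩
  have hG : InG k G := by
    rw [hGdef]
    exact (Sp_InG k b).mul (Dg_InG k (omega_pow_cube hω _))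
  have hdG : G.det = 1 := by
    rw [hGdef, Matrix.det_mul, Sp_det, Dg_det (omega_pow_cube hω _), one_mul]
  have hGq0 : G.mulVec ![1, -1, 0] =
      (![![1, -(ω ^ (j : ℕ)), 0], ![0, 1, -(ω ^ (j : ℕ))], ![-(ω ^ (j : ℕ)), 0, 1]] :
        Fin 3 → Fin 3 → ℂ) b := by
    rw [hGdef, ← Matrix.mulVec_mulVec, Dg_mulVec]
    have : (![(![1, -1, 0] : Fin 3 → ℂ) 0, ω ^ (j : ℕ) * (![1, -1, 0] : Fin 3 → ℂ) 1,
        (ω ^ (j : ℕ)) ^ 2 * (![1, -1, 0] : Fin 3 → ℂ) 2] : Fin 3 → ℂ) =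
        ![1, -(ω ^ (j : ℕ)), 0] := by
      funext i
      fin_cases i <;> simp
    rw [this, Sp_mulVec]
  have hA' : (G⁻¹ * A).mulVec ![1, -1, 0] = c' • ![1, -1, 0] := by
    rw [← Matrix.mulVec_mulVec, hb, ← hGq0, Matrix.mulVec_smul, mulVec_inv_cancel hG.1]
  have hA'c : ∀ x, eval ((G⁻¹ * A).mulVec x) (HesseCubic.form k) =
      c * eval x (HesseCubic.form k) := by
    intro x
    rw [← Matrix.mulVec_mulVec, ← hG.2 (G⁻¹.mulVec _), mulVec_cancel_inv hG.1, hc]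
  have hA'u : IsUnit (G⁻¹ * A).det := by
    rw [Matrix.det_mul, Matrix.det_nonsing_inv, hdG, hdet]
    simp
  obtain ⟨α, hα⟩ := stab hk hA'u hA'c hA'
  have hAG : A = G * (G⁻¹ * A) := by
    rw [← Matrix.mul_assoc, Matrix.mul_nonsing_inv _ hG.1, Matrix.one_mul]
  rcases hα with hα | hα
  · have hAα : A = α • G := by
      rw [hAG, hα]
      simp
    have hα3 : α ^ 3 = 1 := by
      have h := hdet
      rw [hAα, Matrix.det_smul, hdG] at h
      simpa using h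
    obtain ⟨a, rfl⟩ := cube_root_cases hω hα3
    refine ⟨(a, b, j, 0), ?_⟩
    rw [hAα, hGdef]
    simp [Psi, Rp]
  · have hAα : A = (-α) • (G * (-R)) := by
      rw [hAG, hα]
      simp
    have hα3 : (-α) ^ 3 = 1 := by
      have h := hdet
      have hR : (-R).det = 1 := Rp_det 1
      rw [hAα, Matrix.det_smul, Matrix.det_mul, hdG, hR] at h
      simpa using h
    obtain ⟨a, ha⟩ := cube_root_cases hω hα3
    refine ⟨(a, b, j, 1), ?_⟩
    rw [hAα, hGdef, ha]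
    simp [Psi, Rp]

theorem card_aut {k : ℂ} (hk : Generic k) :
    Nat.card {A : Matrix (Fin 3) (Fin 3) ℂ // P k A} = 54 := by
  have hbij : Function.Bijective
      (fun t : Fin 3 × Fin 3 × Fin 3 × Fin 2 =>
        (⟨Psi ω t, Psi_mem hω k t⟩ : {A : Matrix (Fin 3) (Fin 3) ℂ // P k A})) := by
    constructor
    · intro t t' h
      exact Psi_inj hω (congrArg Subtype.val h)
    · rintro ⟨A, hA⟩
      obtain ⟨t, ht⟩ := Psi_surj hω hk hA
      exact ⟨t, Subtype.ext ht⟩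
  rw [← Nat.card_congr (Equiv.ofBijective _ hbij)]
  simp

end count2

end Groth.Agent.H9.HesseAut
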