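import Mathlib

/-!
# Hopf algebras whose augmentation ideal is free of rank one
-/

set_option autoImplicit false

namespace Groth.Agent.H9.Rank2

open TensorProduct

universe u v

section Coord

variable {R : Type u} [CommRing R] {A : Type v} [CommRing A] [HopfAlgebra R A]

/-- The coordinate functional of a generator of the augmentation ideal. -/
theorem exists_coord (x : A)
    (hgen : ∀ f : A, Coalgebra.counit (R := R) f = 0 → ∃ r : R, f = r • x)
    (hfree : ∀ r : R, r • x = 0 → r = 0) :
    ∃ ξ : A →ₗ[R] R, ∀ f : A, f = algebraMap R A (Coalgebra.counit (R := R) f) + ξ f • x := by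
  have h0 : ∀ f : A, Coalgebra.counit (R := R) (f - algebraMap R A (Coalgebra.counit (R := R) f))
      = 0 := by
    intro f
    rw [map_sub, Bialgebra.counit_algebraMap]
    simp
  choose c hc using fun f => hgen _ (h0 f)
  have hc' : ∀ f : A, f = algebraMap R A (Coalgebra.counit (R := R) f) + c f • x := by
    intro f
    rw [← hc f]
    ring
  have huniq : ∀ r s : R, r • x = s • x → r = s := by
    intro r s h
    have : (r - s) • x = 0 := by rw [sub_smul, h, sub_self]
    exact sub_eq_zero.1 (hfree _ this)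
  refine ⟨{ toFun := c, map_add' := ?_, map_smul' := ?_ }, hc'⟩
  · intro f g
    apply huniq
    have h1 := hc' (f + g)
    have h2 := hc' f
    have h3 := hc' g
    rw [map_add, map_add] at h1
    rw [add_smul]
    have : f + g = algebraMap R A (Coalgebra.counit (R := R) f) +
        algebraMap R A (Coalgebra.counit (R := R) g) + (c f • x + c g • x) := by
      conv_lhs => rw [h2, h3]
      ring
    exact add_left_cancel (h1.symm.trans this)
  · intro r f
    apply huniq
    have h1 := hc' (r • f)
    have h2 := hc' f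
    rw [map_smul, smul_eq_mul, map_mul] at h1
    simp only [RingHom.id_apply, smul_eq_mul, mul_smul]
    have : r • f = algebraMap R A r * algebraMap R A (Coalgebra.counit (R := R) f) +
        r • c f • x := by
      conv_lhs => rw [h2]
      rw [smul_add, Algebra.smul_def]
    exact add_left_cancel (h1.symm.trans this)

end Coord

section Main

variable {R : Type u} [CommRing R]

/-- `A = R ⊕ R x` with `x² = a x`, `Δ x = x ⊗ 1 + 1 ⊗ x + b x ⊗ x`. -/
structure IsRank2 (A : Type v) [CommRing A] [HopfAlgebra R A] (x : A) (a b : R) : Prop where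
  counit_x : Coalgebra.counit (R := R) x = 0
  gen : ∀ f : A, Coalgebra.counit (R := R) f = 0 → ∃ r : R, f = r • x
  free : ∀ r : R, r • x = 0 → r = 0
  sq : x * x = a • x
  comul_x : Coalgebra.comul (R := R) x = x ⊗ₜ[R] 1 + 1 ⊗ₜ[R] x + b • (x ⊗ₜ[R] x)

variable {A : Type v} [CommRing A] [HopfAlgebra R A] {x : A} {a b : R}
  {A' : Type v} [CommRing A'] [HopfAlgebra R A'] {x' : A'} {a' b' : R}

theorem IsRank2.exists_coord' (h : IsRank2 A x a b) :
    ∃ ξ : A →ₗ[R] R, (∀ f : A, f = algebraMap R A (Coalgebra.counit (R := R) f) + ξ f • x) ∧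
      ξ x = 1 ∧ ξ 1 = 0 := by
  obtain ⟨ξ, hξ⟩ := exists_coord x h.gen h.free
  refine ⟨ξ, hξ, ?_, ?_⟩
  · have h1 := hξ x
    rw [h.counit_x, map_zero, zero_add] at h1
    have h2 : (1 - ξ x) • x = 0 := by
      rw [sub_smul, one_smul, ← h1, sub_self]
    exact (sub_eq_zero.1 (h.free _ h2)).symm
  · have h1 := hξ 1
    rw [Bialgebra.counit_one, map_one] at h1
    have h2 : ξ 1 • x = 0 := by
      have := add_left_cancel (a := (1 : A)) (b := 0) (c := ξ 1 • x) (by rw [add_zero]; exact h1)
      exact this.symm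
    exact h.free _ h2

/-- Linear maps out of `A` are determined by their values at `1` and `x`. -/
theorem IsRank2.ext_of (h : IsRank2 A x a b) {M : Type*} [AddCommGroup M] [Module R M]
    (F G : A →ₗ[R] M) (h1 : F 1 = G 1) (hx : F x = G x) : F = G := by
  obtain ⟨ξ, hξ, -, -⟩ := h.exists_coord'
  ext f
  rw [hξ f, map_add, map_add, map_smul, map_smul, hx, Algebra.algebraMap_eq_smul_one, map_smul,
    map_smul, h1]

theorem IsRank2.smul_tmul_eq_zero (h : IsRank2 A x a b) (r : R) (hr : r • (x ⊗ₜ[R] x) = 0) :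
    r = 0 := by
  obtain ⟨ξ, -, hξx, -⟩ := h.exists_coord'
  have := congrArg (LinearMap.mul' R R ∘ₗ TensorProduct.map ξ ξ) hr
  simpa [hξx] using this

/-- Necessity of the criterion. -/
theorem IsRank2.of_equiv (h : IsRank2 A x a b) (h' : IsRank2 A' x' a' b') (e : A ≃ₐc[R] A') :
    ∃ s : Rˣ, a = a' * (s : R) ∧ b' = b * (s : R) := by
  have he0 : Coalgebra.counit (R := R) (e x) = 0 := by
    rw [CoalgHomClass.counit_comp_apply, h.counit_x]
  have he0' : Coalgebra.counit (R := R) (e.symm x') = 0 := by
    rw [CoalgHomClass.counit_comp_apply, h'.counit_x]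
  obtain ⟨s, hs⟩ := h'.gen _ he0
  obtain ⟨t, ht⟩ := h.gen _ he0'
  have hst : s * t = 1 := by
    have h1 : e.symm (e x) = x := e.symm_apply_apply x
    rw [hs, map_smul, ht, smul_smul] at h1
    have h2 : (s * t - 1) • x = 0 := by rw [sub_smul, one_smul, h1, sub_self]
    exact sub_eq_zero.1 (h.free _ h2)
  have hts : t * s = 1 := by rw [mul_comm]; exact hst
  -- the square
  have hsq : s * s * a' = a * s := by
    have h1 : e (x * x) = e (a • x) := by rw [h.sq]
    rw [map_mul, map_smul, hs, smul_mul_smul_comm, h'.sq, smul_smul, smul_smul] at h1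
    have h2 : (s * s * a' - a * s) • x' = 0 := by rw [sub_smul, h1, sub_self]
    exact sub_eq_zero.1 (h'.free _ h2)
  -- the comultiplication
  have hco : b * (s * s) = s * b' := by
    obtain ⟨ξ', -, hξx', hξ1'⟩ := h'.exists_coord'
    have h1 := congrArg (LinearMap.mul' R R ∘ₗ TensorProduct.map ξ' ξ')
      (CoalgHomClass.map_comp_comul_apply e x)
    rw [h.comul_x, hs, map_smul, h'.comul_x] at h1
    simp only [map_add, map_smul, TensorProduct.map_tmul, LinearMap.comp_apply,
      LinearMap.mul'_apply, LinearMap.coe_coe, hs, map_one, hξx', hξ1', smul_eq_mul, mul_zero, zero_mul,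
      add_zero, zero_add, mul_one] at h1
    linear_combination h1
  refine ⟨⟨s, t, hst, hts⟩, ?_, ?_⟩
  · change a = a' * s
    calc a = a * (s * t) := by rw [hst, mul_one]
      _ = (a * s) * t := by ring
      _ = (s * s * a') * t := by rw [hsq]
      _ = a' * s * (s * t) := by ring
      _ = a' * s := by rw [hst, mul_one]
  · change b' = b * s
    calc b' = (t * s) * b' := by rw [hts, one_mul]
      _ = t * (s * b') := by ring
      _ = t * (b * (s * s)) := by rw [hco]
      _ = b * s * (t * s) := by ring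
      _ = b * s := by rw [hts, mul_one]

/-- The linear map `1 ↦ 1`, `x ↦ s x'`. -/
noncomputable def linOf (ξ : A →ₗ[R] R) (x' : A') (s : R) : A →ₗ[R] A' :=
  (Algebra.linearMap R A') ∘ₗ (Coalgebra.counit (R := R) (A := A)) +
    s • ((LinearMap.toSpanSingleton R A' x') ∘ₗ ξ)

theorem linOf_apply (ξ : A →ₗ[R] R) (x' : A') (s : R) (f : A) :
    linOf ξ x' s f = algebraMap R A' (Coalgebra.counit (R := R) f) + (s * ξ f) • x' := by
  simp [linOf, mul_smul]

/-- Sufficiency: the algebra map. -/
theorem IsRank2.exists_algHom (h : IsRank2 A x a b) (h' : IsRank2 A' x' a' b') (s : R)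
    (ha : a = a' * s) :
    ∃ φ : A →ₐ[R] A', φ x = s • x' := by
  obtain ⟨ξ, hξ, hξx, hξ1⟩ := h.exists_coord'
  have hφ1 : linOf ξ x' s 1 = 1 := by
    rw [linOf_apply, hξ1, mul_zero, zero_smul, add_zero, Bialgebra.counit_one, map_one]
  have hφx : linOf ξ x' s x = s • x' := by
    rw [linOf_apply, hξx, mul_one, h.counit_x, map_zero, zero_add]
  have hmulx : ∀ g : A, linOf ξ x' s (x * g) = linOf ξ x' s x * linOf ξ x' s g := by
    intro g
    have := h.ext_of ((linOf ξ x' s) ∘ₗ (LinearMap.mulLeft R x))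
      ((LinearMap.mulLeft R (linOf ξ x' s x)) ∘ₗ (linOf ξ x' s)) (by
        simp only [LinearMap.comp_apply, LinearMap.mulLeft_apply, mul_one, hφ1]) (by
        simp only [LinearMap.comp_apply, LinearMap.mulLeft_apply]
        rw [h.sq, map_smul, hφx, smul_mul_smul_comm, h'.sq, smul_smul, smul_smul, ha]
        congr 1
        ring)
    exact LinearMap.congr_fun this g
  have hmul : ∀ f g : A, linOf ξ x' s (f * g) = linOf ξ x' s f * linOf ξ x' s g := by
    intro f g
    have := h.ext_of ((linOf ξ x' s) ∘ₗ (LinearMap.mulRight R g))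
      ((LinearMap.mulRight R (linOf ξ x' s g)) ∘ₗ (linOf ξ x' s)) (by
        simp only [LinearMap.comp_apply, LinearMap.mulRight_apply, one_mul, hφ1]) (by
        simp only [LinearMap.comp_apply, LinearMap.mulRight_apply]
        exact hmulx g)
    exact LinearMap.congr_fun this f
  exact ⟨AlgHom.ofLinearMap (linOf ξ x' s) hφ1 hmul, hφx⟩

/-- Algebra maps out of `A` are determined by the value at `x`. -/
theorem IsRank2.algHom_ext (h : IsRank2 A x a b) {B : Type*} [Ring B] [Algebra R B]
    (F G : A →ₐ[R] B) (hx : F x = G x) : F = G := by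
  have h1 : F.toLinearMap 1 = G.toLinearMap 1 := by
    rw [AlgHom.toLinearMap_apply, AlgHom.toLinearMap_apply, map_one, map_one]
  have := h.ext_of F.toLinearMap G.toLinearMap h1 hx
  exact AlgHom.toLinearMap_injective this

/-- Sufficiency of the criterion. -/
theorem IsRank2.equiv_of (h : IsRank2 A x a b) (h' : IsRank2 A' x' a' b') (s : Rˣ)
    (ha : a = a' * (s : R)) (hb : b' = b * (s : R)) : Nonempty (A ≃ₐc[R] A') := by
  have ha' : a' = a * ((s⁻¹ : Rˣ) : R) := by
    rw [ha, mul_assoc, Units.mul_inv, mul_one]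
  obtain ⟨φ, hφ⟩ := h.exists_algHom h' (s : R) ha
  obtain ⟨ψ, hψ⟩ := h'.exists_algHom h ((s⁻¹ : Rˣ) : R) ha'
  have h1 : φ.comp ψ = AlgHom.id R A' := by
    apply h'.algHom_ext
    rw [AlgHom.comp_apply, hψ, map_smul, hφ, smul_smul, Units.inv_mul, one_smul]
    rfl
  have h2 : ψ.comp φ = AlgHom.id R A := by
    apply h.algHom_ext
    rw [AlgHom.comp_apply, hφ, map_smul, hψ, smul_smul, Units.mul_inv, one_smul]
    rfl
  refine ⟨BialgEquiv.ofAlgEquiv (AlgEquiv.ofAlgHom φ ψ h1 h2) ?_ ?_⟩
  · apply h.algHom_ext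
    rw [AlgHom.comp_apply]
    change Coalgebra.counit (R := R) (φ x) = Coalgebra.counit (R := R) x
    rw [hφ, map_smul, h'.counit_x, h.counit_x, smul_zero]
  · apply h.algHom_ext
    rw [AlgHom.comp_apply, AlgHom.comp_apply]
    change (Algebra.TensorProduct.map φ φ) (Coalgebra.comul (R := R) x) =
      Coalgebra.comul (R := R) (φ x)
    rw [h.comul_x, hφ, map_smul, h'.comul_x, map_add, map_add, map_smul,
      Algebra.TensorProduct.map_tmul, Algebra.TensorProduct.map_tmul,
      Algebra.TensorProduct.map_tmul, map_one, hφ, hb, smul_add, smul_add,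
      TensorProduct.smul_tmul_smul, smul_smul, smul_smul, TensorProduct.smul_tmul',
      TensorProduct.tmul_smul]
    rw [TensorProduct.smul_tmul' (↑s : R) x' (1 : A'),
      TensorProduct.smul_tmul' ((↑s : R) * (b * ↑s)) x' x']
    congr 3
    ring

end Main

end Groth.Agent.H9.Rank2
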