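import Mathlib
import Groth.Agent.Lib.Helper9.HopfRank2

/-!
# Structure of Hopf algebras whose augmentation ideal is free of rank one
-/

set_option autoImplicit false

namespace Groth.Agent.H9.Rank2

open TensorProduct

universe u v

variable {R : Type u} [CommRing R] {A : Type v} [CommRing A] [HopfAlgebra R A]

theorem exists_sq (x : A) (hx : Coalgebra.counit (R := R) x = 0)
    (hgen : ∀ f : A, Coalgebra.counit (R := R) f = 0 → ∃ r : R, f = r • x) :
    ∃ a : R, x * x = a • x :=
  hgen (x * x) (by rw [Bialgebra.counit_mul, hx, zero_mul])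

theorem exists_comul (x : A) (hx : Coalgebra.counit (R := R) x = 0)
    (hgen : ∀ f : A, Coalgebra.counit (R := R) f = 0 → ∃ r : R, f = r • x)
    (hfree : ∀ r : R, r • x = 0 → r = 0) :
    ∃ b : R, Coalgebra.comul (R := R) x = x ⊗ₜ[R] 1 + 1 ⊗ₜ[R] x + b • (x ⊗ₜ[R] x) := by
  obtain ⟨ξ, hξ⟩ := exists_coord x hgen hfree
  set P : A →ₗ[R] A := (Algebra.linearMap R A) ∘ₗ (Coalgebra.counit (R := R) (A := A)) with hP
  set Q : A →ₗ[R] A := (LinearMap.toSpanSingleton R A x) ∘ₗ ξ with hQ
  have hPQ : (LinearMap.id : A →ₗ[R] A) = P + Q := by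
    ext f
    simp only [LinearMap.id_apply, LinearMap.add_apply, hP, hQ, LinearMap.comp_apply,
      Algebra.linearMap_apply, LinearMap.toSpanSingleton_apply]
    exact hξ f
  have hPx : P x = 0 := by
    simp only [hP, LinearMap.comp_apply, hx, map_zero]
  have hP1 : P 1 = 1 := by
    simp only [hP, LinearMap.comp_apply, Bialgebra.counit_one, Algebra.linearMap_apply, map_one]
  set D : A ⊗[R] A := Coalgebra.comul (R := R) x - x ⊗ₜ[R] 1 - 1 ⊗ₜ[R] x with hD
  have h1 : TensorProduct.map P LinearMap.id D = 0 := by
    have hc : TensorProduct.map P (LinearMap.id : A →ₗ[R] A) (Coalgebra.comul (R := R) x)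
        = 1 ⊗ₜ[R] x := by
      have : TensorProduct.map P (LinearMap.id : A →ₗ[R] A) =
          (Algebra.linearMap R A).rTensor A ∘ₗ (Coalgebra.counit (R := R) (A := A)).rTensor A := by
        rw [← LinearMap.rTensor_comp]; rfl
      rw [this, LinearMap.comp_apply, Coalgebra.rTensor_counit_comul]
      simp
    rw [hD, map_sub, map_sub, hc, TensorProduct.map_tmul, TensorProduct.map_tmul, hPx, hP1,
      zero_tmul, sub_zero, LinearMap.id_apply, sub_self]
  have h2 : TensorProduct.map LinearMap.id P D = 0 := by
    have hc : TensorProduct.map (LinearMap.id : A →ₗ[R] A) P (Coalgebra.comul (R := R) x)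
        = x ⊗ₜ[R] 1 := by
      have : TensorProduct.map (LinearMap.id : A →ₗ[R] A) P =
          (Algebra.linearMap R A).lTensor A ∘ₗ (Coalgebra.counit (R := R) (A := A)).lTensor A := by
        rw [← LinearMap.lTensor_comp]; rfl
      rw [this, LinearMap.comp_apply, Coalgebra.lTensor_counit_comul]
      simp
    rw [hD, map_sub, map_sub, hc, TensorProduct.map_tmul, TensorProduct.map_tmul, hPx, hP1,
      tmul_zero, sub_zero, LinearMap.id_apply, sub_self]
  have hPP : TensorProduct.map P P D = 0 := by
    have : TensorProduct.map P P = TensorProduct.map P LinearMap.id ∘ₗ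
        TensorProduct.map LinearMap.id P := by
      rw [← TensorProduct.map_comp]; rfl
    rw [this, LinearMap.comp_apply, h2, map_zero]
  have hPQ' : TensorProduct.map P Q D = 0 := by
    have : TensorProduct.map P Q = TensorProduct.map LinearMap.id Q ∘ₗ
        TensorProduct.map P LinearMap.id := by
      rw [← TensorProduct.map_comp]; rfl
    rw [this, LinearMap.comp_apply, h1, map_zero]
  have hQP : TensorProduct.map Q P D = 0 := by
    have : TensorProduct.map Q P = TensorProduct.map Q LinearMap.id ∘ₗ
        TensorProduct.map LinearMap.id P := by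
      rw [← TensorProduct.map_comp]; rfl
    rw [this, LinearMap.comp_apply, h2, map_zero]
  have hQQ : TensorProduct.map Q Q =
      (LinearMap.toSpanSingleton R (A ⊗[R] A) (x ⊗ₜ[R] x)) ∘ₗ (LinearMap.mul' R R) ∘ₗ
        (TensorProduct.map ξ ξ) := by
    apply TensorProduct.ext'
    intro f g
    simp only [hQ, TensorProduct.map_tmul, LinearMap.comp_apply, LinearMap.toSpanSingleton_apply,
      LinearMap.mul'_apply, TensorProduct.smul_tmul_smul]
  have hDD : D = TensorProduct.map Q Q D := by
    have : D = TensorProduct.map (LinearMap.id : A →ₗ[R] A) (LinearMap.id : A →ₗ[R] A) D := by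
      rw [TensorProduct.map_id, LinearMap.id_apply]
    conv_lhs => rw [this, hPQ, TensorProduct.map_add_left, TensorProduct.map_add_right,
      TensorProduct.map_add_right]
    simp only [LinearMap.add_apply, hPP, hPQ', hQP, zero_add]
  refine ⟨LinearMap.mul' R R (TensorProduct.map ξ ξ D), ?_⟩
  have : Coalgebra.comul (R := R) x = x ⊗ₜ[R] 1 + 1 ⊗ₜ[R] x + D := by
    rw [hD]; abel
  rw [this]
  congr 1
  conv_lhs => rw [hDD, hQQ]
  rfl

/-- `ab = -2`. -/
theorem IsRank2.mul_eq {x : A} {a b : R} (h : IsRank2 A x a b) : a * b = -2 := by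
  -- first relation from `Δ(x²) = Δ(a x)`
  have e1 : (a * b + 1) * (a * b + 2) = 0 := by
    apply h.smul_tmul_eq_zero
    have h1 : Coalgebra.comul (R := R) (x * x) = Coalgebra.comul (R := R) (a • x) := by
      rw [h.sq]
    rw [Bialgebra.comul_mul, map_smul, h.comul_x] at h1
    simp only [mul_add, add_mul, Algebra.TensorProduct.tmul_mul_tmul, mul_one, one_mul,
      smul_mul_assoc, mul_smul_comm, h.sq, smul_add,
      ← TensorProduct.smul_tmul', TensorProduct.tmul_smul, smul_smul] at h1
    linear_combination (norm := module) h1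
  -- second relation from the antipode
  obtain ⟨c, hc⟩ := h.gen (HopfAlgebra.antipode R x)
    (by rw [HopfAlgebra.counit_antipode, h.counit_x])
  have e2 : c * (a * b + 1) = -1 := by
    have h2 := HopfAlgebra.mul_antipode_rTensor_comul_apply (R := R) x
    simp only [h.comul_x, h.counit_x, map_zero, map_add, map_smul, LinearMap.rTensor_tmul,
      LinearMap.mul'_apply, HopfAlgebra.antipode_one, hc, mul_one, one_mul, smul_mul_assoc,
      h.sq, smul_smul] at h2
    have h3 : (c * (a * b + 1) + 1) • x = 0 := by linear_combination (norm := module) h2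
    have := h.free _ h3
    linear_combination this
  linear_combination (-c) * e1 + (a * b + 2) * e2

end Groth.Agent.H9.Rank2
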