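import Mathlib
import Groth.Prelude.Def_W4c5stacksedinertiaGpd

/-!
# Inertia operators on the vector space of finite groups (helper9)

Basic API: iso-invariance of `cl`, the mass formula for `inertiaROf`, the relation
`I ∘ I_r = r I_r + I_{r+1}`.
-/

set_option autoImplicit false

namespace Groth.Agent.H9.Inertia

open W4c5stacksedinertia MulAction

universe u v

section MassFormula

variable {G : Type u} {X : Type v} {M : Type*} [Group G] [Finite G] [MulAction G X] [Finite X]
  [AddCommGroup M] [Module ℚ M]

theorem card_orbit_mul_card_stabilizer (x : X) :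
    Nat.card (orbit G x) * Nat.card (stabilizer G x) = Nat.card G := by
  rw [← Nat.card_prod, Nat.card_congr (orbitProdStabilizerEquivGroup G x)]

/-- mass formula: a sum over orbit representatives is a weighted sum over all points -/
theorem mass_formula (S : Setoid X) (hS : ∀ x y, S.r x y ↔ ∃ g : G, g • x = y) (f : X → M)
    (hf : ∀ x y, S.r x y → f x = f y) :
    ∑ᶠ O : Quotient S, f (Quotient.out O) =
      (1 / (Nat.card G : ℚ)) • ∑ᶠ x : X, (Nat.card (stabilizer G x) : ℚ) • f x := by
  classical
  have : Fintype X := Fintype.ofFinite X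
  have : Fintype (Quotient S) := Fintype.ofFinite _
  rw [finsum_eq_sum_of_fintype, finsum_eq_sum_of_fintype]
  have hG : (Nat.card G : ℚ) ≠ 0 := by
    have : 0 < Nat.card G := Nat.card_pos
    positivity
  rw [← Finset.sum_fiberwise (Finset.univ : Finset X) (fun x => (Quotient.mk S x)), Finset.smul_sum]
  refine Finset.sum_congr rfl fun O _ => ?_
  -- the class of O
  have hrel : ∀ x : X, Quotient.mk S x = O ↔ S.r x (Quotient.out O) := fun x =>
    Quotient.mk_eq_iff_out
  have hcls : ∀ x : X, Quotient.mk S x = O ↔ x ∈ orbit G (Quotient.out O) := by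
    intro x
    rw [hrel, hS]
    constructor
    · rintro ⟨g, hg⟩
      refine ⟨g⁻¹, ?_⟩
      show g⁻¹ • Quotient.out O = x
      rw [← hg, inv_smul_smul]
    · rintro ⟨g, hg⟩
      refine ⟨g⁻¹, ?_⟩
      have hg' : g • Quotient.out O = x := hg
      rw [← hg', inv_smul_smul]
  have hterm : ∀ x ∈ Finset.univ.filter (fun x : X => Quotient.mk S x = O),
      (Nat.card (stabilizer G x) : ℚ) • f x =
        (Nat.card (stabilizer G (Quotient.out O)) : ℚ) • f (Quotient.out O) := by
    intro x hx
    rw [Finset.mem_filter] at hx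
    have h1 : S.r x (Quotient.out O) := (hrel x).1 hx.2
    rw [hf x _ h1]
    congr 2
    have h2 : orbitRel G X x (Quotient.out O) := by
      rw [orbitRel_apply]
      exact (hcls x).1 hx.2
    exact Nat.card_congr (stabilizerEquivStabilizerOfOrbitRel h2).toEquiv
  rw [Finset.sum_congr rfl hterm, Finset.sum_const, ← Nat.cast_smul_eq_nsmul ℚ, smul_smul, smul_smul]
  have hcard : (Finset.univ.filter (fun x : X => Quotient.mk S x = O)).card =
      Nat.card (orbit G (Quotient.out O)) := by
    rw [Nat.card_eq_fintype_card, Fintype.card_subtype]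
    congr 1
    ext x
    simp [hcls]
  rw [hcard]
  have := card_orbit_mul_card_stabilizer (G := G) (Quotient.out O)
  have h3 : (Nat.card (orbit G (Quotient.out O)) : ℚ) * (Nat.card (stabilizer G (Quotient.out O)) : ℚ)
      = Nat.card G := by exact_mod_cast this
  rw [one_div, mul_assoc, h3, inv_mul_cancel₀ hG, one_smul]

end MassFormula

section Iso

/-- the presentation of `G` is isomorphic to `G` -/
noncomputable def ofEquiv (G : Type u) [Group G] [Finite G] : (FinGrp.of G).carrier ≃* G :=
  (Nat.equivFinOfCardPos (α := G) Nat.card_pos.ne').symm.mulEquiv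

theorem idx_of_eq {G : Type u} {H : Type v} [Group G] [Finite G] [Group H] [Finite H]
    (e : G ≃* H) : Idx.of G = Idx.of H :=
  Quotient.sound ⟨(ofEquiv G).trans (e.trans (ofEquiv H).symm)⟩

theorem cl_congr {G : Type u} {H : Type v} [Group G] [Finite G] [Group H] [Finite H]
    (e : G ≃* H) : cl G = cl H := by
  unfold cl
  rw [idx_of_eq e]

/-- the chosen representative of the class of `G` is isomorphic to `G` -/
noncomputable def repEquiv (G : Type u) [Group G] [Finite G] : (Idx.of G).rep ≃* G :=
  (Classical.choice (Quotient.mk_out (s := FinGrp.setoid) (FinGrp.of G))).trans (ofEquiv G)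

theorem idx_of_rep (i : Idx) : Idx.of i.rep = i := by
  have h : FinGrp.setoid.r (FinGrp.of i.rep) (Quotient.out (s := FinGrp.setoid) i) :=
    ⟨ofEquiv i.rep⟩
  have := Quotient.sound (s := FinGrp.setoid) h
  rw [Quotient.out_eq] at this
  exact this

theorem card_idx_of (G : Type u) [Group G] [Finite G] : (Idx.of G).card = Nat.card G :=
  Nat.card_congr (repEquiv G).toEquiv

theorem centerCard_idx_of (G : Type u) [Group G] [Finite G] :
    (Idx.of G).centerCard = Nat.card (Subgroup.center G) := by
  unfold Idx.centerCard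
  exact Nat.card_congr (Subgroup.centerCongr (repEquiv G)).toEquiv

end Iso

section Action

variable {G : Type u} [Group G] {r : ℕ}

/-- conjugation action on commuting tuples -/
instance : MulAction G (CommTuple G r) where
  smul g s := ⟨fun i => g * s.1 i * g⁻¹, by
    intro i j h
    apply s.2.1
    simpa using h, by
    intro i j
    have := s.2.2 i j
    show g * s.1 i * g⁻¹ * (g * s.1 j * g⁻¹) = g * s.1 j * g⁻¹ * (g * s.1 i * g⁻¹)
    have h2 : s.1 i * s.1 j = s.1 j * s.1 i := this
    calc g * s.1 i * g⁻¹ * (g * s.1 j * g⁻¹) = g * (s.1 i * s.1 j) * g⁻¹ := by group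
      _ = g * (s.1 j * s.1 i) * g⁻¹ := by rw [h2]
      _ = _ := by group⟩
  one_smul s := by
    apply Subtype.ext
    funext i
    show 1 * s.1 i * 1⁻¹ = s.1 i
    simp
  mul_smul g h s := by
    apply Subtype.ext
    funext i
    show g * h * s.1 i * (g * h)⁻¹ = g * (h * s.1 i * h⁻¹) * g⁻¹
    group

theorem smul_val (g : G) (s : CommTuple G r) (i : Fin r) : (g • s).1 i = g * s.1 i * g⁻¹ := rfl

theorem setoid_iff (s t : CommTuple G r) :
    (CommTuple.setoid G r).r s t ↔ ∃ g : G, g • s = t := by
  constructor
  · rintro ⟨g, hg⟩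
    exact ⟨g, Subtype.ext (funext hg)⟩
  · rintro ⟨g, rfl⟩
    exact ⟨g, fun i => rfl⟩

theorem stabilizer_eq (s : CommTuple G r) :
    stabilizer G s = Subgroup.centralizer (Set.range s.1) := by
  ext g
  rw [mem_stabilizer_iff, Subgroup.mem_centralizer_iff]
  constructor
  · intro h x hx
    obtain ⟨i, rfl⟩ := hx
    have := congrFun (congrArg Subtype.val h) i
    rw [smul_val] at this
    calc s.1 i * g = (g * s.1 i * g⁻¹) * g := by rw [this]
      _ = g * s.1 i := by group
  · intro h
    apply Subtype.ext
    funext i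
    rw [smul_val]
    have := h (s.1 i) ⟨i, rfl⟩
    rw [← this]
    group

instance [Finite G] : Finite (CommTuple G r) := by
  unfold CommTuple
  infer_instance

/-- the summand of the inertia operator -/
noncomputable def term [Finite G] (s : CommTuple G r) : K :=
  cl (Subgroup.centralizer (Set.range s.1))

theorem term_congr [Finite G] (s t : CommTuple G r) (h : (CommTuple.setoid G r).r s t) :
    term s = term t := by
  unfold term
  have h2 : orbitRel G (CommTuple G r) s t := by
    rw [orbitRel_apply]
    obtain ⟨g, hg⟩ := (setoid_iff s t).1 h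
    exact ⟨g⁻¹, by show g⁻¹ • t = s; rw [← hg, inv_smul_smul]⟩
  have e := stabilizerEquivStabilizerOfOrbitRel h2
  rw [stabilizer_eq, stabilizer_eq] at e
  exact cl_congr e

/-- mass formula for the `r`-th inertia operator -/
theorem inertiaROf_eq [Finite G] : inertiaROf r G =
    (1 / (Nat.card G : ℚ)) • ∑ᶠ s : CommTuple G r,
      (Nat.card (Subgroup.centralizer (Set.range s.1)) : ℚ) • term s := by
  have := mass_formula (G := G) (CommTuple.setoid G r) setoid_iff term term_congr
  simp only [stabilizer_eq] at this
  exact this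

end Action

section Congr

variable {G : Type u} {H : Type v} [Group G] [Group H] {r : ℕ}

/-- transport of centralizers along an isomorphism -/
def centralizerCongr (e : G ≃* H) (S : Set G) (T : Set H) (hST : e '' S = T) :
    Subgroup.centralizer S ≃* Subgroup.centralizer T where
  toFun x := ⟨e x.1, by
    rw [Subgroup.mem_centralizer_iff]
    intro y hy
    rw [← hST] at hy
    obtain ⟨z, hz, rfl⟩ := hy
    rw [← map_mul, ← map_mul, (Subgroup.mem_centralizer_iff.1 x.2) z hz]⟩
  invFun y := ⟨e.symm y.1, by
    rw [Subgroup.mem_centralizer_iff]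
    intro z hz
    have hz' : e z ∈ T := by rw [← hST]; exact ⟨z, hz, rfl⟩
    apply e.injective
    rw [map_mul, map_mul, e.apply_symm_apply]
    exact (Subgroup.mem_centralizer_iff.1 y.2) _ hz'⟩
  left_inv x := by
    apply Subtype.ext
    simp
  right_inv y := by
    apply Subtype.ext
    simp
  map_mul' x y := by
    apply Subtype.ext
    simp

/-- transport of commuting tuples along an isomorphism -/
def tupleCongr (e : G ≃* H) : CommTuple G r ≃ CommTuple H r where
  toFun s := ⟨fun i => e (s.1 i), fun i j h => s.2.1 (e.injective h), fun i j => by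
    have := s.2.2 i j
    exact this.map e⟩
  invFun t := ⟨fun i => e.symm (t.1 i), fun i j h => t.2.1 (e.symm.injective h), fun i j => by
    have := t.2.2 i j
    exact this.map e.symm⟩
  left_inv s := by
    apply Subtype.ext
    funext i
    simp
  right_inv t := by
    apply Subtype.ext
    funext i
    simp

theorem tupleCongr_val (e : G ≃* H) (s : CommTuple G r) (i : Fin r) :
    (tupleCongr e s).1 i = e (s.1 i) := rfl

theorem inertiaROf_congr [Finite G] [Finite H] (e : G ≃* H) :
    inertiaROf r G = inertiaROf r H := by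
  rw [inertiaROf_eq, inertiaROf_eq, Nat.card_congr e.toEquiv]
  congr 1
  rw [← finsum_comp_equiv (tupleCongr (r := r) e)]
  apply finsum_congr
  intro s
  have himg : e '' (Set.range s.1) = Set.range (tupleCongr e s).1 := by
    ext y
    constructor
    · rintro ⟨x, ⟨i, rfl⟩, rfl⟩
      exact ⟨i, rfl⟩
    · rintro ⟨i, rfl⟩
      exact ⟨s.1 i, ⟨i, rfl⟩, rfl⟩
  have ec := centralizerCongr e _ _ himg
  unfold term
  rw [cl_congr ec, Nat.card_congr ec.toEquiv]

end Congr

section OnBasis

variable {r : ℕ}

theorem inertiaR_single (i : Idx) (c : ℚ) :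
    inertiaR r (Finsupp.single i c) = c • inertiaROf r i.rep := by
  unfold inertiaR
  rw [Finsupp.linearCombination_single]

theorem inertiaR_cl (G : Type u) [Group G] [Finite G] : inertiaR r (cl G) = inertiaROf r G := by
  unfold cl
  rw [inertiaR_single, one_smul]
  exact inertiaROf_congr (repEquiv G)

end OnBasis

section Relation

variable {G : Type u} [Group G] [Finite G] {r : ℕ}

/-- weighted class of a centralizer -/
noncomputable def Psi (S : Set G) : K :=
  (Nat.card (Subgroup.centralizer S) : ℚ) • cl (Subgroup.centralizer S)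

/-- total mass of commuting `r`-tuples -/
noncomputable def mass (r : ℕ) (G : Type u) [Group G] [Finite G] : K :=
  ∑ᶠ s : CommTuple G r, Psi (Set.range s.1)

theorem inertiaROf_eq_mass : inertiaROf r G = (1 / (Nat.card G : ℚ)) • mass r G :=
  inertiaROf_eq

theorem inertia_Psi (S : Set G) : inertiaR 1 (Psi S) = mass 1 (Subgroup.centralizer S) := by
  unfold Psi
  rw [map_smul, inertiaR_cl, inertiaROf_eq_mass, smul_smul]
  have h : (Nat.card (Subgroup.centralizer S) : ℚ) ≠ 0 := by
    have : 0 < Nat.card (Subgroup.centralizer S) := Nat.card_pos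
    positivity
  rw [one_div, mul_inv_cancel₀ h, one_smul]

/-- 1-tuples are elements -/
def tupleOne (H : Type v) [Group H] : CommTuple H 1 ≃ H where
  toFun s := s.1 0
  invFun h := ⟨fun _ => h, fun i j _ => Subsingleton.elim i j, fun _ _ => Commute.refl h⟩
  left_inv s := by
    apply Subtype.ext
    funext i
    rw [Subsingleton.elim i 0]
  right_inv h := rfl

theorem mass_one (H : Type v) [Group H] [Finite H] :
    mass 1 H = ∑ᶠ h : H, Psi ({h} : Set H) := by
  unfold mass
  rw [← finsum_comp_equiv (tupleOne H).symm]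
  apply finsum_congr
  intro h
  congr 1
  ext x
  simp [tupleOne]

/-- centralizer inside a centralizer -/
def centralizerSub (S : Set G) (h : Subgroup.centralizer S) :
    Subgroup.centralizer ({h} : Set (Subgroup.centralizer S)) ≃*
      Subgroup.centralizer (insert h.1 S) where
  toFun x := ⟨x.1.1, by
    rw [Subgroup.mem_centralizer_iff]
    intro y hy
    rcases hy with rfl | hy
    · have := (Subgroup.mem_centralizer_iff.1 x.2) h rfl
      exact congrArg Subtype.val this
    · exact (Subgroup.mem_centralizer_iff.1 x.1.2) y hy⟩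
  invFun y := ⟨⟨y.1, by
    rw [Subgroup.mem_centralizer_iff]
    intro z hz
    exact (Subgroup.mem_centralizer_iff.1 y.2) z (Set.mem_insert_of_mem _ hz)⟩, by
    rw [Subgroup.mem_centralizer_iff]
    intro z hz
    rw [Set.mem_singleton_iff] at hz
    subst hz
    apply Subtype.ext
    exact (Subgroup.mem_centralizer_iff.1 y.2) z.1 (Set.mem_insert _ _)⟩
  left_inv x := rfl
  right_inv y := rfl
  map_mul' x y := rfl

theorem Psi_sub (S : Set G) (h : Subgroup.centralizer S) :
    Psi ({h} : Set (Subgroup.centralizer S)) = Psi (insert h.1 S) := by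
  unfold Psi
  rw [cl_congr (centralizerSub S h), Nat.card_congr (centralizerSub S h).toEquiv]

theorem inertia_Psi' (S : Set G) :
    inertiaR 1 (Psi S) = ∑ᶠ h : Subgroup.centralizer S, Psi (insert h.1 S) := by
  rw [inertia_Psi, mass_one]
  apply finsum_congr
  intro h
  exact Psi_sub S h

theorem range_subset_centralizer (s : CommTuple G r) :
    Set.range s.1 ⊆ (Subgroup.centralizer (Set.range s.1) : Set G) := by
  rintro x ⟨i, rfl⟩
  show s.1 i ∈ Subgroup.centralizer (Set.range s.1)
  rw [Subgroup.mem_centralizer_iff]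
  rintro y ⟨j, rfl⟩
  exact s.2.2 j i

/-- extend a commuting tuple by a new commuting element -/
def snocTuple (s : CommTuple G r) (h : G) (hc : h ∈ Subgroup.centralizer (Set.range s.1))
    (hn : h ∉ Set.range s.1) : CommTuple G (r + 1) :=
  ⟨Fin.snoc s.1 h, by
    intro i j hij
    induction i using Fin.lastCases with
    | last =>
      induction j using Fin.lastCases with
      | last => rfl
      | cast j =>
        exfalso
        rw [Fin.snoc_last, Fin.snoc_castSucc] at hij
        exact hn ⟨j, hij.symm⟩
    | cast i =>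
      induction j using Fin.lastCases with
      | last =>
        exfalso
        rw [Fin.snoc_last, Fin.snoc_castSucc] at hij
        exact hn ⟨i, hij⟩
      | cast j =>
        rw [Fin.snoc_castSucc, Fin.snoc_castSucc] at hij
        rw [s.2.1 hij], by
    intro i j
    rw [Subgroup.mem_centralizer_iff] at hc
    induction i using Fin.lastCases with
    | last =>
      induction j using Fin.lastCases with
      | last => exact Commute.refl _
      | cast j =>
        rw [Fin.snoc_last, Fin.snoc_castSucc]
        exact (hc _ ⟨j, rfl⟩).symm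
    | cast i =>
      induction j using Fin.lastCases with
      | last =>
        rw [Fin.snoc_last, Fin.snoc_castSucc]
        exact hc _ ⟨i, rfl⟩
      | cast j =>
        rw [Fin.snoc_castSucc, Fin.snoc_castSucc]
        exact s.2.2 i j⟩

theorem snocTuple_val (s : CommTuple G r) (h : G) (hc hn) :
    (snocTuple s h hc hn).1 = Fin.snoc s.1 h := rfl

/-- the map from pairs to extended tuples -/
def snocMap : (Σ s : CommTuple G r,
    {h : Subgroup.centralizer (Set.range s.1) // h.1 ∉ Set.range s.1}) → CommTuple G (r + 1) :=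
  fun x => snocTuple x.1 x.2.1.1 x.2.1.2 x.2.2

theorem snocMap_bijective : Function.Bijective (snocMap (G := G) (r := r)) := by
  constructor
  · rintro ⟨s, ⟨⟨h, hc⟩, hn⟩⟩ ⟨s', ⟨⟨h', hc'⟩, hn'⟩⟩ heq
    have h1 := congrArg Subtype.val heq
    simp only [snocMap, snocTuple_val] at h1
    obtain ⟨h2, h3⟩ := Fin.snoc_injective2 h1
    have hs : s = s' := Subtype.ext h2
    subst hs
    subst h3
    rfl
  · intro t
    have hinj : Function.Injective (Fin.init t.1 : Fin r → G) := by
      intro i j hij
      have := t.2.1 (show t.1 i.castSucc = t.1 j.castSucc from hij)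
      exact Fin.castSucc_injective _ this
    have hcomm : ∀ i j : Fin r, Commute ((Fin.init t.1 : Fin r → G) i) ((Fin.init t.1 : Fin r → G) j) :=
      fun i j => t.2.2 _ _
    have hc : t.1 (Fin.last r) ∈ Subgroup.centralizer (Set.range (Fin.init t.1 : Fin r → G)) := by
      rw [Subgroup.mem_centralizer_iff]
      rintro y ⟨i, rfl⟩
      exact t.2.2 _ _
    have hn : t.1 (Fin.last r) ∉ Set.range (Fin.init t.1 : Fin r → G) := by
      rintro ⟨i, hi⟩
      have := t.2.1 (show t.1 i.castSucc = t.1 (Fin.last r) from hi)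
      exact (Fin.castSucc_lt_last i).ne this
    refine ⟨⟨⟨Fin.init t.1, hinj, hcomm⟩, ⟨⟨t.1 (Fin.last r), hc⟩, hn⟩⟩, ?_⟩
    apply Subtype.ext
    simp only [snocMap, snocTuple_val]
    exact Fin.snoc_init_self t.1

theorem sum_new (r : ℕ) (G : Type u) [Group G] [Finite G] :
    ∑ᶠ s : CommTuple G r, ∑ᶠ h : {h : Subgroup.centralizer (Set.range s.1) // h.1 ∉ Set.range s.1},
      Psi (insert h.1.1 (Set.range s.1)) = mass (r + 1) G := by
  classical
  have : Fintype (CommTuple G r) := Fintype.ofFinite _
  have : Fintype (CommTuple G (r + 1)) := Fintype.ofFinite _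
  have : ∀ s : CommTuple G r,
      Fintype {h : Subgroup.centralizer (Set.range s.1) // h.1 ∉ Set.range s.1} :=
    fun s => Fintype.ofFinite _
  unfold mass
  simp only [finsum_eq_sum_of_fintype]
  rw [Finset.sum_sigma', Finset.univ_sigma_univ]
  refine Fintype.sum_equiv (Equiv.ofBijective _ snocMap_bijective) _ _ ?_
  rintro ⟨s, ⟨⟨h, hc⟩, hn⟩⟩
  show Psi (insert h (Set.range s.1)) = Psi (Set.range (snocMap ⟨s, ⟨⟨h, hc⟩, hn⟩⟩).1)
  simp only [snocMap, snocTuple_val, Fin.range_snoc]

theorem sum_old (s : CommTuple G r) :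
    ∑ᶠ h : {h : Subgroup.centralizer (Set.range s.1) // h.1 ∈ Set.range s.1},
      Psi (insert h.1.1 (Set.range s.1)) = (r : ℚ) • Psi (Set.range s.1) := by
  classical
  have : Fintype {h : Subgroup.centralizer (Set.range s.1) // h.1 ∈ Set.range s.1} :=
    Fintype.ofFinite _
  rw [finsum_eq_sum_of_fintype]
  have h1 : ∀ h : {h : Subgroup.centralizer (Set.range s.1) // h.1 ∈ Set.range s.1},
      Psi (insert h.1.1 (Set.range s.1)) = Psi (Set.range s.1) := by
    intro h
    rw [Set.insert_eq_of_mem h.2]
  simp only [h1]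
  rw [Finset.sum_const, ← Nat.cast_smul_eq_nsmul ℚ, Finset.card_univ]
  congr 2
  let e : Fin r ≃ {h : Subgroup.centralizer (Set.range s.1) // h.1 ∈ Set.range s.1} :=
    Equiv.ofBijective (fun i => ⟨⟨s.1 i, range_subset_centralizer s ⟨i, rfl⟩⟩, ⟨i, rfl⟩⟩) (by
      constructor
      · intro i j hij
        have := congrArg (fun x => x.1.1) hij
        exact s.2.1 this
      · rintro ⟨⟨h, hc⟩, ⟨i, hi⟩⟩
        refine ⟨i, ?_⟩
        apply Subtype.ext
        apply Subtype.ext
        exact hi)
  rw [← Fintype.card_congr e, Fintype.card_fin]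

theorem inertia_mass (r : ℕ) (G : Type u) [Group G] [Finite G] :
    inertiaR 1 (mass r G) = (r : ℚ) • mass r G + mass (r + 1) G := by
  classical
  have : Fintype (CommTuple G r) := Fintype.ofFinite _
  rw [← sum_new]
  unfold mass
  rw [finsum_eq_sum_of_fintype, finsum_eq_sum_of_fintype, map_sum, Finset.smul_sum,
    ← Finset.sum_add_distrib]
  refine Finset.sum_congr rfl fun s _ => ?_
  rw [inertia_Psi', ← sum_old s]
  have : Fintype (Subgroup.centralizer (Set.range s.1)) := Fintype.ofFinite _
  simp only [finsum_eq_sum_of_fintype]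
  exact (Fintype.sum_subtype_add_sum_subtype
    (fun h : Subgroup.centralizer (Set.range s.1) => h.1 ∈ Set.range s.1)
    (fun h => Psi (insert h.1 (Set.range s.1)))).symm

end Relation

section Operators

/-- `I ∘ I_r = r I_r + I_{r+1}` on a group -/
theorem inertia_inertiaROf (r : ℕ) (G : Type u) [Group G] [Finite G] :
    inertiaR 1 (inertiaROf r G) = (r : ℚ) • inertiaROf r G + inertiaROf (r + 1) G := by
  rw [inertiaROf_eq_mass, inertiaROf_eq_mass, map_smul, inertia_mass, smul_add, smul_comm]

/-- `I ∘ I_r = r I_r + I_{r+1}` -/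
theorem inertia_comp (r : ℕ) (v : K) :
    inertiaR 1 (inertiaR r v) = (r : ℚ) • inertiaR r v + inertiaR (r + 1) v := by
  induction v using Finsupp.induction_linear with
  | zero => simp
  | add f g hf hg =>
    rw [map_add, map_add, hf, hg, map_add, smul_add]
    abel
  | single i c =>
    rw [inertiaR_single, inertiaR_single, map_smul, inertia_inertiaROf, smul_add, smul_comm]

theorem mass_eq_zero {r : ℕ} {G : Type u} [Group G] [Finite G] (h : Nat.card G < r) :
    mass r G = 0 := by
  unfold mass
  have : IsEmpty (CommTuple G r) := by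
    constructor
    intro s
    have := Nat.card_le_card_of_injective s.1 s.2.1
    rw [Nat.card_eq_fintype_card, Fintype.card_fin] at this
    omega
  exact finsum_of_isEmpty _

theorem inertiaROf_eq_zero {r : ℕ} {G : Type u} [Group G] [Finite G] (h : Nat.card G < r) :
    inertiaROf r G = 0 := by
  rw [inertiaROf_eq_mass, mass_eq_zero h, smul_zero]

theorem inertiaR_eq_zero_of_mem_Kle {n r : ℕ} (hr : n < r) {v : K} (hv : v ∈ Kle n) :
    inertiaR r v = 0 := by
  unfold Kle at hv
  rw [Finsupp.mem_supported] at hv
  rw [← Finsupp.sum_single v, map_finsuppSum]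
  apply Finset.sum_eq_zero
  intro i hi
  show inertiaR r (Finsupp.single i (v i)) = 0
  rw [inertiaR_single]
  have hi' : i.card ≤ n := hv hi
  rw [inertiaROf_eq_zero (lt_of_le_of_lt hi' hr), smul_zero]

theorem exists_mem_Kle (v : K) : ∃ n, v ∈ Kle n := by
  refine ⟨v.support.sup Idx.card, ?_⟩
  unfold Kle
  rw [Finsupp.mem_supported]
  intro i hi
  exact Finset.le_sup (f := Idx.card) hi

theorem Kle_mono {m n : ℕ} (h : m ≤ n) : Kle m ≤ Kle n := by
  unfold Kle
  apply Finsupp.supported_mono
  intro i hi
  exact le_trans hi h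

/-- local nilpotence -/
theorem exists_bound (v : K) : ∃ n, ∀ r, n < r → inertiaR r v = 0 := by
  obtain ⟨n, hn⟩ := exists_mem_Kle v
  exact ⟨n, fun r hr => inertiaR_eq_zero_of_mem_Kle hr hn⟩

theorem mass_zero (G : Type u) [Group G] [Finite G] : mass 0 G = (Nat.card G : ℚ) • cl G := by
  unfold mass
  have : Unique (CommTuple G 0) :=
    { default := ⟨Fin.elim0, fun i => i.elim0, fun i => i.elim0⟩
      uniq := fun s => by
        apply Subtype.ext
        funext i
        exact i.elim0 }
  rw [finsum_unique]
  unfold Psi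
  have hS : Set.range (default : CommTuple G 0).1 = ∅ := by
    ext x
    simp
  have hT : Subgroup.centralizer (∅ : Set G) = ⊤ :=
    Subgroup.centralizer_eq_top_iff_subset.2 (Set.empty_subset _)
  have e : Subgroup.centralizer (∅ : Set G) ≃* G :=
    (MulEquiv.subgroupCongr hT).trans Subgroup.topEquiv
  rw [hS, cl_congr e, Nat.card_congr e.toEquiv]

theorem inertiaROf_zero (G : Type u) [Group G] [Finite G] : inertiaROf 0 G = cl G := by
  rw [inertiaROf_eq_mass, mass_zero, smul_smul]
  have h : (Nat.card G : ℚ) ≠ 0 := by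
    have : 0 < Nat.card G := Nat.card_pos
    positivity
  rw [one_div, inv_mul_cancel₀ h, one_smul]

theorem cl_rep (i : Idx) : cl i.rep = Finsupp.single i 1 := by
  unfold cl
  rw [idx_of_rep]

theorem inertiaR_zero (v : K) : inertiaR 0 v = v := by
  induction v using Finsupp.induction_linear with
  | zero => simp
  | add f g hf hg => rw [map_add, hf, hg]
  | single i c =>
    rw [inertiaR_single, inertiaROf_zero, cl_rep, Finsupp.smul_single, smul_eq_mul, mul_one]

end Operators

section Filtration

variable {G : Type u} [Group G] [Finite G] {r : ℕ}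

theorem cl_mem_Kle (H : Type v) [Group H] [Finite H] {n : ℕ} (h : Nat.card H ≤ n) :
    cl H ∈ Kle n := by
  unfold cl Kle
  apply Finsupp.single_mem_supported
  show (Idx.of H).card ≤ n
  rw [card_idx_of]
  exact h

theorem cl_mem_Kge (H : Type v) [Group H] [Finite H] {k : ℕ}
    (h : k ≤ Nat.card (Subgroup.center H)) : cl H ∈ Kge k := by
  unfold cl Kge
  apply Finsupp.single_mem_supported
  show k ≤ (Idx.of H).centerCard
  rw [centerCard_idx_of]
  exact h

theorem Psi_mem_Kle (S : Set G) : Psi S ∈ Kle (Nat.card G) := by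
  unfold Psi
  apply Submodule.smul_mem
  apply cl_mem_Kle
  exact Nat.card_le_card_of_injective _ Subtype.val_injective

theorem mass_mem_Kle (r : ℕ) (G : Type u) [Group G] [Finite G] : mass r G ∈ Kle (Nat.card G) := by
  classical
  have : Fintype (CommTuple G r) := Fintype.ofFinite _
  unfold mass
  rw [finsum_eq_sum_of_fintype]
  exact Submodule.sum_mem _ fun s _ => Psi_mem_Kle _

theorem inertiaROf_mem_Kle (r : ℕ) (G : Type u) [Group G] [Finite G] :
    inertiaROf r G ∈ Kle (Nat.card G) := by
  rw [inertiaROf_eq_mass]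
  exact Submodule.smul_mem _ _ (mass_mem_Kle r G)

theorem inertiaR_mem_Kle (r : ℕ) {n : ℕ} {v : K} (hv : v ∈ Kle n) : inertiaR r v ∈ Kle n := by
  have hv' := hv
  unfold Kle at hv'
  rw [Finsupp.mem_supported] at hv'
  rw [← Finsupp.sum_single v, map_finsuppSum]
  apply Submodule.sum_mem
  intro i hi
  show inertiaR r (Finsupp.single i (v i)) ∈ Kle n
  rw [inertiaR_single]
  apply Submodule.smul_mem
  have hi' : i.card ≤ n := hv' hi
  exact Kle_mono hi' (inertiaROf_mem_Kle r i.rep)

theorem center_lt (S : Set G) (hS : S ⊆ (Subgroup.centralizer S : Set G))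
    (hnc : ¬ S ⊆ (Subgroup.center G : Set G)) :
    Nat.card (Subgroup.center G) < Nat.card (Subgroup.center (Subgroup.centralizer S)) := by
  classical
  obtain ⟨x, hxS, hxc⟩ := Set.not_subset.1 hnc
  have : Fintype (Subgroup.center G) := Fintype.ofFinite _
  have : Fintype (Subgroup.center (Subgroup.centralizer S)) := Fintype.ofFinite _
  rw [Nat.card_eq_fintype_card, Nat.card_eq_fintype_card]
  let f : Subgroup.center G → Subgroup.center (Subgroup.centralizer S) := fun z =>
    ⟨⟨z.1, by
      rw [Subgroup.mem_centralizer_iff]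
      intro y _
      exact (Subgroup.mem_center_iff.1 z.2) y⟩, by
      rw [Subgroup.mem_center_iff]
      intro y
      apply Subtype.ext
      exact (Subgroup.mem_center_iff.1 z.2) y.1⟩
  have hf : Function.Injective f := by
    intro z z' h
    apply Subtype.ext
    exact congrArg (fun w => w.1.1) h
  let b : Subgroup.center (Subgroup.centralizer S) := ⟨⟨x, hS hxS⟩, by
    rw [Subgroup.mem_center_iff]
    intro y
    apply Subtype.ext
    exact ((Subgroup.mem_centralizer_iff.1 y.2) x hxS).symm⟩
  refine Fintype.card_lt_of_injective_of_notMem f hf (b := b) ?_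
  rintro ⟨z, hz⟩
  apply hxc
  have : z.1 = x := congrArg (fun w => w.1.1) hz
  rw [← this]
  exact z.2

/-- central tuples are embeddings into the center -/
def centralTuples (r : ℕ) (G : Type u) [Group G] :
    {s : CommTuple G r // Set.range s.1 ⊆ (Subgroup.center G : Set G)} ≃
      (Fin r ↪ Subgroup.center G) where
  toFun s := ⟨fun i => ⟨s.1.1 i, s.2 ⟨i, rfl⟩⟩, fun i j h => s.1.2.1 (congrArg Subtype.val h)⟩
  invFun e := ⟨⟨fun i => (e i).1, fun i j h => e.injective (Subtype.ext h), fun i j =>
    (Subgroup.mem_center_iff.1 (e j).2 (e i).1)⟩, by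
      rintro x ⟨i, rfl⟩
      exact (e i).2⟩
  left_inv s := rfl
  right_inv e := rfl

theorem card_centralTuples (r : ℕ) (G : Type u) [Group G] [Finite G] :
    Nat.card {s : CommTuple G r // Set.range s.1 ⊆ (Subgroup.center G : Set G)} =
      (Nat.card (Subgroup.center G)).descFactorial r := by
  classical
  have : Fintype (Subgroup.center G) := Fintype.ofFinite _
  rw [Nat.card_congr (centralTuples r G), Nat.card_eq_fintype_card, Fintype.card_embedding_eq,
    Nat.card_eq_fintype_card, Fintype.card_fin]

theorem Psi_central {S : Set G} (hS : S ⊆ (Subgroup.center G : Set G)) :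
    Psi S = (Nat.card G : ℚ) • cl G := by
  unfold Psi
  have hT : Subgroup.centralizer S = ⊤ := Subgroup.centralizer_eq_top_iff_subset.2 hS
  have e : Subgroup.centralizer S ≃* G := (MulEquiv.subgroupCongr hT).trans Subgroup.topEquiv
  rw [cl_congr e, Nat.card_congr e.toEquiv]

theorem Psi_noncentral (s : CommTuple G r) (hS : ¬ Set.range s.1 ⊆ (Subgroup.center G : Set G)) :
    Psi (Set.range s.1) ∈ Kge (Nat.card (Subgroup.center G) + 1) := by
  unfold Psi
  apply Submodule.smul_mem
  apply cl_mem_Kge
  exact center_lt _ (range_subset_centralizer s) hS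

theorem inertiaROf_sub_mem_Kge (r : ℕ) (G : Type u) [Group G] [Finite G] :
    inertiaROf r G - ((Nat.card (Subgroup.center G)).descFactorial r : ℚ) • cl G ∈
      Kge (Nat.card (Subgroup.center G) + 1) := by
  classical
  have : Fintype (CommTuple G r) := Fintype.ofFinite _
  have hG : (Nat.card G : ℚ) ≠ 0 := by
    have : 0 < Nat.card G := Nat.card_pos
    positivity
  have hmass : mass r G = ((Nat.card (Subgroup.center G)).descFactorial r : ℚ) •
      ((Nat.card G : ℚ) • cl G) +
      ∑ s : {s : CommTuple G r // ¬ Set.range s.1 ⊆ (Subgroup.center G : Set G)},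
        Psi (Set.range s.1.1) := by
    unfold mass
    rw [finsum_eq_sum_of_fintype, ← Fintype.sum_subtype_add_sum_subtype
      (fun s : CommTuple G r => Set.range s.1 ⊆ (Subgroup.center G : Set G))]
    congr 1
    have h1 : ∀ s : {s : CommTuple G r // Set.range s.1 ⊆ (Subgroup.center G : Set G)},
        Psi (Set.range s.1.1) = (Nat.card G : ℚ) • cl G := fun s => Psi_central s.2
    simp only [h1]
    rw [Finset.sum_const, ← Nat.cast_smul_eq_nsmul ℚ, Finset.card_univ, ← Nat.card_eq_fintype_card,
      card_centralTuples]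
  have h2 : (1 / (Nat.card G : ℚ)) • (((Nat.card (Subgroup.center G)).descFactorial r : ℚ) •
      ((Nat.card G : ℚ) • cl G)) = ((Nat.card (Subgroup.center G)).descFactorial r : ℚ) • cl G := by
    rw [smul_smul, smul_smul]
    congr 1
    field_simp
  rw [inertiaROf_eq_mass, hmass, smul_add, h2, add_sub_cancel_left]
  apply Submodule.smul_mem
  exact Submodule.sum_mem _ fun s _ => Psi_noncentral s.1 s.2

theorem Kge_anti {m n : ℕ} (h : m ≤ n) : Kge n ≤ Kge m := by
  unfold Kge
  apply Finsupp.supported_mono
  intro i hi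
  exact le_trans h hi

theorem descFactorial_eq (k r : ℕ) : Nat.factorial r * Nat.choose k r = k.descFactorial r :=
  (Nat.descFactorial_eq_factorial_mul_choose k r).symm

/-- S18022 -/
theorem inertiaR_sub_smul_mem_Kge (r k : ℕ) (v : K) (hv : v ∈ Kge k) :
    inertiaR r v - ((k.descFactorial r : ℕ) : ℚ) • v ∈ Kge (k + 1) := by
  have hv' := hv
  unfold Kge at hv'
  rw [Finsupp.mem_supported] at hv'
  have hsum : inertiaR r v - ((k.descFactorial r : ℕ) : ℚ) • v =
      ∑ i ∈ v.support, (v i) • (inertiaROf r i.rep - ((k.descFactorial r : ℕ) : ℚ) • cl i.rep) := by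
    conv_lhs => rw [← Finsupp.sum_single v]
    rw [map_finsuppSum, Finsupp.sum, Finsupp.sum, Finset.smul_sum, ← Finset.sum_sub_distrib]
    refine Finset.sum_congr rfl fun i _ => ?_
    rw [inertiaR_single, cl_rep, smul_sub, smul_comm]
    congr 1
    rw [Finsupp.smul_single, Finsupp.smul_single, Finsupp.smul_single]
    simp
  rw [hsum]
  apply Submodule.sum_mem
  intro i hi
  apply Submodule.smul_mem
  have hz : k ≤ Nat.card (Subgroup.center i.rep) := hv' hi
  have h1 := inertiaROf_sub_mem_Kge r i.rep
  have h1' : inertiaROf r i.rep -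
      ((Nat.card (Subgroup.center i.rep)).descFactorial r : ℚ) • cl i.rep ∈ Kge (k + 1) :=
    Kge_anti (by omega) h1
  rcases Nat.eq_or_lt_of_le hz with h | h
  · rw [h]
    exact h1
  · have h2 : cl i.rep ∈ Kge (k + 1) := cl_mem_Kge _ h
    have : inertiaROf r i.rep - ((k.descFactorial r : ℕ) : ℚ) • cl i.rep =
        (inertiaROf r i.rep -
          ((Nat.card (Subgroup.center i.rep)).descFactorial r : ℚ) • cl i.rep) +
        (((Nat.card (Subgroup.center i.rep)).descFactorial r : ℚ) -
          ((k.descFactorial r : ℕ) : ℚ)) • cl i.rep := by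
      rw [sub_smul]
      abel
    rw [this]
    exact Submodule.add_mem _ h1' (Submodule.smul_mem _ _ h2)

end Filtration

end Groth.Agent.H9.Inertia
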