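import Mathlib
import Groth.Agent.Lib.Helper9.Inertia

/-!
# Spectral theory of the inertia operator (helper9)
-/

set_option autoImplicit false

namespace Groth.Agent.H9.Inertia

open W4c5stacksedinertia Polynomial

theorem inertiaR_eq_aeval (r : ℕ) :
    inertiaR r = aeval (inertia : Module.End ℚ K) (descPochhammer ℚ r) := by
  induction r with
  | zero =>
    rw [descPochhammer_zero, map_one]
    apply LinearMap.ext
    intro v
    exact inertiaR_zero v
  | succ r ih =>
    rw [descPochhammer_succ_right, mul_comm, map_mul, ← ih, map_sub, aeval_X, map_natCast]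
    apply LinearMap.ext
    intro v
    rw [Module.End.mul_apply, LinearMap.sub_apply, Module.End.natCast_apply]
    have := inertia_comp r v
    rw [Nat.cast_smul_eq_nsmul] at this
    rw [this]
    abel

theorem inertiaR_comm (r s : ℕ) (v : K) : inertiaR r (inertiaR s v) = inertiaR s (inertiaR r v) := by
  rw [inertiaR_eq_aeval r, inertiaR_eq_aeval s, ← Module.End.mul_apply, ← Module.End.mul_apply,
    ← map_mul, ← map_mul, mul_comm]

theorem inertiaR_of_mem_eigenspace {μ : ℚ} {v : K} (r : ℕ)
    (hv : v ∈ Module.End.eigenspace inertia μ) :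
    inertiaR r v = (descPochhammer ℚ r).eval μ • v := by
  rw [inertiaR_eq_aeval]
  exact Module.End.aeval_apply_of_mem_apply_eq_smul (Module.End.mem_eigenspace_iff.1 hv)

theorem inertiaR_of_mem_eigenspace_nat {k : ℕ} {v : K} (r : ℕ)
    (hv : v ∈ Module.End.eigenspace inertia (k : ℚ)) :
    inertiaR r v = ((k.descFactorial r : ℕ) : ℚ) • v := by
  rw [inertiaR_of_mem_eigenspace r hv, descPochhammer_eval_eq_descFactorial]

/-- S18023 -/
theorem eigenspace_le (k r : ℕ) :
    Module.End.eigenspace inertia (k : ℚ) ≤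
      Module.End.eigenspace (inertiaR r) ((Nat.factorial r * Nat.choose k r : ℕ) : ℚ) := by
  intro v hv
  rw [Module.End.mem_eigenspace_iff, descFactorial_eq]
  exact inertiaR_of_mem_eigenspace_nat r hv

/-- coefficients of the eigenprojections -/
noncomputable def coef (r k : ℕ) : ℚ :=
  ((-1 : ℚ) ^ (r + k)) / (Nat.factorial r : ℚ) * (Nat.choose r k : ℚ)

/-- eigenprojections -/
noncomputable def proj (k : ℕ) (v : K) : K := ∑ᶠ r : ℕ, coef r k • inertiaR r v

theorem proj_eq {v : K} {n : ℕ} (hn : ∀ r, n < r → inertiaR r v = 0) (k : ℕ) :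
    proj k v = ∑ r ∈ Finset.range (n + 1), coef r k • inertiaR r v := by
  unfold proj
  apply finsum_eq_sum_of_support_subset
  intro r hr
  rw [Function.mem_support] at hr
  rw [Finset.coe_range, Set.mem_Iio]
  by_contra h
  apply hr
  rw [hn r (by omega), smul_zero]

theorem coef_zero_left (k : ℕ) : coef 0 k * (k : ℚ) = 0 := by
  unfold coef
  rcases Nat.eq_zero_or_pos k with rfl | h
  · simp
  · rw [Nat.choose_eq_zero_of_lt h]
    simp

theorem coef_rec (r k : ℕ) : coef (r + 1) k * ((r + 1 : ℚ) - k) + coef r k = 0 := by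
  unfold coef
  have hf : (Nat.factorial (r + 1) : ℚ) = (r + 1) * Nat.factorial r := by
    rw [Nat.factorial_succ]
    push_cast
    ring
  have hr1 : ((r : ℚ) + 1) ≠ 0 := by positivity
  have hr : (Nat.factorial r : ℚ) ≠ 0 := by positivity
  have hch := Nat.choose_mul_succ_eq r k
  rcases Nat.lt_or_ge (r + 1) k with h | h
  · rw [Nat.choose_eq_zero_of_lt h, Nat.choose_eq_zero_of_lt (by omega : r < k)]
    simp
  · have hq : ((r.choose k : ℚ)) * (r + 1) = ((r + 1).choose k : ℚ) * ((r + 1 : ℚ) - k) := by
      have := congrArg (fun n : ℕ => (n : ℚ)) hch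
      simp only [Nat.cast_mul, Nat.cast_add, Nat.cast_one] at this
      rw [this, Nat.cast_sub h]
      push_cast
      ring
    rw [hf]
    field_simp
    rw [pow_add, pow_add, pow_add]
    ring_nf
    ring_nf at hq
    linear_combination (-1 : ℚ) ^ r * (-1 : ℚ) ^ k * hq

theorem proj_mem (k : ℕ) (v : K) : proj k v ∈ Module.End.eigenspace inertia (k : ℚ) := by
  obtain ⟨n, hn⟩ := exists_bound v
  rw [Module.End.mem_eigenspace_iff, proj_eq hn, map_sum, Finset.smul_sum, ← sub_eq_zero,
    ← Finset.sum_sub_distrib]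
  have hterm : ∀ r ∈ Finset.range (n + 1),
      inertia (coef r k • inertiaR r v) - (k : ℚ) • coef r k • inertiaR r v =
        (coef r k * ((r : ℚ) - k)) • inertiaR r v + coef r k • inertiaR (r + 1) v := by
    intro r _
    rw [map_smul, inertia_comp, smul_add, smul_smul, smul_smul, mul_sub, sub_smul]
    rw [mul_comm (k : ℚ)]
    abel
  rw [Finset.sum_congr rfl hterm, Finset.sum_add_distrib, Finset.sum_range_succ',
    Finset.sum_range_succ _ n, hn (n + 1) (by omega), smul_zero, add_zero]
  have h0 : (coef 0 k * (((0 : ℕ) : ℚ) - k)) • inertiaR 0 v = 0 := by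
    rw [Nat.cast_zero, zero_sub, mul_neg, coef_zero_left, neg_zero, zero_smul]
  rw [h0, add_zero, ← Finset.sum_add_distrib]
  apply Finset.sum_eq_zero
  intro r _
  rw [← add_smul]
  have := coef_rec r k
  push_cast
  rw [this, zero_smul]

theorem proj_eq_zero {v : K} {n : ℕ} (hn : ∀ r, n < r → inertiaR r v = 0) {k : ℕ} (hk : n < k) :
    proj k v = 0 := by
  rw [proj_eq hn]
  apply Finset.sum_eq_zero
  intro r hr
  rw [Finset.mem_range] at hr
  unfold coef
  rw [Nat.choose_eq_zero_of_lt (by omega)]
  simp

theorem sum_coef (r n : ℕ) (h : r ≤ n) :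
    ∑ k ∈ Finset.range (n + 1), coef r k = if r = 0 then 1 else 0 := by
  have h1 : ∑ k ∈ Finset.range (n + 1), coef r k = ∑ k ∈ Finset.range (r + 1), coef r k := by
    symm
    apply Finset.sum_subset
    · intro k hk
      rw [Finset.mem_range] at hk ⊢
      omega
    · intro k _ hk
      rw [Finset.mem_range] at hk
      unfold coef
      rw [Nat.choose_eq_zero_of_lt (by omega)]
      simp
  rw [h1]
  have h2 := Int.alternating_sum_range_choose (n := r)
  have h3 : ∑ k ∈ Finset.range (r + 1), coef r k =
      ((-1 : ℚ) ^ r / (Nat.factorial r : ℚ)) *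
        ((∑ m ∈ Finset.range (r + 1), ((-1) ^ m * r.choose m : ℤ) : ℤ) : ℚ) := by
    push_cast
    rw [Finset.mul_sum]
    refine Finset.sum_congr rfl fun k _ => ?_
    unfold coef
    rw [pow_add]
    ring
  rw [h3, h2]
  split_ifs with hr
  · subst hr
    simp
  · simp

theorem sum_proj (v : K) : ∑ᶠ k : ℕ, proj k v = v := by
  obtain ⟨n, hn⟩ := exists_bound v
  have hsupp : Function.support (fun k => proj k v) ⊆ (Finset.range (n + 1) : Set ℕ) := by
    intro k hk
    rw [Function.mem_support] at hk
    rw [Finset.coe_range, Set.mem_Iio]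
    by_contra h
    exact hk (proj_eq_zero hn (by omega))
  rw [finsum_eq_sum_of_support_subset _ hsupp]
  simp only [proj_eq hn]
  rw [Finset.sum_comm]
  simp only [← Finset.sum_smul]
  have : ∀ r ∈ Finset.range (n + 1), (∑ k ∈ Finset.range (n + 1), coef r k) • inertiaR r v =
      if r = 0 then v else 0 := by
    intro r hr
    rw [Finset.mem_range] at hr
    rw [sum_coef r n (by omega)]
    split_ifs with h
    · subst h
      rw [one_smul, inertiaR_zero]
    · rw [zero_smul]
  rw [Finset.sum_congr rfl this, Finset.sum_ite_eq' (Finset.range (n + 1)) 0 (fun _ => v)]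
  simp

/-- S18025 -/
theorem eigenprojection (v : K) :
    (∀ k : ℕ, (∑ᶠ r : ℕ, (((-1 : ℚ) ^ (r + k)) / (Nat.factorial r : ℚ) * (Nat.choose r k : ℚ)) •
        inertiaR r v) ∈ Module.End.eigenspace inertia (k : ℚ)) ∧
    (∑ᶠ k : ℕ, ∑ᶠ r : ℕ, (((-1 : ℚ) ^ (r + k)) / (Nat.factorial r : ℚ) * (Nat.choose r k : ℚ)) •
        inertiaR r v) = v :=
  ⟨fun k => proj_mem k v, sum_proj v⟩

/-- S18021, first half -/
theorem iSup_eigenspace : (⨆ n : ℕ, Module.End.eigenspace inertia (n : ℚ)) = ⊤ := by
  rw [eq_top_iff]
  intro v _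
  obtain ⟨n, hn⟩ := exists_bound v
  have hsupp : Function.support (fun k => proj k v) ⊆ (Finset.range (n + 1) : Set ℕ) := by
    intro k hk
    rw [Function.mem_support] at hk
    rw [Finset.coe_range, Set.mem_Iio]
    by_contra h
    exact hk (proj_eq_zero hn (by omega))
  have hv := sum_proj v
  rw [finsum_eq_sum_of_support_subset _ hsupp] at hv
  rw [← hv]
  apply Submodule.sum_mem
  intro k _
  exact Submodule.mem_iSup_of_mem k (proj_mem k v)

theorem centerCard_pos (i : Idx) : 0 < i.centerCard := by
  unfold Idx.centerCard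
  exact Nat.card_pos

theorem inertia_injective {v : K} (hv : inertia v = 0) : v = 0 := by
  by_contra hne
  have hsupp : v.support.Nonempty := Finsupp.support_nonempty_iff.2 hne
  obtain ⟨i, hi, hmin⟩ := Finset.exists_min_image v.support Idx.centerCard hsupp
  set k := i.centerCard with hk
  have hvk : v ∈ Kge k := by
    unfold Kge
    rw [Finsupp.mem_supported]
    intro j hj
    exact hmin j hj
  have h1 := inertiaR_sub_smul_mem_Kge 1 k v hvk
  have h2 : inertiaR 1 v = 0 := hv
  rw [h2, zero_sub, Nat.descFactorial_one] at h1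
  have hk0 : (k : ℚ) ≠ 0 := by
    have := centerCard_pos i
    rw [← hk] at this
    positivity
  have h3 : v ∈ Kge (k + 1) := by
    have := Submodule.smul_mem (Kge (k + 1)) (-(k : ℚ))⁻¹ h1
    rw [← neg_smul, smul_smul, inv_mul_cancel₀ (neg_ne_zero.2 hk0), one_smul] at this
    exact this
  unfold Kge at h3
  rw [Finsupp.mem_supported] at h3
  have := h3 hi
  simp only [Set.mem_setOf_eq] at this
  omega

theorem inertiaROf_one_comm (G : Type) [CommGroup G] [Finite G] :
    inertiaROf 1 G = (Nat.card G : ℚ) • cl G := by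
  have hc : Subgroup.center G = ⊤ := Subgroup.center_eq_top
  -- direct computation via the mass formula
  rw [inertiaROf_eq_mass, mass_one]
  have h1 : ∀ g : G, Psi ({g} : Set G) = (Nat.card G : ℚ) • cl G := by
    intro g
    apply Psi_central
    rw [hc]
    exact Set.subset_univ _
  simp only [h1]
  classical
  have : Fintype G := Fintype.ofFinite G
  rw [finsum_eq_sum_of_fintype, Finset.sum_const, ← Nat.cast_smul_eq_nsmul ℚ, Finset.card_univ,
    ← Nat.card_eq_fintype_card, smul_smul, smul_smul]
  congr 1
  have hG : (Nat.card G : ℚ) ≠ 0 := by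
    have : 0 < Nat.card G := Nat.card_pos
    positivity
  field_simp

theorem cl_ne_zero (G : Type) [Group G] [Finite G] : cl G ≠ 0 := by
  unfold cl
  intro h
  have := congrArg (fun f : K => f (Idx.of G)) h
  simp at this

theorem hasEigenvalue_of_pos {n : ℕ} (hn : 0 < n) : Module.End.HasEigenvalue inertia (n : ℚ) := by
  have : NeZero n := ⟨hn.ne'⟩
  let G := Multiplicative (ZMod n)
  have hcard : Nat.card G = n := by
    show Nat.card (Multiplicative (ZMod n)) = n
    rw [Nat.card_eq_fintype_card, Fintype.card_multiplicative, ZMod.card]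
  apply Module.End.hasEigenvalue_of_hasEigenvector (x := cl G)
  refine ⟨?_, cl_ne_zero G⟩
  rw [Module.End.mem_eigenspace_iff]
  show inertiaR 1 (cl G) = _
  rw [inertiaR_cl, inertiaROf_one_comm, hcard]

/-- S18021, second half -/
theorem hasEigenvalue_iff (μ : ℚ) :
    Module.End.HasEigenvalue inertia μ ↔ ∃ n : ℕ, 0 < n ∧ μ = (n : ℚ) := by
  constructor
  · intro h
    obtain ⟨v, hv⟩ := h.exists_hasEigenvector
    obtain ⟨n, hn⟩ := exists_bound v
    have h1 := inertiaR_of_mem_eigenspace (n + 1) hv.1
    rw [hn (n + 1) (by omega)] at h1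
    have h2 : (descPochhammer ℚ (n + 1)).eval μ = 0 := by
      rcases smul_eq_zero.1 h1.symm with h | h
      · exact h
      · exact absurd h hv.2
    rw [descPochhammer_eval_eq_prod_range, Finset.prod_eq_zero_iff] at h2
    obtain ⟨j, _, hj⟩ := h2
    have hμ : μ = (j : ℚ) := by linarith
    refine ⟨j, ?_, hμ⟩
    rcases Nat.eq_zero_or_pos j with h0 | h0
    · exfalso
      subst h0
      have h3 := Module.End.mem_eigenspace_iff.1 hv.1
      rw [hμ, Nat.cast_zero, zero_smul] at h3
      exact hv.2 (inertia_injective h3)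
    · exact h0
  · rintro ⟨n, hn, rfl⟩
    exact hasEigenvalue_of_pos hn

/-- S18024 -/
theorem ker_inertiaR (r : ℕ) :
    LinearMap.ker (inertiaR r) = ⨆ k ∈ Finset.range r, Module.End.eigenspace inertia (k : ℚ) := by
  apply le_antisymm
  · intro v hv
    rw [LinearMap.mem_ker] at hv
    obtain ⟨n, hn⟩ := exists_bound v
    have hsupp : Function.support (fun k => proj k v) ⊆ (Finset.range (n + 1) : Set ℕ) := by
      intro k hk
      rw [Function.mem_support] at hk
      rw [Finset.coe_range, Set.mem_Iio]
      by_contra h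
      exact hk (proj_eq_zero hn (by omega))
    have hsum := sum_proj v
    rw [finsum_eq_sum_of_support_subset _ hsupp] at hsum
    rw [← hsum]
    apply Submodule.sum_mem
    intro k _
    rcases Nat.lt_or_ge k r with hkr | hkr
    · exact Submodule.mem_iSup_of_mem k
        (Submodule.mem_iSup_of_mem (Finset.mem_range.2 hkr) (proj_mem k v))
    · -- proj k v = 0
      have h1 : inertiaR r (proj k v) = 0 := by
        rw [proj_eq hn, map_sum]
        apply Finset.sum_eq_zero
        intro s _
        rw [map_smul, inertiaR_comm, hv, map_zero, smul_zero]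
      have h2 := inertiaR_of_mem_eigenspace_nat r (proj_mem k v)
      rw [h1] at h2
      have h3 : ((k.descFactorial r : ℕ) : ℚ) ≠ 0 := by
        have : k.descFactorial r ≠ 0 := by
          rw [Ne, Nat.descFactorial_eq_zero_iff_lt]
          omega
        exact_mod_cast this
      rcases smul_eq_zero.1 h2.symm with h | h
      · exact absurd h h3
      · rw [h]
        exact Submodule.zero_mem _
  · apply iSup_le
    intro k
    apply iSup_le
    intro hk
    rw [Finset.mem_range] at hk
    intro v hv
    rw [LinearMap.mem_ker, inertiaR_of_mem_eigenspace_nat r hv,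
      Nat.descFactorial_eq_zero_iff_lt.2 hk]
    simp

end Groth.Agent.H9.Inertia
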