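import Mathlib

/-!
# Invariants of `x ↦ x + a` on `R[x]` in characteristic two
-/

set_option autoImplicit false
set_option linter.unusedSectionVars false
set_option linter.unusedSimpArgs false

namespace Groth.Agent.H9.InvChar2

open Polynomial

variable {R : Type*} [CommRing R] [IsDomain R] [CharP R 2]

theorem u_comp (a : R) : (X * (X + C a) : R[X]).comp (X + C a) = X * (X + C a) := by
  simp only [mul_comp, add_comp, X_comp, C_comp]
  have h2 : (C a + C a : R[X]) = 0 := by
    rw [← C_add, CharTwo.add_self_eq_zero, C_0]
  linear_combination (X + C a) * h2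

theorem u_monic (a : R) : (X * (X + C a) : R[X]).Monic :=
  monic_X.mul (monic_X_add_C a)

theorem u_natDegree (a : R) : (X * (X + C a) : R[X]).natDegree = 2 := by
  rw [natDegree_mul X_ne_zero (monic_X_add_C a).ne_zero, natDegree_X, natDegree_X_add_C]

theorem suff (a : R) (f : R[X]) (hf : f ∈ Algebra.adjoin R ({X * (X + C a)} : Set R[X])) :
    f.comp (X + C a) = f := by
  induction hf using Algebra.adjoin_induction with
  | mem x hx =>
    rw [Set.mem_singleton_iff] at hx
    rw [hx]
    exact u_comp a
  | algebraMap r => simp [Polynomial.algebraMap_apply]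
  | add x y _ _ hx hy => rw [add_comp, hx, hy]
  | mul x y _ _ hx hy => rw [mul_comp, hx, hy]

theorem nec (a : R) (ha : a ≠ 0) : ∀ (d : ℕ) (f : R[X]), f.natDegree = d → f.comp (X + C a) = f →
    f ∈ Algebra.adjoin R ({X * (X + C a)} : Set R[X]) := by
  intro d
  induction d using Nat.strong_induction_on with
  | _ d ih =>
    intro f hd hf
    set u : R[X] := X * (X + C a) with hu
    have hmon : u.Monic := u_monic a
    set q := f /ₘ u with hq
    set r := f %ₘ u with hr
    have hdecomp : r + u * q = f := modByMonic_add_div f u
    have hrdeg : r.degree < u.degree := degree_modByMonic_lt f hmon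
    have hudeg : u.degree = 2 := by
      rw [degree_eq_natDegree hmon.ne_zero, u_natDegree]
      rfl
    -- apply the substitution
    have h1 : r.comp (X + C a) + u * q.comp (X + C a) = f := by
      have := congrArg (fun g : R[X] => g.comp (X + C a)) hdecomp
      simp only [add_comp, mul_comp] at this
      rw [hu, u_comp a, hf] at this
      exact this
    have hr1 : r.degree ≤ 1 := by
      have : r.degree < 2 := hudeg ▸ hrdeg
      exact Order.le_of_lt_succ this
    have hrform : r = C (r.coeff 1) * X + C (r.coeff 0) := eq_X_add_C_of_degree_le_one hr1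
    set c := r.coeff 1 with hc
    set e := r.coeff 0 with he
    have hrcomp : r.comp (X + C a) = C c * X + C (c * a + e) := by
      rw [hrform]
      simp only [add_comp, mul_comp, C_comp, X_comp, C_add, C_mul]
      ring
    have hrc : (r.comp (X + C a)).degree < u.degree := by
      rw [hrcomp, hudeg]
      exact lt_of_le_of_lt degree_linear_le (by norm_num)
    have huniq := div_modByMonic_unique (q.comp (X + C a)) (r.comp (X + C a)) hmon ⟨h1, hrc⟩
    have hqinv : q.comp (X + C a) = q := huniq.1.symm
    have hrinv : r.comp (X + C a) = r := huniq.2.symm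
    -- `r` is constant
    have hc0 : c = 0 := by
      have h2 := hrinv
      rw [hrcomp] at h2
      conv_rhs at h2 => rw [hrform]
      have h3 := congrArg (fun g : R[X] => g.coeff 0) h2
      simp only [coeff_add, coeff_C_mul, coeff_X_zero, mul_zero, coeff_C_zero, zero_add] at h3
      have : c * a = 0 := by linear_combination h3
      exact (mul_eq_zero.1 this).resolve_right ha
    have hrC : r = C e := by
      rw [hrform, hc0, C_0, zero_mul, zero_add]
    have hrmem : r ∈ Algebra.adjoin R ({X * (X + C a)} : Set R[X]) := by
      rw [hrC]
      exact Subalgebra.algebraMap_mem _ e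
    have humem : u ∈ Algebra.adjoin R ({X * (X + C a)} : Set R[X]) :=
      Algebra.subset_adjoin (Set.mem_singleton _)
    rw [← hdecomp]
    refine Subalgebra.add_mem _ hrmem (Subalgebra.mul_mem _ humem ?_)
    by_cases hd2 : d < 2
    · have : q = 0 := by
        rw [hq, divByMonic_eq_zero_iff hmon, hudeg]
        refine lt_of_le_of_lt degree_le_natDegree ?_
        rw [hd]
        exact_mod_cast hd2
      rw [this]
      exact Subalgebra.zero_mem _
    · have hqd : q.natDegree < d := by
        rw [hq, natDegree_divByMonic f hmon, hd, u_natDegree]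
        omega
      exact ih q.natDegree hqd q rfl hqinv

theorem main (a : R) (ha : a ≠ 0) (f : R[X]) :
    f.comp (X + C a) = f ↔ f ∈ Algebra.adjoin R ({X * (X + C a)} : Set R[X]) :=
  ⟨fun h => nec a ha f.natDegree f rfl h, suff a f⟩

end Groth.Agent.H9.InvChar2
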