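import Mathlib
import Groth.Prelude.Def_GLin
import Groth.Agent.Lib.Helper9.Comod
import Groth.Agent.Lib.Helper9.ComodReynolds
import Groth.Agent.Lib.Helper9.ComodInv
import Groth.Agent.Lib.Helper9.ComodInvRing
import Groth.Agent.Lib.Helper9.ComodIntegral
import Groth.Agent.Lib.Helper9.ChevMod

/-!
# Completeness of invariants for the adic filtration of a fixed point (helper9)
-/

set_option autoImplicit false
set_option linter.style.haveILetI false
set_option linter.unusedSectionVars false

universe u v w w'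

open TensorProduct

namespace Groth.Agent.H9.InvComplete

open Groth.Agent.H9.Comod Groth.Agent.H9.InvRing IsLocalRing

variable {k : Type u} [Field k] {H : Type v} [CommRing H] [HopfAlgebra k H]
  {A : Type w} [CommRing A] [Algebra k A] [HopfRep.Comod k H A] [GLin.IsCoactAlg k H A]
  {M : Type w'} [AddCommGroup M] [Module k M] [Module A M] [IsScalarTower k A M]
  [HopfRep.Comod k H M] [TameAct.IsHopfMod k H A M]

/-- the maximal ideal of the local ring of invariants lies in every stable maximal ideal -/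
theorem coe_mem_of_mem_maximalIdeal (hR : HopfRep.IsSemisimpleComod k H A)
    [IsLocalRing ↥(GLin.invariants k H A)] (m : Ideal A) [m.IsMaximal]
    (hm : HopfRep.IsSubcomod (k := k) (A := H) (m.restrictScalars k))
    {c : ↥(GLin.invariants k H A)} (hc : c ∈ maximalIdeal ↥(GLin.invariants k H A)) :
    (c : A) ∈ m := by
  obtain ⟨E, hE₁, hE₂, hE₃⟩ := exists_reynolds hR
  by_contra hcm
  have htop : m ⊔ Ideal.span {(c : A)} = ⊤ := by
    apply (Ideal.IsMaximal.out (I := m)).2 _
    apply lt_of_le_of_ne le_sup_left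
    intro h
    apply hcm
    rw [h]
    exact Ideal.mem_sup_right (Ideal.subset_span rfl)
  have h1 : (1 : A) ∈ m ⊔ Ideal.span {(c : A)} := by rw [htop]; trivial
  obtain ⟨a, ha, b, hb, hab⟩ := Submodule.mem_sup.mp h1
  obtain ⟨r, rfl⟩ := Ideal.mem_span_singleton'.mp hb
  have hEa : E a ∈ m :=
    reynolds_mem_of_isSubcomod hR E hE₁ hE₂ hE₃ _ hm (show a ∈ m.restrictScalars k from ha)
  have hE1 : E 1 = 1 := (hE₃ 1).mpr (GLin.invariants k H A).one_mem
  have hErc : E (r * c) = (c : A) * E r := by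
    rw [mul_comm]
    exact reynolds_mul_of_mem_invariants hR E hE₁ hE₂ hE₃ r c.2
  have h2 := congrArg E hab
  rw [map_add, hE1, hErc] at h2
  -- `1 - c * E r` is a unit of the invariants
  let e : ↥(GLin.invariants k H A) := ⟨E r, reynolds_mem_fixedPts E hE₂ hE₃ r⟩
  have hu : IsUnit (1 - c * e) := by
    have hmem : c * e ∈ maximalIdeal ↥(GLin.invariants k H A) := Ideal.mul_mem_right _ _ hc
    have := IsLocalRing.isUnit_one_sub_self_of_mem_nonunits _ hmem
    exact this
  have hu' : IsUnit ((GLin.invariants k H A).val (1 - c * e)) := hu.map _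
  have hval : (GLin.invariants k H A).val (1 - c * e) = E a := by
    rw [map_sub, map_one, map_mul]
    show (1 : A) - (c : A) * E r = E a
    rw [← h2]
    ring
  rw [hval] at hu'
  exact (Ideal.IsMaximal.ne_top inferInstance) (Ideal.eq_top_of_isUnit_mem m hEa hu')

/-- separatedness: an invariant element of `⋂ mⁿ M` vanishes -/
theorem eq_zero_of_forall_mem (hR : HopfRep.IsSemisimpleComod k H A)
    (hM : HopfRep.IsSemisimpleComod k H M) [IsNoetherianRing A] [Module.Finite A M]
    [IsLocalRing ↥(GLin.invariants k H A)] (m : Ideal A) [m.IsMaximal]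
    (hm : HopfRep.IsSubcomod (k := k) (A := H) (m.restrictScalars k))
    {x : M} (hx : x ∈ HopfRep.fixedPts k H M)
    (hxn : ∀ n : ℕ, x ∈ (m ^ n • ⊤ : Submodule A M)) : x = 0 := by
  obtain ⟨E, hE₁, hE₂, hE₃⟩ := exists_reynolds hR
  obtain ⟨E', hE'₁, hE'₂, hE'₃⟩ := exists_reynolds hM
  have h1 : x ∈ (⨅ i : ℕ, m ^ i • ⊤ : Submodule A M) := (Submodule.mem_iInf _).mpr hxn
  obtain ⟨r, hr⟩ := (Ideal.mem_iInf_smul_pow_eq_bot_iff m x).mp h1
  have hEr : E (r : A) ∈ m :=
    reynolds_mem_of_isSubcomod hR E hE₁ hE₂ hE₃ _ hm (show (r : A) ∈ m.restrictScalars k from r.2)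
  have h2 : E' ((r : A) • x) = E (r : A) • x :=
    reynolds_smul_of_mem_fixedPts hR E hE₁ hE₂ hE₃ E' hE'₁ hE'₂ hE'₃ (r : A) hx
  rw [hr, (hE'₃ x).mpr hx] at h2
  -- `E r` is an invariant in `m`, so a non-unit of the invariants
  let e : ↥(GLin.invariants k H A) := ⟨E (r : A), reynolds_mem_fixedPts E hE₂ hE₃ _⟩
  have he : e ∈ maximalIdeal ↥(GLin.invariants k H A) := by
    rw [IsLocalRing.mem_maximalIdeal, mem_nonunits_iff]
    intro hu
    have hu' : IsUnit ((GLin.invariants k H A).val e) := hu.map _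
    exact (Ideal.IsMaximal.ne_top inferInstance) (Ideal.eq_top_of_isUnit_mem m hEr hu')
  have hu : IsUnit (1 - e) := IsLocalRing.isUnit_one_sub_self_of_mem_nonunits _ he
  have hu' : IsUnit ((GLin.invariants k H A).val (1 - e)) := hu.map _
  have h3 : (GLin.invariants k H A).val (1 - e) • x = 0 := by
    rw [map_sub, map_one]
    show ((1 : A) - E (r : A)) • x = 0
    rw [sub_smul, one_smul, ← h2, sub_self]
  exact (hu'.smul_left_cancel).mp (by rw [h3, smul_zero])

variable (k H A M) in
/-- the invariants lying in `m^s M`, a submodule of the invariants over the ring of invariants -/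
def Nfil (m : Ideal A) (s : ℕ) :
    Submodule ↥(GLin.invariants k H A) ↥(fixedSub k H A M) :=
  (Submodule.restrictScalars ↥(GLin.invariants k H A) (m ^ s • ⊤ : Submodule A M)).comap
    (fixedSub k H A M).subtype

lemma mem_Nfil (m : Ideal A) (s : ℕ) (p : ↥(fixedSub k H A M)) :
    p ∈ Nfil k H A M m s ↔ (p : M) ∈ (m ^ s • ⊤ : Submodule A M) := Iff.rfl

lemma pow_smul_top_anti (m : Ideal A) {a b : ℕ} (hab : a ≤ b) :
    (m ^ b • ⊤ : Submodule A M) ≤ (m ^ a • ⊤ : Submodule A M) :=
  Submodule.smul_mono (Ideal.pow_le_pow_right hab) le_rfl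

/-- `m₀ⁿ M^G ⊆ mⁿ M` -/
lemma coe_mem_of_mem_smul_top (hR : HopfRep.IsSemisimpleComod k H A)
    [IsLocalRing ↥(GLin.invariants k H A)] (m : Ideal A) [m.IsMaximal]
    (hm : HopfRep.IsSubcomod (k := k) (A := H) (m.restrictScalars k)) (n : ℕ)
    {p : ↥(fixedSub k H A M)}
    (hp : p ∈ (maximalIdeal ↥(GLin.invariants k H A) ^ n • ⊤ :
      Submodule ↥(GLin.invariants k H A) ↥(fixedSub k H A M))) :
    (p : M) ∈ (m ^ n • ⊤ : Submodule A M) := by
  have hle : (maximalIdeal ↥(GLin.invariants k H A) ^ n).map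
      (GLin.invariants k H A).val.toRingHom ≤ m ^ n := by
    rw [Ideal.map_pow]
    apply Ideal.pow_right_mono
    rw [Ideal.map_le_iff_le_comap]
    intro c hc
    exact coe_mem_of_mem_maximalIdeal hR m hm hc
  refine Submodule.smul_induction_on (p := fun p : ↥(fixedSub k H A M) =>
    (p : M) ∈ (m ^ n • ⊤ : Submodule A M)) hp ?_ ?_
  · intro c hc q _
    show ((c : A) • (q : M)) ∈ _
    exact Submodule.smul_mem_smul (hle (Ideal.mem_map_of_mem _ hc)) Submodule.mem_top
  · intro x y hx hy
    exact Submodule.add_mem _ hx hy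

/-- completeness: Cauchy sequences of invariants for the `m`-adic filtration converge -/
theorem exists_limit (hR : HopfRep.IsSemisimpleComod k H A)
    (hM : HopfRep.IsSemisimpleComod k H M) [IsNoetherianRing A] [Module.Finite A M]
    [IsLocalRing ↥(GLin.invariants k H A)] [IsNoetherianRing ↥(GLin.invariants k H A)]
    [IsAdicComplete (maximalIdeal ↥(GLin.invariants k H A)) ↥(GLin.invariants k H A)]
    (m : Ideal A) [m.IsMaximal]
    (hm : HopfRep.IsSubcomod (k := k) (A := H) (m.restrictScalars k))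
    (x : ℕ → M) (hx : ∀ n, x n ∈ HopfRep.fixedPts k H M)
    (hxx : ∀ n, x (n + 1) - x n ∈ (m ^ n • ⊤ : Submodule A M)) :
    ∃ y ∈ HopfRep.fixedPts k H M, ∀ n, y - x n ∈ (m ^ n • ⊤ : Submodule A M) := by
  classical
  haveI : IsNoetherian A M := isNoetherian_of_isNoetherianRing_of_finite A M
  haveI hPn : IsNoetherian ↥(GLin.invariants k H A) ↥(fixedSub k H A M) :=
    isNoetherian_fixedSub hR hM
  haveI : Module.Finite ↥(GLin.invariants k H A) ↥(fixedSub k H A M) := inferInstance
  have htel : ∀ i j, i ≤ j → x j - x i ∈ (m ^ i • ⊤ : Submodule A M) := by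
    intro i j hij
    induction j, hij using Nat.le_induction with
    | base => rw [sub_self]; exact Submodule.zero_mem _
    | succ j hij ih =>
      have : x (j + 1) - x i = (x (j + 1) - x j) + (x j - x i) := by abel
      rw [this]
      exact Submodule.add_mem _ (pow_smul_top_anti m hij (hxx j)) ih
  have hNanti : Antitone (Nfil k H A M m) := by
    intro a b hab p hp
    exact pow_smul_top_anti m hab hp
  have hNinf : ⨅ s, Nfil k H A M m s = ⊥ := by
    rw [eq_bot_iff]
    intro p hp
    rw [Submodule.mem_iInf] at hp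
    have : (p : M) = 0 := eq_zero_of_forall_mem hR hM m hm p.2 (fun n => hp n)
    rw [Submodule.mem_bot]
    exact Subtype.ext this
  have chev := Groth.Agent.H9.ChevMod.chevalley ↥(GLin.invariants k H A) ↥(fixedSub k H A M)
    (Nfil k H A M m) hNanti hNinf
  choose s0 hs0 using chev
  let s : ℕ → ℕ := fun c => max c ((Finset.range (c + 1)).sup s0)
  have hs_ge : ∀ c, c ≤ s c := fun c => le_max_left _ _
  have hs0_le : ∀ c, s0 c ≤ s c := fun c =>
    (Finset.le_sup (f := s0) (Finset.mem_range.mpr (Nat.lt_succ_self c))).trans (le_max_right _ _)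
  have hs_mono : Monotone s := fun a b hab =>
    max_le_max hab (Finset.sup_mono (Finset.range_mono (Nat.succ_le_succ hab)))
  have hs : ∀ c, Nfil k H A M m (s c) ≤
      (maximalIdeal ↥(GLin.invariants k H A) ^ c • ⊤ :
        Submodule ↥(GLin.invariants k H A) ↥(fixedSub k H A M)) :=
    fun c => (hNanti (hs0_le c)).trans (hs0 c)
  let f : ℕ → ↥(fixedSub k H A M) := fun c => ⟨x (s c), hx (s c)⟩
  have hf : ∀ {a b : ℕ}, a ≤ b → f a ≡ f b
      [SMOD (maximalIdeal ↥(GLin.invariants k H A) ^ a • ⊤ :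
        Submodule ↥(GLin.invariants k H A) ↥(fixedSub k H A M))] := by
    intro a b hab
    rw [SModEq.sub_mem]
    apply hs a
    rw [mem_Nfil]
    have h1 := htel (s a) (s b) (hs_mono hab)
    have h2 : ((f a - f b : ↥(fixedSub k H A M)) : M) = -(x (s b) - x (s a)) := by
      show x (s a) - x (s b) = _
      abel
    rw [h2]
    exact Submodule.neg_mem _ h1
  haveI : IsAdicComplete (maximalIdeal ↥(GLin.invariants k H A)) ↥(fixedSub k H A M) :=
    Groth.Agent.H9.ChevMod.isAdicComplete_of_finite _ _ _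
  obtain ⟨L, hL⟩ := IsPrecomplete.prec (I := maximalIdeal ↥(GLin.invariants k H A))
    (M := ↥(fixedSub k H A M)) inferInstance hf
  refine ⟨(L : M), L.2, fun n => ?_⟩
  have h1 : f n - L ∈ (maximalIdeal ↥(GLin.invariants k H A) ^ n • ⊤ :
      Submodule ↥(GLin.invariants k H A) ↥(fixedSub k H A M)) := by
    have := hL n
    rwa [SModEq.sub_mem] at this
  have h2 := coe_mem_of_mem_smul_top hR m hm n h1
  have h3 := htel n (s n) (hs_ge n)
  have h4 : (L : M) - x n = -((f n - L : ↥(fixedSub k H A M)) : M) + (x (s n) - x n) := by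
    show (L : M) - x n = -(x (s n) - (L : M)) + (x (s n) - x n)
    abel
  rw [h4]
  exact Submodule.add_mem _ (Submodule.neg_mem _ h2) h3

end Groth.Agent.H9.InvComplete
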