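import Mathlib

/-!
# Inverse limits of nonempty finite sets over a directed preorder are nonempty
(a convenient unbundled form of `nonempty_sections_of_finite_inverse_system`)
-/

set_option autoImplicit false

universe u v

namespace Groth.Agent.H9.InvLim

open CategoryTheory

theorem exists_compatible {J : Type u} [Preorder J] [IsDirectedOrder J] (G : J → Type v)
    [∀ j, Finite (G j)]
    (t : ∀ {j j' : J}, j ≤ j' → G j' → G j)
    (t_refl : ∀ (j : J) (x : G j), t (le_refl j) x = x)
    (t_trans : ∀ {j j' j'' : J} (h : j ≤ j') (h' : j' ≤ j'') (x : G j''),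
      t h (t h' x) = t (h.trans h') x)
    (Y : ∀ j, Set (G j)) (hne : ∀ j, (Y j).Nonempty)
    (hY : ∀ {j j' : J} (h : j ≤ j') (x : G j'), x ∈ Y j' → t h x ∈ Y j) :
    ∃ y : ∀ j, G j, (∀ j, y j ∈ Y j) ∧ ∀ {j j' : J} (h : j ≤ j'), t h (y j') = y j := by
  let F : Jᵒᵖ ⥤ Type v :=
    { obj := fun j => ↥(Y j.unop)
      map := fun {j j'} f => TypeCat.ofHom
        (fun x : ↥(Y j.unop) => (⟨t (leOfHom f.unop) x.1, hY _ _ x.2⟩ : ↥(Y j'.unop)))
      map_id := by
        intro j
        ext x
        exact t_refl _ _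
      map_comp := by
        intro j j' j'' f g
        ext x
        exact (t_trans _ _ _).symm }
  haveI : ∀ j : Jᵒᵖ, Finite (F.obj j) := fun j => Subtype.finite
  haveI : ∀ j : Jᵒᵖ, Nonempty (F.obj j) := fun j => (hne j.unop).to_subtype
  obtain ⟨s, hs⟩ := nonempty_sections_of_finite_inverse_system F
  refine ⟨fun j => (s (Opposite.op j)).1, fun j => (s (Opposite.op j)).2, ?_⟩
  intro j j' h
  have := hs (homOfLE h).op
  exact congrArg Subtype.val this

end Groth.Agent.H9.InvLim
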