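import Mathlib

/-!
# An involution of a finite-dimensional `𝔽₂`-vector space has a permutation basis (helper9)
-/

set_option autoImplicit false

namespace Groth.Agent.H9.InvolF2

variable {V : Type*} [AddCommGroup V] [Module (ZMod 2) V]

theorem add_self (v : V) : v + v = 0 := by
  have h2 : (2 : ZMod 2) = 0 := by decide
  have : (2 : ZMod 2) • v = 0 := by rw [h2, zero_smul]
  rwa [two_smul] at this

theorem neg_eq_self (v : V) : -v = v :=
  neg_eq_of_add_eq_zero_left (add_self v)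

theorem exists_perm_basis [Module.Finite (ZMod 2) V] (σ : V →ₗ[ZMod 2] V)
    (hσ : ∀ v, σ (σ v) = v) :
    ∃ (n : ℕ) (b : Module.Basis (Fin n) (ZMod 2) V), ∀ i, ∃ j, σ (b i) = b j := by
  classical
  set N : V →ₗ[ZMod 2] V := σ + LinearMap.id with hN
  have hNapp : ∀ v, N v = σ v + v := fun v => rfl
  have hσN : ∀ v, σ v = N v + v := by
    intro v
    rw [hNapp, add_assoc, add_self, add_zero]
  have hNN : ∀ v, N (N v) = 0 := by
    intro v
    rw [hNapp (N v), hNapp v, map_add, hσ, add_comm v (σ v), add_self]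
  have hNσ : ∀ v, N (σ v) = N v := by
    intro v
    rw [hσN v, map_add, hNN, zero_add]
  set K := LinearMap.ker N with hK
  set I := LinearMap.range N with hI
  have hIK : I ≤ K := by
    rintro _ ⟨v, rfl⟩
    exact LinearMap.mem_ker.mpr (hNN v)
  obtain ⟨U, hU⟩ := Submodule.exists_isCompl K
  obtain ⟨C, hC⟩ := Submodule.exists_isCompl I
  set Z := C ⊓ K with hZ
  have hIZ_inf : I ⊓ Z = ⊥ := by
    rw [eq_bot_iff, ← hC.inf_eq_bot]
    exact inf_le_inf_left _ inf_le_left
  have hIZ_sup : I ⊔ Z = K := by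
    rw [hZ, ← sup_inf_assoc_of_le C hIK, hC.sup_eq_top, top_inf_eq]
  have hZK : Z ≤ K := inf_le_right
  let e : (U × U) × Z →ₗ[ZMod 2] V :=
    (U.subtype.coprod (σ ∘ₗ U.subtype)).coprod Z.subtype
  have he : ∀ u u' : U, ∀ z : Z, e ((u, u'), z) = (u : V) + σ (u' : V) + (z : V) := by
    intro u u' z
    simp [e]
  have hinj : Function.Injective e := by
    rw [← LinearMap.ker_eq_bot, LinearMap.ker_eq_bot']
    rintro ⟨⟨u, u'⟩, z⟩ h
    rw [he] at h
    have h1 := congrArg N h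
    rw [map_add, map_add, hNσ, map_zero, LinearMap.mem_ker.mp (hZK z.2), add_zero, ← map_add] at h1
    have h2 : (u : V) + (u' : V) ∈ K ⊓ U :=
      ⟨LinearMap.mem_ker.mpr h1, U.add_mem u.2 u'.2⟩
    rw [hU.inf_eq_bot, Submodule.mem_bot] at h2
    have h3 : (u' : V) = (u : V) := by
      have := eq_neg_of_add_eq_zero_right h2
      rw [this, neg_eq_self]
    have h' : N (u : V) + (z : V) = 0 := by
      have e1 : (u : V) + σ (u : V) + (z : V) = N (u : V) + (z : V) + ((u : V) + (u : V)) := by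
        rw [hσN]
        abel
      rw [h3, e1, add_self, add_zero] at h
      exact h
    have h4 : N (u : V) ∈ I ⊓ Z := by
      refine ⟨⟨u, rfl⟩, ?_⟩
      have := eq_neg_of_add_eq_zero_left h'
      rw [this, neg_eq_self]
      exact z.2
    rw [hIZ_inf, Submodule.mem_bot] at h4
    have h5 : (u : V) ∈ K ⊓ U := ⟨LinearMap.mem_ker.mpr h4, u.2⟩
    rw [hU.inf_eq_bot, Submodule.mem_bot] at h5
    rw [h4, zero_add] at h'
    have h := h'
    have hu : u = 0 := Subtype.ext h5
    have hu' : u' = 0 := Subtype.ext (h3.trans h5)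
    have hz : z = 0 := Subtype.ext h
    rw [hu, hu', hz]
    rfl
  have hsurj : Function.Surjective e := by
    intro v
    have hv : v ∈ K ⊔ U := by rw [hU.sup_eq_top]; trivial
    obtain ⟨k, hk, u0, hu0, rfl⟩ := Submodule.mem_sup.mp hv
    rw [← hIZ_sup] at hk
    obtain ⟨i, hi, z, hz, rfl⟩ := Submodule.mem_sup.mp hk
    obtain ⟨w, rfl⟩ := hi
    have hw : w ∈ K ⊔ U := by rw [hU.sup_eq_top]; trivial
    obtain ⟨k1, hk1, u1, hu1, rfl⟩ := Submodule.mem_sup.mp hw
    refine ⟨((⟨u0 + u1, U.add_mem hu0 hu1⟩, ⟨u1, hu1⟩), ⟨z, hz⟩), ?_⟩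
    rw [he]
    simp only
    rw [map_add, LinearMap.mem_ker.mp hk1, zero_add, hσN u1]
    have e1 : u0 + u1 + (N u1 + u1) + z = N u1 + z + u0 + (u1 + u1) := by abel
    rw [e1, add_self, add_zero]
  let eq : ((U × U) × Z) ≃ₗ[ZMod 2] V := LinearEquiv.ofBijective e ⟨hinj, hsurj⟩
  let bU := Module.finBasis (ZMod 2) U
  let bZ := Module.finBasis (ZMod 2) Z
  let B := ((bU.prod bU).prod bZ).map eq
  have hB1 : ∀ i, B (Sum.inl (Sum.inl i)) = (bU i : V) := by
    intro i
    simp only [B, Module.Basis.map_apply]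
    show e _ = _
    simp [e]
  have hB2 : ∀ i, B (Sum.inl (Sum.inr i)) = σ (bU i : V) := by
    intro i
    simp only [B, Module.Basis.map_apply]
    show e _ = _
    simp [e]
  have hB3 : ∀ j, B (Sum.inr j) = (bZ j : V) := by
    intro j
    simp only [B, Module.Basis.map_apply]
    show e _ = _
    simp [e]
  have key : ∀ i, ∃ j, σ (B i) = B j := by
    rintro ((i | i) | j)
    · exact ⟨Sum.inl (Sum.inr i), by rw [hB1, hB2]⟩
    · exact ⟨Sum.inl (Sum.inl i), by rw [hB1, hB2, hσ]⟩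
    · refine ⟨Sum.inr j, ?_⟩
      rw [hB3, hσN, LinearMap.mem_ker.mp (hZK (bZ j).2), zero_add]
  -- reindex by `Fin n`
  let ι := (Fin (Module.finrank (ZMod 2) U) ⊕ Fin (Module.finrank (ZMod 2) U)) ⊕
    Fin (Module.finrank (ZMod 2) Z)
  let f : ι ≃ Fin (Fintype.card ι) := Fintype.equivFin ι
  refine ⟨Fintype.card ι, B.reindex f, fun i => ?_⟩
  obtain ⟨j, hj⟩ := key (f.symm i)
  refine ⟨f j, ?_⟩
  rw [Module.Basis.reindex_apply, Module.Basis.reindex_apply, Equiv.symm_apply_apply]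
  exact hj

end Groth.Agent.H9.InvolF2
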