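import Mathlib.RingTheory.Jacobson.Ideal
import Mathlib.RingTheory.Ideal.GoingUp
import Mathlib.RingTheory.IntegralClosure.IsIntegralClosure.Basic
import Mathlib.RingTheory.LocalRing.ResidueField.Basic
import Mathlib.RingTheory.AdjoinRoot

/-! Helper lemmas about Jacobson radicals and finite algebras (helper9). -/

set_option autoImplicit false

namespace Groth.Agent.H9

universe u v

/-- If `I` is contained in the Jacobson radical of `A` and `B` is a finite `A`-algebra, then
`I B` is contained in the Jacobson radical of `B`. -/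
theorem map_le_jacobson_of_finite {A : Type u} [CommRing A] {I : Ideal A}
    (hI : I ≤ Ideal.jacobson ⊥) (B : Type v) [CommRing B] [Algebra A B] [Module.Finite A B] :
    Ideal.map (algebraMap A B) I ≤ Ideal.jacobson (⊥ : Ideal B) := by
  rw [Ideal.map_le_iff_le_comap]
  intro a ha
  rw [Ideal.mem_comap, Ideal.jacobson, Ideal.mem_sInf]
  rintro m ⟨-, hm⟩
  have := hm
  have : Algebra.IsIntegral A B := Algebra.IsIntegral.of_finite A B
  have hmax : (m.comap (algebraMap A B)).IsMaximal :=
    Ideal.isMaximal_comap_of_isIntegral_of_isMaximal (R := A) m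
  have h1 : a ∈ Ideal.jacobson (⊥ : Ideal A) := hI ha
  rw [Ideal.jacobson, Ideal.mem_sInf] at h1
  exact h1 (show m.comap (algebraMap A B) ∈ {J | ⊥ ≤ J ∧ J.IsMaximal} from ⟨bot_le, hmax⟩)

/-- An element which is a unit modulo an ideal contained in the Jacobson radical is a unit. -/
theorem isUnit_of_mul_sub_one_mem_jacobson {B : Type v} [CommRing B] {r s : B}
    (h : r * s - 1 ∈ Ideal.jacobson (⊥ : Ideal B)) : IsUnit r :=
  isUnit_of_mul_isUnit_left (Ideal.isUnit_of_sub_one_mem_jacobson_bot (r * s) h)

/-- Over a local ring, a monic polynomial `Q` and a polynomial `R` whose reductions modulo the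
maximal ideal are coprime are coprime. -/
theorem isCoprime_of_monic_of_isCoprime_map_residue {A : Type u} [CommRing A] [IsLocalRing A]
    (Q R : Polynomial A) (hQ : Q.Monic)
    (h : IsCoprime (Polynomial.map (IsLocalRing.residue A) Q)
      (Polynomial.map (IsLocalRing.residue A) R)) : IsCoprime Q R := by
  classical
  obtain ⟨a, b, hab⟩ := h
  obtain ⟨a', rfl⟩ := Polynomial.map_surjective (IsLocalRing.residue A)
    IsLocalRing.residue_surjective a
  obtain ⟨b', rfl⟩ := Polynomial.map_surjective (IsLocalRing.residue A)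
    IsLocalRing.residue_surjective b
  -- `c = a' Q + b' R - 1` has coefficients in the maximal ideal
  have hc : a' * Q + b' * R - 1 ∈ Ideal.map Polynomial.C (IsLocalRing.maximalIdeal A) := by
    rw [Ideal.mem_map_C_iff]
    intro n
    have h1 : Polynomial.map (IsLocalRing.residue A) (a' * Q + b' * R - 1) = 0 := by
      rw [Polynomial.map_sub, Polynomial.map_add, Polynomial.map_mul, Polynomial.map_mul,
        Polynomial.map_one, hab, sub_self]
    have h2 := congrArg (fun p => Polynomial.coeff p n) h1
    simp only [Polynomial.coeff_map, Polynomial.coeff_zero] at h2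
    rwa [IsLocalRing.residue_eq_zero_iff] at h2
  haveI : Module.Finite A (AdjoinRoot Q) := hQ.finite_adjoinRoot
  have hjac : Ideal.map (algebraMap A (AdjoinRoot Q)) (IsLocalRing.maximalIdeal A) ≤
      Ideal.jacobson (⊥ : Ideal (AdjoinRoot Q)) :=
    map_le_jacobson_of_finite (IsLocalRing.maximalIdeal_le_jacobson ⊥) (AdjoinRoot Q)
  have hmem : AdjoinRoot.mk Q R * AdjoinRoot.mk Q b' - 1 ∈
      Ideal.jacobson (⊥ : Ideal (AdjoinRoot Q)) := by
    apply hjac
    have h3 : AdjoinRoot.mk Q R * AdjoinRoot.mk Q b' - 1 =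
        AdjoinRoot.mk Q (a' * Q + b' * R - 1) := by
      rw [map_sub, map_add, map_mul, map_mul, map_one, AdjoinRoot.mk_self, mul_zero, zero_add,
        mul_comm]
    rw [h3]
    have h4 : algebraMap A (AdjoinRoot Q) = (AdjoinRoot.mk Q).comp Polynomial.C := rfl
    rw [h4, ← Ideal.map_map]
    exact Ideal.mem_map_of_mem _ hc
  have hunit : IsUnit (AdjoinRoot.mk Q R) := isUnit_of_mul_sub_one_mem_jacobson hmem
  obtain ⟨s, hs⟩ := hunit.exists_right_inv
  obtain ⟨s', rfl⟩ := AdjoinRoot.mk_surjective s
  have h5 : AdjoinRoot.mk Q (R * s' - 1) = 0 := by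
    rw [map_sub, map_mul, map_one, hs, sub_self]
  rw [AdjoinRoot.mk_eq_zero] at h5
  obtain ⟨q, hq⟩ := h5
  refine ⟨-q, s', ?_⟩
  have : R * s' = Q * q + 1 := by rw [← hq]; ring
  rw [mul_comm s' R, this]; ring

end Groth.Agent.H9
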