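import Mathlib

/-!
# Zariski closures of conjugation orbits of matrices (helper9)

`InCl B C`: the matrix `C` lies in the Zariski closure of the conjugation orbit of `B`.
Semisimple parts lie in the closure of the orbit.
-/

set_option autoImplicit false

universe u

open MvPolynomial

namespace Groth.Agent.H9.MatCl

variable {k : Type u} [Field k] {n : ℕ}

/-- evaluation of a polynomial in the matrix entries at a matrix -/
noncomputable def ev (M : Matrix (Fin n) (Fin n) k) (F : MvPolynomial (Fin n × Fin n) k) : k :=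
  MvPolynomial.eval (fun p => M p.1 p.2) F

/-- `C` is in the Zariski closure of the conjugation orbit of `B` -/
def InCl (B C : Matrix (Fin n) (Fin n) k) : Prop :=
  ∀ F : MvPolynomial (Fin n × Fin n) k,
    (∀ A : Matrix (Fin n) (Fin n) k, IsUnit A.det → ev (A * B * A⁻¹) F = 0) → ev C F = 0

/-- substitution `X ↦ A X A'` on polynomials in the entries -/
noncomputable def conjPoly (A A' : Matrix (Fin n) (Fin n) k)
    (F : MvPolynomial (Fin n × Fin n) k) : MvPolynomial (Fin n × Fin n) k :=
  MvPolynomial.bind₁ (fun p : Fin n × Fin n =>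
    ∑ a, ∑ b, C (A p.1 a) * X (a, b) * C (A' b p.2)) F

lemma ev_conjPoly (A A' M : Matrix (Fin n) (Fin n) k) (F : MvPolynomial (Fin n × Fin n) k) :
    ev M (conjPoly A A' F) = ev (A * M * A') F := by
  unfold ev conjPoly
  rw [← MvPolynomial.aeval_eq_eval, ← MvPolynomial.aeval_eq_eval, MvPolynomial.aeval_bind₁]
  congr 2
  funext p
  simp only [map_sum, map_mul, aeval_C, aeval_X, Algebra.algebraMap_self_apply]
  rw [Matrix.mul_apply]
  simp only [Matrix.mul_apply, Finset.sum_mul]
  rw [Finset.sum_comm]

lemma InCl.refl (B : Matrix (Fin n) (Fin n) k) : InCl B B := by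
  intro F hF
  have := hF 1 (by simp)
  simpa using this

lemma InCl.trans {B C D : Matrix (Fin n) (Fin n) k} (h₁ : InCl B C) (h₂ : InCl C D) :
    InCl B D := by
  intro F hF
  apply h₂
  intro A hA
  rw [← ev_conjPoly]
  apply h₁
  intro A' hA'
  rw [ev_conjPoly]
  have hAA' : IsUnit (A * A').det := by rw [Matrix.det_mul]; exact hA.mul hA'
  have := hF (A * A') hAA'
  rw [Matrix.mul_inv_rev] at this
  simpa [Matrix.mul_assoc] using this

/-- a polynomial vanishing on a punctured line vanishes at the puncture -/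
lemma ev_eq_zero_of_line [Infinite k] (M₀ M₁ : Matrix (Fin n) (Fin n) k)
    (F : MvPolynomial (Fin n × Fin n) k)
    (h : ∀ t : k, t ≠ 0 → ev (M₀ + t • M₁) F = 0) : ev M₀ F = 0 := by
  let p : Polynomial k := MvPolynomial.aeval (fun q : Fin n × Fin n =>
    Polynomial.C (M₀ q.1 q.2) + Polynomial.X * Polynomial.C (M₁ q.1 q.2)) F
  have hp : ∀ t : k, p.eval t = ev (M₀ + t • M₁) F := by
    intro t
    have h1 : ((Polynomial.aeval t : Polynomial k →ₐ[k] k).comp
        (MvPolynomial.aeval (fun q : Fin n × Fin n =>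
          Polynomial.C (M₀ q.1 q.2) + Polynomial.X * Polynomial.C (M₁ q.1 q.2)))) F =
        MvPolynomial.aeval (fun q : Fin n × Fin n => (M₀ + t • M₁) q.1 q.2) F := by
      congr 1
      apply MvPolynomial.algHom_ext
      intro q
      simp
      ring
    rw [AlgHom.comp_apply] at h1
    change Polynomial.eval t p = _
    rw [← Polynomial.coe_aeval_eq_eval]
    rw [h1, MvPolynomial.aeval_eq_eval]
    rfl
  have hp0 : p = 0 := by
    apply Polynomial.eq_zero_of_infinite_isRoot
    apply Set.Infinite.mono (s := {t : k | t ≠ 0})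
    · intro t ht
      change p.eval t = 0
      rw [hp]
      exact h t ht
    · have : {t : k | t ≠ 0} = ({0} : Set k)ᶜ := by ext; simp
      rw [this]
      exact (Set.finite_singleton 0).infinite_compl
  have := hp 0
  rw [hp0, Polynomial.eval_zero, zero_smul, add_zero] at this
  exact this.symm

/-- the key one-step degeneration -/
lemma inCl_of_proj [Infinite k] (S N P : Matrix (Fin n) (Fin n) k) (hPP : P * P = P)
    (hNP : N * P = 0) (hPS : P * S = S * P) :
    InCl (S + N) (S + (1 - P) * N) := by
  intro F hF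
  apply ev_eq_zero_of_line (S + (1 - P) * N) (P * N) F
  intro t ht
  have hinv : (t • P + (1 - P)) * (t⁻¹ • P + (1 - P)) = 1 := by
    have h1 : P * (1 - P) = 0 := by rw [mul_sub, mul_one, hPP, sub_self]
    have h2 : (1 - P) * P = 0 := by rw [sub_mul, one_mul, hPP, sub_self]
    have h3 : (1 - P) * (1 - P) = 1 - P := by
      rw [mul_sub, mul_one, h2, sub_zero]
    rw [add_mul, mul_add, mul_add, Matrix.smul_mul, Matrix.mul_smul, hPP, smul_smul,
      mul_inv_cancel₀ ht, one_smul, Matrix.smul_mul, h1, smul_zero, Matrix.mul_smul, h2,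
      smul_zero, h3]
    abel
  have hdet : IsUnit (t • P + (1 - P)).det :=
    Matrix.isUnit_det_of_right_inverse hinv
  have hAinv : (t • P + (1 - P))⁻¹ = t⁻¹ • P + (1 - P) := Matrix.inv_eq_right_inv hinv
  have := hF _ hdet
  rw [hAinv] at this
  have hconj : (t • P + (1 - P)) * (S + N) * (t⁻¹ • P + (1 - P)) =
      S + (1 - P) * N + t • (P * N) := by
    have hS : (t • P + (1 - P)) * S = S * (t • P + (1 - P)) := by
      rw [add_mul, mul_add, Matrix.smul_mul, Matrix.mul_smul, hPS, sub_mul, mul_sub, one_mul,
        mul_one, hPS]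
    have hN : N * (t⁻¹ • P + (1 - P)) = N := by
      rw [mul_add, Matrix.mul_smul, hNP, smul_zero, zero_add, mul_sub, mul_one, hNP, sub_zero]
    have hsplit : ∀ A A' : Matrix (Fin n) (Fin n) k,
        A * (S + N) * A' = A * S * A' + A * (N * A') := by
      intro A A'
      rw [Matrix.mul_add, Matrix.add_mul, Matrix.mul_assoc A N]
    rw [hsplit, hS, Matrix.mul_assoc S, hinv, mul_one, hN, add_mul, Matrix.smul_mul]
    abel
  rw [hconj] at this
  exact this

end Groth.Agent.H9.MatCl

namespace Groth.Agent.H9.MatCl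

variable {k : Type u} [Field k] {n : ℕ}

/-- existence of the projection onto `ker N` along an `S`-stable complement -/
lemma exists_proj (S N : Matrix (Fin n) (Fin n) k)
    (hS : Module.End.IsSemisimple (Matrix.toLin' S)) (hc : Commute S N) (m : ℕ)
    (hN : N ^ (m + 2) = 0) :
    ∃ P : Matrix (Fin n) (Fin n) k, P * P = P ∧ N * P = 0 ∧ P * S = S * P ∧
      (1 - P) * N ^ (m + 1) = 0 := by
  set f : Module.End k (Fin n → k) := Matrix.toLin' N with hf
  set g : Module.End k (Fin n → k) := Matrix.toLin' S with hg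
  have hfg : ∀ v, f (g v) = g (f v) := by
    intro v
    have : N * S = S * N := hc.eq.symm
    have h1 : f ∘ₗ g = g ∘ₗ f := by
      rw [hf, hg, ← Matrix.toLin'_mul, ← Matrix.toLin'_mul, this]
    exact LinearMap.congr_fun h1 v
  have hp : LinearMap.ker f ∈ Module.End.invtSubmodule g := by
    rw [Module.End.mem_invtSubmodule]
    intro v hv
    rw [Submodule.mem_comap, LinearMap.mem_ker, hfg, LinearMap.mem_ker.mp hv, map_zero]
  obtain ⟨q, hq, hpq⟩ := (Module.End.isSemisimple_iff.mp hS) _ hp
  rw [Module.End.mem_invtSubmodule] at hq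
  set π : Module.End k (Fin n → k) := (LinearMap.ker f).projection q hpq with hπ
  have hπmem : ∀ v, π v ∈ LinearMap.ker f := fun v => Submodule.projection_apply_mem hpq v
  have hfπ : ∀ v, f (π v) = 0 := fun v => LinearMap.mem_ker.mp (hπmem v)
  have hππ : ∀ v, π (π v) = π v := fun v =>
    Submodule.projection_apply_of_mem_left hpq (hπmem v)
  have hπg : ∀ v, π (g v) = g (π v) := by
    intro v
    have hv : v = π v + (v - π v) := by abel
    have h2 : v - π v ∈ q := by
      rw [← Submodule.projection_apply_eq_zero_iff hpq, map_sub, ← hπ, hππ, sub_self]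
    have h3 : g (v - π v) ∈ q := hq h2
    have h4 : g (π v) ∈ LinearMap.ker f := by
      have := hp
      rw [Module.End.mem_invtSubmodule] at this
      exact this (hπmem v)
    conv_lhs => rw [hv, map_add, map_add]
    rw [← hπ] at *
    rw [Submodule.projection_apply_of_mem_left hpq h4,
      (Submodule.projection_apply_eq_zero_iff hpq).mpr h3, add_zero]
  have hfpow : ∀ v, (f ^ (m + 1)) v ∈ LinearMap.ker f := by
    intro v
    rw [LinearMap.mem_ker]
    have : f ((f ^ (m + 1)) v) = (f ^ (m + 2)) v := by
      rw [pow_succ' f (m + 1)]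
      rfl
    rw [this, hf, ← Matrix.toLin'_pow, hN, map_zero]
    rfl
  refine ⟨LinearMap.toMatrix' π, ?_, ?_, ?_, ?_⟩
  · rw [← LinearMap.toMatrix'_mul]
    congr 1
    exact LinearMap.ext hππ
  · apply Matrix.toLin'.injective
    rw [Matrix.toLin'_mul, Matrix.toLin'_toMatrix', map_zero]
    exact LinearMap.ext hfπ
  · apply Matrix.toLin'.injective
    rw [Matrix.toLin'_mul, Matrix.toLin'_mul, Matrix.toLin'_toMatrix']
    exact LinearMap.ext hπg
  · apply Matrix.toLin'.injective
    rw [Matrix.toLin'_mul, map_sub, Matrix.toLin'_one, Matrix.toLin'_toMatrix', Matrix.toLin'_pow,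
      map_zero]
    refine LinearMap.ext fun v => ?_
    change ((LinearMap.id : Module.End k (Fin n → k)) - π) ((f ^ (m + 1)) v) = 0
    rw [LinearMap.sub_apply, LinearMap.id_apply,
      Submodule.projection_apply_of_mem_left hpq (hfpow v), sub_self]

/-- the semisimple part of a matrix lies in the Zariski closure of its conjugation orbit -/
theorem inCl_semisimple [Infinite k] (m : ℕ) : ∀ (S N : Matrix (Fin n) (Fin n) k),
    Module.End.IsSemisimple (Matrix.toLin' S) → N ^ (m + 1) = 0 → Commute S N →
    InCl (S + N) S := by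
  induction m with
  | zero =>
    intro S N _ hN _
    rw [zero_add, pow_one] at hN
    rw [hN, add_zero]
    exact InCl.refl S
  | succ m ih =>
    intro S N hS hN hc
    obtain ⟨P, hPP, hNP, hPS, hQ⟩ := exists_proj S N hS hc m hN
    have hstep := inCl_of_proj S N P hPP hNP hPS
    refine hstep.trans ?_
    have hpow : ∀ j : ℕ, ((1 - P) * N) ^ (j + 1) = (1 - P) * N ^ (j + 1) := by
      intro j
      induction j with
      | zero => simp
      | succ j ihj =>
        rw [pow_succ, ihj, Matrix.mul_assoc, ← Matrix.mul_assoc (N ^ (j + 1)), Matrix.mul_sub,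
          Matrix.mul_one, pow_succ N j, Matrix.mul_assoc (N ^ j), hNP, Matrix.mul_zero, sub_zero,
          ← pow_succ, ← pow_succ]
    apply ih S ((1 - P) * N) hS
    · rw [hpow, hQ]
    · have hSN : S * N = N * S := hc.eq
      change S * ((1 - P) * N) = (1 - P) * N * S
      have h1 : S * (1 - P) = (1 - P) * S := by
        rw [Matrix.mul_sub, Matrix.sub_mul, Matrix.mul_one, Matrix.one_mul, hPS]
      rw [← Matrix.mul_assoc, h1, Matrix.mul_assoc, hSN, ← Matrix.mul_assoc]

end Groth.Agent.H9.MatCl
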