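import Mathlib
import Groth.Agent.Lib.Helper9.MatClosure

/-!
# Diagonalisation of semisimple matrices over an algebraically closed field; conjugacy (helper9)
-/

set_option autoImplicit false

universe u

open MvPolynomial

namespace Groth.Agent.H9.MatCl

variable {k : Type u} [Field k] {n : ℕ}

/-- a basis of eigenvectors of a semisimple matrix -/
lemma exists_eigenbasis [IsAlgClosed k] (S : Matrix (Fin n) (Fin n) k)
    (hS : Module.End.IsSemisimple (Matrix.toLin' S)) :
    ∃ (b : Module.Basis (Fin n) k (Fin n → k)) (d : Fin n → k),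
      ∀ i, Matrix.toLin' S (b i) = d i • b i := by
  classical
  set f : Module.End k (Fin n → k) := Matrix.toLin' S with hf
  have hint : DirectSum.IsInternal (fun μ : k => f.eigenspace μ) :=
    DirectSum.isInternal_submodule_of_iSupIndep_of_iSup_eq_top
      (Module.End.eigenspaces_iSupIndep f) hS.iSup_eigenspace_eq_top
  let b₀ := hint.collectedBasis (fun μ => Module.finBasis k (f.eigenspace μ))
  let _ : Fintype (Σ μ : k, Fin (Module.finrank k (f.eigenspace μ))) :=
    FiniteDimensional.fintypeBasisIndex b₀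
  have hcard : Fintype.card (Σ μ : k, Fin (Module.finrank k (f.eigenspace μ))) = n := by
    rw [← Module.finrank_eq_card_basis b₀, Module.finrank_fin_fun]
  let e := Fintype.equivFinOfCardEq hcard
  refine ⟨b₀.reindex e, fun i => (e.symm i).1, ?_⟩
  intro i
  rw [Module.Basis.reindex_apply]
  have := hint.collectedBasis_mem (fun μ => Module.finBasis k (f.eigenspace μ)) (e.symm i)
  exact Module.End.mem_eigenspace_iff.mp this

/-- diagonalisation of a semisimple matrix -/
lemma exists_diag [IsAlgClosed k] (S : Matrix (Fin n) (Fin n) k)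
    (hS : Module.End.IsSemisimple (Matrix.toLin' S)) :
    ∃ (P : Matrix (Fin n) (Fin n) k) (d : Fin n → k),
      IsUnit P.det ∧ S * P = P * Matrix.diagonal d := by
  obtain ⟨b, d, hb⟩ := exists_eigenbasis S hS
  refine ⟨Matrix.of fun i j => b j i, d, ?_, ?_⟩
  · rw [← Matrix.isUnit_iff_isUnit_det, ← Matrix.linearIndependent_cols_iff_isUnit]
    have : (Matrix.of fun i j => b j i).col = fun j => b j := by
      funext j i
      rfl
    rw [this]
    exact b.linearIndependent
  · ext i j
    rw [Matrix.mul_apply, Matrix.mul_diagonal]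
    have := congrFun (hb j) i
    rw [Matrix.toLin'_apply, Matrix.mulVec, Pi.smul_apply, smul_eq_mul] at this
    simp only [Matrix.of_apply]
    rw [mul_comm, ← this]
    rfl

lemma charpoly_of_diag (S P : Matrix (Fin n) (Fin n) k) (d : Fin n → k) (hP : IsUnit P.det)
    (h : S * P = P * Matrix.diagonal d) :
    S.charpoly = ∏ i, (Polynomial.X - Polynomial.C (d i)) := by
  rw [← Matrix.charpoly_diagonal]
  have hPu : IsUnit P := (Matrix.isUnit_iff_isUnit_det P).mpr hP
  obtain ⟨u, rfl⟩ := hPu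
  have : S = u.val * Matrix.diagonal d * u.val⁻¹ := by
    rw [← h, Matrix.mul_assoc, Matrix.mul_nonsing_inv _ hP, Matrix.mul_one]
  rw [this, Matrix.charpoly_units_conj]

/-- semisimple matrices with the same characteristic polynomial are conjugate -/
theorem exists_conj_of_charpoly_eq [IsAlgClosed k] (S₁ S₂ : Matrix (Fin n) (Fin n) k)
    (h₁ : Module.End.IsSemisimple (Matrix.toLin' S₁))
    (h₂ : Module.End.IsSemisimple (Matrix.toLin' S₂)) (hc : S₁.charpoly = S₂.charpoly) :
    ∃ A : Matrix (Fin n) (Fin n) k, IsUnit A.det ∧ A * S₁ * A⁻¹ = S₂ := by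
  classical
  obtain ⟨P₁, d₁, hP₁, hd₁⟩ := exists_diag S₁ h₁
  obtain ⟨P₂, d₂, hP₂, hd₂⟩ := exists_diag S₂ h₂
  have hc₁ := charpoly_of_diag S₁ P₁ d₁ hP₁ hd₁
  have hc₂ := charpoly_of_diag S₂ P₂ d₂ hP₂ hd₂
  have hms : Multiset.map d₁ Finset.univ.val = Multiset.map d₂ Finset.univ.val := by
    have e1 : ∀ d : Fin n → k, (∏ i, (Polynomial.X - Polynomial.C (d i))).roots =
        Multiset.map d Finset.univ.val := by
      intro d
      have : (∏ i, (Polynomial.X - Polynomial.C (d i))) =
          ((Multiset.map d Finset.univ.val).map fun a => Polynomial.X - Polynomial.C a).prod := by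
        rw [Multiset.map_map]
        rfl
      rw [this, Polynomial.roots_multiset_prod_X_sub_C]
    rw [← e1, ← e1, ← hc₁, ← hc₂, hc]
  -- a permutation matching the eigenvalues
  have hfib : ∀ c : k, Fintype.card {i // d₂ i = c} = Fintype.card {i // d₁ i = c} := by
    intro c
    have := congrArg (Multiset.count c) hms
    rw [Multiset.count_map, Multiset.count_map] at this
    rw [Fintype.card_subtype, Fintype.card_subtype]
    simp only [Finset.card, Finset.filter_val]
    convert this.symm using 3 <;> exact eq_comm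
  let σ : Fin n ≃ Fin n := Equiv.ofFiberEquiv (f := d₂) (g := d₁)
    (fun c => Fintype.equivOfCardEq (hfib c))
  have hσ : ∀ i, d₁ (σ i) = d₂ i := fun i => Equiv.ofFiberEquiv_map _ i
  -- reorder the eigenbasis of `S₁`
  let P₁' : Matrix (Fin n) (Fin n) k := P₁.submatrix id σ
  have hP₁' : IsUnit P₁'.det := by
    have : P₁'.det = Equiv.Perm.sign σ * P₁.det := by
      change (P₁.submatrix id σ).det = _
      have h2 : (P₁.submatrix id σ) = (P₁.transpose.submatrix σ id).transpose := by
        ext i j; rfl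
      rw [h2, Matrix.det_transpose, Matrix.det_permute, Matrix.det_transpose]
    rw [this]
    refine IsUnit.mul ?_ hP₁
    rcases Int.units_eq_one_or (Equiv.Perm.sign σ) with h | h <;> simp [h]
  have hd₁' : S₁ * P₁' = P₁' * Matrix.diagonal d₂ := by
    ext i j
    have := congrFun (congrFun hd₁ i) (σ j)
    rw [Matrix.mul_diagonal] at this
    rw [Matrix.mul_diagonal, ← hσ j]
    simp only [P₁', Matrix.submatrix_apply, id]
    rw [← this]
    simp [Matrix.mul_apply]
  have hP₁u : P₁' * P₁'⁻¹ = 1 := Matrix.mul_nonsing_inv _ hP₁'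
  have hP₁u' : P₁'⁻¹ * P₁' = 1 := Matrix.nonsing_inv_mul _ hP₁'
  have hP₂u : P₂ * P₂⁻¹ = 1 := Matrix.mul_nonsing_inv _ hP₂
  have hS₁ : S₁ = P₁' * Matrix.diagonal d₂ * P₁'⁻¹ := by
    rw [← hd₁', Matrix.mul_assoc, hP₁u, Matrix.mul_one]
  have hS₂ : S₂ = P₂ * Matrix.diagonal d₂ * P₂⁻¹ := by
    rw [← hd₂, Matrix.mul_assoc, hP₂u, Matrix.mul_one]
  refine ⟨P₂ * P₁'⁻¹, ?_, ?_⟩
  · rw [Matrix.det_mul]
    refine hP₂.mul ?_
    rw [Matrix.det_nonsing_inv]
    exact (Ring.inverse_unit hP₁'.unit ▸ (hP₁'.unit⁻¹).isUnit)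
  · rw [Matrix.mul_inv_rev, Matrix.nonsing_inv_nonsing_inv _ hP₁', hS₁, hS₂]
    simp only [Matrix.mul_assoc]
    rw [← Matrix.mul_assoc P₁'⁻¹ P₁', hP₁u', Matrix.one_mul, ← Matrix.mul_assoc P₁'⁻¹ P₁', hP₁u',
      Matrix.one_mul]

end Groth.Agent.H9.MatCl

namespace Groth.Agent.H9.MatCl

variable {k : Type u} [Field k] {n : ℕ}

/-- orbit closures are stable under conjugation -/
lemma InCl.conj {B C : Matrix (Fin n) (Fin n) k} (h : InCl B C) (A : Matrix (Fin n) (Fin n) k)
    (hA : IsUnit A.det) : InCl B (A * C * A⁻¹) := by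
  intro F hF
  rw [← ev_conjPoly]
  apply h
  intro A' hA'
  rw [ev_conjPoly]
  have hAA' : IsUnit (A * A').det := by rw [Matrix.det_mul]; exact hA.mul hA'
  have := hF (A * A') hAA'
  rw [Matrix.mul_inv_rev] at this
  simpa [Matrix.mul_assoc] using this

/-- the generic matrix -/
noncomputable def generic (k : Type u) [Field k] (n : ℕ) :
    Matrix (Fin n) (Fin n) (MvPolynomial (Fin n × Fin n) k) :=
  Matrix.of fun i j => X (i, j)

lemma ev_charpoly_coeff (M : Matrix (Fin n) (Fin n) k) (i : ℕ) :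
    ev M ((generic k n).charpoly.coeff i) = M.charpoly.coeff i := by
  have h1 : (generic k n).map (MvPolynomial.eval (fun p : Fin n × Fin n => M p.1 p.2)) = M := by
    ext a b
    simp [generic]
  have h2 := Matrix.charpoly_map (generic k n)
    (MvPolynomial.eval (fun p : Fin n × Fin n => M p.1 p.2))
  rw [h1] at h2
  rw [h2, Polynomial.coeff_map]
  rfl

/-- the characteristic polynomial is constant on orbit closures -/
lemma charpoly_eq_of_inCl {B C : Matrix (Fin n) (Fin n) k} (h : InCl B C) :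
    C.charpoly = B.charpoly := by
  ext i
  have := h ((generic k n).charpoly.coeff i - MvPolynomial.C (B.charpoly.coeff i)) (by
    intro A hA
    unfold ev
    rw [map_sub, MvPolynomial.eval_C]
    change ev (A * B * A⁻¹) _ - _ = 0
    rw [ev_charpoly_coeff]
    have hAu : IsUnit A := (Matrix.isUnit_iff_isUnit_det A).mpr hA
    obtain ⟨u, rfl⟩ := hAu
    rw [Matrix.charpoly_units_conj, sub_self])
  unfold ev at this
  rw [map_sub, MvPolynomial.eval_C] at this
  change ev C _ - _ = 0 at this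
  rw [ev_charpoly_coeff, sub_eq_zero] at this
  exact this

/-- orbit closures of two matrices meet iff the semisimple parts are conjugate -/
theorem closures_meet_iff [IsAlgClosed k] (B₁ S₁ N₁ B₂ S₂ N₂ : Matrix (Fin n) (Fin n) k)
    (hS₁ : Module.End.IsSemisimple (Matrix.toLin' S₁)) (hN₁ : IsNilpotent N₁) (hc₁ : Commute S₁ N₁)
    (hB₁ : B₁ = S₁ + N₁)
    (hS₂ : Module.End.IsSemisimple (Matrix.toLin' S₂)) (hN₂ : IsNilpotent N₂) (hc₂ : Commute S₂ N₂)
    (hB₂ : B₂ = S₂ + N₂) :
    (∃ C : Matrix (Fin n) (Fin n) k, InCl B₁ C ∧ InCl B₂ C) ↔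
      ∃ A : Matrix (Fin n) (Fin n) k, IsUnit A.det ∧ A * S₁ * A⁻¹ = S₂ := by
  have key : ∀ (B S N : Matrix (Fin n) (Fin n) k), Module.End.IsSemisimple (Matrix.toLin' S) →
      IsNilpotent N → Commute S N → B = S + N → InCl B S := by
    intro B S N hS hN hc hB
    obtain ⟨m, hm⟩ := hN
    have hm' : N ^ (m + 1) = 0 := by rw [pow_succ, hm, zero_mul]
    rw [hB]
    exact inCl_semisimple m S N hS hm' hc
  have k₁ := key B₁ S₁ N₁ hS₁ hN₁ hc₁ hB₁
  have k₂ := key B₂ S₂ N₂ hS₂ hN₂ hc₂ hB₂
  constructor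
  · rintro ⟨C, h₁, h₂⟩
    apply exists_conj_of_charpoly_eq S₁ S₂ hS₁ hS₂
    rw [charpoly_eq_of_inCl k₁, charpoly_eq_of_inCl k₂, ← charpoly_eq_of_inCl h₁,
      ← charpoly_eq_of_inCl h₂]
  · rintro ⟨A, hA, hAS⟩
    refine ⟨S₂, ?_, k₂⟩
    rw [← hAS]
    exact k₁.conj A hA

end Groth.Agent.H9.MatCl
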