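import Mathlib
import Groth.Prelude.Def_Versch
import Groth.Prelude.Def_SGA3b

/-!
# `V ∘ F = [p]` for finite locally free commutative group schemes (ring level)
-/

set_option autoImplicit false

namespace Groth.Agent.H9.VF

open TensorProduct WithConv

section Conv

variable {R : Type*} [CommRing R] {A : Type*} [CommRing A] [Bialgebra R A]

/-- The rank-one map `a ↦ x a • b` in the convolution ring. -/
noncomputable def rk1 (x : WithConv (A →ₗ[R] R)) (b : A) : WithConv (A →ₗ[R] A) :=
  toConv (x.ofConv.smulRight b)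

theorem rk1_apply (x : WithConv (A →ₗ[R] R)) (b a : A) : rk1 x b a = x a • b := rfl

theorem rk1_mul (x x' : WithConv (A →ₗ[R] R)) (b b' : A) :
    rk1 x b * rk1 x' b' = rk1 (x * x') (b * b') := by
  apply WithConv.ext
  apply LinearMap.ext
  intro a
  change (rk1 x b * rk1 x' b') a = rk1 (x * x') (b * b') a
  rw [LinearMap.convMul_apply, rk1_apply, LinearMap.convMul_apply]
  generalize Coalgebra.comul (R := R) a = t
  induction t using TensorProduct.induction_on with
  | zero => simp
  | tmul c d =>
    simp only [TensorProduct.map_tmul, LinearMap.mul'_apply]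
    change (x c • b) * (x' d • b') = (x c * x' d) • (b * b')
    rw [smul_mul_smul_comm]
  | add t t' ht ht' => simp only [map_add, ht, ht', add_smul]

theorem rk1_one : rk1 (1 : WithConv (A →ₗ[R] R)) (1 : A) = 1 := by
  apply WithConv.ext
  apply LinearMap.ext
  intro a
  change rk1 (1 : WithConv (A →ₗ[R] R)) (1 : A) a = (1 : WithConv (A →ₗ[R] A)) a
  rw [rk1_apply]
  simp [LinearMap.convOne_def, Algebra.algebraMap_eq_smul_one]

theorem rk1_pow (x : WithConv (A →ₗ[R] R)) (b : A) (n : ℕ) :
    rk1 x b ^ n = rk1 (x ^ n) (b ^ n) := by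
  induction n with
  | zero => rw [pow_zero, pow_zero, pow_zero, rk1_one]
  | succ n ih => rw [pow_succ, ih, rk1_mul, ← pow_succ, ← pow_succ]

theorem algebraMap_conv_injective :
    Function.Injective (algebraMap R (WithConv (A →ₗ[R] A))) := by
  intro r s h
  have h1 := congrArg (fun f : WithConv (A →ₗ[R] A) => Coalgebra.counit (R := R) (f 1)) h
  simpa [Algebra.algebraMap_eq_smul_one] using h1

theorem charP_conv (p : ℕ) [CharP R p] : CharP (WithConv (A →ₗ[R] A)) p :=
  charP_of_injective_algebraMap algebraMap_conv_injective p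

end Conv

section Main

universe u

variable (p : ℕ) [Fact p.Prime] (R : Type u) [CommRing R] [CharP R p]
  (A : Type u) [CommRing A] [HopfAlgebra R A] [Coalgebra.IsCocomm R A]
  [Module.Finite R A] [Module.Projective R A]

/-- A finite dual generating system of a finite projective module. -/
theorem exists_dual_system : ∃ (n : ℕ) (e : Fin n → A) (φ : Fin n → (A →ₗ[R] R)),
    ∀ a : A, a = ∑ j, φ j a • e j := by
  obtain ⟨n, f, g, -, -, hfg⟩ := Module.Finite.exists_comp_eq_id_of_projective R A
  refine ⟨n, fun j => f (Pi.single j 1), fun j => LinearMap.proj j ∘ₗ g, fun a => ?_⟩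
  have h1 : a = f (g a) := by rw [← LinearMap.comp_apply, hfg, LinearMap.id_apply]
  conv_lhs => rw [h1, LinearMap.pi_apply_eq_sum_univ f (g a)]
  apply Finset.sum_congr rfl
  intro j _
  congr 2
  ext i
  simp [Pi.single_apply, eq_comm]

variable {R A}

theorem relFrob_tmul [CharP A p] (a : A) (s : FrobAlg.Twist p R) :
    FrobAlg.relFrob p R A (a ⊗ₜ s) = a ^ p * algebraMap R A ((FrobAlg.toTwist p R).symm s) := by
  simp [FrobAlg.relFrob, FrobAlg.frobHom, FrobAlg.inclHom, Algebra.TensorProduct.lift_tmul]
  rfl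

/-- The relative Frobenius computed through a dual generating system. -/
theorem relFrob_eq_sum [CharP A p] {n : ℕ} (e : Fin n → A) (φ : Fin n → (A →ₗ[R] R))
    (he : ∀ a : A, a = ∑ j, φ j a • e j) (w : FrobAlg.BaseChange p R A) :
    FrobAlg.relFrob p R A w =
      ∑ j, (FrobAlg.toTwist p R).symm (Versch.evTw p R A (toConv (φ j)) w) • e j ^ p := by
  induction w using TensorProduct.induction_on with
  | zero => simp
  | add w w' hw hw' =>
    rw [map_add, hw, hw', ← Finset.sum_add_distrib]
    apply Finset.sum_congr rfl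
    intro j _
    rw [map_add, map_add, add_smul]
  | tmul a s =>
    rw [relFrob_tmul]
    haveI : ExpChar A p := ExpChar.prime Fact.out
    conv_lhs => rw [he a, sum_pow_char p]
    rw [Finset.sum_mul]
    apply Finset.sum_congr rfl
    intro j _
    rw [Versch.evTw_tmul', map_mul, RingEquiv.symm_apply_apply, smul_pow, Algebra.smul_def,
      Algebra.smul_def, map_mul]
    simp only [CartDual.coe_apply, WithConv.ofConv_toConv]
    ring

/-- The `p`-th convolution power of the identity through a dual generating system. -/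
theorem powConv_eq_sum {n : ℕ} (e : Fin n → A) (φ : Fin n → (A →ₗ[R] R))
    (he : ∀ a : A, a = ∑ j, φ j a • e j) (a : A) :
    SGA3b.powConv R A p a = ∑ j, ((toConv (φ j) : WithConv (A →ₗ[R] R)) ^ p) a • e j ^ p := by
  haveI : CharP (WithConv (A →ₗ[R] A)) p := charP_conv p
  haveI : ExpChar (WithConv (A →ₗ[R] A)) p := ExpChar.prime Fact.out
  have h1 : (toConv (LinearMap.id : A →ₗ[R] A) : WithConv (A →ₗ[R] A)) =
      ∑ j, rk1 (toConv (φ j)) (e j) := by
    apply WithConv.ext
    apply LinearMap.ext
    intro a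
    rw [WithConv.ofConv_toConv, LinearMap.id_apply, WithConv.ofConv_sum, LinearMap.sum_apply]
    exact he a
  have h2 : SGA3b.powConv R A p a =
      ((toConv (LinearMap.id : A →ₗ[R] A) : WithConv (A →ₗ[R] A)) ^ p) a := by
    have := AlgHom.toLinearMap_convPow (toConv (AlgHom.id R A)) p
    rw [← (show toConv (toConv (AlgHom.id R A)).ofConv.toLinearMap =
      (toConv (LinearMap.id : A →ₗ[R] A) : WithConv (A →ₗ[R] A)) from rfl), ← this]
    rfl
  rw [h2, h1, sum_pow_char p]
  change (∑ j, rk1 (toConv (φ j)) (e j) ^ p).ofConv a = _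
  rw [WithConv.ofConv_sum, LinearMap.sum_apply]
  apply Finset.sum_congr rfl
  intro j _
  rw [rk1_pow]
  rfl

/-- **S15889**: `F* ∘ v = [p]*`. -/
theorem relFrob_verschiebung [CharP A p] (v : A →+* FrobAlg.BaseChange p R A)
    (hv : Versch.IsVerschiebung p R A v) (a : A) :
    FrobAlg.relFrob p R A (v a) = SGA3b.powConv R A p a := by
  obtain ⟨n, e, φ, he⟩ := exists_dual_system R A
  rw [relFrob_eq_sum p e φ he, powConv_eq_sum p e φ he]
  apply Finset.sum_congr rfl
  intro j _
  rw [(Versch.isVerschiebung_iff p R A v).1 hv a (toConv (φ j)), RingEquiv.symm_apply_apply]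

end Main

section PowConv

universe u

variable (R : Type u) [CommRing R] (A : Type u) [CommRing A] [HopfAlgebra R A]

theorem comp_convPow {B C : Type*} [CommRing B] [CommRing C] [Algebra R B] [Algebra R C]
    (h : B →ₐ[R] C) (f : WithConv (A →ₐ[R] B)) (n : ℕ) :
    h.comp (f ^ n).ofConv = ofConv ((toConv (h.comp f.ofConv)) ^ n) := by
  induction n with
  | zero =>
    rw [pow_zero, pow_zero]
    ext a
    simp [AlgHom.convOne_def]
  | succ n ih =>
    rw [pow_succ, pow_succ, AlgHom.comp_convMul_distrib, ih, WithConv.toConv_ofConv]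

theorem powConv_mul (m n : ℕ) :
    SGA3b.powConv R A (m * n) = (SGA3b.powConv R A m).comp (SGA3b.powConv R A n) := by
  unfold SGA3b.powConv
  rw [comp_convPow, pow_mul]
  congr 2

theorem powConv_pow_succ (p m : ℕ) :
    SGA3b.powConv R A (p ^ (m + 1)) = (SGA3b.powConv R A (p ^ m)).comp (SGA3b.powConv R A p) := by
  rw [pow_succ, powConv_mul]

end PowConv

section Infinitesimal

universe u

variable (p : ℕ) [Fact p.Prime] {R : Type u} [CommRing R] [CharP R p]
  {A : Type u} [CommRing A] [HopfAlgebra R A] [Coalgebra.IsCocomm R A]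
  [Module.Finite R A] [Module.Projective R A]

/-- If the Verschiebung is surjective, every `p^m`-th power lies in the range of `[p^m]^*`. -/
theorem pow_mem_range_powConv [CharP A p] (v : A →+* FrobAlg.BaseChange p R A)
    (hv : Versch.IsVerschiebung p R A v) (hsurj : Function.Surjective v) (m : ℕ) (a : A) :
    ∃ c : A, SGA3b.powConv R A (p ^ m) c = a ^ (p ^ m) := by
  induction m generalizing a with
  | zero =>
    refine ⟨a, ?_⟩
    rw [pow_zero, pow_one]
    simp [SGA3b.powConv]
  | succ m ih =>
    obtain ⟨b, hb⟩ := ih a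
    obtain ⟨c, hc⟩ := hsurj (b ⊗ₜ 1)
    refine ⟨c, ?_⟩
    rw [powConv_pow_succ, AlgHom.comp_apply, ← relFrob_verschiebung p v hv c, hc, relFrob_tmul,
      map_one, map_one, mul_one, map_pow, hb, ← pow_mul, ← pow_succ]

/-- **S19384**. -/
theorem pow_eq_zero_of_powConv_trivial [CharP A p] (v : A →+* FrobAlg.BaseChange p R A)
    (hv : Versch.IsVerschiebung p R A v) (hsurj : Function.Surjective v) (n : ℕ)
    (hn : SGA3b.powConv R A (p ^ n) = (Algebra.ofId R A).comp (Bialgebra.counitAlgHom R A))
    (a : A) (ha : Coalgebra.counit (R := R) a = 0) : a ^ (p ^ n) = 0 := by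
  obtain ⟨c, hc⟩ := pow_mem_range_powConv p v hv hsurj n a
  rw [hn] at hc
  have h1 : a ^ (p ^ n) = algebraMap R A (Coalgebra.counit (R := R) c) := hc.symm
  have h2 := congrArg (Bialgebra.counitAlgHom R A) h1
  rw [map_pow, Bialgebra.counitAlgHom_apply, ha, zero_pow (pow_pos (Fact.out : p.Prime).pos n).ne',
    AlgHom.commutes] at h2
  rw [h1, ← (show algebraMap R R (Coalgebra.counit (R := R) c) = Coalgebra.counit (R := R) c from rfl),
    ← h2, map_zero]

end Infinitesimal

end Groth.Agent.H9.VF
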