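import Mathlib
import Groth.Prelude.Def_Versch
import Groth.Prelude.Def_SGA3b
import Groth.Agent.Lib.Helper9.VerschVF

/-!
# `F ∘ V = [p]` on the Frobenius twist
-/

set_option autoImplicit false

namespace Groth.Agent.H9.VF

open TensorProduct WithConv

section BaseChange

universe u

variable {R : Type u} [CommRing R] {S : Type u} [CommRing S] [Algebra R S]
  {A : Type u} [CommRing A] [HopfAlgebra R A]

theorem comul_one_tmul (a : A) :
    Coalgebra.comul (R := S) ((1 : S) ⊗ₜ[R] a) =
      TensorProduct.AlgebraTensorModule.tensorTensorTensorComm R S R S S S A A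
        (((1 : S) ⊗ₜ[S] (1 : S)) ⊗ₜ[R] Coalgebra.comul (R := R) a) := by
  rw [TensorProduct.comul_tmul]
  simp

/-- Convolution of base-changed maps, evaluated on `1 ⊗ a`. -/
theorem convMul_one_tmul (F G : WithConv ((S ⊗[R] A) →ₐ[S] (S ⊗[R] A)))
    (f g : WithConv (A →ₐ[R] A))
    (hF : ∀ a, F ((1 : S) ⊗ₜ[R] a) = (1 : S) ⊗ₜ[R] f a)
    (hG : ∀ a, G ((1 : S) ⊗ₜ[R] a) = (1 : S) ⊗ₜ[R] g a) (a : A) :
    (F * G) ((1 : S) ⊗ₜ[R] a) = (1 : S) ⊗ₜ[R] (f * g) a := by
  rw [AlgHom.convMul_apply, AlgHom.convMul_apply, comul_one_tmul]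
  generalize Coalgebra.comul (R := R) a = t
  induction t using TensorProduct.induction_on with
  | zero => simp
  | tmul c d =>
    simp only [TensorProduct.AlgebraTensorModule.tensorTensorTensorComm_tmul,
      Algebra.TensorProduct.lift_tmul]
    change F ((1 : S) ⊗ₜ[R] c) * G ((1 : S) ⊗ₜ[R] d) = _
    rw [hF, hG, Algebra.TensorProduct.tmul_mul_tmul, one_mul]
  | add t t' ht ht' => simp only [TensorProduct.tmul_add, map_add, ht, ht']

theorem convOne_one_tmul (a : A) :
    (1 : WithConv ((S ⊗[R] A) →ₐ[S] (S ⊗[R] A))) ((1 : S) ⊗ₜ[R] a) =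
      (1 : S) ⊗ₜ[R] (1 : WithConv (A →ₐ[R] A)) a := by
  rw [AlgHom.convOne_apply, AlgHom.convOne_apply, TensorProduct.counit_tmul]
  simp [Algebra.algebraMap_eq_smul_one, TensorProduct.smul_tmul', TensorProduct.tmul_smul,
    Algebra.TensorProduct.one_def]

theorem convPow_one_tmul (F : WithConv ((S ⊗[R] A) →ₐ[S] (S ⊗[R] A)))
    (f : WithConv (A →ₐ[R] A))
    (hF : ∀ a, F ((1 : S) ⊗ₜ[R] a) = (1 : S) ⊗ₜ[R] f a) (n : ℕ) (a : A) :
    (F ^ n) ((1 : S) ⊗ₜ[R] a) = (1 : S) ⊗ₜ[R] (f ^ n) a := by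
  induction n generalizing a with
  | zero => rw [pow_zero, pow_zero, convOne_one_tmul]
  | succ n ih => rw [pow_succ, pow_succ, convMul_one_tmul (F ^ n) F (f ^ n) f ih hF]

/-- Base change of the `n`-th power endomorphism. -/
theorem powConv_one_tmul (n : ℕ) (a : A) :
    SGA3b.powConv S (S ⊗[R] A) n ((1 : S) ⊗ₜ[R] a) = (1 : S) ⊗ₜ[R] SGA3b.powConv R A n a :=
  convPow_one_tmul (toConv (AlgHom.id S (S ⊗[R] A))) (toConv (AlgHom.id R A))
    (fun _ => rfl) n a

theorem powConv_tmul (n : ℕ) (s : S) (a : A) :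
    SGA3b.powConv S (S ⊗[R] A) n (s ⊗ₜ[R] a) = s ⊗ₜ[R] SGA3b.powConv R A n a := by
  have h : s ⊗ₜ[R] a = s • ((1 : S) ⊗ₜ[R] a) := by
    rw [TensorProduct.smul_tmul', smul_eq_mul, mul_one]
  rw [h, map_smul, powConv_one_tmul, TensorProduct.smul_tmul', smul_eq_mul, mul_one]

end BaseChange

section FV

universe u

variable (p : ℕ) [Fact p.Prime] {R : Type u} [CommRing R] [CharP R p]
  {A : Type u} [CommRing A] [HopfAlgebra R A] [Coalgebra.IsCocomm R A]
  [Module.Finite R A] [Module.Projective R A]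

omit [Fact p.Prime] [CharP R p] [Coalgebra.IsCocomm R A] [Module.Finite R A]
  [Module.Projective R A] in
theorem dual_pow_one (x : CartDual.D R A) (n : ℕ) : (x ^ n) 1 = (x 1) ^ n := by
  induction n with
  | zero =>
    rw [pow_zero, pow_zero]
    exact CartDual.counit_one' R A
  | succ n ih =>
    rw [pow_succ, pow_succ, ← ih]
    exact CartDual.counit_mul' R A (x ^ n) x

/-- The Verschiebung is linear for the right-hand structure. -/
theorem v_algebraMap (v : A →+* FrobAlg.BaseChange p R A) (hv : Versch.IsVerschiebung p R A v)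
    (r : R) : v (algebraMap R A r) = (1 : A) ⊗ₜ[R] FrobAlg.toTwist p R r := by
  apply Versch.evTw_injective p R A
  intro x
  rw [(Versch.isVerschiebung_iff p R A v).1 hv, Versch.evTw_tmul', Algebra.algebraMap_eq_smul_one,
    CartDual.coe_apply, map_smul, ← CartDual.coe_apply, dual_pow_one, smul_eq_mul, map_mul,
    mul_comm]

theorem charP_tw_tensor : CharP (FrobAlg.Twist p R ⊗[R] A) p := by
  refine charP_of_injective_algebraMap (R := FrobAlg.Twist p R) ?_ p
  intro s t h
  have h1 := congrArg (Coalgebra.counit (R := FrobAlg.Twist p R)) h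
  simpa [Algebra.algebraMap_eq_smul_one, Algebra.TensorProduct.one_def, TensorProduct.smul_tmul']
    using h1

theorem comm_pow [CharP A p] (w : FrobAlg.BaseChange p R A) :
    (Algebra.TensorProduct.comm R A (FrobAlg.Twist p R) w) ^ p =
      (1 : FrobAlg.Twist p R) ⊗ₜ[R] FrobAlg.relFrob p R A w := by
  haveI : CharP (FrobAlg.Twist p R ⊗[R] A) p := charP_tw_tensor p
  haveI : ExpChar (FrobAlg.Twist p R ⊗[R] A) p := ExpChar.prime Fact.out
  induction w using TensorProduct.induction_on with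
  | zero => simp [zero_pow (Fact.out : p.Prime).ne_zero]
  | add w w' hw hw' => rw [map_add, add_pow_expChar, hw, hw', map_add, TensorProduct.tmul_add]
  | tmul a s =>
    rw [Algebra.TensorProduct.comm_tmul, Algebra.TensorProduct.tmul_pow, relFrob_tmul,
      mul_comm, ← Algebra.smul_def, TensorProduct.tmul_smul, TensorProduct.smul_tmul',
      Algebra.smul_def, mul_one, FrobAlg.algebraMap_twist, map_pow, RingEquiv.apply_symm_apply]

/-- **S15891**: `v ∘ F*` transported to `Tw ⊗ A` is `[p]*` of the base change. -/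
theorem verschiebung_relFrob [CharP A p] (v : A →+* FrobAlg.BaseChange p R A)
    (hv : Versch.IsVerschiebung p R A v) (y : FrobAlg.Twist p R ⊗[R] A) :
    Algebra.TensorProduct.comm R A (FrobAlg.Twist p R)
        (v (FrobAlg.relFrob p R A ((Algebra.TensorProduct.comm R A (FrobAlg.Twist p R)).symm y))) =
      SGA3b.powConv (FrobAlg.Twist p R) (FrobAlg.Twist p R ⊗[R] A) p y := by
  induction y using TensorProduct.induction_on with
  | zero => simp
  | add y y' hy hy' => simp only [map_add, hy, hy']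
  | tmul s a =>
    rw [powConv_tmul, Algebra.TensorProduct.comm_symm_tmul, relFrob_tmul, map_mul, map_pow,
      v_algebraMap p v hv, map_mul, map_pow, comm_pow, relFrob_verschiebung p v hv,
      Algebra.TensorProduct.comm_tmul, RingEquiv.apply_symm_apply,
      Algebra.TensorProduct.tmul_mul_tmul, one_mul, mul_one]

end FV

end Groth.Agent.H9.VF
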