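import Mathlib
import Groth.Prelude.Def_W4c6intromoduliQuartic

/-!
# Binary quartics: explicit coefficients and invariants via root minors (helper9)
-/

set_option autoImplicit false

universe u

namespace Groth.Agent.H9.Quartic

open W4c6intromoduli

variable {R : Type u} [CommRing R]

/-- the minor `la j * mu i - la i * mu j` -/
def mn (la mu : Fin 4 → R) (i j : Fin 4) : R := la j * mu i - la i * mu j

lemma coeff_quartic (a0 a1 a2 a3 a4 : R) (i : ℕ) :
    (Polynomial.C a0 + Polynomial.C a1 * Polynomial.X + Polynomial.C a2 * Polynomial.X ^ 2 +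
      Polynomial.C a3 * Polynomial.X ^ 3 + Polynomial.C a4 * Polynomial.X ^ 4).coeff i =
    (if i = 0 then a0 else 0) + (if i = 1 then a1 else 0) + (if i = 2 then a2 else 0) +
      (if i = 3 then a3 else 0) + (if i = 4 then a4 else 0) := by
  simp only [Polynomial.coeff_add, Polynomial.coeff_C_mul, Polynomial.coeff_X_pow,
    Polynomial.coeff_X, Polynomial.coeff_C, mul_ite, mul_one, mul_zero]
  congr 2
  congr 2
  split_ifs <;> first | rfl | omega

lemma rootPoly_eq (la mu : Fin 4 → R) : rootPoly la mu =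
    Polynomial.C (mu 0 * mu 1 * mu 2 * mu 3) +
    Polynomial.C (-(la 0 * mu 1 * mu 2 * mu 3 + mu 0 * la 1 * mu 2 * mu 3 +
      mu 0 * mu 1 * la 2 * mu 3 + mu 0 * mu 1 * mu 2 * la 3)) * Polynomial.X +
    Polynomial.C (la 0 * la 1 * mu 2 * mu 3 + la 0 * mu 1 * la 2 * mu 3 + la 0 * mu 1 * mu 2 * la 3 +
      mu 0 * la 1 * la 2 * mu 3 + mu 0 * la 1 * mu 2 * la 3 + mu 0 * mu 1 * la 2 * la 3) *
        Polynomial.X ^ 2 +
    Polynomial.C (-(la 0 * la 1 * la 2 * mu 3 + la 0 * la 1 * mu 2 * la 3 +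
      la 0 * mu 1 * la 2 * la 3 + mu 0 * la 1 * la 2 * la 3)) * Polynomial.X ^ 3 +
    Polynomial.C (la 0 * la 1 * la 2 * la 3) * Polynomial.X ^ 4 := by
  rw [rootPoly, Fin.prod_univ_four]
  simp only [map_add, map_mul, map_neg]
  ring

lemma coef_zero (la mu : Fin 4 → R) : coef la mu 0 = mu 0 * mu 1 * mu 2 * mu 3 := by
  rw [coef, rootPoly_eq, coeff_quartic]; norm_num

lemma coef_one (la mu : Fin 4 → R) : coef la mu 1 =
    -(la 0 * mu 1 * mu 2 * mu 3 + mu 0 * la 1 * mu 2 * mu 3 +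
      mu 0 * mu 1 * la 2 * mu 3 + mu 0 * mu 1 * mu 2 * la 3) := by
  rw [coef, rootPoly_eq, coeff_quartic]; norm_num

lemma coef_two (la mu : Fin 4 → R) : coef la mu 2 =
    la 0 * la 1 * mu 2 * mu 3 + la 0 * mu 1 * la 2 * mu 3 + la 0 * mu 1 * mu 2 * la 3 +
      mu 0 * la 1 * la 2 * mu 3 + mu 0 * la 1 * mu 2 * la 3 + mu 0 * mu 1 * la 2 * la 3 := by
  rw [coef, rootPoly_eq, coeff_quartic]; norm_num

lemma coef_three (la mu : Fin 4 → R) : coef la mu 3 =
    -(la 0 * la 1 * la 2 * mu 3 + la 0 * la 1 * mu 2 * la 3 +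
      la 0 * mu 1 * la 2 * la 3 + mu 0 * la 1 * la 2 * la 3) := by
  rw [coef, rootPoly_eq, coeff_quartic]; norm_num

lemma coef_four (la mu : Fin 4 → R) : coef la mu 4 = la 0 * la 1 * la 2 * la 3 := by
  rw [coef, rootPoly_eq, coeff_quartic]; norm_num

lemma disc_eq (la mu : Fin 4 → R) : disc la mu =
    mn la mu 0 1 ^ 2 * mn la mu 0 2 ^ 2 * mn la mu 0 3 ^ 2 *
      mn la mu 1 2 ^ 2 * mn la mu 1 3 ^ 2 * mn la mu 2 3 ^ 2 := by
  rw [disc]
  have : (Finset.univ.filter fun p : Fin 4 × Fin 4 => p.1 < p.2) =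
      {(0, 1), (0, 2), (0, 3), (1, 2), (1, 3), (2, 3)} := by decide
  rw [this]
  simp [Finset.prod_insert, mn, mul_assoc]

/-- the three products of complementary minors -/
def cA (la mu : Fin 4 → R) : R := mn la mu 0 1 * mn la mu 2 3
def cB (la mu : Fin 4 → R) : R := mn la mu 0 2 * mn la mu 3 1
def cC (la mu : Fin 4 → R) : R := mn la mu 0 3 * mn la mu 1 2

lemma cA_add_cB_add_cC (la mu : Fin 4 → R) : cA la mu + cB la mu + cC la mu = 0 := by
  simp only [cA, cB, cC, mn]; ring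

lemma two_mul_invI (la mu : Fin 4 → R) :
    2 * invI (coef la mu) = cA la mu ^ 2 + cB la mu ^ 2 + cC la mu ^ 2 := by
  rw [invI, coef_zero, coef_one, coef_two, coef_three, coef_four]
  simp only [cA, cB, cC, mn]; ring

lemma invJ_eq (la mu : Fin 4 → R) :
    invJ (coef la mu) =
      (cA la mu - cB la mu) * (cB la mu - cC la mu) * (cC la mu - cA la mu) := by
  rw [invJ, coef_zero, coef_one, coef_two, coef_three, coef_four]
  simp only [cA, cB, cC, mn]; ring

end Groth.Agent.H9.Quartic
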