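import Mathlib

/-!
# Regularity of a Weierstrass scheme over a DVR at the origin of the special fibre
-/

namespace Groth.Agent.H9.WeierRegular

open Polynomial IsLocalRing WeierstrassCurve.Affine
open scoped Polynomial.Bivariate

section Basic

variable {R : Type*} [CommRing R] (W : WeierstrassCurve.Affine R)

theorem exists_const_sub_mem (z : W.CoordinateRing) :
    ∃ c : R, z - algebraMap R W.CoordinateRing c ∈
      Ideal.span {CoordinateRing.mk W (C X), CoordinateRing.mk W Y} := by
  obtain ⟨p, rfl⟩ := AdjoinRoot.mk_surjective z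
  obtain ⟨q, r, c, rfl⟩ : ∃ (q : R[X][Y]) (r : R[X]) (c : R), p = q * X + C (r * X + C c) :=
    ⟨divX p, divX (p.coeff 0), (p.coeff 0).coeff 0, by
      rw [divX_mul_X_add (p.coeff 0), divX_mul_X_add p]⟩
  refine ⟨c, ?_⟩
  have h2 : CoordinateRing.mk W (q * X + C (r * X + C c)) - algebraMap R W.CoordinateRing c =
      CoordinateRing.mk W q * CoordinateRing.mk W Y +
      CoordinateRing.mk W (C r) * CoordinateRing.mk W (C X) := by
    have : algebraMap R W.CoordinateRing c = CoordinateRing.mk W (C (C c)) := rfl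
    rw [this]
    simp only [map_add, map_mul]
    ring
  rw [h2]
  apply Ideal.add_mem
  · exact Ideal.mul_mem_left _ _ (Ideal.subset_span (by simp))
  · exact Ideal.mul_mem_left _ _ (Ideal.subset_span (by simp))

theorem a6_mem : algebraMap R W.CoordinateRing W.a₆ ∈
    Ideal.span {CoordinateRing.mk W (C X), CoordinateRing.mk W Y} := by
  have h0 : CoordinateRing.mk W W.polynomial = 0 := AdjoinRoot.mk_self
  have h1 : algebraMap R W.CoordinateRing W.a₆ =
      CoordinateRing.mk W (Y + C (C W.a₁ * X + C W.a₃)) * CoordinateRing.mk W Y -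
      CoordinateRing.mk W (C (X ^ 2 + C W.a₂ * X + C W.a₄)) * CoordinateRing.mk W (C X) := by
    have : algebraMap R W.CoordinateRing W.a₆ = CoordinateRing.mk W (C (C W.a₆)) := rfl
    rw [this, ← add_zero (CoordinateRing.mk W (C (C W.a₆))), ← h0, ← map_mul, ← map_mul,
      ← map_add, ← map_sub]
    congr 1
    rw [WeierstrassCurve.Affine.polynomial]
    simp only [C_add, C_mul, C_pow]
    ring
  rw [h1]
  apply Ideal.sub_mem
  · exact Ideal.mul_mem_left _ _ (Ideal.subset_span (by simp))
  · exact Ideal.mul_mem_left _ _ (Ideal.subset_span (by simp))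

end Basic

section DVR

variable {R : Type*} [CommRing R] [IsDomain R] [IsDiscreteValuationRing R]
  (W : WeierstrassCurve.Affine R)

theorem eq_span (h6 : W.a₆ ∈ maximalIdeal R) (h6' : W.a₆ ∉ maximalIdeal R ^ 2)
    (P : Ideal W.CoordinateRing) [hPm : P.IsMaximal]
    (hP : ∀ r ∈ maximalIdeal R, algebraMap R W.CoordinateRing r ∈ P)
    (hx : CoordinateRing.mk W (C X) ∈ P) (hy : CoordinateRing.mk W Y ∈ P) :
    P = Ideal.span {CoordinateRing.mk W (C X), CoordinateRing.mk W Y} := by
  have hspanP : Ideal.span {CoordinateRing.mk W (C X), CoordinateRing.mk W Y} ≤ P := by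
    rw [Ideal.span_le]
    rintro _ (rfl | rfl)
    · exact hx
    · exact hy
  apply le_antisymm _ hspanP
  intro z hz
  obtain ⟨c, hc⟩ := exists_const_sub_mem W z
  have hcP : algebraMap R W.CoordinateRing c ∈ P := by
    have := P.sub_mem hz (hspanP hc)
    simpa using this
  have hcm : c ∈ maximalIdeal R := by
    by_contra hnot
    have hu : IsUnit c := by
      rwa [mem_maximalIdeal, mem_nonunits_iff, not_not] at hnot
    exact hPm.ne_top (Ideal.eq_top_of_isUnit_mem _ hcP (hu.map _))
  obtain ⟨π, hπ⟩ := IsDiscreteValuationRing.exists_irreducible R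
  have hmπ := hπ.maximalIdeal_eq
  have h6π : π ∣ W.a₆ := by
    rw [hmπ, Ideal.mem_span_singleton] at h6
    exact h6
  have hcπ : π ∣ c := by
    rw [hmπ, Ideal.mem_span_singleton] at hcm
    exact hcm
  obtain ⟨u, hu⟩ := h6π
  have huu : IsUnit u := by
    by_contra hnu
    apply h6'
    have hum : u ∈ maximalIdeal R := (mem_maximalIdeal u).mpr hnu
    rw [hmπ, Ideal.mem_span_singleton] at hum
    obtain ⟨u', rfl⟩ := hum
    rw [hmπ, Ideal.span_singleton_pow, Ideal.mem_span_singleton]
    exact ⟨u', by rw [hu]; ring⟩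
  obtain ⟨c', rfl⟩ := hcπ
  have hπspan : algebraMap R W.CoordinateRing π ∈
      Ideal.span {CoordinateRing.mk W (C X), CoordinateRing.mk W Y} := by
    have ha := a6_mem W
    obtain ⟨uu, rfl⟩ := huu
    have : algebraMap R W.CoordinateRing π =
        algebraMap R W.CoordinateRing W.a₆ * algebraMap R W.CoordinateRing ((uu⁻¹ : Rˣ) : R) := by
      rw [hu, ← map_mul, mul_assoc, Units.mul_inv, mul_one]
    rw [this]
    exact Ideal.mul_mem_right _ _ ha
  have : z = (z - algebraMap R W.CoordinateRing (π * c')) +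
      algebraMap R W.CoordinateRing π * algebraMap R W.CoordinateRing c' := by
    rw [map_mul]; ring
  rw [this]
  exact Ideal.add_mem _ hc (Ideal.mul_mem_right _ _ hπspan)

theorem two_le_height (P : Ideal W.CoordinateRing) [hPm : P.IsMaximal]
    (hP : ∀ r ∈ maximalIdeal R, algebraMap R W.CoordinateRing r ∈ P)
    (hx : CoordinateRing.mk W (C X) ∈ P) : 2 ≤ P.height := by
  have hPp : P.IsPrime := hPm.isPrime
  have hnoeth : IsNoetherianRing W.CoordinateRing :=
    inferInstanceAs (IsNoetherianRing (R[X][Y] ⧸ Ideal.span {W.polynomial}))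
  let res := IsLocalRing.residue R
  let f := CoordinateRing.map W res
  let Q := RingHom.ker f
  have hQprime : Q.IsPrime := RingHom.ker_isPrime f
  have key : ∀ p : R[X], p.map res = 0 → CoordinateRing.mk W (C p) ∈ P := by
    intro p hp
    rw [p.as_sum_range_C_mul_X_pow]
    simp only [map_sum, C_mul, C_pow, map_mul, map_pow]
    apply Ideal.sum_mem
    intro i _
    apply Ideal.mul_mem_right
    have hci : p.coeff i ∈ maximalIdeal R := by
      have := congrArg (fun r => r.coeff i) hp
      simp only [coeff_map, coeff_zero] at this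
      exact (residue_eq_zero_iff _).mp this
    exact hP _ hci
  have hQP : Q ≤ P := by
    intro z hz
    obtain ⟨p, q, rfl⟩ := CoordinateRing.exists_smul_basis_eq z
    rw [RingHom.mem_ker] at hz
    simp_rw [f, map_add, CoordinateRing.map_smul, map_one, CoordinateRing.map_mk,
      Polynomial.map_X] at hz
    obtain ⟨hp, hq⟩ := CoordinateRing.smul_basis_eq_zero hz
    rw [CoordinateRing.smul, CoordinateRing.smul]
    exact P.add_mem (P.mul_mem_right _ (key p hp)) (P.mul_mem_right _ (key q hq))
  have hxQ : CoordinateRing.mk W (C X) ∉ Q := by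
    intro h
    rw [RingHom.mem_ker, CoordinateRing.map_mk] at h
    have := CoordinateRing.XClass_ne_zero (W' := W.map res) 0
    apply this
    simpa [CoordinateRing.XClass] using h
  have hQne : Q ≠ ⊥ := by
    obtain ⟨π, hπ⟩ := IsDiscreteValuationRing.exists_irreducible R
    intro hbot
    have hπQ : algebraMap R W.CoordinateRing π ∈ Q := by
      rw [RingHom.mem_ker]
      show f (CoordinateRing.mk W (C (C π))) = 0
      rw [CoordinateRing.map_mk]
      have : res π = 0 := (residue_eq_zero_iff _).mpr
        (hπ.maximalIdeal_eq ▸ Ideal.mem_span_singleton_self π)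
      simp [this]
    rw [hbot, Ideal.mem_bot] at hπQ
    have := (FaithfulSMul.algebraMap_injective R W.CoordinateRing) (hπQ.trans (map_zero _).symm)
    exact hπ.ne_zero this
  have hlt1 : (⊥ : Ideal W.CoordinateRing) < Q := bot_lt_iff_ne_bot.mpr hQne
  have hlt2 : Q < P := lt_of_le_of_ne hQP (fun h => hxQ (h ▸ hx))
  have hbp : (⊥ : Ideal W.CoordinateRing).IsPrime := Ideal.isPrime_bot
  have h1 : (⊥ : Ideal W.CoordinateRing).height < Q.height :=
    Ideal.height_strict_mono_of_isPrime_of_isPrime hlt1
  have h2 : Q.height < P.height := Ideal.height_strict_mono_of_isPrime_of_isPrime hlt2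
  have h3 : 1 ≤ Q.height := Order.one_le_iff_pos.mpr (lt_of_le_of_lt zero_le h1)
  have h4 : Q.height + 1 ≤ P.height := Order.add_one_le_of_lt h2
  calc (2 : ℕ∞) = 1 + 1 := one_add_one_eq_two.symm
    _ ≤ Q.height + 1 := by gcongr
    _ ≤ P.height := h4

theorem regular (h6 : W.a₆ ∈ maximalIdeal R) (h6' : W.a₆ ∉ maximalIdeal R ^ 2)
    (P : Ideal W.CoordinateRing) [hPm : P.IsMaximal]
    (hP : ∀ r ∈ maximalIdeal R, algebraMap R W.CoordinateRing r ∈ P)
    (hx : CoordinateRing.mk W (C X) ∈ P) (hy : CoordinateRing.mk W Y ∈ P) :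
    IsRegularLocalRing (Localization.AtPrime P) := by
  have hPp : P.IsPrime := hPm.isPrime
  have hnoeth : IsNoetherianRing W.CoordinateRing :=
    inferInstanceAs (IsNoetherianRing (R[X][Y] ⧸ Ideal.span {W.polynomial}))
  apply IsRegularLocalRing.of_spanFinrank_maximalIdeal_le
  rw [IsLocalization.AtPrime.ringKrullDim_eq_height P (Localization.AtPrime P)]
  have h2 := two_le_height W P hP hx
  have hspan : maximalIdeal (Localization.AtPrime P) =
      Ideal.span ((algebraMap W.CoordinateRing (Localization.AtPrime P)) ''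
        {CoordinateRing.mk W (C X), CoordinateRing.mk W Y}) := by
    rw [← Localization.AtPrime.map_eq_maximalIdeal, ← Ideal.map_span, ← eq_span W h6 h6' P hP hx hy]
  have hfin : (maximalIdeal (Localization.AtPrime P)).spanFinrank ≤ 2 := by
    rw [hspan]
    refine (Submodule.spanFinrank_span_le_ncard_of_finite (Set.toFinite _)).trans ?_
    refine (Set.ncard_image_le (Set.toFinite _)).trans ?_
    refine (Set.ncard_insert_le _ _).trans ?_
    rw [Set.ncard_singleton]
  have h5 : ((maximalIdeal (Localization.AtPrime P)).spanFinrank : ℕ∞) ≤ P.height :=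
    le_trans (by exact_mod_cast hfin) h2
  exact_mod_cast WithBot.coe_le_coe.mpr h5

end DVR

end Groth.Agent.H9.WeierRegular
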