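import Mathlib

set_option autoImplicit false
open Polynomial

namespace Groth.Agent.H9.WeilRecip

open scoped ComplexConjugate in
theorem weil (P : ℤ[X]) (hP : P.Monic) (q : ℕ) (hq : 0 < q)
    (hweil : ∀ z ∈ P.aroots ℂ, ‖z‖ = Real.sqrt (q : ℝ))
    (hnr : ∀ z ∈ P.aroots ℂ, z.im ≠ 0) :
    Even P.natDegree ∧ ∀ r ≤ P.natDegree / 2,
      P.coeff (P.natDegree / 2 - r) = (q : ℤ) ^ r * P.coeff (P.natDegree / 2 + r) := by
  classical
  set Pc : ℂ[X] := P.map (algebraMap ℤ ℂ) with hPc
  have hmon : Pc.Monic := hP.map _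
  have hsplit : Pc.Splits := IsAlgClosed.splits Pc
  set S : Multiset ℂ := Pc.roots with hS
  have hSa : P.aroots ℂ = S := rfl
  rw [hSa] at hweil hnr
  have hn : Pc.natDegree = P.natDegree := hP.natDegree_map _
  have hcard : S.card = P.natDegree := by
    rw [← hn]; exact hsplit.natDegree_eq_card_roots.symm
  have hcoeff : ∀ i, Pc.coeff i = (P.coeff i : ℂ) := by
    intro i; rw [hPc, coeff_map]; simp
  -- conj invariance
  have hconj : S.map (starRingEnd ℂ) = S := by
    have : Pc.map (starRingEnd ℂ) = Pc := by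
      rw [hPc, Polynomial.map_map]; congr 1; ext; simp
    rw [← hsplit.roots_map (starRingEnd ℂ), this]
  have hqpos : (0 : ℝ) < q := by exact_mod_cast hq
  have hqne : (q : ℂ) ≠ 0 := by exact_mod_cast hq.ne'
  have hnorm : ∀ z ∈ S, z * conj z = (q : ℂ) := by
    intro z hz
    rw [Complex.mul_conj', hweil z hz]
    norm_cast
    rw [Real.sq_sqrt hqpos.le]
  -- splitting
  set Sp : Multiset ℂ := S.filter (fun z => 0 < z.im) with hSp
  set Sm : Multiset ℂ := S.filter (fun z => z.im < 0) with hSm
  have hsplitS : Sp + Sm = S := by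
    have h1 := Multiset.filter_add_not (fun z : ℂ => 0 < z.im) S
    have h2 : S.filter (fun z => ¬ 0 < z.im) = Sm := by
      apply Multiset.filter_congr
      intro z hz
      have := hnr z hz
      constructor
      · intro h; exact lt_of_le_of_ne (not_lt.mp h) this
      · intro h; exact not_lt.mpr h.le
    rw [h2] at h1; exact h1
  have hSm_eq : Sm = Sp.map (starRingEnd ℂ) := by
    rw [hSm, hSp]
    conv_lhs => rw [← hconj]
    rw [Multiset.filter_map]
    congr 1
    apply Multiset.filter_congr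
    intro z _
    simp
  obtain ⟨d, hd⟩ : ∃ d, d = Sp.card := ⟨_, rfl⟩
  have hcard2 : P.natDegree = d + d := by
    rw [← hcard, ← hsplitS, Multiset.card_add, hSm_eq, Multiset.card_map, hd]
  have hhalf : P.natDegree / 2 = d := by omega
  have hSprod : S.prod = (q : ℂ) ^ d := by
    have h1 : (Sp.map (fun z => z * conj z)).prod = Sp.prod * (Sp.map (starRingEnd ℂ)).prod := by
      rw [Multiset.prod_map_mul, Multiset.map_id']
    have h2 : Sp.map (fun z => z * conj z) = Sp.map (fun _ => (q : ℂ)) := by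
      apply Multiset.map_congr rfl
      intro z hz
      exact hnorm z (Multiset.mem_of_mem_filter hz)
    rw [← hsplitS, Multiset.prod_add, hSm_eq, ← h1, h2, Multiset.map_const', Multiset.prod_replicate,
      hd]
  have hevalP : ∀ y : ℂ, Pc.eval y = (S.map (fun z => y - z)).prod := by
    intro y
    rw [hsplit.eval_eq_prod_roots, hmon.leadingCoeff, one_mul]
  have hc : (P.coeff 0 : ℂ) = (q : ℂ) ^ d := by
    rw [← hcoeff, coeff_zero_eq_eval_zero, hevalP]
    simp only [zero_sub]
    rw [Multiset.prod_map_neg, hcard, hcard2, hSprod]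
    rw [← two_mul, pow_mul]; simp
  -- functional equation
  have hfe : ∀ x : ℂ, x ≠ 0 →
      x ^ P.natDegree * Pc.eval ((q : ℂ) / x) = (q : ℂ) ^ d * Pc.eval x := by
    intro x hx
    have e1 : x ^ P.natDegree * Pc.eval ((q : ℂ) / x) = (S.map (fun z => (q : ℂ) - x * z)).prod := by
      rw [hevalP, ← hcard]
      have : (S.map (fun z => x * ((q : ℂ) / x - z))).prod
          = (S.map (fun _ => x)).prod * (S.map (fun z => (q : ℂ) / x - z)).prod :=
        Multiset.prod_map_mul
      rw [Multiset.map_const', Multiset.prod_replicate] at this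
      rw [← this]
      congr 1
      apply Multiset.map_congr rfl
      intro z _
      field_simp
    have e2 : (q : ℂ) ^ d * Pc.eval x = (S.map (fun z => (q : ℂ) - x * z)).prod := by
      have hA : (q : ℂ) ^ d = (S.map (fun z => -z)).prod := by
        rw [← hc, ← hcoeff, coeff_zero_eq_eval_zero, hevalP]
        simp only [zero_sub]
      have hB : Pc.eval x = (S.map (fun z => x - conj z)).prod := by
        rw [hevalP]
        conv_lhs => rw [← hconj]
        rw [Multiset.map_map]
        rfl
      rw [hA, hB, ← Multiset.prod_map_mul]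
      congr 1
      apply Multiset.map_congr rfl
      intro z hz
      have := hnorm z hz
      linear_combination this
    rw [e1, e2]
  obtain ⟨n, hn'⟩ : ∃ n, n = P.natDegree := ⟨_, rfl⟩
  rw [← hn'] at hfe hcard2 hhalf hn
  set Q : ℂ[X] := ∑ i ∈ Finset.range (n + 1),
    C ((P.coeff (n - i) : ℂ) * (q : ℂ) ^ (n - i)) * X ^ i with hQ
  have hQeval : ∀ x : ℂ, x ≠ 0 → Q.eval x = (C ((q : ℂ) ^ d) * Pc).eval x := by
    intro x hx
    rw [eval_mul, eval_C, ← hfe x hx]
    rw [hQ, eval_finsetSum]
    simp only [eval_mul, eval_C, eval_pow, eval_X]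
    rw [eval_eq_sum_range, hn, Finset.mul_sum]
    rw [← Finset.sum_range_reflect]
    refine Finset.sum_congr rfl fun j hj => ?_
    rw [Finset.mem_range] at hj
    have h1 : n + 1 - 1 - j = n - j := by omega
    have h2 : n - (n - j) = j := by omega
    rw [h1, h2, hcoeff, div_pow]
    have : x ^ n = x ^ (n - j) * x ^ j := by rw [← pow_add]; congr 1; omega
    rw [this]; field_simp
  have hQeq : Q = C ((q : ℂ) ^ d) * Pc := by
    apply eq_of_infinite_eval_eq
    apply Set.Infinite.mono (s := {0}ᶜ)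
    · intro x hx; exact hQeval x hx
    · exact (Set.finite_singleton (0 : ℂ)).infinite_compl
  have hQcoeff : ∀ i ≤ n, Q.coeff i = (P.coeff (n - i) : ℂ) * (q : ℂ) ^ (n - i) := by
    intro i hi
    rw [hQ, finsetSum_coeff]
    simp only [coeff_C_mul, coeff_X_pow]
    rw [Finset.sum_eq_single i]
    · simp
    · intro j _ hj; rw [if_neg (Ne.symm hj)]; simp
    · intro h; exact absurd (Finset.mem_range.mpr (by omega)) h
  rw [← hn']
  refine ⟨⟨d, hcard2⟩, fun r hr => ?_⟩
  rw [hhalf] at hr ⊢
  have h1 := hQcoeff (d + r) (by omega)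
  rw [hQeq, coeff_C_mul, hcoeff] at h1
  have h2 : n - (d + r) = d - r := by omega
  rw [h2] at h1
  have h3 : (q : ℂ) ^ d = (q : ℂ) ^ (d - r) * (q : ℂ) ^ r := by
    rw [← pow_add]; congr 1; omega
  rw [h3] at h1
  have h4 : ((q : ℂ)) ^ (d - r) ≠ 0 := pow_ne_zero _ hqne
  have h5 : (P.coeff (d - r) : ℂ) = (q : ℂ) ^ r * (P.coeff (d + r) : ℂ) := by
    apply mul_left_cancel₀ h4
    linear_combination -h1
  exact_mod_cast h5

end Groth.Agent.H9.WeilRecip
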