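import Mathlib
import Groth.Prelude.Def_W4c5suslinpi1abAdj

set_option autoImplicit false
set_option linter.unusedSectionVars false
universe v u
open CategoryTheory MonoidalCategory Functor.LaxMonoidal Functor.OplaxMonoidal

namespace Groth.Agent.H9.MonAdj

open W4c5suslinpi1ab

section
variable {C : Type u} [Category.{v} C] [MonoidalCategory C]
variable {D : Type u} [Category.{v} D] [MonoidalCategory D]
variable {L : C ⥤ D} {R : D ⥤ C} (adj : L ⊣ R) [L.OplaxMonoidal] [R.LaxMonoidal] [adj.IsMonoidal]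

lemma map_projR_counit (A : D) (B : C) :
    L.map (projR adj A B) ≫ adj.counit.app (A ⊗ L.obj B) =
      δ L (R.obj A) B ≫ (adj.counit.app A ▷ L.obj B) := by
  unfold projR
  rw [Functor.map_comp, Category.assoc, adj.map_μ_comp_counit_app_tensor]
  have h := δ_natural_right_assoc L (R.obj A) (adj.unit.app B)
    (adj.counit.app A ⊗ₘ adj.counit.app (L.obj B))
  dsimp at h
  rw [← h]
  congr 1
  rw [← id_tensorHom, tensorHom_comp_tensorHom, Category.id_comp, adj.left_triangle_components,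
    tensorHom_id]

lemma map_projL_counit (A : C) (B : D) :
    L.map (projL adj A B) ≫ adj.counit.app (L.obj A ⊗ B) =
      δ L A (R.obj B) ≫ (L.obj A ◁ adj.counit.app B) := by
  unfold projL
  rw [Functor.map_comp, Category.assoc, adj.map_μ_comp_counit_app_tensor]
  have h := δ_natural_left_assoc L (adj.unit.app A) (R.obj B)
    (adj.counit.app (L.obj A) ⊗ₘ adj.counit.app B)
  dsimp at h
  rw [← h]
  congr 1
  rw [← tensorHom_id, tensorHom_comp_tensorHom, Category.id_comp, adj.left_triangle_components,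
    id_tensorHom]

lemma projR_natural {A A' : D} {B B' : C} (a : A ⟶ A') (u : B ⟶ B') :
    (R.map a ⊗ₘ u) ≫ projR adj A' B' = projR adj A B ≫ R.map (a ⊗ₘ L.map u) := by
  unfold projR
  rw [← id_tensorHom, ← id_tensorHom, ← Category.assoc, tensorHom_comp_tensorHom, Category.comp_id,
    Category.assoc, ← μ_natural, ← Category.assoc, tensorHom_comp_tensorHom, Category.id_comp]
  congr 2
  exact (adj.unit_naturality u).symm

lemma projL_natural {A A' : C} {B B' : D} (a : A ⟶ A') (b : B ⟶ B') :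
    (a ⊗ₘ R.map b) ≫ projL adj A' B' = projL adj A B ≫ R.map (L.map a ⊗ₘ b) := by
  unfold projL
  rw [← tensorHom_id, ← tensorHom_id, ← Category.assoc, tensorHom_comp_tensorHom, Category.comp_id,
    Category.assoc, ← μ_natural, ← Category.assoc, tensorHom_comp_tensorHom, Category.id_comp]
  congr 2
  exact (adj.unit_naturality a).symm

lemma cupShriek_natural {S : C ⥤ D} (adj' : R ⊣ S) [∀ (A : D) (B : C), IsIso (projR adj A B)]
    (A : C) {B B' : C} (u : B ⟶ B') :
    cupShriek adj adj' A B ≫ S.map (A ◁ u) = (S.obj A ◁ L.map u) ≫ cupShriek adj adj' A B' := by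
  unfold cupShriek
  rw [← Adjunction.homEquiv_naturality_right, ← Adjunction.homEquiv_naturality_left]
  congr 1
  have h := projR_natural adj (𝟙 (S.obj A)) u
  rw [CategoryTheory.Functor.map_id, id_tensorHom, id_tensorHom] at h
  have h' : inv (projR adj (S.obj A) B) ≫ (R.obj (S.obj A) ◁ u) =
      R.map (S.obj A ◁ L.map u) ≫ inv (projR adj (S.obj A) B') := by
    rw [IsIso.inv_comp_eq, ← Category.assoc, IsIso.eq_comp_inv, h]
  have we := whisker_exchange (adj'.counit.app A) u
  dsimp at we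
  rw [Category.assoc, ← we, ← Category.assoc, h', Category.assoc]

end

section Square
variable {S₀ : Type u} [Category.{v} S₀] [MonoidalCategory S₀]
variable {Y₁ : Type u} [Category.{v} Y₁] [MonoidalCategory Y₁]
variable {Y₂ : Type u} [Category.{v} Y₂] [MonoidalCategory Y₂]
variable {X : Type u} [Category.{v} X] [MonoidalCategory X]
variable {fL : S₀ ⥤ Y₁} {fR : Y₁ ⥤ S₀} (adjf : fL ⊣ fR) [fL.OplaxMonoidal] [fR.LaxMonoidal]
  [adjf.IsMonoidal] {gR : Y₂ ⥤ S₀}
  {pL : Y₁ ⥤ X} {pR : X ⥤ Y₁} (adjp : pL ⊣ pR) [pL.OplaxMonoidal] [pR.LaxMonoidal]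
  [adjp.IsMonoidal] {qL : Y₂ ⥤ X} {qR : X ⥤ Y₂} (adjq : qL ⊣ qR)
  (ν : qR ⋙ gR ⟶ pR ⋙ fR)

/-- the adjoint of the exterior product under `adjf`. -/
lemma adjf_extProd (A : Y₁) (B : Y₂) :
    fL.map (extProd adjf adjp adjq ν A B) ≫ adjf.counit.app (pR.obj (pL.obj A ⊗ qL.obj B)) =
      δ fL (fR.obj A) (gR.obj B) ≫ (adjf.counit.app A ▷ fL.obj (gR.obj B)) ≫
        (A ◁ (bcMor adjf adjq ν).app B) ≫ projL adjp A (qL.obj B) := by
  unfold extProd
  have n1 := adjf.counit_naturality (projL adjp A (qL.obj B))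
  have n2 := adjf.counit_naturality (A ◁ (bcMor adjf adjq ν).app B)
  dsimp at n1 n2
  rw [Functor.map_comp, Functor.map_comp, Category.assoc, Category.assoc, n1, reassoc_of% n2,
    ← Category.assoc, map_projR_counit, Category.assoc]

theorem adj_extProd (A : Y₁) (B : Y₂) :
    ((adjf.comp adjp).homEquiv _ _).symm (extProd adjf adjp adjq ν A B) =
      δ (fL ⋙ pL) (fR.obj A) (gR.obj B) ≫
        (pL.map (adjf.counit.app A) ⊗ₘ
          (pL.map ((bcMor adjf adjq ν).app B) ≫ adjp.counit.app (qL.obj B))) := by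
  rw [Adjunction.homEquiv_symm_apply, Adjunction.comp_counit_app, Functor.comp_map,
    ← Category.assoc, ← Functor.map_comp, adjf_extProd]
  simp only [Functor.map_comp, Category.assoc, map_projL_counit, comp_δ]
  congr 1
  have h1 := δ_natural_right pL A ((bcMor adjf adjq ν).app B)
  have h2 := δ_natural_left pL (adjf.counit.app A) (fL.obj (gR.obj B))
  dsimp at h1 h2
  rw [← reassoc_of% h1, ← reassoc_of% h2, ← MonoidalCategory.whiskerLeft_comp, MonoidalCategory.tensorHom_def]
  rfl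

end Square

section Shriek
variable {S₀ : Type u} [Category.{v} S₀] [MonoidalCategory S₀]
variable {Y₁ : Type u} [Category.{v} Y₁] [MonoidalCategory Y₁]
variable {Y₂ : Type u} [Category.{v} Y₂] [MonoidalCategory Y₂]
variable {X : Type u} [Category.{v} X] [MonoidalCategory X]
variable {fL : S₀ ⥤ Y₁} {fR : Y₁ ⥤ S₀} (adjf : fL ⊣ fR) [fL.OplaxMonoidal] [fR.LaxMonoidal]
  [adjf.IsMonoidal] {gR : Y₂ ⥤ S₀}
  {pL : Y₁ ⥤ X} {pR : X ⥤ Y₁} (adjp : pL ⊣ pR) [pL.OplaxMonoidal] [pR.LaxMonoidal]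
  [adjp.IsMonoidal] {qL : Y₂ ⥤ X} {qR : X ⥤ Y₂} (adjq : qL ⊣ qR)
  (ν : qR ⋙ gR ⟶ pR ⋙ fR)
  {fS : S₀ ⥤ Y₁} (adjf' : fR ⊣ fS) {gS : S₀ ⥤ Y₂} (adjg' : gR ⊣ gS)
  {pS : Y₁ ⥤ X} (adjp' : pR ⊣ pS)
  [∀ (A : Y₁) (B : S₀), IsIso (projR adjf A B)]
  [∀ (A : Y₁) (B : X), IsIso (projL adjp A B)]
  [∀ B : Y₂, IsIso ((bcMor adjf adjq ν).app B)]

lemma map_cupShriek_counit (A C : S₀) :
    fR.map (cupShriek adjf adjf' A C) ≫ adjf'.counit.app (A ⊗ C) =
      inv (projR adjf (fS.obj A) C) ≫ (adjf'.counit.app A ▷ C) := by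
  unfold cupShriek
  exact ((adjf'.homEquiv_symm_apply _ _ _).symm.trans (Equiv.symm_apply_apply _ _))

lemma map_prodShriek_counit (A B : S₀) :
    pR.map (prodShriek adjf adjf' adjg' adjp adjp' adjq ν A B) ≫
        adjp'.counit.app (fS.obj (A ⊗ B)) =
      inv (projL adjp (fS.obj A) (qL.obj (gS.obj B))) ≫
      (fS.obj A ◁ inv ((bcMor adjf adjq ν).app (gS.obj B))) ≫
      cupShriek adjf adjf' A (gR.obj (gS.obj B)) ≫ fS.map (A ◁ adjg'.counit.app B) := by
  unfold prodShriek
  exact ((adjp'.homEquiv_symm_apply _ _ _).symm.trans (Equiv.symm_apply_apply _ _))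

/-- the adjoint of the shriek product under the composite adjunction. -/
lemma adj_prodShriek (A B : S₀) :
    ((adjp'.comp adjf').homEquiv _ _).symm (prodShriek adjf adjf' adjg' adjp adjp' adjq ν A B) =
      fR.map (inv (projL adjp (fS.obj A) (qL.obj (gS.obj B)))) ≫
      fR.map (fS.obj A ◁ inv ((bcMor adjf adjq ν).app (gS.obj B))) ≫
      inv (projR adjf (fS.obj A) (gR.obj (gS.obj B))) ≫
      (adjf'.counit.app A ▷ gR.obj (gS.obj B)) ≫ (A ◁ adjg'.counit.app B) := by
  rw [Adjunction.homEquiv_symm_apply, Adjunction.comp_counit_app, Functor.comp_map,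
    ← Category.assoc, ← Functor.map_comp, map_prodShriek_counit]
  simp only [Functor.map_comp, Category.assoc]
  have n := adjf'.counit_naturality (A ◁ adjg'.counit.app B)
  dsimp at n
  rw [n, ← Category.assoc (fR.map (cupShriek adjf adjf' A (gR.obj (gS.obj B)))),
    map_cupShriek_counit]
  simp only [Category.assoc]

theorem extProd_adj_prodShriek (A B : S₀) :
    extProd adjf adjp adjq ν (fS.obj A) (gS.obj B) ≫
      ((adjp'.comp adjf').homEquiv _ _).symm
        (prodShriek adjf adjf' adjg' adjp adjp' adjq ν A B) =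
      (adjf'.counit.app A ⊗ₘ adjg'.counit.app B) := by
  rw [adj_prodShriek]
  unfold extProd
  simp only [Category.assoc]
  have e1 : fR.map (projL adjp (fS.obj A) (qL.obj (gS.obj B))) ≫
      fR.map (inv (projL adjp (fS.obj A) (qL.obj (gS.obj B)))) = 𝟙 _ := by
    rw [← Functor.map_comp, IsIso.hom_inv_id, CategoryTheory.Functor.map_id]
  have e2 : fR.map (fS.obj A ◁ (bcMor adjf adjq ν).app (gS.obj B)) ≫
      fR.map (fS.obj A ◁ inv ((bcMor adjf adjq ν).app (gS.obj B))) = 𝟙 _ := by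
    rw [← Functor.map_comp, ← MonoidalCategory.whiskerLeft_comp, IsIso.hom_inv_id,
      MonoidalCategory.whiskerLeft_id, CategoryTheory.Functor.map_id]
  rw [reassoc_of% e1, reassoc_of% e2, IsIso.hom_inv_id_assoc, MonoidalCategory.tensorHom_def]
  rfl

theorem shriek_square (A B : S₀) :
    extProd adjf adjp adjq ν (fS.obj A) (gS.obj B) ≫
      fR.map (pR.map (prodShriek adjf adjf' adjg' adjp adjp' adjq ν A B)) ≫
        fR.map (adjp'.counit.app (fS.obj (A ⊗ B))) =
      (fR.obj (fS.obj A) ◁ adjg'.counit.app B) ≫ projR adjf (fS.obj A) B ≫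
        fR.map (cupShriek adjf adjf' A B) := by
  rw [← Functor.map_comp, map_prodShriek_counit]
  unfold extProd
  simp only [Functor.map_comp, Category.assoc]
  have e1 : fR.map (projL adjp (fS.obj A) (qL.obj (gS.obj B))) ≫
      fR.map (inv (projL adjp (fS.obj A) (qL.obj (gS.obj B)))) = 𝟙 _ := by
    rw [← Functor.map_comp, IsIso.hom_inv_id, CategoryTheory.Functor.map_id]
  have e2 : fR.map (fS.obj A ◁ (bcMor adjf adjq ν).app (gS.obj B)) ≫
      fR.map (fS.obj A ◁ inv ((bcMor adjf adjq ν).app (gS.obj B))) = 𝟙 _ := by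
    rw [← Functor.map_comp, ← MonoidalCategory.whiskerLeft_comp, IsIso.hom_inv_id,
      MonoidalCategory.whiskerLeft_id, CategoryTheory.Functor.map_id]
  have hc := cupShriek_natural adjf adjf' A (adjg'.counit.app B)
  dsimp at hc
  rw [reassoc_of% e1, reassoc_of% e2, ← Functor.map_comp, hc, Functor.map_comp]
  have h := projR_natural adjf (𝟙 (fS.obj A)) (adjg'.counit.app B)
  rw [CategoryTheory.Functor.map_id, id_tensorHom, id_tensorHom] at h
  dsimp at h
  rw [← Category.assoc, ← Category.assoc, ← h]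

lemma extProd_natural {A A' : Y₁} {B B' : Y₂} (a : A ⟶ A') (b : B ⟶ B') :
    (fR.map a ⊗ₘ gR.map b) ≫ extProd adjf adjp adjq ν A' B' =
      extProd adjf adjp adjq ν A B ≫ fR.map (pR.map (pL.map a ⊗ₘ qL.map b)) := by
  unfold extProd
  rw [← Category.assoc, projR_natural, Category.assoc, Category.assoc, Category.assoc]
  congr 1
  rw [← Functor.map_comp, ← Functor.map_comp, ← Functor.map_comp, ← Functor.map_comp]
  congr 1
  have hbc := (bcMor adjf adjq ν).naturality b
  dsimp at hbc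
  have h1 : (a ⊗ₘ fL.map (gR.map b)) ≫ (A' ◁ (bcMor adjf adjq ν).app B') =
      (A ◁ (bcMor adjf adjq ν).app B) ≫ (a ⊗ₘ pR.map (qL.map b)) := by
    rw [← id_tensorHom, ← id_tensorHom, tensorHom_comp_tensorHom, tensorHom_comp_tensorHom,
      Category.comp_id, Category.id_comp, hbc]
  rw [← Category.assoc, h1, Category.assoc, projL_natural]

theorem fubini_iff (A B : S₀) (A' : Y₁) (B' : Y₂) (C' : X)
    (trA : A' ⟶ fS.obj A) (trB : B' ⟶ gS.obj B) (trC : C' ⟶ pS.obj (fS.obj (A ⊗ B)))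
    (m : pL.obj A' ⊗ qL.obj B' ⟶ C') :
    ((pL.map trA ⊗ₘ qL.map trB) ≫ prodShriek adjf adjf' adjg' adjp adjp' adjq ν A B =
        m ≫ trC) ↔
      (((adjf'.homEquiv _ _).symm trA ⊗ₘ (adjg'.homEquiv _ _).symm trB) =
        extProd adjf adjp adjq ν A' B' ≫ fR.map (pR.map m) ≫
          ((adjp'.comp adjf').homEquiv _ _).symm trC) := by
  have hiso : IsIso (extProd adjf adjp adjq ν A' B') := by
    unfold extProd
    infer_instance
  have hL : ((adjf'.homEquiv _ _).symm trA ⊗ₘ (adjg'.homEquiv _ _).symm trB) =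
      extProd adjf adjp adjq ν A' B' ≫ ((adjp'.comp adjf').homEquiv _ _).symm
        ((pL.map trA ⊗ₘ qL.map trB) ≫ prodShriek adjf adjf' adjg' adjp adjp' adjq ν A B) := by
    rw [Adjunction.homEquiv_naturality_left_symm, Functor.comp_map, ← Category.assoc,
      ← extProd_natural, Category.assoc, extProd_adj_prodShriek, tensorHom_comp_tensorHom,
      Adjunction.homEquiv_symm_apply, Adjunction.homEquiv_symm_apply]
  have hR : extProd adjf adjp adjq ν A' B' ≫ fR.map (pR.map m) ≫
          ((adjp'.comp adjf').homEquiv _ _).symm trC =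
      extProd adjf adjp adjq ν A' B' ≫ ((adjp'.comp adjf').homEquiv _ _).symm (m ≫ trC) := by
    rw [Adjunction.homEquiv_naturality_left_symm, Functor.comp_map]
  rw [hL, hR]
  constructor
  · intro h; rw [h]
  · intro h
    have h2 := (cancel_epi (extProd adjf adjp adjq ν A' B')).mp h
    exact ((adjp'.comp adjf').homEquiv _ _).symm.injective h2

end Shriek

end Groth.Agent.H9.MonAdj
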