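import Mathlib
import Groth.Prelude.Def_W4c5qllcourbesmultMultCrv
import Groth.Agent.Lib.Helper9.MultCrv

/-!
# Ranks of the graded pieces of the two canonical filtrations
-/

set_option autoImplicit false

namespace Groth.Agent.H9.MC

open MultCrv Module

universe u v

variable {R : Type u} [CommRing R] [IsDomain R] {n : ℕ}
variable {M : Type v} [AddCommGroup M] [Module (Rn R n) M] [Module R M]
  [IsScalarTower R (Rn R n) M]

/-- An `A`-submodule and an `R`-submodule with the same elements have the same `R`-rank. -/
theorem finrank_eq_of_mem_iff (N : Submodule (Rn R n) M) (N' : Submodule R M)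
    (h : ∀ x, x ∈ N ↔ x ∈ N') : finrank R N = finrank R N' := by
  let e : N ≃ₗ[R] N' :=
    { toFun := fun x => ⟨x.1, (h x.1).1 x.2⟩
      invFun := fun x => ⟨x.1, (h x.1).2 x.2⟩
      map_add' := fun _ _ => rfl
      map_smul' := fun _ _ => rfl
      left_inv := fun _ => rfl
      right_inv := fun _ => rfl }
  exact e.finrank_eq

theorem finite_submodule [IsNoetherian R M] (N : Submodule (Rn R n) M) : Module.Finite R N :=
  Module.Finite.of_injective (N.subtype.restrictScalars R) Subtype.val_injective

/-- Rank of a subquotient `N₂ / N₁`. -/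
theorem finrank_subquotient [IsNoetherian R M] {N₁ N₂ : Submodule (Rn R n) M} (h : N₁ ≤ N₂) :
    finrank R (↥N₂ ⧸ Submodule.comap N₂.subtype N₁) + finrank R N₁ = finrank R N₂ := by
  haveI : Module.Finite R N₂ := finite_submodule N₂
  have h1 := Submodule.finrank_quotient (R := R) (Submodule.comap N₂.subtype N₁)
  have h2 : finrank R ↥(Submodule.comap N₂.subtype N₁) = finrank R N₁ :=
    ((Submodule.comapSubtypeEquivOfLe h).restrictScalars R).finrank_eq
  have h3 : finrank R ↥(Submodule.comap N₂.subtype N₁) ≤ finrank R N₂ := by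
    haveI : IsNoetherian R N₂ :=
      isNoetherian_of_injective (N₂.subtype.restrictScalars R) Subtype.val_injective
    exact Submodule.finrank_le ((Submodule.comap N₂.subtype N₁).restrictScalars R)
  rw [h2] at h1 h3
  omega

end Groth.Agent.H9.MC

namespace Groth.Agent.H9.MC

open MultCrv Module

universe u v

variable {R : Type u} [CommRing R] [IsDomain R] {n : ℕ}
variable {M : Type v} [AddCommGroup M] [Module (Rn R n) M] [Module R M]
  [IsScalarTower R (Rn R n) M]

theorem mem_filt_iff (j : ℕ) (x : M) : x ∈ filt R n M j ↔ ∃ y : M, z R n ^ j • y = x := by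
  simp [filt, LinearMap.mem_range]

theorem mem_filt2_iff (j : ℕ) (x : M) : x ∈ filt2 R n M j ↔ z R n ^ j • x = 0 := by
  simp [filt2, Submodule.mem_torsionBy_iff]

theorem filt_succ_le (j : ℕ) : filt R n M (j + 1) ≤ filt R n M j := by
  intro x hx
  obtain ⟨y, rfl⟩ := (mem_filt_iff (j + 1) x).1 hx
  exact (mem_filt_iff j _).2 ⟨z R n • y, by rw [← mul_smul, ← pow_succ]⟩

theorem filt2_le_succ (j : ℕ) : filt2 R n M j ≤ filt2 R n M (j + 1) := by
  intro x hx
  rw [mem_filt2_iff] at hx ⊢
  rw [pow_succ', mul_smul, hx, smul_zero]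

/-- Rank–nullity for multiplication by `z^j`. -/
theorem finrank_filt_add_finrank_filt2 [IsNoetherian R M] (j : ℕ) :
    finrank R (filt R n M j) + finrank R (filt2 R n M j) = finrank R M := by
  haveI : Module.Finite R M := Module.IsNoetherian.finite R M
  let ζ : M →ₗ[R] M := (LinearMap.lsmul (Rn R n) M (z R n ^ j)).restrictScalars R
  have h1 : finrank R (LinearMap.range ζ) + finrank R (LinearMap.ker ζ) = finrank R M := by
    rw [← ζ.quotKerEquivRange.finrank_eq]
    exact Submodule.finrank_quotient_add_finrank (LinearMap.ker ζ)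
  rw [← h1, finrank_eq_of_mem_iff (filt R n M j) (LinearMap.range ζ),
    finrank_eq_of_mem_iff (filt2 R n M j) (LinearMap.ker ζ)]
  · intro x
    rw [mem_filt2_iff, LinearMap.mem_ker]
    rfl
  · intro x
    rw [mem_filt_iff, LinearMap.mem_range]
    rfl

/-- **S17943**. -/
theorem finrank_G2_eq_finrank_G1 [IsNoetherian R M] (i : ℕ) :
    finrank R (G2 R n M (i + 1)) = finrank R (G1 R n M i) := by
  have h1 := finrank_subquotient (R := R) (filt2_le_succ (R := R) (n := n) (M := M) i)
  have h2 := finrank_subquotient (R := R) (filt_succ_le (R := R) (n := n) (M := M) i)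
  have h3 := finrank_filt_add_finrank_filt2 (R := R) (n := n) (M := M) i
  have h4 := finrank_filt_add_finrank_filt2 (R := R) (n := n) (M := M) (i + 1)
  have e1 : finrank R (G2 R n M (i + 1)) =
      finrank R (↥(filt2 R n M (i + 1)) ⧸
        Submodule.comap (filt2 R n M (i + 1)).subtype (filt2 R n M i)) := rfl
  have e2 : finrank R (G1 R n M i) =
      finrank R (↥(filt R n M i) ⧸
        Submodule.comap (filt R n M i).subtype (filt R n M (i + 1))) := rfl
  rw [e1, e2]
  omega

end Groth.Agent.H9.MC
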