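import Mathlib
import Groth.Prelude.Def_W4c5qllcourbesmultMultCrv
import Groth.Agent.Lib.Helper9.MultCrv
import Groth.Agent.Lib.Helper9.MultCrvRank

/-!
# Torsion-freeness of the graded pieces `G_i` versus the modules `Γ^(i)`
-/

set_option autoImplicit false

namespace Groth.Agent.H9.MC

section Abstract

variable {R : Type*} [CommRing R] {A : Type*} [CommRing A] [Algebra R A] (z : A)
variable (M : Type*) [AddCommGroup M] [Module A M] [Module R M] [IsScalarTower R A M]

/-- `z^i M / z^(i+1) M` has no `R`-torsion (element form). -/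
def P1 (i : ℕ) : Prop :=
  ∀ r : R, r ≠ 0 → ∀ y : M, (∃ w : M, r • z ^ i • y = z ^ (i + 1) • w) →
    ∃ w : M, z ^ i • y = z ^ (i + 1) • w

/-- `K_{i+1} / (K_i + z K_{i+2})` has no `R`-torsion (element form), `K_j = ker z^j`. -/
def P2 (i : ℕ) : Prop :=
  ∀ r : R, r ≠ 0 → ∀ x : M, z ^ (i + 1) • x = 0 →
    (∃ u : M, z ^ (i + 2) • u = 0 ∧ z ^ i • (r • x - z • u) = 0) →
    ∃ u : M, z ^ (i + 2) • u = 0 ∧ z ^ i • (x - z • u) = 0

variable {z M}

/-- Saturation of `z^i M` in `M` from `P1` below `i`. -/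
theorem sat_of_P1 (i : ℕ) (h : ∀ j < i, P1 (R := R) z M j) (r : R) (hr : r ≠ 0) (x : M)
    (hx : ∃ w : M, r • x = z ^ i • w) : ∃ w : M, x = z ^ i • w := by
  induction i generalizing x with
  | zero => exact ⟨x, by rw [pow_zero, one_smul]⟩
  | succ i ih =>
    obtain ⟨w, hw⟩ := hx
    obtain ⟨y, rfl⟩ := ih (fun j hj => h j (by omega)) x
      ⟨z • w, by rw [hw, pow_succ, mul_smul]⟩
    exact h i (by omega) r hr y ⟨w, hw⟩

theorem P2_of_P1 (i : ℕ) (h : ∀ j ≤ i, P1 (R := R) z M j) : P2 (R := R) z M i := by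
  intro r hr x hx ⟨u, hu, hxu⟩
  have h1 : r • (z ^ i • x) = z ^ (i + 1) • u := by
    rw [smul_sub, sub_eq_zero] at hxu
    rw [smul_comm, hxu, pow_succ, mul_smul]
  obtain ⟨c, hc⟩ := sat_of_P1 (i + 1) (fun j hj => h j (by omega)) r hr (z ^ i • x) ⟨u, h1⟩
  refine ⟨c, ?_, ?_⟩
  · rw [pow_succ' z (i + 1), mul_smul, ← hc, ← mul_smul, ← pow_succ', hx]
  · rw [smul_sub, hc, ← mul_smul, ← pow_succ, sub_self]

/-- The `(b, a)`-form of `P2`. -/
theorem P2_ba (j : ℕ) (h : P2 (R := R) z M j) (r : R) (hr : r ≠ 0) (x : M)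
    (hx : z ^ (j + 1) • x = 0)
    (hh : ∃ b a : M, z ^ (j + 2) • b = 0 ∧ z ^ j • a = 0 ∧ r • x = z • b + a) :
    ∃ b a : M, z ^ (j + 2) • b = 0 ∧ z ^ j • a = 0 ∧ x = z • b + a := by
  obtain ⟨b, a, hb, ha, hxa⟩ := hh
  obtain ⟨u, hu, hxu⟩ := h r hr x hx ⟨b, hb, by rw [hxa, add_sub_cancel_left, ha]⟩
  exact ⟨u, x - z • u, hu, hxu, by abel⟩

/-- Statement `B'(i, j)`. -/
def PB (z : A) (M : Type*) [AddCommGroup M] [Module A M] [Module R M] (i j : ℕ) : Prop :=
  ∀ r : R, r ≠ 0 → ∀ y : M, z ^ (j + 1) • y = 0 →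
    (∃ b a : M, z ^ (i + j + 1) • b = 0 ∧ z ^ j • a = 0 ∧ r • y = z ^ i • b + a) →
    ∃ b a : M, z ^ (i + j + 1) • b = 0 ∧ z ^ j • a = 0 ∧ y = z ^ i • b + a

theorem PB_of_P2 (h : ∀ j, P2 (R := R) z M j) (i : ℕ) : ∀ j, PB (R := R) z M i j := by
  induction i with
  | zero =>
    intro j r hr y hy _
    exact ⟨y, 0, by rw [zero_add]; exact hy, smul_zero _, by rw [pow_zero, one_smul, add_zero]⟩
  | succ i ih =>
    intro j r hr y hy ⟨b, a, hb, ha, hya⟩
    -- apply `P2 j`
    obtain ⟨c, a', hc, ha', hyc⟩ := P2_ba j (h j) r hr y hy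
      ⟨z ^ i • b, a, by
        rw [← mul_smul, ← pow_add]
        have : j + 2 + i = i + 1 + j + 1 := by omega
        rw [this, hb], ha, by rw [hya, pow_succ', mul_smul]⟩
    -- `d = r c - z^i b`
    have hd : z • (r • c - z ^ i • b) = a - r • a' := by
      have e1 : z • (r • c) = r • (y - a') := by
        rw [smul_comm, hyc, add_sub_cancel_right]
      have e2 : z • (z ^ i • b) = r • y - a := by
        rw [hya, add_sub_cancel_right, pow_succ', mul_smul]
      rw [smul_sub, e1, e2, smul_sub]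
      abel
    have hd' : z ^ (j + 1) • (r • c - z ^ i • b) = 0 := by
      rw [pow_succ, mul_smul, hd, smul_sub, ha, smul_comm, ha', smul_zero, sub_zero]
    obtain ⟨b', a'', hb', ha'', hcb⟩ := ih (j + 1) r hr c hc
      ⟨b, r • c - z ^ i • b, by
        have : i + (j + 1) + 1 = i + 1 + j + 1 := by omega
        rw [this, hb], hd', by abel⟩
    refine ⟨b', z • a'' + a', ?_, ?_, ?_⟩
    · have : i + 1 + j + 1 = i + (j + 1) + 1 := by omega
      rw [this, hb']
    · rw [smul_add, ha', add_zero, ← mul_smul, ← pow_succ, ha'']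
    · rw [hyc, hcb, smul_add, ← mul_smul, ← pow_succ', add_assoc]

/-- Statement `C(i, j)`. -/
theorem PC_of_P2 (h : ∀ j, P2 (R := R) z M j) (i j : ℕ) (r : R) (hr : r ≠ 0) (y : M)
    (hy : z ^ j • y = 0) (hh : ∃ b : M, z ^ (i + j) • b = 0 ∧ r • y = z ^ i • b) :
    ∃ b : M, z ^ (i + j) • b = 0 ∧ y = z ^ i • b := by
  induction j generalizing y with
  | zero =>
    rw [pow_zero, one_smul] at hy
    exact ⟨0, smul_zero _, by rw [hy, smul_zero]⟩
  | succ j ih =>
    obtain ⟨b, hb, hyb⟩ := hh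
    obtain ⟨b', a, hb', ha, hya⟩ := PB_of_P2 h i j r hr y hy
      ⟨b, 0, hb, smul_zero _, by rw [hyb, add_zero]⟩
    have hra : r • a = z ^ i • (b - r • b') := by
      have : a = y - z ^ i • b' := by rw [hya, add_sub_cancel_left]
      rw [this, smul_sub, hyb, smul_sub, smul_comm r (z ^ i) b']
    obtain ⟨b'', hb'', hab⟩ := ih a ha ⟨b - r • b', by
      rw [add_comm, pow_add, mul_smul, ← hra, smul_comm, ha, smul_zero], hra⟩
    refine ⟨b' + b'', ?_, ?_⟩
    · rw [smul_add, ← add_assoc, hb', zero_add, pow_succ', mul_smul, hb'', smul_zero]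
    · rw [hya, hab, smul_add]

theorem P1_iff_P2 {n : ℕ} (hz : z ^ n = 0) :
    (∀ i < n, P1 (R := R) z M i) ↔ (∀ i < n, P2 (R := R) z M i) := by
  constructor
  · intro h i hi
    exact P2_of_P1 i (fun j hj => h j (by omega))
  · intro h
    have hpow : ∀ j, n ≤ j → ∀ x : M, z ^ j • x = 0 := by
      intro j hj x
      obtain ⟨k, rfl⟩ := Nat.exists_eq_add_of_le hj
      rw [pow_add, hz, zero_mul, zero_smul]
    have h' : ∀ j, P2 (R := R) z M j := by
      intro j
      by_cases hj : j < n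
      · exact h j hj
      · intro r hr x hx _
        exact ⟨0, smul_zero _, by rw [smul_zero, sub_zero]; exact hpow j (by omega) x⟩
    intro i hi r hr y ⟨w, hw⟩
    obtain ⟨b, -, hb⟩ := PC_of_P2 h' (i + 1) n r hr (z ^ i • y) (hpow n le_rfl _)
      ⟨w, hpow _ (by omega) _, hw⟩
    exact ⟨b, hb⟩

end Abstract

section Bridge

open MultCrv Module

universe u v

/-- Torsion-freeness of a quotient, element form. -/
theorem isTorsionFree_quotient_iff {R : Type*} [CommRing R] [IsDomain R] {A : Type*} [Ring A]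
    [SMul R A] {N : Type*} [AddCommGroup N]
    [Module A N] [Module R N] [IsScalarTower R A N] (P : Submodule A N) :
    Module.IsTorsionFree R (N ⧸ P) ↔ ∀ r : R, r ≠ 0 → ∀ x : N, r • x ∈ P → x ∈ P := by
  constructor
  · intro h r hr x hx
    have : r • (Submodule.Quotient.mk x : N ⧸ P) = 0 := by
      rw [← Submodule.Quotient.mk_smul, Submodule.Quotient.mk_eq_zero]; exact hx
    rw [smul_eq_zero_iff_right hr] at this
    exact (Submodule.Quotient.mk_eq_zero P).1 this
  · intro h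
    refine ⟨fun r hr => ?_⟩
    intro a b hab
    obtain ⟨x, rfl⟩ := Submodule.Quotient.mk_surjective P a
    obtain ⟨y, rfl⟩ := Submodule.Quotient.mk_surjective P b
    rw [Submodule.Quotient.eq]
    apply h r hr.ne_zero
    rw [smul_sub, ← Submodule.Quotient.eq]
    exact hab

variable {R : Type u} [CommRing R] [IsDomain R] {n : ℕ}
variable {M : Type v} [AddCommGroup M] [Module (Rn R n) M] [Module R M]
  [IsScalarTower R (Rn R n) M]

theorem isTorsionFree_G1_iff (i : ℕ) :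
    Module.IsTorsionFree R (G1 R n M i) ↔ P1 (R := R) (z R n) M i := by
  rw [isTorsionFree_quotient_iff]
  constructor
  · intro h r hr y ⟨w, hw⟩
    have hy : z R n ^ i • y ∈ filt R n M i := (mem_filt_iff i _).2 ⟨y, rfl⟩
    have := h r hr ⟨z R n ^ i • y, hy⟩ (by
      rw [Submodule.mem_comap]
      exact (mem_filt_iff (i + 1) _).2 ⟨w, hw.symm⟩)
    rw [Submodule.mem_comap] at this
    obtain ⟨w', hw'⟩ := (mem_filt_iff (i + 1) _).1 this
    exact ⟨w', hw'.symm⟩
  · intro h r hr x hx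
    obtain ⟨x, hx0⟩ := x
    obtain ⟨y, rfl⟩ := (mem_filt_iff i x).1 hx0
    rw [Submodule.mem_comap] at hx ⊢
    obtain ⟨w, hw⟩ := (mem_filt_iff (i + 1) _).1 hx
    obtain ⟨w', hw'⟩ := h r hr y ⟨w, hw.symm⟩
    exact (mem_filt_iff (i + 1) _).2 ⟨w', hw'.symm⟩

theorem mem_range_lamG2_iff (i : ℕ) (x : ↥(filt2 R n M (i + 1))) :
    (Submodule.Quotient.mk x : G2 R n M (i + 1)) ∈ LinearMap.range (lamG2 R n M i) ↔
      ∃ u : M, z R n ^ (i + 2) • u = 0 ∧ z R n ^ i • ((x : M) - z R n • u) = 0 := by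
  constructor
  · rintro ⟨q, hq⟩
    obtain ⟨u, rfl⟩ := Submodule.Quotient.mk_surjective _ q
    refine ⟨(u : M), (mem_filt2_iff (i + 2) _).1 u.2, ?_⟩
    have h1 : lamG2 R n M i (Submodule.Quotient.mk u) =
        Submodule.Quotient.mk (zDown R n M (i + 1) u) := rfl
    rw [h1, Submodule.Quotient.eq, Submodule.mem_comap] at hq
    have h2 := (mem_filt2_iff (i + 1 - 1) _).1 hq
    have h3 : ((filt2 R n M (i + 1)).subtype (zDown R n M (i + 1) u - x) : M) =
        z R n • (u : M) - (x : M) := rfl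
    rw [h3, Nat.add_sub_cancel] at h2
    rw [← neg_sub, smul_neg, h2, neg_zero]
  · rintro ⟨u, hu, hxu⟩
    refine ⟨Submodule.Quotient.mk ⟨u, (mem_filt2_iff (i + 2) _).2 hu⟩, ?_⟩
    have h1 : lamG2 R n M i (Submodule.Quotient.mk ⟨u, (mem_filt2_iff (i + 2) _).2 hu⟩) =
        Submodule.Quotient.mk (zDown R n M (i + 1) ⟨u, (mem_filt2_iff (i + 2) _).2 hu⟩) := rfl
    rw [h1, Submodule.Quotient.eq, Submodule.mem_comap]
    apply (mem_filt2_iff (i + 1 - 1) _).2
    have h3 : ((filt2 R n M (i + 1)).subtype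
        (zDown R n M (i + 1) ⟨u, (mem_filt2_iff (i + 2) _).2 hu⟩ - x) : M) =
        z R n • u - (x : M) := rfl
    rw [h3, Nat.add_sub_cancel, ← neg_sub, smul_neg, hxu, neg_zero]

theorem isTorsionFree_Gam2_iff (i : ℕ) :
    Module.IsTorsionFree R (Gam2 R n M i) ↔ P2 (R := R) (z R n) M i := by
  rw [isTorsionFree_quotient_iff]
  constructor
  · intro h r hr x hx hu
    have := h r hr (Submodule.Quotient.mk ⟨x, (mem_filt2_iff (i + 1) _).2 hx⟩) (by
      rw [← Submodule.Quotient.mk_smul]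
      exact (mem_range_lamG2_iff i _).2 hu)
    exact (mem_range_lamG2_iff i _).1 this
  · intro h r hr q hq
    obtain ⟨x, rfl⟩ := Submodule.Quotient.mk_surjective _ q
    rw [← Submodule.Quotient.mk_smul] at hq
    exact (mem_range_lamG2_iff i _).2
      (h r hr (x : M) ((mem_filt2_iff (i + 1) _).1 x.2) ((mem_range_lamG2_iff i _).1 hq))

theorem finite_G1 [IsNoetherian R M] (i : ℕ) : Module.Finite R (G1 R n M i) := by
  haveI : Module.Finite R ↥(filt R n M i) := finite_submodule _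
  infer_instance

theorem finite_Gam2 [IsNoetherian R M] (i : ℕ) : Module.Finite R (Gam2 R n M i) := by
  haveI : Module.Finite R ↥(filt2 R n M (i + 1)) := finite_submodule _
  haveI : Module.Finite R (G2 R n M (i + 1)) := inferInstance
  infer_instance

/-- **S17944**. -/
theorem free_G1_iff_free_Gam2 [IsPrincipalIdealRing R] [IsNoetherian R M] :
    (∀ i : ℕ, i < n → Module.Free R (G1 R n M i)) ↔
      (∀ i : ℕ, i < n → Module.Free R (Gam2 R n M i)) := by
  have h1 : ∀ i, Module.Free R (G1 R n M i) ↔ P1 (R := R) (z R n) M i := by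
    intro i
    haveI := finite_G1 (R := R) (n := n) (M := M) i
    rw [Module.free_iff_isTorsionFree, isTorsionFree_G1_iff]
  have h2 : ∀ i, Module.Free R (Gam2 R n M i) ↔ P2 (R := R) (z R n) M i := by
    intro i
    haveI := finite_Gam2 (R := R) (n := n) (M := M) i
    rw [Module.free_iff_isTorsionFree, isTorsionFree_Gam2_iff]
  simp only [h1, h2]
  exact P1_iff_P2 (multCrv_z_pow_n R n)

end Bridge

end Groth.Agent.H9.MC
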