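import Mathlib
import Groth.Prelude.Def_W4c5qllcourbesmultMultCrv
import Groth.Agent.Lib.Helper9.MultCrv

/-!
# Kernel of a minimal free cover of a quasi-free module
-/

set_option autoImplicit false

namespace Groth.Agent.H9.MC

section Cover

variable {A : Type*} [CommRing A] (z : A)
variable {F P M : Type*} [AddCommGroup F] [AddCommGroup P] [AddCommGroup M]
  [Module A F] [Module A P] [Module A M]

theorem pow_apply_mem_of_forall (ε : Module.End A F) (h : ∀ f, ∃ g, ε f = z • g) (k : ℕ) (f : F) :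
    ∃ g, (ε ^ k) f = z ^ k • g := by
  induction k generalizing f with
  | zero => exact ⟨f, by simp⟩
  | succ k ih =>
    obtain ⟨g, hg⟩ := h f
    obtain ⟨g', hg'⟩ := ih g
    refine ⟨g', ?_⟩
    rw [pow_succ, Module.End.mul_apply, hg, map_smul, hg', ← mul_smul, ← pow_succ']

theorem isNilpotent_of_forall (hz : IsNilpotent z) (ε : Module.End A F)
    (h : ∀ f, ∃ g, ε f = z • g) : IsNilpotent ε := by
  obtain ⟨N, hN⟩ := hz
  refine ⟨N, LinearMap.ext fun f => ?_⟩
  obtain ⟨g, hg⟩ := pow_apply_mem_of_forall z ε h N f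
  rw [hg, hN, zero_smul, LinearMap.zero_apply]

theorem bijective_comp_of_lifts (hz : IsNilpotent z) (φ : F →ₗ[A] M) (φ₀ : P →ₗ[A] M)
    (hk : ∀ f, φ f = 0 → ∃ g, f = z • g) (θ : F →ₗ[A] P) (θ' : P →ₗ[A] F)
    (hθ : φ₀ ∘ₗ θ = φ) (hθ' : φ ∘ₗ θ' = φ₀) : Function.Bijective (θ' ∘ₗ θ) := by
  have hnil : IsNilpotent (θ' ∘ₗ θ - 1 : Module.End A F) := by
    apply isNilpotent_of_forall z hz
    intro f
    apply hk
    have h1 : φ (θ' (θ f)) = φ f := by
      rw [← LinearMap.comp_apply φ θ', hθ', ← LinearMap.comp_apply, hθ]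
    simp [h1]
  have hu : IsUnit (1 + (θ' ∘ₗ θ - 1) : Module.End A F) := hnil.isUnit_one_add
  rw [add_sub_cancel] at hu
  exact (Module.End.isUnit_iff _).1 hu

/-- Two covers of `M` by projective modules, both with kernel inside `z •`, are isomorphic. -/
theorem exists_equiv_of_covers (hz : IsNilpotent z) [Module.Projective A F]
    [Module.Projective A P] (φ : F →ₗ[A] M) (φ₀ : P →ₗ[A] M)
    (hφ : Function.Surjective φ) (hφ₀ : Function.Surjective φ₀)
    (hk : ∀ f, φ f = 0 → ∃ g, f = z • g) (hk₀ : ∀ f, φ₀ f = 0 → ∃ g, f = z • g) :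
    ∃ θ : F ≃ₗ[A] P, φ₀ ∘ₗ θ.toLinearMap = φ := by
  obtain ⟨θ, hθ⟩ := Module.projective_lifting_property φ₀ φ hφ₀
  obtain ⟨θ', hθ'⟩ := Module.projective_lifting_property φ φ₀ hφ
  have h1 := bijective_comp_of_lifts z hz φ φ₀ hk θ θ' hθ hθ'
  have h2 := bijective_comp_of_lifts z hz φ₀ φ hk₀ θ' θ hθ' hθ
  have hinj : Function.Injective θ := by
    have := h1.1
    rw [LinearMap.coe_comp] at this
    exact Function.Injective.of_comp this
  have hsurj : Function.Surjective θ := by
    have := h2.2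
    rw [LinearMap.coe_comp] at this
    exact Function.Surjective.of_comp this
  exact ⟨LinearEquiv.ofBijective θ ⟨hinj, hsurj⟩, by ext x; simp [← hθ]⟩

/-- The kernels of two such covers are isomorphic. -/
theorem nonempty_ker_equiv_of_covers (hz : IsNilpotent z) [Module.Projective A F]
    [Module.Projective A P] (φ : F →ₗ[A] M) (φ₀ : P →ₗ[A] M)
    (hφ : Function.Surjective φ) (hφ₀ : Function.Surjective φ₀)
    (hk : ∀ f, φ f = 0 → ∃ g, f = z • g) (hk₀ : ∀ f, φ₀ f = 0 → ∃ g, f = z • g) :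
    Nonempty (↥(LinearMap.ker φ) ≃ₗ[A] ↥(LinearMap.ker φ₀)) := by
  obtain ⟨θ, hθ⟩ := exists_equiv_of_covers z hz φ φ₀ hφ hφ₀ hk hk₀
  have h : LinearMap.ker φ = Submodule.comap θ.toLinearMap (LinearMap.ker φ₀) := by
    rw [← hθ, LinearMap.ker_comp]
  rw [h]
  exact ⟨θ.ofSubmodule' (LinearMap.ker φ₀)⟩

end Cover

noncomputable section Specific

open MultCrv Polynomial

universe u

variable {R : Type u} [CommRing R] [IsDomain R] {n : ℕ}

/-- Annihilator of `z^e` in `R[X]/(X^n)`. -/
theorem mem_span_of_z_pow_mul_eq_zero {e j : ℕ} (hej : e + j = n) (a : Rn R n)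
    (ha : z R n ^ e * a = 0) : a ∈ Ideal.span {z R n ^ j} := by
  obtain ⟨p, rfl⟩ := Ideal.Quotient.mk_surjective a
  rw [z, ← map_pow, ← map_mul, Ideal.Quotient.eq_zero_iff_mem, Ideal.mem_span_singleton,
    ← hej, pow_add] at ha
  obtain ⟨q, rfl⟩ := (mul_dvd_mul_iff_left (pow_ne_zero e X_ne_zero)).1 ha
  rw [map_mul, map_pow]
  exact Ideal.mul_mem_right _ _ (Ideal.subset_span rfl)

/-- `[a] ↦ z^e a` on `A/(z^j)`, `e + j = n`. -/
def mulZ (e j : ℕ) (hej : e + j = n) :
    (Rn R n ⧸ Ideal.span {z R n ^ j}) →ₗ[Rn R n] Rn R n :=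
  Submodule.liftQ (Ideal.span {z R n ^ j}) (LinearMap.lsmul (Rn R n) (Rn R n) (z R n ^ e)) (by
    rw [Ideal.span_le, Set.singleton_subset_iff]
    show z R n ^ e • z R n ^ j = 0
    rw [smul_eq_mul, ← pow_add, hej, multCrv_z_pow_n])

theorem mulZ_mk (e j : ℕ) (hej : e + j = n) (a : Rn R n) :
    mulZ (R := R) e j hej (Ideal.Quotient.mk _ a) = z R n ^ e * a := rfl

theorem mulZ_injective (e j : ℕ) (hej : e + j = n) :
    Function.Injective (mulZ (R := R) e j hej) := by
  rw [injective_iff_map_eq_zero]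
  intro q hq
  obtain ⟨a, rfl⟩ := Ideal.Quotient.mk_surjective q
  rw [mulZ_mk] at hq
  exact Ideal.Quotient.eq_zero_iff_mem.2 (mem_span_of_z_pow_mul_eq_zero hej a hq)

variable (m : Fin n → ℕ)

/-- The standard cover of the model quasi-free module. -/
def stdCover : ((i : Fin n) → Fin (m i) → Rn R n) →ₗ[Rn R n]
    ((i : Fin n) → Fin (m i) → Oi R n (i.1 + 1)) where
  toFun g := fun i k => Ideal.Quotient.mk _ (g i k)
  map_add' := fun _ _ => rfl
  map_smul' := fun _ _ => rfl

theorem stdCover_apply (g : (i : Fin n) → Fin (m i) → Rn R n) (i : Fin n) (k : Fin (m i)) :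
    stdCover (R := R) m g i k = Ideal.Quotient.mk _ (g i k) := rfl

theorem stdCover_surjective : Function.Surjective (stdCover (R := R) m) := by
  intro q
  refine ⟨fun i k => (Ideal.Quotient.mk_surjective (q i k)).choose, ?_⟩
  funext i k
  exact (Ideal.Quotient.mk_surjective (q i k)).choose_spec

theorem mem_ker_stdCover_iff (g : (i : Fin n) → Fin (m i) → Rn R n) :
    g ∈ LinearMap.ker (stdCover (R := R) m) ↔
      ∀ i k, ∃ c : Rn R n, g i k = z R n ^ (i.1 + 1) * c := by
  rw [LinearMap.mem_ker]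
  constructor
  · intro h i k
    have := congrFun (congrFun h i) k
    rw [stdCover_apply] at this
    have h2 := Ideal.Quotient.eq_zero_iff_mem.1 this
    rw [Ideal.mem_span_singleton] at h2
    exact h2
  · intro h
    funext i k
    obtain ⟨c, hc⟩ := h i k
    rw [stdCover_apply, hc]
    exact Ideal.Quotient.eq_zero_iff_mem.2 (Ideal.mul_mem_right _ _ (Ideal.subset_span rfl))

theorem stdCover_ker_le (g : (i : Fin n) → Fin (m i) → Rn R n)
    (hg : stdCover (R := R) m g = 0) : ∃ g', g = z R n • g' := by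
  have h := (mem_ker_stdCover_iff m g).1 hg
  choose c hc using h
  refine ⟨fun i k => z R n ^ i.1 * c i k, ?_⟩
  funext i k
  rw [hc i k, Pi.smul_apply, Pi.smul_apply, smul_eq_mul, ← mul_assoc, ← pow_succ']

theorem sub_lt_aux (i : Fin n) : n - 2 - i.1 < n := by
  have := i.2
  omega

theorem revType_eq_of_add (i i' : Fin n) (h : i.1 + i'.1 + 2 = n) : revType n m i' = m i := by
  unfold revType
  rw [dif_pos (by omega)]
  congr 1
  exact Fin.ext (by simp only; omega)

theorem revType_eq_zero (i' : Fin n) (h : ¬ i'.1 + 1 < n) : revType n m i' = 0 := by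
  unfold revType
  rw [dif_neg h]

/-- The embedding of the model of reversed type onto the kernel of the standard cover. -/
def kerMap : ((i' : Fin n) → Fin (revType n m i') → Oi R n (i'.1 + 1)) →ₗ[Rn R n]
    ((i : Fin n) → Fin (m i) → Rn R n) where
  toFun t := fun i k =>
    if h : i.1 + 1 < n then
      mulZ (R := R) (i.1 + 1) (n - 2 - i.1 + 1) (by omega)
        (t ⟨n - 2 - i.1, by omega⟩
          (Fin.cast (revType_eq_of_add m i ⟨n - 2 - i.1, by omega⟩ (by simp only; omega)).symm k))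
    else 0
  map_add' := fun t t' => by
    funext i k
    by_cases h : i.1 + 1 < n
    · simp only [dif_pos h, Pi.add_apply, map_add]
    · simp only [dif_neg h, Pi.add_apply, add_zero]
  map_smul' := fun a t => by
    funext i k
    by_cases h : i.1 + 1 < n
    · simp only [dif_pos h, Pi.smul_apply, map_smul, RingHom.id_apply]
    · simp only [dif_neg h, Pi.smul_apply, smul_zero, RingHom.id_apply]

theorem kerMap_apply (t : (i' : Fin n) → Fin (revType n m i') → Oi R n (i'.1 + 1))
    (i i' : Fin n) (h : i.1 + i'.1 + 2 = n) (k : Fin (m i)) :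
    kerMap (R := R) m t i k = mulZ (R := R) (i.1 + 1) (i'.1 + 1) (by omega)
      (t i' (Fin.cast (revType_eq_of_add m i i' h).symm k)) := by
  obtain rfl : i' = ⟨n - 2 - i.1, sub_lt_aux i⟩ := Fin.ext (by simp only; omega)
  simp only [kerMap, LinearMap.coe_mk, AddHom.coe_mk]
  rw [dif_pos (by omega)]

theorem kerMap_apply_of_not_lt (t : (i' : Fin n) → Fin (revType n m i') → Oi R n (i'.1 + 1))
    (i : Fin n) (h : ¬ i.1 + 1 < n) (k : Fin (m i)) : kerMap (R := R) m t i k = 0 := by
  simp only [kerMap, LinearMap.coe_mk, AddHom.coe_mk]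
  rw [dif_neg h]

theorem kerMap_injective : Function.Injective (kerMap (R := R) m) := by
  rw [injective_iff_map_eq_zero]
  intro t ht
  funext i' k'
  have h' : i'.1 + 1 < n := by
    by_contra hcon
    exact (Fin.cast (revType_eq_zero m i' hcon) k').elim0
  have hii : (⟨n - 2 - i'.1, by omega⟩ : Fin n).1 + i'.1 + 2 = n := by simp only; omega
  have h1 := congrFun (congrFun ht ⟨n - 2 - i'.1, by omega⟩)
    (Fin.cast (revType_eq_of_add m ⟨n - 2 - i'.1, by omega⟩ i' hii) k')
  rw [kerMap_apply m t _ i' hii] at h1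
  have h2 := mulZ_injective _ _ _ (h1.trans (map_zero _).symm)
  simpa using h2

theorem dep_congr {X : Type*} (c : (i : Fin n) → Fin (m i) → X) (a b : Fin n) (hab : a = b)
    (k : Fin (m a)) (k' : Fin (m b)) (hk : k.1 = k'.1) : c a k = c b k' := by
  subst hab
  congr 1
  exact Fin.ext hk

theorem range_kerMap : LinearMap.range (kerMap (R := R) m) = LinearMap.ker (stdCover (R := R) m) := by
  apply le_antisymm
  · rintro _ ⟨t, rfl⟩
    rw [mem_ker_stdCover_iff]
    intro i k
    by_cases h : i.1 + 1 < n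
    · have hii : i.1 + (⟨n - 2 - i.1, by omega⟩ : Fin n).1 + 2 = n := by simp only; omega
      rw [kerMap_apply m t i ⟨n - 2 - i.1, by omega⟩ hii]
      obtain ⟨a, ha⟩ := Ideal.Quotient.mk_surjective
        (t ⟨n - 2 - i.1, by omega⟩ (Fin.cast (revType_eq_of_add m i ⟨n - 2 - i.1, by omega⟩ hii).symm k))
      rw [← ha, mulZ_mk]
      exact ⟨a, rfl⟩
    · rw [kerMap_apply_of_not_lt m t i h]
      exact ⟨0, by rw [mul_zero]⟩
  · intro g hg
    rw [mem_ker_stdCover_iff] at hg
    choose c hc using hg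
    refine ⟨fun i' k' => if h : i'.1 + 1 < n then
      Ideal.Quotient.mk _ (c ⟨n - 2 - i'.1, by omega⟩
        (Fin.cast (revType_eq_of_add m ⟨n - 2 - i'.1, by omega⟩ i' (by simp only; omega)) k'))
      else 0, ?_⟩
    funext i k
    by_cases h : i.1 + 1 < n
    · have hii : i.1 + (⟨n - 2 - i.1, by omega⟩ : Fin n).1 + 2 = n := by simp only; omega
      rw [kerMap_apply m _ i ⟨n - 2 - i.1, by omega⟩ hii]
      rw [dif_pos (by simp only; omega)]
      rw [mulZ_mk, hc i k]
      congr 1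
      apply dep_congr
      · exact Fin.ext (by simp only; omega)
      · simp
    · rw [kerMap_apply_of_not_lt m _ i h, hc i k]
      have : i.1 + 1 = n := by omega
      rw [this, multCrv_z_pow_n, zero_mul]

/-- **S17940**. -/
theorem isQuasiFree_ker {M : Type*} [AddCommGroup M] [Module (Rn R n) M]
    (hM : IsQuasiFreeOfType R n M m) (r : ℕ) (φ : (Fin r → Rn R n) →ₗ[Rn R n] M)
    (hφ : Function.Surjective φ)
    (hφz : ∀ f : Fin r → Rn R n, φ f ∈ filt R n M 1 → f ∈ filt R n (Fin r → Rn R n) 1) :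
    IsQuasiFreeOfType R n ↥(LinearMap.ker φ) (revType n m) := by
  obtain ⟨e⟩ := hM
  have hker : LinearMap.ker (e.toLinearMap ∘ₗ φ) = LinearMap.ker φ := LinearEquiv.ker_comp _ _
  have hker₀ : LinearMap.ker ((QFModel.equivPi R n m).symm.toLinearMap ∘ₗ stdCover (R := R) m) =
      LinearMap.ker (stdCover (R := R) m) := LinearEquiv.ker_comp _ _
  have hk : ∀ f, (e.toLinearMap ∘ₗ φ) f = 0 → ∃ g, f = z R n • g := by
    intro f hf
    have hf' : φ f = 0 := by
      rw [← LinearMap.mem_ker, ← hker, LinearMap.mem_ker]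
      exact hf
    have h1 : f ∈ filt R n (Fin r → Rn R n) 1 := hφz f (by rw [hf']; exact zero_mem _)
    obtain ⟨g, hg⟩ := h1
    exact ⟨g, by rw [← hg]; simp⟩
  have hk₀ : ∀ f, ((QFModel.equivPi R n m).symm.toLinearMap ∘ₗ stdCover (R := R) m) f = 0 →
      ∃ g, f = z R n • g := by
    intro f hf
    apply stdCover_ker_le m
    rw [← LinearMap.mem_ker, ← hker₀, LinearMap.mem_ker]
    exact hf
  have hs : Function.Surjective (e.toLinearMap ∘ₗ φ) := e.surjective.comp hφ
  have hs₀ : Function.Surjective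
      ((QFModel.equivPi R n m).symm.toLinearMap ∘ₗ stdCover (R := R) m) :=
    (QFModel.equivPi R n m).symm.surjective.comp (stdCover_surjective m)
  obtain ⟨E⟩ := nonempty_ker_equiv_of_covers (z R n) ⟨n, multCrv_z_pow_n R n⟩ _ _ hs hs₀ hk hk₀
  have E2 := LinearEquiv.ofInjective (kerMap (R := R) m) (kerMap_injective m)
  exact ⟨(LinearEquiv.ofEq _ _ hker.symm).trans (E.trans ((LinearEquiv.ofEq _ _
    (hker₀.trans (range_kerMap (R := R) m).symm)).trans (E2.symm.trans
      (QFModel.equivPi R n (revType n m)).symm)))⟩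

end Specific

end Groth.Agent.H9.MC
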