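import Mathlib
import Groth.Prelude.Def_W4c5qllcourbesmultMultCrv
import Groth.Agent.Lib.Helper9.MultCrvExt

/-!
# `z^k` kills the higher `Ext` out of torsion-free modules over `A = R[X]/(X^(k+1))`
-/

set_option autoImplicit false

namespace Groth.Agent.H9.MC

open Polynomial MultCrv CategoryTheory CategoryTheory.Abelian

universe u

variable {R : Type u} [CommRing R] [IsDomain R] [IsDiscreteValuationRing R] (k : ℕ)

/-- For `M` finitely generated and `R`-torsion-free, multiplication by `z^k` on `M` factors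
through a finite free `A`-module. -/
theorem exists_factor_z_pow (M : Type u) [AddCommGroup M] [Module (Rn R (k + 1)) M] [Module R M]
    [IsScalarTower R (Rn R (k + 1)) M] [Module.Finite (Rn R (k + 1)) M]
    [Module.IsTorsionFree R M] :
    ∃ (r : ℕ) (μ : M →ₗ[Rn R (k + 1)] (Fin r → Rn R (k + 1)))
      (ν : (Fin r → Rn R (k + 1)) →ₗ[Rn R (k + 1)] M),
      ∀ m, ν (μ m) = z R (k + 1) ^ k • m := by
  haveI : Module.Finite R M := multCrv_finite_R (R := R) (n := k + 1)
  haveI : IsNoetherian R M := isNoetherian_of_isNoetherianRing_of_finite R M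
  -- multiplication by `z^k` as an `R`-linear map
  let ζ : M →ₗ[R] M := (LinearMap.lsmul (Rn R (k + 1)) M (z R (k + 1) ^ k)).restrictScalars R
  have hζ : ∀ m, ζ m = z R (k + 1) ^ k • m := fun m => rfl
  let Z : Submodule R M := LinearMap.range ζ
  haveI : Module.Finite R Z := Module.IsNoetherian.finite R Z
  haveI : Module.Free R Z := Module.free_of_finite_type_torsion_free'
  let b := Module.finBasis R Z
  set r := Module.finrank R Z with hr
  have hq : ∀ l : Fin r, ∃ q : M, z R (k + 1) ^ k • q = (b l : M) := by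
    intro l
    obtain ⟨q, hq⟩ := (b l).2
    exact ⟨q, hq⟩
  choose q hq using hq
  -- the coordinates
  let c : Fin r → (M →ₗ[R] R) := fun l => (b.coord l) ∘ₗ ζ.rangeRestrict
  have hc : ∀ m, z R (k + 1) ^ k • m = ∑ l, c l m • (b l : M) := by
    intro m
    have h1 := b.sum_repr (ζ.rangeRestrict m)
    have h2 := congrArg (Subtype.val) h1
    rw [AddSubmonoidClass.coe_finsetSum] at h2
    rw [← hζ]
    exact h2.symm
  have hzero : z R (k + 1) ^ (k + 1) = 0 := multCrv_z_pow_n R (k + 1)
  have hcz : ∀ (l : Fin r) (j : ℕ) (m : M), 0 < j → c l (z R (k + 1) ^ j • m) = 0 := by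
    intro l j m hj
    have : ζ.rangeRestrict (z R (k + 1) ^ j • m) = 0 := by
      apply Subtype.ext
      show z R (k + 1) ^ k • (z R (k + 1) ^ j • m) = 0
      obtain ⟨j', rfl⟩ : ∃ j', j = j' + 1 := ⟨j - 1, by omega⟩
      have e : z R (k + 1) ^ k * z R (k + 1) ^ (j' + 1) =
          z R (k + 1) ^ (k + 1) * z R (k + 1) ^ j' := by ring
      rw [← mul_smul, e, hzero, zero_mul]
      exact zero_smul (Rn R (k + 1)) m
    simp only [c, LinearMap.coe_comp, Function.comp_apply, this, map_zero]
  have hφ : ∀ (l : Fin r) (m : M), toDualA k (c l) m = c l m • z R (k + 1) ^ k := by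
    intro l m
    rw [toDualA_apply, Finset.sum_eq_single (k, 0)]
    · simp
    · intro p hp hne
      have hp' := Finset.HasAntidiagonal.mem_antidiagonal.1 hp
      have : 0 < p.2 := by
        rcases Nat.eq_zero_or_pos p.2 with h0 | h0
        · exfalso; apply hne; ext
          · simp only; omega
          · exact h0
        · exact h0
      rw [hcz l p.2 m this, zero_smul]
    · intro h
      exact absurd (Finset.HasAntidiagonal.mem_antidiagonal.2 (by simp)) h
  refine ⟨r, LinearMap.pi fun l => toDualA k (c l), Fintype.linearCombination (Rn R (k + 1)) q, ?_⟩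
  intro m
  rw [Fintype.linearCombination_apply, hc]
  refine Finset.sum_congr rfl fun l _ => ?_
  rw [LinearMap.pi_apply, hφ, smul_assoc, hq]

/-- `z^k` kills `Ext^i_A(M, N)`, `i ≥ 1`, for `M` finitely generated and `R`-torsion-free. -/
theorem z_pow_smul_ext_eq_zero (M : Type u) [AddCommGroup M] [Module (Rn R (k + 1)) M]
    [Module R M] [IsScalarTower R (Rn R (k + 1)) M] [Module.Finite (Rn R (k + 1)) M]
    [Module.IsTorsionFree R M] (N : ModuleCat.{u} (Rn R (k + 1))) (i : ℕ)
    (x : Ext (ModuleCat.of (Rn R (k + 1)) M) N (i + 1)) : z R (k + 1) ^ k • x = 0 := by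
  obtain ⟨r, μ, ν, h⟩ := exists_factor_z_pow (R := R) k M
  exact smul_ext_eq_zero_of_factors (z R (k + 1) ^ k) μ ν h N i x

/-- `z^k` kills `Ext^i_A(M, N)`, `i ≥ 2`, for `M` finitely generated. -/
theorem z_pow_smul_ext_eq_zero_of_two_le (M : Type u) [AddCommGroup M]
    [Module (Rn R (k + 1)) M] [Module.Finite (Rn R (k + 1)) M]
    (N : ModuleCat.{u} (Rn R (k + 1))) (i : ℕ)
    (x : Ext (ModuleCat.of (Rn R (k + 1)) M) N (i + 2)) : z R (k + 1) ^ k • x = 0 := by
  obtain ⟨r, π, hπ⟩ := Module.Finite.exists_fin' (Rn R (k + 1)) M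
  obtain ⟨y, rfl⟩ := exists_extClass_comp π hπ N (i + 1) x
  rw [← Ext.comp_smul, z_pow_smul_ext_eq_zero (R := R) k (LinearMap.ker π) N i y]
  exact Ext.comp_zero _ _ _ _ _

end Groth.Agent.H9.MC
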