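import Mathlib
import Groth.Prelude.Def_W4c5qllcourbesmultMultCrv
import Groth.Agent.Lib.Helper9.MultCrvExt

/-!
# `Ext^1_A(M, A) = 0` implies `M` torsion-free, and reflexivity, over `A = R[X]/(X^(k+1))`
-/

set_option autoImplicit false

namespace Groth.Agent.H9.MC

open Polynomial MultCrv CategoryTheory CategoryTheory.Abelian

universe u

variable {R : Type u} [CommRing R] [IsDomain R] [IsDiscreteValuationRing R] (k : ℕ)

/-- If `Ext^1_A(M, A) = 0` then every `A`-linear form on the kernel of a free cover extends. -/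
theorem exists_extension_of_ext_one {r : ℕ} (M : Type u) [AddCommGroup M]
    [Module (Rn R (k + 1)) M]
    (h : Subsingleton (Ext (ModuleCat.of (Rn R (k + 1)) M)
      (ModuleCat.of (Rn R (k + 1)) (Rn R (k + 1))) 1))
    (π : (Fin r → Rn R (k + 1)) →ₗ[Rn R (k + 1)] M) (hπ : Function.Surjective π)
    (φ : LinearMap.ker π →ₗ[Rn R (k + 1)] Rn R (k + 1)) :
    ∃ Φ : (Fin r → Rn R (k + 1)) →ₗ[Rn R (k + 1)] Rn R (k + 1),
      Φ ∘ₗ (LinearMap.ker π).subtype = φ := by
  have hS := kerSC_shortExact π hπ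
  have h0 : hS.extClass.comp (Ext.mk₀ (ModuleCat.ofHom φ)) (add_zero 1) = 0 :=
    Subsingleton.elim _ _
  obtain ⟨x₂, hx₂⟩ := Ext.contravariant_sequence_exact₁ hS _ (Ext.mk₀ (ModuleCat.ofHom φ))
    (add_zero 1) h0
  obtain ⟨Φ, rfl⟩ := (Ext.mk₀_bijective _ _).2 x₂
  rw [Ext.mk₀_comp_mk₀] at hx₂
  have h1 := (Ext.mk₀_bijective _ _).1 hx₂
  refine ⟨Φ.hom, ?_⟩
  have h2 := congrArg ModuleCat.Hom.hom h1
  rw [ModuleCat.hom_comp, ModuleCat.hom_ofHom] at h2
  exact h2

/-- **S17937**: if `Ext^1_A(M, A) = 0` then `M` is `R`-torsion-free. -/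
theorem isTorsionFree_of_ext_one (M : Type u) [AddCommGroup M] [Module (Rn R (k + 1)) M]
    [Module R M] [IsScalarTower R (Rn R (k + 1)) M] [Module.Finite (Rn R (k + 1)) M]
    (h : Subsingleton (Ext (ModuleCat.of (Rn R (k + 1)) M)
      (ModuleCat.of (Rn R (k + 1)) (Rn R (k + 1))) 1)) : Module.IsTorsionFree R M := by
  obtain ⟨s, π, hπ⟩ := Module.Finite.exists_fin' (Rn R (k + 1)) M
  set K := LinearMap.ker π with hK
  haveI : Module.Finite R K :=
    multCrv_finite_R (R := R) (n := k + 1)
  haveI : Module.Free R K := Module.free_of_finite_type_torsion_free'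
  refine ⟨fun r hr => ?_⟩
  have hr0 : r ≠ 0 := hr.ne_zero
  rw [isSMulRegular_iff_right_eq_zero_of_smul]
  intro m hm
  obtain ⟨x, rfl⟩ := hπ m
  have hu : r • x ∈ K := by
    rw [hK, LinearMap.mem_ker, ← hm]
    exact (LinearMap.map_smul_of_tower π r x)
  -- every `R`-linear form on `K` takes a value in `rR` at `u = r • x`
  have hval : ∀ ψ : K →ₗ[R] R, r ∣ ψ ⟨r • x, hu⟩ := by
    intro ψ
    obtain ⟨Φ, hΦ⟩ := exists_extension_of_ext_one k M h π hπ (toDualA k ψ)
    have h1 : toDualA k ψ ⟨r • x, hu⟩ = r • Φ x := by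
      rw [← hΦ]
      simp only [LinearMap.coe_comp, Function.comp_apply, Submodule.subtype_apply]
      exact LinearMap.map_smul_of_tower Φ r x
    have h2 := congrArg (tau R k) h1
    rw [tau_toDualA, map_smul, smul_eq_mul] at h2
    exact ⟨_, h2⟩
  let b := Module.finBasis R K
  have hcoord : ∀ l, r ∣ b.repr ⟨r • x, hu⟩ l := fun l => hval (b.coord l)
  choose d hd using hcoord
  have hu' : (⟨r • x, hu⟩ : K) = r • ∑ l, d l • b l := by
    conv_lhs => rw [← b.sum_repr ⟨r • x, hu⟩]
    rw [Finset.smul_sum]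
    refine Finset.sum_congr rfl fun l _ => ?_
    rw [hd l, mul_smul]
  have h3 := congrArg (Subtype.val) hu'
  rw [Submodule.coe_smul_of_tower] at h3
  have h4 : x = ((∑ l, d l • b l : K) : Fin s → Rn R (k + 1)) :=
    (smul_right_injective _ hr0) h3
  rw [h4]
  exact (∑ l, d l • b l : K).2

end Groth.Agent.H9.MC

namespace Groth.Agent.H9.MC

open Polynomial MultCrv

universe u v

section Reflexive

variable {R : Type u} [CommRing R] (k : ℕ)
variable {M : Type v} [AddCommGroup M] [Module (Rn R (k + 1)) M] [Module R M]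
  [IsScalarTower R (Rn R (k + 1)) M]

theorem toDualA_add (ψ₁ ψ₂ : M →ₗ[R] R) :
    toDualA k (ψ₁ + ψ₂) = toDualA k ψ₁ + toDualA k ψ₂ := by
  ext m
  simp only [toDualA_apply, LinearMap.add_apply, add_smul, Finset.sum_add_distrib]

theorem toDualA_smul (r : R) (ψ : M →ₗ[R] R) :
    toDualA k (r • ψ) = r • toDualA k ψ := by
  ext m
  simp only [toDualA_apply, LinearMap.smul_apply, smul_eq_mul, mul_smul, Finset.smul_sum]

/-- Two elements of `A` with the same `τ(z^j ·)` for all `j` are equal. -/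
theorem eq_of_tau_eq {a b : Rn R (k + 1)}
    (h : ∀ j : ℕ, tau R k (z R (k + 1) ^ j * a) = tau R k (z R (k + 1) ^ j * b)) : a = b := by
  rw [eq_sum_tau R k a, eq_sum_tau R k b]
  exact Finset.sum_congr rfl fun p _ => by rw [h]

/-- The `A`-linear forms on `M` separate the points that `R`-linear forms separate. -/
theorem eq_zero_of_forall_dualA {m : M} (h : ∀ φ : M →ₗ[Rn R (k + 1)] Rn R (k + 1), φ m = 0)
    (ψ : M →ₗ[R] R) : ψ m = 0 := by
  rw [← tau_toDualA k ψ m, h, map_zero]

end Reflexive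

section Reflexive2

variable {R : Type u} [CommRing R] [IsDomain R] [IsDiscreteValuationRing R] (k : ℕ)
variable (M : Type u) [AddCommGroup M] [Module (Rn R (k + 1)) M] [Module R M]
  [IsScalarTower R (Rn R (k + 1)) M] [Module.Finite (Rn R (k + 1)) M]

theorem isReflexive_of_isTorsionFree [Module.IsTorsionFree R M] :
    Module.IsReflexive (Rn R (k + 1)) M := by
  haveI : Module.Finite R M := multCrv_finite_R (R := R) (n := k + 1)
  haveI : Module.Free R M := Module.free_of_finite_type_torsion_free'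
  have hR : Function.Bijective (Module.Dual.eval R M) := Module.bijective_dual_eval R M
  refine ⟨⟨?_, ?_⟩⟩
  · rw [injective_iff_map_eq_zero]
    intro m hm
    apply (injective_iff_map_eq_zero _).1 hR.1
    ext ψ
    rw [Module.Dual.eval_apply, LinearMap.zero_apply]
    apply eq_zero_of_forall_dualA k _ ψ
    intro φ
    have := LinearMap.congr_fun hm φ
    rwa [Module.Dual.eval_apply] at this
  · intro ξ
    let Ξ : Module.Dual R (Module.Dual R M) :=
      { toFun := fun ψ => tau R k (ξ (toDualA k ψ))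
        map_add' := fun ψ₁ ψ₂ => by rw [toDualA_add, map_add, map_add]
        map_smul' := fun r ψ => by
          rw [toDualA_smul, LinearMap.map_smul_of_tower, map_smul, RingHom.id_apply] }
    obtain ⟨m, hm⟩ := hR.2 Ξ
    refine ⟨m, ?_⟩
    ext φ
    rw [Module.Dual.eval_apply]
    apply eq_of_tau_eq k
    intro j
    have h1 : toDualA k (tau R k ∘ₗ ((z R (k + 1) ^ j • φ).restrictScalars R)) =
        z R (k + 1) ^ j • φ := toDualA_tau_comp k _
    have h2 := LinearMap.congr_fun hm (tau R k ∘ₗ ((z R (k + 1) ^ j • φ).restrictScalars R))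
    rw [Module.Dual.eval_apply] at h2
    change _ = tau R k (ξ (toDualA k _)) at h2
    rw [h1, map_smul] at h2
    simp only [LinearMap.coe_comp, LinearMap.coe_restrictScalars, Function.comp_apply,
      LinearMap.smul_apply, smul_eq_mul] at h2
    exact h2

theorem isTorsionFree_of_isReflexive [Module.IsReflexive (Rn R (k + 1)) M] :
    Module.IsTorsionFree R M := by
  refine ⟨fun r hr => ?_⟩
  have hr0 : r ≠ 0 := hr.ne_zero
  rw [isSMulRegular_iff_right_eq_zero_of_smul]
  intro m hm
  have hinj : Function.Injective (Module.Dual.eval (Rn R (k + 1)) M) :=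
    (Module.bijective_dual_eval (Rn R (k + 1)) M).1
  apply (injective_iff_map_eq_zero _).1 hinj
  ext φ
  rw [Module.Dual.eval_apply, LinearMap.zero_apply]
  have h1 : r • φ m = 0 := by
    rw [← LinearMap.map_smul_of_tower, hm, map_zero]
  exact (smul_eq_zero_iff_right hr0).1 h1

end Reflexive2

end Groth.Agent.H9.MC
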