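import Mathlib
import Groth.Prelude.Def_W4c5spincurvestfNode

/-!
# The node `k[x,y]/(xy)`: sections of `O(1)` killed by the maximal ideal
-/

set_option autoImplicit false
set_option linter.unusedSectionVars false

namespace Groth.Agent.H9.NodeO1

open MvPolynomial

variable {k : Type*} [Field k]

/-- `X0 ↦ X`, `X1 ↦ 0`. -/
noncomputable def φ : MvPolynomial (Fin 2) k →ₐ[k] Polynomial k :=
  MvPolynomial.aeval ![Polynomial.X, 0]

/-- `X ↦ X0`. -/
noncomputable def ι : Polynomial k →ₐ[k] MvPolynomial (Fin 2) k :=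
  Polynomial.aeval (MvPolynomial.X 0)

theorem φ_X0 : φ (X 0 : MvPolynomial (Fin 2) k) = Polynomial.X := by simp [φ]
theorem φ_X1 : φ (X 1 : MvPolynomial (Fin 2) k) = 0 := by simp [φ]

theorem exists_decomp (H : MvPolynomial (Fin 2) k) :
    ∃ H1 : MvPolynomial (Fin 2) k, H = ι (φ H) + X 1 * H1 := by
  induction H using MvPolynomial.induction_on with
  | C a => exact ⟨0, by simp [φ, ι]⟩
  | add p q hp hq =>
    obtain ⟨p1, hp1⟩ := hp
    obtain ⟨q1, hq1⟩ := hq
    refine ⟨p1 + q1, ?_⟩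
    rw [map_add, map_add]
    conv_lhs => rw [hp1, hq1]
    ring
  | mul_X p i hp =>
    obtain ⟨p1, hp1⟩ := hp
    fin_cases i
    · refine ⟨p1 * X 0, ?_⟩
      simp only [Fin.zero_eta, map_mul, φ_X0]
      have : ι (Polynomial.X : Polynomial k) = X 0 := by simp [ι]
      rw [this]
      conv_lhs => rw [hp1]
      ring
    · refine ⟨p, ?_⟩
      simp only [Fin.mk_one, map_mul, φ_X1, mul_zero, map_zero, zero_add]
      ring

theorem mk_X0_mul_eq_zero_of_φ (π0 : k) (hπ : π0 = 0) (H : MvPolynomial (Fin 2) k) (hH : φ H = 0) :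
    (Ideal.Quotient.mk (Ideal.span {(X 0 * X 1 - C π0 : MvPolynomial (Fin 2) k)})) (X 0 * H) = 0 := by
  obtain ⟨H1, hH1⟩ := exists_decomp H
  rw [hH, map_zero, zero_add] at hH1
  rw [Ideal.Quotient.eq_zero_iff_mem, Ideal.mem_span_singleton]
  refine ⟨H1, ?_⟩
  rw [hH1, hπ, C_0, sub_zero]
  ring

theorem exists_of_X1_mul_mem (π0 : k) (hπ : π0 = 0) (G : MvPolynomial (Fin 2) k)
    (h : X 1 * G ∈ Ideal.span {(X 0 * X 1 - C π0 : MvPolynomial (Fin 2) k)}) :
    ∃ H, G = X 0 * H := by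
  rw [Ideal.mem_span_singleton] at h
  obtain ⟨H, hH⟩ := h
  refine ⟨H, ?_⟩
  rw [hπ, C_0, sub_zero] at hH
  have hX1 : (X 1 : MvPolynomial (Fin 2) k) ≠ 0 := X_ne_zero 1
  apply mul_left_cancel₀ hX1
  rw [hH]
  ring

/-- The Laurent polynomial computation. -/
theorem laurent_aux (P P' : Polynomial k)
    (h : LaurentPolynomial.T 1 * Polynomial.toLaurent P =
      LaurentPolynomial.invert (Polynomial.toLaurent P')) : P = 0 ∧ P' = 0 := by
  have hrev := LaurentPolynomial.toLaurent_reverse P'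
  rw [← h] at hrev
  have h2 : Polynomial.toLaurent P'.reverse =
      Polynomial.toLaurent (Polynomial.X ^ (P'.natDegree + 1) * P) := by
    rw [hrev, map_mul, Polynomial.toLaurent_X_pow, LaurentPolynomial.T_mul,
      LaurentPolynomial.mul_T_assoc]
    push_cast
    rw [add_comm]
    exact LaurentPolynomial.T_mul _ _ |>.symm
  have h3 := Polynomial.toLaurent_injective h2
  have hP : P = 0 := by
    by_contra hP
    have h4 : (Polynomial.X ^ (P'.natDegree + 1) * P).natDegree = P'.natDegree + 1 + P.natDegree := by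
      rw [Polynomial.natDegree_mul (pow_ne_zero _ Polynomial.X_ne_zero) hP,
        Polynomial.natDegree_X_pow]
    have h5 := P'.reverse_natDegree_le
    rw [h3, h4] at h5
    omega
  refine ⟨hP, ?_⟩
  rw [hP, mul_zero] at h3
  exact Polynomial.reverse_eq_zero.1 h3

theorem gU_mk (gU : SpinCurv.PolyNodeRing k 0 →ₐ[k] LaurentPolynomial k)
    (hgUs : gU (SpinCurv.PolyNodeRing.x k 0) = LaurentPolynomial.T 1)
    (hgUy : gU (SpinCurv.PolyNodeRing.y k 0) = 0) (H : MvPolynomial (Fin 2) k) :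
    gU (Ideal.Quotient.mk _ H) = Polynomial.toLaurent (φ H) := by
  have : gU.comp (Ideal.Quotient.mkₐ k _) = (Polynomial.toLaurentAlg).comp φ := by
    apply MvPolynomial.algHom_ext
    intro i
    fin_cases i
    · simp only [Fin.zero_eta, AlgHom.comp_apply, Ideal.Quotient.mkₐ_eq_mk, φ_X0,
        Polynomial.toLaurentAlg_apply, Polynomial.toLaurent_X]
      exact hgUs
    · simp only [Fin.mk_one, AlgHom.comp_apply, Ideal.Quotient.mkₐ_eq_mk, φ_X1, map_zero]
      exact hgUy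
  have h2 := DFunLike.congr_fun this H
  simpa using h2

theorem gV_mk (gV : SpinCurv.PolyNodeRing k 0 →ₐ[k] LaurentPolynomial k)
    (hgVt : gV (SpinCurv.PolyNodeRing.x k 0) = LaurentPolynomial.T (-1))
    (hgVx : gV (SpinCurv.PolyNodeRing.y k 0) = 0) (H : MvPolynomial (Fin 2) k) :
    gV (Ideal.Quotient.mk _ H) = LaurentPolynomial.invert (Polynomial.toLaurent (φ H)) := by
  have : gV.comp (Ideal.Quotient.mkₐ k _) =
      ((LaurentPolynomial.invert : _ ≃ₐ[k] _).toAlgHom.comp Polynomial.toLaurentAlg).comp φ := by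
    apply MvPolynomial.algHom_ext
    intro i
    fin_cases i
    · simp only [Fin.zero_eta, AlgHom.comp_apply, Ideal.Quotient.mkₐ_eq_mk, φ_X0,
        Polynomial.toLaurentAlg_apply, Polynomial.toLaurent_X]
      rw [hgVt]
      simp
    · simp only [Fin.mk_one, AlgHom.comp_apply, Ideal.Quotient.mkₐ_eq_mk, φ_X1, map_zero]
      exact hgVx
  have h2 := DFunLike.congr_fun this H
  simpa using h2

theorem main
    (rU : SpinCurv.PolyNodeRing k 0 →ₐ[k] SpinCurv.PolyNodeRing k 0)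
    (hrUy : rU (SpinCurv.PolyNodeRing.y k 0) = SpinCurv.PolyNodeRing.y k 0)
    (rV : SpinCurv.PolyNodeRing k 0 →ₐ[k] SpinCurv.PolyNodeRing k 0)
    (hrVx : rV (SpinCurv.PolyNodeRing.x k 0) = SpinCurv.PolyNodeRing.y k 0)
    (gU : SpinCurv.PolyNodeRing k 0 →ₐ[k] LaurentPolynomial k)
    (hgUs : gU (SpinCurv.PolyNodeRing.x k 0) = LaurentPolynomial.T 1)
    (hgUy : gU (SpinCurv.PolyNodeRing.y k 0) = 0)
    (gV : SpinCurv.PolyNodeRing k 0 →ₐ[k] LaurentPolynomial k)
    (hgVt : gV (SpinCurv.PolyNodeRing.x k 0) = LaurentPolynomial.T (-1))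
    (hgVx : gV (SpinCurv.PolyNodeRing.y k 0) = 0)
    (g f : SpinCurv.PolyNodeRing k 0) (hsec : gU g = LaurentPolynomial.T 1 * gV f)
    (hxf : rV (SpinCurv.PolyNodeRing.x k 0) * f = 0)
    (hyg : rU (SpinCurv.PolyNodeRing.y k 0) * g = 0) :
    g = 0 ∧ f = 0 := by
  rw [hrUy] at hyg
  rw [hrVx] at hxf
  obtain ⟨G, rfl⟩ := Ideal.Quotient.mk_surjective g
  obtain ⟨F, rfl⟩ := Ideal.Quotient.mk_surjective f
  have hG : X 1 * G ∈ Ideal.span {(X 0 * X 1 - C (0 : k) : MvPolynomial (Fin 2) k)} := by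
    rw [← Ideal.Quotient.eq_zero_iff_mem, map_mul]
    exact hyg
  have hF : X 1 * F ∈ Ideal.span {(X 0 * X 1 - C (0 : k) : MvPolynomial (Fin 2) k)} := by
    rw [← Ideal.Quotient.eq_zero_iff_mem, map_mul]
    exact hxf
  obtain ⟨H, rfl⟩ := exists_of_X1_mul_mem 0 rfl G hG
  obtain ⟨H', rfl⟩ := exists_of_X1_mul_mem 0 rfl F hF
  simp only [gU_mk gU hgUs hgUy, gV_mk gV hgVt hgVx, map_mul, φ_X0, Polynomial.toLaurent_X,
    LaurentPolynomial.invert_T] at hsec
  rw [← mul_assoc (LaurentPolynomial.T 1), ← LaurentPolynomial.T_add, add_neg_cancel,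
    LaurentPolynomial.T_zero, one_mul] at hsec
  obtain ⟨h1, h2⟩ := laurent_aux (φ H) (φ H') hsec
  exact ⟨mk_X0_mul_eq_zero_of_φ 0 rfl H h1, mk_X0_mul_eq_zero_of_φ 0 rfl H' h2⟩

end Groth.Agent.H9.NodeO1
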