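import Mathlib.LinearAlgebra.Contraction
import Mathlib.RingTheory.Finiteness.Projective

/-! Coevaluation for finitely generated projective modules over a commutative ring, and the
two triangle (zigzag) identities (helper9). -/

set_option autoImplicit false

noncomputable section

namespace Groth.Agent.H9

open TensorProduct Module

universe u v

variable (R : Type u) [CommRing R] (M : Type v) [AddCommGroup M] [Module R M]

/-- A finite "dual basis" of a finitely generated projective module. -/
theorem exists_dualBasis_of_finite_projective [Module.Finite R M] [Module.Projective R M] :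
    ∃ (n : ℕ) (x : Fin n → M) (φ : Fin n → Module.Dual R M), ∀ m : M, ∑ i, φ i m • x i = m := by
  classical
  obtain ⟨n, f, g, -, -, hfg⟩ := Module.Finite.exists_comp_eq_id_of_projective R M
  refine ⟨n, fun i => f (Pi.single i 1), fun i => LinearMap.proj i ∘ₗ g, fun m => ?_⟩
  have h1 : f (g m) = m := LinearMap.congr_fun hfg m
  conv_rhs => rw [← h1]
  have h2 : g m = ∑ i, (g m i) • (Pi.single i (1 : R) : Fin n → R) := by
    funext j
    simp [Finset.sum_apply, Pi.single_apply]
  conv_rhs => rw [h2]
  simp [map_sum]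

variable {R M} {n : ℕ} (x : Fin n → M) (φ : Fin n → Module.Dual R M)

/-- The coevaluation `R → M ⊗ M*` attached to a finite dual basis. -/
def coevOf : R →ₗ[R] M ⊗[R] Module.Dual R M :=
  LinearMap.toSpanSingleton R _ (∑ i, x i ⊗ₜ[R] φ i)

theorem coevOf_apply (r : R) : coevOf x φ r = r • ∑ i, x i ⊗ₜ[R] φ i := by
  simp [coevOf]

theorem contractLeft_assoc_coevOf (h : ∀ m : M, ∑ i, φ i m • x i = m) :
    (contractLeft R M).rTensor _ ∘ₗ
        (TensorProduct.assoc R _ _ _).symm.toLinearMap ∘ₗ
          (coevOf x φ).lTensor (Module.Dual R M) =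
      (TensorProduct.lid R _).symm.toLinearMap ∘ₗ (TensorProduct.rid R _).toLinearMap := by
  apply TensorProduct.ext'
  intro ψ r
  simp only [LinearMap.coe_comp, Function.comp_apply, LinearEquiv.coe_toLinearMap,
    LinearMap.lTensor_tmul, rid_tmul, lid_symm_apply]
  rw [coevOf_apply, Finset.smul_sum, TensorProduct.tmul_sum, map_sum, map_sum]
  simp only [TensorProduct.tmul_smul, map_smul, assoc_symm_tmul, LinearMap.rTensor_tmul,
    contractLeft_apply]
  rw [← Finset.smul_sum]
  congr 1
  have h3 : ∀ i : Fin n, (ψ (x i)) ⊗ₜ[R] (φ i) = (1 : R) ⊗ₜ[R] (ψ (x i) • φ i) := by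
    intro i
    rw [TensorProduct.tmul_smul, TensorProduct.smul_tmul', smul_eq_mul, mul_one]
  rw [Finset.sum_congr rfl (fun i _ => h3 i), ← TensorProduct.tmul_sum]
  congr 1
  apply LinearMap.ext
  intro m
  simp only [LinearMap.coe_sum, Finset.sum_apply, LinearMap.smul_apply, smul_eq_mul]
  conv_rhs => rw [← h m]
  simp [map_sum, mul_comm]

theorem contractLeft_assoc_coevOf' (h : ∀ m : M, ∑ i, φ i m • x i = m) :
    (contractLeft R M).lTensor _ ∘ₗ
        (TensorProduct.assoc R _ _ _).toLinearMap ∘ₗ (coevOf x φ).rTensor M =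
      (TensorProduct.rid R _).symm.toLinearMap ∘ₗ (TensorProduct.lid R _).toLinearMap := by
  apply TensorProduct.ext'
  intro r m
  simp only [LinearMap.coe_comp, Function.comp_apply, LinearEquiv.coe_toLinearMap,
    LinearMap.rTensor_tmul, lid_tmul, rid_symm_apply]
  rw [coevOf_apply, Finset.smul_sum, TensorProduct.sum_tmul, map_sum, map_sum]
  simp only [← TensorProduct.smul_tmul', map_smul, assoc_tmul, LinearMap.lTensor_tmul,
    contractLeft_apply]
  rw [← Finset.smul_sum]
  have h3 : ∀ i : Fin n, (x i) ⊗ₜ[R] ((φ i) m) = ((φ i) m • x i) ⊗ₜ[R] (1 : R) := by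
    intro i
    rw [TensorProduct.smul_tmul, smul_eq_mul, mul_one]
  rw [Finset.sum_congr rfl (fun i _ => h3 i), ← TensorProduct.sum_tmul, h m,
    TensorProduct.smul_tmul']

end Groth.Agent.H9
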