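import Mathlib
import Groth.Prelude.Def_W4c5quivmodgenus0Quiv

set_option autoImplicit false
set_option linter.unusedSectionVars false
universe u v
open PtQuiv

namespace Groth.Agent.H9.PtQuivRed

section
variable {K : Type u} [Field K] {κ : Type v} [Fintype κ] [DecidableEq κ]
  {a b : κ} {s : κ → (Fin 2 → K)} {θ : κ → ℚ}

/-- the bracket: the `P`-weight divided by the positive constant `c`. -/
noncomputable def br (a b : κ) (θ : κ → ℚ) (U : Fin 2 → Submodule K K)
    (I : Finset {i : κ // i ≠ a ∧ i ≠ b}) : ℚ :=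
  (θ a - 1) * (Module.finrank K (U 0) : ℚ) + (θ b - 1) * (Module.finrank K (U 1) : ℚ)
    + ∑ i ∈ I, θ i.1

lemma PWt_eq (c : ℚ) (U : Fin 2 → Submodule K K) (I : Finset {i : κ // i ≠ a ∧ i ≠ b}) :
    PWt K ![c * (θ a - 1), c * (θ b - 1)] (fun i : {i : κ // i ≠ a ∧ i ≠ b} => c * θ i.1) U I
      = c * br a b θ U I := by
  unfold PWt br
  rw [Fin.sum_univ_two, ← Finset.mul_sum]
  simp only [Matrix.cons_val_zero, Matrix.cons_val_one]
  ring

lemma ne_zero_a (hli : LinearIndependent K ![s a, s b]) : s a ≠ 0 := by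
  have := hli.ne_zero 0; simpa using this

lemma ne_zero_b (hli : LinearIndependent K ![s a, s b]) : s b ≠ 0 := by
  have := hli.ne_zero 1; simpa using this

lemma coeff_zero (hli : LinearIndependent K ![s a, s b]) {x y : K}
    (h : x • s a + y • s b = 0) : x = 0 ∧ y = 0 :=
  LinearIndependent.pair_iff.mp hli x y h

lemma span_top (hli : LinearIndependent K ![s a, s b]) :
    Submodule.span K {s a, s b} = ⊤ := by
  have := hli.span_eq_top_of_card_eq_finrank' (by simp)
  rw [Set.pair_comm]
  simpa [Matrix.range_cons] using this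

lemma exists_coord (hli : LinearIndependent K ![s a, s b]) (v : Fin 2 → K) :
    ∃ x y : K, v = x • s a + y • s b := by
  have hv : v ∈ Submodule.span K {s a, s b} := by rw [span_top hli]; trivial
  obtain ⟨x, y, h⟩ := Submodule.mem_span_pair.mp hv
  exact ⟨x, y, h.symm⟩

lemma sum_split (θ : κ → ℚ) (I : Finset κ) (hab : a ≠ b) :
    ∑ x ∈ I, θ x = ∑ x ∈ I.filter (fun i => i ≠ a ∧ i ≠ b), θ x
      + (if a ∈ I then θ a else 0) + (if b ∈ I then θ b else 0) := by
  rw [Finset.sum_filter, ← Finset.sum_ite_eq' I a θ, ← Finset.sum_ite_eq' I b θ,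
    ← Finset.sum_add_distrib, ← Finset.sum_add_distrib]
  refine Finset.sum_congr rfl fun x _ => ?_
  by_cases hxa : x = a
  · subst hxa; simp [hab]
  · by_cases hxb : x = b
    · subst hxb; simp [hxa]
    · simp [hxa, hxb]

theorem P2Q (hli : LinearIndependent K ![s a, s b])
    {t : {i : κ // i ≠ a ∧ i ≠ b} → (Fin 2 → K)}
    (ht : ∀ i, s i.1 = t i 0 • s a + t i 1 • s b) (hab : a ≠ b)
    (U : Fin 2 → Submodule K K) (I : Finset {i : κ // i ≠ a ∧ i ≠ b}) (hUI : PSubrep t U I) :
    ∃ (L : Submodule K (Fin 2 → K)) (I' : Finset κ), QSubrep s L I' ∧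
      QWt K (-1) θ L I' = br a b θ U I ∧
      ((L = ⊥ ∧ I' = ∅) → (U = ⊥ ∧ I = ∅)) ∧
      ((L = ⊤ ∧ I' = Finset.univ) → (U = ⊤ ∧ I = Finset.univ)) := by
  set J : Finset κ := I.map (Function.Embedding.subtype _) with hJ
  have hmemJ : ∀ x, x ∈ J ↔ ∃ i ∈ I, i.1 = x := by
    intro x; simp [hJ]
  have haJ : a ∉ J := by
    rw [hmemJ]; rintro ⟨i, _, hi⟩; exact i.2.1 hi
  have hbJ : b ∉ J := by
    rw [hmemJ]; rintro ⟨i, _, hi⟩; exact i.2.2 hi
  have hsumJ : ∑ x ∈ J, θ x = ∑ i ∈ I, θ i.1 := by rw [hJ, Finset.sum_map]; rfl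
  have hJempty : J = ∅ → I = ∅ := by
    intro h; simpa [hJ] using h
  rcases eq_bot_or_eq_top (U 0) with hU0 | hU0 <;> rcases eq_bot_or_eq_top (U 1) with hU1 | hU1
  · -- (⊥, ⊥)
    refine ⟨⊥, J, ?_, ?_, ?_, ?_⟩
    · intro x hx
      obtain ⟨i, hi, rfl⟩ := (hmemJ x).mp hx
      have e0 : t i 0 = 0 := by have := hUI i hi 0; rwa [hU0, Submodule.mem_bot] at this
      have e1 : t i 1 = 0 := by have := hUI i hi 1; rwa [hU1, Submodule.mem_bot] at this
      rw [ht i, e0, e1]; simp
    · unfold QWt br; rw [hsumJ, hU0, hU1]; simp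
    · rintro ⟨-, hJe⟩
      refine ⟨?_, hJempty hJe⟩
      funext j; fin_cases j
      · exact hU0
      · exact hU1
    · rintro ⟨h, -⟩; exact absurd h bot_ne_top
  · -- (⊥, ⊤)
    refine ⟨K ∙ s b, insert b J, ?_, ?_, ?_, ?_⟩
    · intro x hx
      rcases Finset.mem_insert.mp hx with rfl | hx
      · exact Submodule.mem_span_singleton_self _
      · obtain ⟨i, hi, rfl⟩ := (hmemJ x).mp hx
        have e0 : t i 0 = 0 := by have := hUI i hi 0; rwa [hU0, Submodule.mem_bot] at this
        rw [ht i, e0, zero_smul, zero_add]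
        exact Submodule.smul_mem _ _ (Submodule.mem_span_singleton_self _)
    · unfold QWt br
      rw [Finset.sum_insert hbJ, hsumJ, hU0, hU1, finrank_span_singleton (ne_zero_b hli)]
      simp; ring
    · rintro ⟨-, h⟩; exact absurd h (Finset.insert_ne_empty _ _)
    · rintro ⟨-, h⟩
      have : a ∈ insert b J := by rw [h]; exact Finset.mem_univ _
      rcases Finset.mem_insert.mp this with h | h
      · exact absurd h hab
      · exact absurd h haJ
  · -- (⊤, ⊥)
    refine ⟨K ∙ s a, insert a J, ?_, ?_, ?_, ?_⟩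
    · intro x hx
      rcases Finset.mem_insert.mp hx with rfl | hx
      · exact Submodule.mem_span_singleton_self _
      · obtain ⟨i, hi, rfl⟩ := (hmemJ x).mp hx
        have e1 : t i 1 = 0 := by have := hUI i hi 1; rwa [hU1, Submodule.mem_bot] at this
        rw [ht i, e1, zero_smul, add_zero]
        exact Submodule.smul_mem _ _ (Submodule.mem_span_singleton_self _)
    · unfold QWt br
      rw [Finset.sum_insert haJ, hsumJ, hU0, hU1, finrank_span_singleton (ne_zero_a hli)]
      simp; ring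
    · rintro ⟨-, h⟩; exact absurd h (Finset.insert_ne_empty _ _)
    · rintro ⟨-, h⟩
      have : b ∈ insert a J := by rw [h]; exact Finset.mem_univ _
      rcases Finset.mem_insert.mp this with h | h
      · exact absurd h.symm hab
      · exact absurd h hbJ
  · -- (⊤, ⊤)
    have hbJ' : b ∉ J := hbJ
    have haJ' : a ∉ insert b J := by
      intro h
      rcases Finset.mem_insert.mp h with h | h
      · exact hab h
      · exact haJ h
    refine ⟨⊤, insert a (insert b J), ?_, ?_, ?_, ?_⟩
    · intro x _; trivial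
    · unfold QWt br
      rw [Finset.sum_insert haJ', Finset.sum_insert hbJ, hsumJ, hU0, hU1]
      simp; ring
    · rintro ⟨h, -⟩; exact absurd h top_ne_bot
    · rintro ⟨-, h⟩
      refine ⟨?_, ?_⟩
      · funext j; fin_cases j
        · exact hU0
        · exact hU1
      · rw [Finset.eq_univ_iff_forall]
        intro i
        have : i.1 ∈ insert a (insert b J) := by rw [h]; exact Finset.mem_univ _
        rcases Finset.mem_insert.mp this with h | h
        · exact absurd h i.2.1
        · rcases Finset.mem_insert.mp h with h | h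
          · exact absurd h i.2.2
          · obtain ⟨i', hi', he⟩ := (hmemJ _).mp h
            rwa [Subtype.ext he] at hi'

theorem Q2P (hli : LinearIndependent K ![s a, s b])
    {t : {i : κ // i ≠ a ∧ i ≠ b} → (Fin 2 → K)}
    (ht : ∀ i, s i.1 = t i 0 • s a + t i 1 • s b) (hab : a ≠ b)
    (h0 : ∀ i, 0 ≤ θ i) (h1 : ∀ i, θ i ≤ 1) (h2 : ∑ i, θ i = 2) (hθ : 1 < θ a + θ b)
    (L : Submodule K (Fin 2 → K)) (I : Finset κ) (hLI : QSubrep s L I) :
    QWt K (-1) θ L I < 0 ∨
    ∃ (U : Fin 2 → Submodule K K) (I' : Finset {i : κ // i ≠ a ∧ i ≠ b}), PSubrep t U I' ∧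
      br a b θ U I' = QWt K (-1) θ L I ∧
      ((U = ⊥ ∧ I' = ∅) → (L = ⊥ ∧ I = ∅)) ∧
      ((U = ⊤ ∧ I' = Finset.univ) → (L = ⊤ ∧ I = Finset.univ)) := by
  have hsa := ne_zero_a hli
  have hsb := ne_zero_b hli
  have hθa : 0 < θ a := by have := h1 b; linarith
  have hθb : 0 < θ b := by have := h1 a; linarith
  set I' : Finset {i : κ // i ≠ a ∧ i ≠ b} := I.subtype (fun i => i ≠ a ∧ i ≠ b) with hI'
  have hmemI' : ∀ i, i ∈ I' ↔ i.1 ∈ I := by intro i; simp [hI']
  have hsumI' : ∑ i ∈ I', θ i.1 = ∑ x ∈ I.filter (fun i => i ≠ a ∧ i ≠ b), θ x := by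
    rw [hI']; exact Finset.sum_subtype_eq_sum_filter (s := I) (fun x => θ x)
  have hsplit := sum_split θ I hab
  have hle : Module.finrank K L ≤ 2 := by
    have := Submodule.finrank_le L
    simpa using this
  -- a bound when `a ∉ I`
  have hbound_a : a ∉ I → ∑ x ∈ I, θ x ≤ 2 - θ a := by
    intro haI
    have hsub : I ⊆ Finset.univ.erase a := fun x hx =>
      Finset.mem_erase.mpr ⟨fun h => haI (h ▸ hx), Finset.mem_univ _⟩
    have := Finset.sum_le_sum_of_subset_of_nonneg hsub (f := θ) (fun i _ _ => h0 i)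
    have h3 := Finset.add_sum_erase Finset.univ θ (Finset.mem_univ a)
    linarith
  have hbound_b : b ∉ I → ∑ x ∈ I, θ x ≤ 2 - θ b := by
    intro hbI
    have hsub : I ⊆ Finset.univ.erase b := fun x hx =>
      Finset.mem_erase.mpr ⟨fun h => hbI (h ▸ hx), Finset.mem_univ _⟩
    have := Finset.sum_le_sum_of_subset_of_nonneg hsub (f := θ) (fun i _ _ => h0 i)
    have h3 := Finset.add_sum_erase Finset.univ θ (Finset.mem_univ b)
    linarith
  have hbound_ab : a ∉ I → b ∉ I → ∑ x ∈ I, θ x ≤ 2 - θ a - θ b := by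
    intro haI hbI
    have hsub : I ⊆ (Finset.univ.erase a).erase b := fun x hx =>
      Finset.mem_erase.mpr ⟨fun h => hbI (h ▸ hx),
        Finset.mem_erase.mpr ⟨fun h => haI (h ▸ hx), Finset.mem_univ _⟩⟩
    have := Finset.sum_le_sum_of_subset_of_nonneg hsub (f := θ) (fun i _ _ => h0 i)
    have h3 := Finset.add_sum_erase Finset.univ θ (Finset.mem_univ a)
    have h4 := Finset.add_sum_erase (Finset.univ.erase a) θ
      (Finset.mem_erase.mpr ⟨hab.symm, Finset.mem_univ b⟩)
    linarith
  interval_cases hd : Module.finrank K L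
  · -- L = ⊥
    have hL : L = ⊥ := Submodule.finrank_eq_zero.mp hd
    have haI : a ∉ I := fun h => hsa (by have := hLI a h; rwa [hL, Submodule.mem_bot] at this)
    have hbI : b ∉ I := fun h => hsb (by have := hLI b h; rwa [hL, Submodule.mem_bot] at this)
    right
    refine ⟨⊥, I', ?_, ?_, ?_, ?_⟩
    · intro i hi j
      have hz : s i.1 = 0 := by
        have := hLI i.1 ((hmemI' i).mp hi); rwa [hL, Submodule.mem_bot] at this
      rw [ht i] at hz
      obtain ⟨e0, e1⟩ := coeff_zero hli hz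
      fin_cases j
      · simpa using e0
      · simpa using e1
    · unfold br QWt
      rw [hsumI', hsplit, if_neg haI, if_neg hbI, hd]
      simp
    · rintro ⟨-, hI'e⟩
      refine ⟨hL, ?_⟩
      rw [Finset.eq_empty_iff_forall_notMem]
      intro x hx
      have hxa : x ≠ a := fun h => haI (h ▸ hx)
      have hxb : x ≠ b := fun h => hbI (h ▸ hx)
      have : (⟨x, hxa, hxb⟩ : {i : κ // i ≠ a ∧ i ≠ b}) ∈ I' := (hmemI' _).mpr hx
      rw [hI'e] at this; simp at this
    · rintro ⟨h, -⟩
      have := congrFun h 0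
      exact absurd this bot_ne_top
  · -- L a line
    by_cases haI : a ∈ I
    · have hbI : b ∉ I := by
        intro hbI
        have : Submodule.span K {s a, s b} ≤ L := by
          rw [Submodule.span_le]
          rintro x (rfl | rfl)
          · exact hLI _ haI
          · exact hLI _ hbI
        rw [span_top hli, top_le_iff] at this
        rw [this] at hd; simp at hd
      right
      have hline : ∀ w ∈ L, ∃ c : K, c • s a = w := by
        intro w hw
        have hnz : (⟨s a, hLI a haI⟩ : L) ≠ 0 := by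
          intro h; exact hsa (congrArg Subtype.val h)
        obtain ⟨c, hc⟩ := (finrank_eq_one_iff_of_nonzero' _ hnz).mp hd ⟨w, hw⟩
        exact ⟨c, by simpa using congrArg Subtype.val hc⟩
      refine ⟨![⊤, ⊥], I', ?_, ?_, ?_, ?_⟩
      · intro i hi j
        obtain ⟨c, hc⟩ := hline _ (hLI i.1 ((hmemI' i).mp hi))
        have : (t i 0 - c) • s a + t i 1 • s b = 0 := by
          rw [sub_smul, hc, ht i]; abel
        obtain ⟨-, e1⟩ := coeff_zero hli this
        fin_cases j
        · simp
        · simpa using e1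
      · unfold br QWt
        change (θ a - 1) * (Module.finrank K (⊤ : Submodule K K) : ℚ)
          + (θ b - 1) * (Module.finrank K (⊥ : Submodule K K) : ℚ) + _ = _
        rw [hsumI', hsplit, if_pos haI, if_neg hbI, hd]
        simp only [finrank_top, finrank_bot, Module.finrank_self]
        push_cast; ring
      · rintro ⟨h, -⟩
        have := congrFun h 0
        simp at this
      · rintro ⟨h, -⟩
        have := congrFun h 1
        simp at this
    · by_cases hbI : b ∈ I
      · right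
        have hline : ∀ w ∈ L, ∃ c : K, c • s b = w := by
          intro w hw
          have hnz : (⟨s b, hLI b hbI⟩ : L) ≠ 0 := by
            intro h; exact hsb (congrArg Subtype.val h)
          obtain ⟨c, hc⟩ := (finrank_eq_one_iff_of_nonzero' _ hnz).mp hd ⟨w, hw⟩
          exact ⟨c, by simpa using congrArg Subtype.val hc⟩
        refine ⟨![⊥, ⊤], I', ?_, ?_, ?_, ?_⟩
        · intro i hi j
          obtain ⟨c, hc⟩ := hline _ (hLI i.1 ((hmemI' i).mp hi))
          have : t i 0 • s a + (t i 1 - c) • s b = 0 := by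
            rw [sub_smul, hc, ht i]; abel
          obtain ⟨e0, -⟩ := coeff_zero hli this
          fin_cases j
          · simpa using e0
          · simp
        · unfold br QWt
          change (θ a - 1) * (Module.finrank K (⊥ : Submodule K K) : ℚ)
            + (θ b - 1) * (Module.finrank K (⊤ : Submodule K K) : ℚ) + _ = _
          rw [hsumI', hsplit, if_neg haI, if_pos hbI, hd]
          simp only [finrank_top, finrank_bot, Module.finrank_self]
          push_cast; ring
        · rintro ⟨h, -⟩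
          have := congrFun h 1
          simp at this
        · rintro ⟨h, -⟩
          have := congrFun h 0
          simp at this
      · left
        unfold QWt
        have := hbound_ab haI hbI
        rw [hd]; push_cast; linarith
  · -- L = ⊤
    have hL : L = ⊤ := by
      apply Submodule.eq_top_of_finrank_eq
      rw [hd]; simp
    by_cases hI : a ∈ I ∧ b ∈ I
    · right
      refine ⟨⊤, I', ?_, ?_, ?_, ?_⟩
      · intro i _ j; trivial
      · unfold br QWt
        rw [hsumI', hsplit, if_pos hI.1, if_pos hI.2, hd]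
        simp; ring
      · rintro ⟨h, -⟩
        have := congrFun h 0
        exact absurd this top_ne_bot
      · rintro ⟨-, hI'u⟩
        refine ⟨hL, ?_⟩
        rw [Finset.eq_univ_iff_forall]
        intro x
        by_cases hxa : x = a
        · rw [hxa]; exact hI.1
        by_cases hxb : x = b
        · rw [hxb]; exact hI.2
        have : (⟨x, hxa, hxb⟩ : {i : κ // i ≠ a ∧ i ≠ b}) ∈ I' := by
          rw [hI'u]; exact Finset.mem_univ _
        exact (hmemI' _).mp this
    · left
      unfold QWt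
      rw [hd]
      rw [not_and_or] at hI
      rcases hI with hI | hI
      · have := hbound_a hI; push_cast; linarith
      · have := hbound_b hI; push_cast; linarith

lemma sum_subtype_univ (hab : a ≠ b) (h2 : ∑ i, θ i = 2) :
    ∑ i : {i : κ // i ≠ a ∧ i ≠ b}, θ i.1 = 2 - θ a - θ b := by
  have h := Finset.sum_subtype_eq_sum_filter (s := (Finset.univ : Finset κ))
    (p := fun i => i ≠ a ∧ i ≠ b) (fun x => θ x)
  rw [Finset.subtype_univ] at h
  rw [h]
  have := sum_split θ Finset.univ hab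
  rw [if_pos (Finset.mem_univ _), if_pos (Finset.mem_univ _), h2] at this
  linarith

lemma P_total (hab : a ≠ b) (h2 : ∑ i, θ i = 2) (c : ℚ) :
    (∑ j, (![c * (θ a - 1), c * (θ b - 1)] : Fin 2 → ℚ) j)
      + ∑ i : {i : κ // i ≠ a ∧ i ≠ b}, c * θ i.1 = 0 := by
  rw [Fin.sum_univ_two, ← Finset.mul_sum, sum_subtype_univ hab h2]
  simp only [Matrix.cons_val_zero, Matrix.cons_val_one]
  ring

lemma linearIndependent_of_semistable (hab : a ≠ b) (hθ : 1 < θ a + θ b)
    (hQ : ∀ (L : Submodule K (Fin 2 → K)) (I : Finset κ), QSubrep s L I → QWt K (-1) θ L I ≤ 0) :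
    LinearIndependent K ![s a, s b] := by
  by_contra hnli
  rw [linearIndependent_iff_card_eq_finrank_span] at hnli
  have hle : (Set.range ![s a, s b]).finrank K ≤ Fintype.card (Fin 2) := finrank_range_le_card _
  have hlt : (Set.range ![s a, s b]).finrank K ≤ 1 := by
    simp only [Fintype.card_fin] at hnli hle; omega
  have := hQ (Submodule.span K (Set.range ![s a, s b])) {a, b} (by
    intro i hi
    rw [Finset.mem_insert, Finset.mem_singleton] at hi
    rcases hi with rfl | rfl
    · exact Submodule.subset_span ⟨0, rfl⟩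
    · exact Submodule.subset_span ⟨1, rfl⟩)
  unfold QWt at this
  rw [Finset.sum_pair hab] at this
  have h' : (Module.finrank K (Submodule.span K (Set.range ![s a, s b])) : ℚ) ≤ 1 := by
    exact_mod_cast hlt
  linarith

lemma exists_t (hli : LinearIndependent K ![s a, s b]) :
    ∃ t : {i : κ // i ≠ a ∧ i ≠ b} → (Fin 2 → K), ∀ i, s i.1 = t i 0 • s a + t i 1 • s b := by
  choose x y hxy using fun i : {i : κ // i ≠ a ∧ i ≠ b} => exists_coord hli (s i.1)
  exact ⟨fun i => ![x i, y i], fun i => by simpa using hxy i⟩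

theorem semistable_iff (hab : a ≠ b)
    (h0 : ∀ i, 0 ≤ θ i) (h1 : ∀ i, θ i ≤ 1) (h2 : ∑ i, θ i = 2)
    (hθ : 1 < θ a + θ b) (hθ' : θ a + θ b < 2) :
    PtQuiv.QSemistable (-1) θ s ↔
      (LinearIndependent K ![s a, s b] ∧
        ∀ t : {i : κ // i ≠ a ∧ i ≠ b} → (Fin 2 → K),
          (∀ i, s i.1 = t i 0 • s a + t i 1 • s b) →
            PtQuiv.PSemistable ![(2 - θ a - θ b)⁻¹ * (θ a - 1), (2 - θ a - θ b)⁻¹ * (θ b - 1)]
              (fun i : {i : κ // i ≠ a ∧ i ≠ b} => (2 - θ a - θ b)⁻¹ * θ i.1) t) := by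
  have hc : 0 < (2 - θ a - θ b)⁻¹ := inv_pos.mpr (by linarith)
  constructor
  · rintro ⟨_, hQ⟩
    have hli := linearIndependent_of_semistable hab hθ hQ
    refine ⟨hli, fun t ht => ⟨P_total hab h2 _, fun U I hUI => ?_⟩⟩
    obtain ⟨L, I', hsub, hw, -, -⟩ := P2Q (θ := θ) hli ht hab U I hUI
    rw [PWt_eq]
    have := hQ L I' hsub
    rw [hw] at this
    exact mul_nonpos_iff.mpr (Or.inl ⟨hc.le, this⟩)
  · rintro ⟨hli, H⟩
    obtain ⟨t, ht⟩ := exists_t hli
    obtain ⟨_, hP⟩ := H t ht
    refine ⟨by rw [h2]; norm_num, fun L I hLI => ?_⟩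
    rcases Q2P hli ht hab h0 h1 h2 hθ L I hLI with h | ⟨U, I', hsub, hw, -, -⟩
    · exact h.le
    · have := hP U I' hsub
      rw [PWt_eq] at this
      rw [← hw]
      exact le_of_mul_le_mul_left (by simpa using this) hc

theorem stable_iff (hab : a ≠ b)
    (h0 : ∀ i, 0 ≤ θ i) (h1 : ∀ i, θ i ≤ 1) (h2 : ∑ i, θ i = 2)
    (hθ : 1 < θ a + θ b) (hθ' : θ a + θ b < 2) :
    PtQuiv.QStable (-1) θ s ↔
      (LinearIndependent K ![s a, s b] ∧
        ∀ t : {i : κ // i ≠ a ∧ i ≠ b} → (Fin 2 → K),
          (∀ i, s i.1 = t i 0 • s a + t i 1 • s b) →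
            PtQuiv.PStable ![(2 - θ a - θ b)⁻¹ * (θ a - 1), (2 - θ a - θ b)⁻¹ * (θ b - 1)]
              (fun i : {i : κ // i ≠ a ∧ i ≠ b} => (2 - θ a - θ b)⁻¹ * θ i.1) t) := by
  have hc : 0 < (2 - θ a - θ b)⁻¹ := inv_pos.mpr (by linarith)
  constructor
  · rintro ⟨hss, hQst⟩
    have hss' := (semistable_iff hab h0 h1 h2 hθ hθ').mp hss
    refine ⟨hss'.1, fun t ht => ⟨hss'.2 t ht, fun U I hUI hw0 => ?_⟩⟩
    obtain ⟨L, I', hsub, hw, hbot, htop⟩ := P2Q (θ := θ) hss'.1 ht hab U I hUI
    rw [PWt_eq] at hw0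
    have hbr : br a b θ U I = 0 := by
      rcases mul_eq_zero.mp hw0 with h | h
      · exact absurd h hc.ne'
      · exact h
    rcases hQst L I' hsub (by rw [hw, hbr]) with h | h
    · exact Or.inl (hbot h)
    · exact Or.inr (htop h)
  · rintro ⟨hli, H⟩
    have hss : PtQuiv.QSemistable (-1) θ s :=
      (semistable_iff hab h0 h1 h2 hθ hθ').mpr ⟨hli, fun t ht => (H t ht).1⟩
    obtain ⟨t, ht⟩ := exists_t hli
    obtain ⟨_, hPst⟩ := H t ht
    refine ⟨hss, fun L I hLI hw0 => ?_⟩
    rcases Q2P hli ht hab h0 h1 h2 hθ L I hLI with h | ⟨U, I', hsub, hw, hbot, htop⟩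
    · rw [hw0] at h; exact absurd h (lt_irrefl _)
    · rcases hPst U I' hsub (by rw [PWt_eq, hw, hw0, mul_zero]) with h | h
      · exact Or.inl (hbot h)
      · exact Or.inr (htop h)

end

end Groth.Agent.H9.PtQuivRed
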