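import Mathlib

/-!
# `ℚ/ℤ` is divisible (instances), extension of characters
-/

set_option autoImplicit false

namespace Groth.Agent.H9.QmodZ

noncomputable instance divQNat : DivisibleBy ℚ ℕ := AddGroup.divisibleByNatOfDivisibleByInt ℚ

noncomputable instance divQZ : DivisibleBy (ℚ ⧸ AddSubgroup.zmultiples (1 : ℚ)) ℤ :=
  AddGroup.divisibleByIntOfDivisibleByNat _

/-- characters extend along injective homomorphisms -/
theorem exists_extension {A B : Type*} [AddCommGroup A] [AddCommGroup B] (i : A →+ B)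
    (hi : Function.Injective i) (χ : A →+ ℚ ⧸ AddSubgroup.zmultiples (1 : ℚ)) :
    ∃ ψ : B →+ ℚ ⧸ AddSubgroup.zmultiples (1 : ℚ), ψ.comp i = χ :=
  (Module.Baer.of_divisible (ℚ ⧸ AddSubgroup.zmultiples (1 : ℚ))).extension_property_addMonoidHom
    i hi χ

/-- characters separate points -/
theorem exists_character_ne_zero {Q : Type*} [AddCommGroup Q] {x : Q} (hx : x ≠ 0) :
    ∃ χ : Q →+ ℚ ⧸ AddSubgroup.zmultiples (1 : ℚ), χ x ≠ 0 := by
  obtain ⟨c, hc⟩ := CharacterModule.exists_character_apply_ne_zero_of_ne_zero hx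
  exact ⟨c, hc⟩

end Groth.Agent.H9.QmodZ

namespace Groth.Agent.H9.QmodZ

/-- the `n`-torsion of `ℚ/ℤ` is covered by the classes of `k/n`, `k < n` -/
theorem torsion_subset (n : ℕ) (hn : 0 < n) :
    {y : ℚ ⧸ AddSubgroup.zmultiples (1 : ℚ) | n • y = 0} ⊆
      Set.range (fun k : Fin n => (QuotientAddGroup.mk ((k : ℕ) / (n : ℚ) : ℚ) :
        ℚ ⧸ AddSubgroup.zmultiples (1 : ℚ))) := by
  intro y hy
  obtain ⟨q, rfl⟩ := QuotientAddGroup.mk_surjective y
  rw [Set.mem_setOf_eq, ← QuotientAddGroup.mk_nsmul, QuotientAddGroup.eq_zero_iff,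
    AddSubgroup.mem_zmultiples_iff] at hy
  obtain ⟨m, hm⟩ := hy
  have hn' : (n : ℚ) ≠ 0 := by exact_mod_cast hn.ne'
  have hq : q = (m : ℚ) / n := by
    rw [zsmul_eq_mul, mul_one, nsmul_eq_mul] at hm
    field_simp
    rw [hm]; ring
  have hmod : 0 ≤ m % (n : ℤ) ∧ m % (n : ℤ) < n :=
    ⟨Int.emod_nonneg _ (by exact_mod_cast hn.ne'), Int.emod_lt_of_pos _ (by exact_mod_cast hn)⟩
  refine ⟨⟨(m % (n : ℤ)).toNat, by omega⟩, ?_⟩
  dsimp only
  rw [QuotientAddGroup.eq, AddSubgroup.mem_zmultiples_iff]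
  refine ⟨m / (n : ℤ), ?_⟩
  rw [zsmul_eq_mul, mul_one, hq]
  have h1 : (((m % (n : ℤ)).toNat : ℕ) : ℚ) = ((m % (n : ℤ) : ℤ) : ℚ) := by
    have : (((m % (n : ℤ)).toNat : ℕ) : ℤ) = m % (n : ℤ) := Int.toNat_of_nonneg hmod.1
    exact_mod_cast this
  rw [h1]
  have h2 : (m : ℚ) = ((n : ℤ) : ℚ) * ((m / (n : ℤ) : ℤ) : ℚ) + ((m % (n : ℤ) : ℤ) : ℚ) := by
    exact_mod_cast (Int.mul_ediv_add_emod m n).symm
  rw [h2]
  push_cast
  field_simp
  ring

theorem finite_torsion (n : ℕ) (hn : 0 < n) :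
    {y : ℚ ⧸ AddSubgroup.zmultiples (1 : ℚ) | n • y = 0}.Finite :=
  (Set.finite_range _).subset (torsion_subset n hn)

theorem ncard_torsion_le (n : ℕ) (hn : 0 < n) :
    {y : ℚ ⧸ AddSubgroup.zmultiples (1 : ℚ) | n • y = 0}.ncard ≤ n := by
  calc {y : ℚ ⧸ AddSubgroup.zmultiples (1 : ℚ) | n • y = 0}.ncard
      ≤ (Set.range (fun k : Fin n => (QuotientAddGroup.mk ((k : ℕ) / (n : ℚ) : ℚ) :
        ℚ ⧸ AddSubgroup.zmultiples (1 : ℚ)))).ncard :=
        Set.ncard_le_ncard (torsion_subset n hn) (Set.finite_range _)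
    _ ≤ Nat.card (Fin n) := by
        rw [← Set.image_univ]
        exact (Set.ncard_image_le Set.finite_univ).trans (by rw [Set.ncard_univ])
    _ = n := by simp

/-- an injective character exists as soon as some nonzero element lies in every nonzero subgroup -/
theorem exists_injective_character {A : Type*} [AddCommGroup A] (a : A) (ha : a ≠ 0)
    (h : ∀ B : AddSubgroup A, B ≠ ⊥ → a ∈ B) :
    ∃ χ : A →+ ℚ ⧸ AddSubgroup.zmultiples (1 : ℚ), Function.Injective χ := by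
  obtain ⟨χ, hχ⟩ := exists_character_ne_zero ha
  refine ⟨χ, ?_⟩
  rw [← AddMonoidHom.ker_eq_bot_iff]
  by_contra hne
  exact hχ (AddMonoidHom.mem_ker.mp (h _ hne))

end Groth.Agent.H9.QmodZ
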