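import Mathlib

/-!
# Roots of unity congruent to `1` (Serre/Minkowski type lemma)
-/

set_option autoImplicit false
set_option linter.unusedSectionVars false
set_option linter.style.haveILetI false

namespace Groth.Agent.H9.RootUnit

open Polynomial

variable {O : Type*} [CommRing O] [IsDomain O] [CharZero O]

/-- Divisibility of integers in `O` descends to `ℕ` when the primes involved are non-units. -/
theorem nat_dvd_of_cast_dvd (a b : ℕ) (ha : a ≠ 0)
    (hO : ∀ p : ℕ, p.Prime → p ∣ a → ¬ IsUnit (p : O)) (h : (a : O) ∣ (b : O)) : a ∣ b := by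
  set d := Nat.gcd a b with hd
  have hd0 : d ≠ 0 := fun h0 => ha (Nat.eq_zero_of_gcd_eq_zero_left h0)
  obtain ⟨e, he⟩ : d ∣ a := Nat.gcd_dvd_left a b
  have hbez : (d : O) = (a : O) * ((Nat.gcdA a b : ℤ) : O) + (b : O) * ((Nat.gcdB a b : ℤ) : O) := by
    have := congrArg (fun z : ℤ => (z : O)) (Nat.gcd_eq_gcd_ab a b)
    simpa using this
  have h1 : (a : O) ∣ (d : O) := by
    rw [hbez]
    exact dvd_add (dvd_mul_right _ _) (h.mul_right _)
  obtain ⟨c, hc⟩ := h1
  have h2 : (e : O) * c = 1 := by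
    have hdO : (d : O) ≠ 0 := by exact_mod_cast hd0
    apply mul_left_cancel₀ hdO
    rw [mul_one, ← mul_assoc, ← Nat.cast_mul, ← he]
    exact hc.symm
  have he1 : e = 1 := by
    by_contra hne
    obtain ⟨q, hq, hqe⟩ := Nat.exists_prime_and_dvd hne
    apply hO q hq (hqe.trans ⟨d, by rw [he, mul_comm]⟩)
    have : (q : O) ∣ (e : O) := by exact_mod_cast (Nat.cast_dvd_cast (α := O) hqe)
    exact isUnit_of_dvd_one (this.trans ⟨c, h2.symm⟩)
  rw [he, he1, mul_one]
  exact Nat.gcd_dvd_right a b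

/-- Each `1 - μ`, `μ` a power of `α`, is divisible by `α - 1`. -/
theorem dvd_one_sub_sq (n : ℕ) (α μ : O) (i : ℕ) (hμ : α ^ i = μ) (h : (n : O) ∣ (α - 1) ^ 2) :
    (n : O) ∣ (1 - μ) ^ 2 := by
  have h1 : α - 1 ∣ μ - 1 := by
    have := sub_dvd_pow_sub_pow α 1 i
    rwa [one_pow, hμ] at this
  have h2 : (α - 1) ^ 2 ∣ (1 - μ) ^ 2 := by
    have : (1 - μ) ^ 2 = (μ - 1) ^ 2 := by ring
    rw [this]
    exact pow_dvd_pow_of_dvd h1 2
  exact h.trans h2

theorem key (n : ℕ) (hn : 2 ≤ n) (hO : ∀ p : ℕ, p.Prime → p ∣ n → ¬ IsUnit (p : O))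
    (α : O) (m : ℕ) (hm : IsPrimitiveRoot α m) (hmpos : 0 < m) (hm1 : m ≠ 1)
    (h : (n : O) ∣ (α - 1) ^ 2) :
    ∃ p k : ℕ, p.Prime ∧ m = p ^ (k + 1) ∧ n ^ (Nat.totient m) ∣ p ^ 2 := by
  classical
  haveI : NeZero m := ⟨hmpos.ne'⟩
  have hprod : ∀ x : O, eval x (cyclotomic m O) = ∏ μ ∈ primitiveRoots m O, (x - μ) := by
    intro x
    rw [cyclotomic_eq_prod_X_sub_primitiveRoots hm, eval_prod]
    simp
  have hα : α ∈ primitiveRoots m O := (mem_primitiveRoots hmpos).2 hm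
  by_cases hpp : ∃ p k : ℕ, p.Prime ∧ p ^ k = m
  · obtain ⟨p, k, hp, hpk⟩ := hpp
    have hk : k ≠ 0 := by
      rintro rfl
      exact hm1 (by rw [← hpk, pow_zero])
    obtain ⟨k', rfl⟩ := Nat.exists_eq_succ_of_ne_zero hk
    refine ⟨p, k', hp, hpk.symm, ?_⟩
    haveI : Fact p.Prime := ⟨hp⟩
    have he : eval 1 (cyclotomic m O) = p := by
      rw [← hpk]
      exact eval_one_cyclotomic_prime_pow k'
    have hdiv : (n : O) ^ (primitiveRoots m O).card ∣ ((p : O)) ^ 2 := by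
      rw [← he, hprod 1, ← Finset.prod_pow, ← Finset.prod_const]
      apply Finset.prod_dvd_prod_of_dvd
      intro μ hμ
      have hμ' : IsPrimitiveRoot μ m := (mem_primitiveRoots hmpos).1 hμ
      obtain ⟨i, _, hi⟩ := hm.eq_pow_of_pow_eq_one hμ'.pow_eq_one
      exact dvd_one_sub_sq n α μ i hi h
    rw [hm.card_primitiveRoots] at hdiv
    apply nat_dvd_of_cast_dvd (O := O)
    · exact pow_ne_zero _ (by omega)
    · intro q hq hqn
      exact hO q hq (hq.dvd_of_dvd_pow hqn)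
    · exact_mod_cast hdiv
  · exfalso
    have he : eval 1 (cyclotomic m O) = 1 := by
      apply eval_one_cyclotomic_not_prime_pow
      intro p hp k hk
      exact hpp ⟨p, k, hp, hk⟩
    have h1 : (1 - α) ∣ 1 := by
      have h0 : (1 - α) ∣ ∏ μ ∈ primitiveRoots m O, ((1 : O) - μ) :=
        Finset.dvd_prod_of_mem (fun μ : O => (1 : O) - μ) hα
      rwa [← hprod 1, he] at h0
    have h2 : (n : O) ∣ 1 := by
      refine h.trans ?_
      have : (α - 1) ^ 2 = (1 - α) ^ 2 := by ring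
      rw [this]
      have := pow_dvd_pow_of_dvd h1 2
      rwa [one_pow] at this
    obtain ⟨q, hq, hqn⟩ := Nat.exists_prime_and_dvd (show n ≠ 1 by omega)
    apply hO q hq hqn
    have : (q : O) ∣ (n : O) := by exact_mod_cast (Nat.cast_dvd_cast (α := O) hqn)
    exact isUnit_of_dvd_one (this.trans h2)

/-- The arithmetic conclusion. -/
theorem arith (n p k : ℕ) (hp : p.Prime) (hn : 2 ≤ n)
    (h : n ^ (Nat.totient (p ^ (k + 1))) ∣ p ^ 2) :
    (¬ 5 ≤ n) ∧ (n = 4 → p ^ (k + 1) = 2) ∧ (n = 3 → p ^ (k + 1) = 3) ∧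
      (n = 2 → p ^ (k + 1) ∣ 4) := by
  have ht : Nat.totient (p ^ (k + 1)) = p ^ k * (p - 1) := Nat.totient_prime_pow_succ hp k
  rw [ht] at h
  set t := p ^ k * (p - 1) with htdef
  have hp2 : 2 ≤ p := hp.two_le
  have htpos : 1 ≤ t := by
    have : 1 ≤ p ^ k := Nat.one_le_pow _ _ (by omega)
    have : 1 ≤ p - 1 := by omega
    exact Nat.one_le_iff_ne_zero.2 (Nat.mul_ne_zero (by omega) (by omega))
  have hnp : n ∣ p ^ 2 := (dvd_pow_self n (by omega)).trans h
  obtain ⟨j, hj, hnj⟩ := (Nat.dvd_prime_pow hp).1 hnp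
  have hj0 : j ≠ 0 := by
    rintro rfl
    rw [pow_zero] at hnj
    omega
  -- `p ^ (j * t) ∣ p ^ 2`
  have hjt : j * t ≤ 2 := by
    rw [hnj, ← pow_mul] at h
    exact (Nat.pow_dvd_pow_iff_le_right (by omega)).1 h
  have hj1 : 1 ≤ j := Nat.one_le_iff_ne_zero.2 hj0
  have ht2 : t ≤ 2 := by nlinarith
  -- `p - 1 ≤ t`
  have hpt : p - 1 ≤ t := by
    have : 1 ≤ p ^ k := Nat.one_le_pow _ _ (by omega)
    calc p - 1 = 1 * (p - 1) := by ring
      _ ≤ p ^ k * (p - 1) := Nat.mul_le_mul_right _ this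
  have hp3 : p ≤ 3 := by omega
  have hpcases : p = 2 ∨ p = 3 := by omega
  rcases hpcases with rfl | rfl
  · -- p = 2, t = 2 ^ k
    have htk : t = 2 ^ k := by rw [htdef]; norm_num
    have hk1 : k ≤ 1 := by
      by_contra hk
      have : 2 ^ 2 ≤ 2 ^ k := Nat.pow_le_pow_right (by norm_num) (by omega)
      omega
    have hjle : j ≤ 2 := hj
    interval_cases k <;> interval_cases j <;> simp_all
  · -- p = 3, t = 3 ^ k * 2
    have htk : t = 3 ^ k * 2 := by rw [htdef]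
    have hk0 : k = 0 := by
      by_contra hk
      have : 3 ^ 1 ≤ 3 ^ k := Nat.pow_le_pow_right (by norm_num) (by omega)
      omega
    subst hk0
    have hjle : j ≤ 2 := hj
    interval_cases j <;> simp_all

/-- Main theorem. -/
theorem main (n : ℕ) (hn : 0 < n) (hO : ∀ p : ℕ, p.Prime → p ∣ n → ¬ IsUnit (p : O))
    (α : O) (hα : IsOfFinOrder α) (h : (n : O) ∣ (α - 1) ^ 2) :
    (5 ≤ n → α = 1) ∧ (n = 4 → α ^ 2 = 1) ∧ (n = 3 → α ^ 3 = 1) ∧ (n = 2 → α ^ 4 = 1) := by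
  set m := orderOf α with hmdef
  have hmpos : 0 < m := hα.orderOf_pos
  have hm : IsPrimitiveRoot α m := IsPrimitiveRoot.orderOf α
  by_cases hm1 : m = 1
  · have : α = 1 := orderOf_eq_one_iff.1 hm1
    subst this
    simp
  by_cases hn2 : 2 ≤ n
  · obtain ⟨p, k, hp, hmp, hdiv⟩ := key n hn2 hO α m hm hmpos hm1 h
    rw [hmp] at hdiv
    obtain ⟨a5, a4, a3, a2⟩ := arith n p k hp hn2 hdiv
    refine ⟨fun h5 => absurd h5 a5, fun h4 => ?_, fun h3 => ?_, fun h2 => ?_⟩
    · have := a4 h4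
      rw [← hmp] at this
      rw [← this]
      exact pow_orderOf_eq_one α
    · have := a3 h3
      rw [← hmp] at this
      rw [← this]
      exact pow_orderOf_eq_one α
    · have := a2 h2
      rw [← hmp] at this
      exact orderOf_dvd_iff_pow_eq_one.1 this
  · have : n = 1 := by omega
    subst this
    refine ⟨fun h5 => by omega, fun h4 => by omega, fun h3 => by omega, fun h2 => by omega⟩

end Groth.Agent.H9.RootUnit
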