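import Mathlib

set_option autoImplicit false
set_option linter.unusedSectionVars false
universe u v

namespace Groth.Agent.H9.WedgeSpan

variable {A : Type u} [CommRing A] {ι : Type v} [Fintype ι] [DecidableEq ι]

/-- An alternating map in more variables than generators vanishes on the span of the generators. -/
theorem alt_eq_zero_of_span {M N : Type*} [AddCommGroup M] [Module A M] [AddCommGroup N]
    [Module A N] {n : ℕ} (g : M [⋀^Fin n]→ₗ[A] N) (H : Finset ι) (F : ι → M) (hn : H.card < n)
    (v : Fin n → M) (hv : ∀ k, v k ∈ Submodule.span A (F '' ↑H)) : g v = 0 := by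
  classical
  have : ∀ k, ∃ a : ι → A, v k = ∑ j ∈ H, a j • F j := by
    intro k
    obtain ⟨l, hl, hlk⟩ := (Finsupp.mem_span_image_iff_linearCombination A).mp (hv k)
    refine ⟨l, ?_⟩
    rw [← hlk, Finsupp.linearCombination_apply, Finsupp.sum]
    apply Finset.sum_subset
    · exact_mod_cast (Finsupp.mem_supported A l).mp hl
    · intro j _ hj; rw [Finsupp.notMem_support_iff.mp hj, zero_smul]
  choose a ha using this
  have hv' : v = fun k => ∑ j ∈ H, a k j • F j := funext ha
  rw [hv']
  show g.toMultilinearMap _ = 0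
  rw [MultilinearMap.map_sum_finset]
  apply Finset.sum_eq_zero
  intro r hr
  rw [Fintype.mem_piFinset] at hr
  rw [MultilinearMap.map_smul_univ]
  have hni : ¬ Function.Injective (fun k => F (r k)) := by
    intro hinj
    have hr_inj : Function.Injective r := fun k k' h => hinj (by simp only [h])
    have := Finset.card_le_card_of_injOn r (s := Finset.univ) (t := H) (fun k _ => hr k)
      hr_inj.injOn
    rw [Finset.card_univ, Fintype.card_fin] at this
    omega
  have : g.toMultilinearMap (fun k => F (r k)) = 0 := g.map_eq_zero_of_not_injective _ hni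
  rw [this, smul_zero]

/-- the marked vectors. -/
def F (H : Finset ι) (c : ι → ι → A) (j : ι) : ι → A :=
  Pi.single j (1 : A) - ∑ i ∈ Hᶜ, c j i • Pi.single i (1 : A)

lemma F_apply (H : Finset ι) (c : ι → ι → A) (j l : ι) :
    F H c j l = (if l = j then 1 else 0) - (if l ∈ Hᶜ then c j l else 0) := by
  unfold F
  rw [Pi.sub_apply, Finset.sum_apply]
  congr 1
  · rw [Pi.single_apply]
  · simp only [Pi.smul_apply, Pi.single_apply, smul_eq_mul, mul_ite, mul_one, mul_zero]
    rw [Finset.sum_ite_eq]

lemma F_apply_mem (H : Finset ι) (c : ι → ι → A) (j l : ι) (hl : l ∈ H) :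
    F H c j l = if l = j then 1 else 0 := by
  rw [F_apply, if_neg (show l ∉ Hᶜ by simpa using hl), sub_zero]

theorem coord_eq_zero (H : Finset ι) (c : ι → ι → A) (M : Submodule A (ι → A))
    (hf : ∀ j ∈ H, F H c j ∈ M)
    (hw : ∀ v : Fin (H.card + 1) → ι → A, (∀ k, v k ∈ M) →
          exteriorPower.ιMulti A (H.card + 1) v = 0)
    (u' : ι → A) (hu'M : u' ∈ M) (hu'H : ∀ l ∈ H, u' l = 0) (i : ι) (_hi : i ∉ H) : u' i = 0 := by
  classical
  have hcard : Fintype.card (↥H ⊕ Unit) = H.card + 1 := by simp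
  let σ : (↥H ⊕ Unit) ≃ Fin (H.card + 1) := Fintype.equivFinOfCardEq hcard
  let idx : ↥H ⊕ Unit → ι := Sum.elim Subtype.val (fun _ => i)
  let P : (ι → A) →ₗ[A] ((↥H ⊕ Unit) → A) := LinearMap.funLeft A A idx
  let D : (ι → A) [⋀^(↥H ⊕ Unit)]→ₗ[A] A := Matrix.detRowAlternating.compLinearMap P
  let D' : (ι → A) [⋀^Fin (H.card + 1)]→ₗ[A] A := D.domDomCongr σ
  let w : ↥H ⊕ Unit → (ι → A) := Sum.elim (fun j => F H c j.1) (fun _ => u')
  have hwM : ∀ x, w x ∈ M := by
    rintro (j | _)
    · exact hf j.1 j.2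
    · exact hu'M
  have h0 := hw (w ∘ σ.symm) (fun k => hwM _)
  have h1 : D' (w ∘ σ.symm) = 0 := by
    rw [← exteriorPower.alternatingMapLinearEquiv_apply_ιMulti D', h0, map_zero]
  have h2 : D' (w ∘ σ.symm) = D w := by
    show D ((w ∘ σ.symm) ∘ σ) = D w
    congr 1
    funext x; simp
  have h3 : D w = Matrix.det (Matrix.fromBlocks (1 : Matrix ↥H ↥H A)
      (Matrix.of fun (j : ↥H) (_ : Unit) => F H c j.1 i) 0
      (Matrix.of fun (_ _ : Unit) => u' i)) := by
    show Matrix.det (fun x => P (w x)) = _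
    congr 1
    funext x y
    rcases x with j | _ <;> rcases y with j' | _
    · show F H c j.1 j'.1 = _
      rw [Matrix.fromBlocks_apply₁₁, F_apply_mem H c _ _ j'.2, Matrix.one_apply]
      by_cases h : j = j'
      · rw [if_pos h, if_pos (by rw [h])]
      · rw [if_neg h, if_neg (fun h' => h (Subtype.ext h'.symm))]
    · rfl
    · show u' j'.1 = _
      rw [hu'H _ j'.2]; rfl
    · rfl
  rw [h2, h3, Matrix.det_fromBlocks_zero₂₁, Matrix.det_one, one_mul, Matrix.det_unique] at h1
  exact h1

theorem main (H : Finset ι) (c : ι → ι → A) (M : Submodule A (ι → A))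
    (hf : ∀ j ∈ H, F H c j ∈ M) :
    M = Submodule.span A (F H c '' ↑H)
      ↔ ∀ v : Fin (H.card + 1) → ι → A, (∀ k, v k ∈ M) →
          exteriorPower.ιMulti A (H.card + 1) v = 0 := by
  constructor
  · intro hM v hv
    exact alt_eq_zero_of_span (exteriorPower.ιMulti A (H.card + 1)) H (F H c) (Nat.lt_succ_self _) v
      (fun k => by rw [← hM]; exact hv k)
  · intro hw
    apply le_antisymm
    · intro u hu
      set u' : ι → A := u - ∑ j ∈ H, u j • F H c j with hu'
      have hu'M : u' ∈ M :=
        M.sub_mem hu (M.sum_mem fun j hj => M.smul_mem _ (hf j hj))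
      have hu'H : ∀ l ∈ H, u' l = 0 := by
        intro l hl
        rw [hu', Pi.sub_apply, Finset.sum_apply]
        simp only [Pi.smul_apply, smul_eq_mul, F_apply_mem H c _ l hl, mul_ite, mul_one, mul_zero]
        rw [Finset.sum_ite_eq, if_pos hl, sub_self]
      have hzero : u' = 0 := by
        funext l
        by_cases hl : l ∈ H
        · exact hu'H l hl
        · exact coord_eq_zero H c M hf hw u' hu'M hu'H l hl
      have : u = ∑ j ∈ H, u j • F H c j := by
        rw [← sub_eq_zero]; exact hzero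
      rw [this]
      exact Submodule.sum_mem _ fun j hj =>
        Submodule.smul_mem _ _ (Submodule.subset_span ⟨j, hj, rfl⟩)
    · rw [Submodule.span_le]
      rintro _ ⟨j, hj, rfl⟩
      exact hf j hj

end Groth.Agent.H9.WedgeSpan
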