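import Mathlib
import Groth.Prelude.Def_W4c6secantcecoversSchSt
import Groth.Agent.Lib.Helper9.WedgeSpan

set_option autoImplicit false
universe u v
open TensorProduct CliffordAlgebra W4c6secantcecovers

namespace Groth.Agent.H9.SchSt

section Leibniz
variable {R : Type u} [CommRing R] {M : Type v} [AddCommGroup M] [Module R M]

lemma contractLeft_ιMulti_mul (d : Module.Dual R M) :
    ∀ (n : ℕ) (v : Fin n → M) (η : ExteriorAlgebra R M),
    contractLeft (Q := (0 : QuadraticForm R M)) d (ExteriorAlgebra.ιMulti R n v * η)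
      = contractLeft (Q := (0 : QuadraticForm R M)) d (ExteriorAlgebra.ιMulti R n v) * η
        + (-1 : R) ^ n • (ExteriorAlgebra.ιMulti R n v *
            contractLeft (Q := (0 : QuadraticForm R M)) d η) := by
  intro n
  induction n with
  | zero =>
    intro v η
    simp [contractLeft_one]
  | succ n ih =>
    intro v η
    rw [ExteriorAlgebra.ιMulti_succ_apply, mul_assoc]
    have h1 := contractLeft_ι_mul (Q := (0 : QuadraticForm R M)) (d := d) (v 0)
      (ExteriorAlgebra.ιMulti R n (Matrix.vecTail v) * η)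
    have h2 := contractLeft_ι_mul (Q := (0 : QuadraticForm R M)) (d := d) (v 0)
      (ExteriorAlgebra.ιMulti R n (Matrix.vecTail v))
    change contractLeft d (ι (0 : QuadraticForm R M) (v 0) * _) = _ at h1
    erw [h1, ih, h2]
    simp only [mul_add, sub_mul, smul_mul_assoc, mul_smul_comm, pow_succ, mul_assoc, mul_neg,
      mul_one, neg_smul]
    abel

end Leibniz

section Main
variable (R : Type u) [CommRing R] (r : ℕ) (N : Type v) [AddCommGroup N] [Module R N]

lemma ιMulti_eq_zero_of_lt {n : ℕ} (hn : r < n) (v : Fin n → (Fin r → R)) :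
    ExteriorAlgebra.ιMulti R n v = 0 := by
  classical
  apply WedgeSpan.alt_eq_zero_of_span (ExteriorAlgebra.ιMulti R n) (Finset.univ : Finset (Fin r))
    (fun j => Pi.single j (1 : R)) (by simpa using hn) v
  intro k
  have : Submodule.span R ((fun j : Fin r => (Pi.single j (1 : R) : Fin r → R)) '' ↑(Finset.univ : Finset (Fin r))) = ⊤ := by
    rw [Finset.coe_univ, Set.image_univ]
    have := (Pi.basisFun R (Fin r)).span_eq
    convert this using 2
    ext j; simp [Pi.basisFun_apply]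
  rw [this]; trivial

lemma ssDelta_tmul (φ : Fin r → (N →ₗ[R] N)) (ω : SSLam R r) (s : MvPolynomial (Fin r) R) (n : N) :
    ssDelta R r N φ ((ω ⊗ₜ[R] s) ⊗ₜ[R] n) =
      ∑ j : Fin r, (((ssContr R r j ω) ⊗ₜ[R] (MvPolynomial.X j * s)) ⊗ₜ[R] n
        + (-1 : R) • (((ssContr R r j ω) ⊗ₜ[R] s) ⊗ₜ[R] (φ j n))) := by
  unfold ssDelta ssDKoszul ssDAct
  rw [LinearMap.sum_apply]
  refine Finset.sum_congr rfl fun j _ => ?_
  simp only [LinearMap.add_apply, LinearMap.smul_apply, TensorProduct.map_tmul,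
    LinearMap.mulLeft_apply, LinearMap.id_apply]

lemma ssPair_tmul (β : N →ₗ[R] N →ₗ[R] R) (k : ℕ) (b b' : SSB R r) (n m : N) :
    ssPair R r N β k (b ⊗ₜ[R] n) (b' ⊗ₜ[R] m) = ((-1 : R) ^ (k.choose 2)) • (β n m • (b * b')) := by
  unfold ssPair ssPairAux
  simp only [LinearMap.smul_apply, TensorProduct.curry_apply, LinearMap.comp_apply,
    LinearEquiv.coe_coe, TensorProduct.tensorTensorTensorComm_tmul, TensorProduct.map_tmul,
    LinearMap.mul'_apply, TensorProduct.lift.tmul, TensorProduct.rid_tmul]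

theorem main (φ : Fin r → (N →ₗ[R] N)) (β : N →ₗ[R] N →ₗ[R] R)
    (hβ : ∀ (j : Fin r) (n m : N), β (φ j n) m = β n (φ j m))
    (k : ℕ) (hk : k < r)
    (e : Fin (k + 1) → (Fin r → R)) (f : Fin (r - k) → (Fin r → R))
    (s t : MvPolynomial (Fin r) R) (n m : N) :
    ssPair R r N β k
        (ssDelta R r N φ ((ExteriorAlgebra.ιMulti R (k + 1) e ⊗ₜ[R] s) ⊗ₜ[R] n))
        ((ExteriorAlgebra.ιMulti R (r - k) f ⊗ₜ[R] t) ⊗ₜ[R] m) =
      ssPair R r N β (k + 1)
        ((ExteriorAlgebra.ιMulti R (k + 1) e ⊗ₜ[R] s) ⊗ₜ[R] n)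
        (ssDelta R r N φ ((ExteriorAlgebra.ιMulti R (r - k) f ⊗ₜ[R] t) ⊗ₜ[R] m)) := by
  set ω := ExteriorAlgebra.ιMulti R (k + 1) e with hω
  set η := ExteriorAlgebra.ιMulti R (r - k) f with hη
  have hzero : ω * η = 0 := by
    rw [hω, hη, ExteriorAlgebra.ιMulti_mul_ιMulti]
    exact ιMulti_eq_zero_of_lt R r (by omega) _
  have hK : ∀ j : Fin r, ssContr R r j ω * η = (-1 : R) ^ k • (ω * ssContr R r j η) := by
    intro j
    have := contractLeft_ιMulti_mul (LinearMap.proj (R := R) (φ := fun _ : Fin r => R) j) (k + 1) e η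
    rw [← hω, hzero, map_zero] at this
    unfold ssContr
    rw [pow_succ] at this
    have h2 := eq_neg_of_add_eq_zero_left this.symm
    rw [h2]
    simp
  rw [ssDelta_tmul, ssDelta_tmul]
  simp only [map_sum, LinearMap.sum_apply, map_add, LinearMap.add_apply, map_smul,
    LinearMap.smul_apply, ssPair_tmul, Algebra.TensorProduct.tmul_mul_tmul, hK, hβ]
  refine Finset.sum_congr rfl fun j _ => ?_
  have hch : (k + 1).choose 2 = k + k.choose 2 := by
    rw [Nat.choose_succ_succ' k 1, Nat.choose_one_right]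
  rw [hch, pow_add]
  simp only [TensorProduct.smul_tmul', smul_smul]
  have hXs : MvPolynomial.X j * s * t = s * (MvPolynomial.X j * t) := by ring
  rw [hXs]
  congr 1 <;> congr 2 <;> ring

end Main

end Groth.Agent.H9.SchSt
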