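import Mathlib

/-!
Helper lemmas on `V ⊗ V` over `ZMod 2`: the span `Na` of the squares `v ⊗ v`, the span `Ns` of the
symmetrised tensors `x ⊗ y + y ⊗ x`, and the off-diagonal span attached to a basis.
-/

open TensorProduct

namespace Groth.Agent.H9.SymExt

variable {V : Type*} [AddCommGroup V] [Module (ZMod 2) V]

/-- span of the squares -/
def Na (V : Type*) [AddCommGroup V] [Module (ZMod 2) V] : Submodule (ZMod 2) (V ⊗[ZMod 2] V) :=
  Submodule.span (ZMod 2) (Set.range fun v : V => v ⊗ₜ[ZMod 2] v)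

/-- span of the symmetrised tensors -/
def Ns (V : Type*) [AddCommGroup V] [Module (ZMod 2) V] : Submodule (ZMod 2) (V ⊗[ZMod 2] V) :=
  Submodule.span (ZMod 2) (Set.range fun p : V × V => p.1 ⊗ₜ[ZMod 2] p.2 + p.2 ⊗ₜ[ZMod 2] p.1)

theorem add_self_eq_zero (t : V ⊗[ZMod 2] V) : t + t = 0 := by
  rw [← two_smul (ZMod 2) t]
  have : (2 : ZMod 2) = 0 := by decide
  rw [this, zero_smul]

theorem Ns_le_Na : Ns V ≤ Na V := by
  unfold Ns Na
  rw [Submodule.span_le]
  rintro _ ⟨⟨x, y⟩, rfl⟩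
  have h : x ⊗ₜ[ZMod 2] y + y ⊗ₜ[ZMod 2] x =
      (x + y) ⊗ₜ[ZMod 2] (x + y) - x ⊗ₜ[ZMod 2] x - y ⊗ₜ[ZMod 2] y := by
    rw [TensorProduct.add_tmul, TensorProduct.tmul_add, TensorProduct.tmul_add]
    abel
  simp only
  rw [h]
  refine Submodule.sub_mem _ (Submodule.sub_mem _ ?_ ?_) ?_ <;>
    exact Submodule.subset_span ⟨_, rfl⟩

variable {ι : Type*} (b : Module.Basis ι (ZMod 2) V)

/-- off-diagonal span -/
def Woff : Submodule (ZMod 2) (V ⊗[ZMod 2] V) :=
  Submodule.span (ZMod 2) {t | ∃ i j : ι, i ≠ j ∧ t = b i ⊗ₜ[ZMod 2] b j}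

/-- diagonal span -/
def Diag : Submodule (ZMod 2) (V ⊗[ZMod 2] V) :=
  Submodule.span (ZMod 2) (Set.range fun i : ι => b i ⊗ₜ[ZMod 2] b i)

theorem Ns_le_Woff : Ns V ≤ Woff b := by
  unfold Ns
  rw [Submodule.span_le]
  rintro _ ⟨⟨x, y⟩, rfl⟩
  simp only
  have hx : x ∈ Submodule.span (ZMod 2) (Set.range b) := b.mem_span x
  induction hx using Submodule.span_induction with
  | mem x hx =>
    obtain ⟨i, rfl⟩ := hx
    have hy : y ∈ Submodule.span (ZMod 2) (Set.range b) := b.mem_span y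
    induction hy using Submodule.span_induction with
    | mem y hy =>
      obtain ⟨j, rfl⟩ := hy
      by_cases hij : i = j
      · subst hij
        rw [add_self_eq_zero]
        exact Submodule.zero_mem _
      · exact Submodule.add_mem _ (Submodule.subset_span ⟨i, j, hij, rfl⟩)
          (Submodule.subset_span ⟨j, i, Ne.symm hij, rfl⟩)
    | zero => simp
    | add u v _ _ hu hv =>
      have : b i ⊗ₜ[ZMod 2] (u + v) + (u + v) ⊗ₜ[ZMod 2] b i =
          (b i ⊗ₜ[ZMod 2] u + u ⊗ₜ[ZMod 2] b i) + (b i ⊗ₜ[ZMod 2] v + v ⊗ₜ[ZMod 2] b i) := by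
        rw [TensorProduct.tmul_add, TensorProduct.add_tmul]; abel
      rw [SetLike.mem_coe, this]
      exact Submodule.add_mem _ hu hv
    | smul c u _ hu =>
      have : b i ⊗ₜ[ZMod 2] (c • u) + (c • u) ⊗ₜ[ZMod 2] b i =
          c • (b i ⊗ₜ[ZMod 2] u + u ⊗ₜ[ZMod 2] b i) := by
        simp only [TensorProduct.tmul_smul, TensorProduct.smul_tmul', smul_add]
      rw [SetLike.mem_coe, this]
      exact Submodule.smul_mem _ _ hu
  | zero => simp
  | add u v _ _ hu hv =>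
    have : (u + v) ⊗ₜ[ZMod 2] y + y ⊗ₜ[ZMod 2] (u + v) =
        (u ⊗ₜ[ZMod 2] y + y ⊗ₜ[ZMod 2] u) + (v ⊗ₜ[ZMod 2] y + y ⊗ₜ[ZMod 2] v) := by
      rw [TensorProduct.tmul_add, TensorProduct.add_tmul]; abel
    rw [SetLike.mem_coe, this]
    exact Submodule.add_mem _ hu hv
  | smul c u _ hu =>
    have : (c • u) ⊗ₜ[ZMod 2] y + y ⊗ₜ[ZMod 2] (c • u) =
        c • (u ⊗ₜ[ZMod 2] y + y ⊗ₜ[ZMod 2] u) := by
      simp only [TensorProduct.tmul_smul, TensorProduct.smul_tmul', smul_add]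
    rw [SetLike.mem_coe, this]
    exact Submodule.smul_mem _ _ hu

theorem Na_le_Diag_sup_Ns : Na V ≤ Diag b ⊔ Ns V := by
  unfold Na
  rw [Submodule.span_le]
  rintro _ ⟨v, rfl⟩
  simp only
  have hv : v ∈ Submodule.span (ZMod 2) (Set.range b) := b.mem_span v
  induction hv using Submodule.span_induction with
  | mem x hx =>
    obtain ⟨i, rfl⟩ := hx
    exact Submodule.mem_sup_left (Submodule.subset_span ⟨i, rfl⟩)
  | zero => simp
  | add u v _ _ hu hv =>
    have : (u + v) ⊗ₜ[ZMod 2] (u + v) =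
        (u ⊗ₜ[ZMod 2] u + v ⊗ₜ[ZMod 2] v) + (u ⊗ₜ[ZMod 2] v + v ⊗ₜ[ZMod 2] u) := by
      rw [TensorProduct.add_tmul, TensorProduct.tmul_add, TensorProduct.tmul_add]; abel
    rw [SetLike.mem_coe, this]
    refine Submodule.add_mem _ (Submodule.add_mem _ hu hv) ?_
    exact Submodule.mem_sup_right (Submodule.subset_span ⟨(u, v), rfl⟩)
  | smul c u _ hu =>
    have : (c • u) ⊗ₜ[ZMod 2] (c • u) = (c * c) • (u ⊗ₜ[ZMod 2] u) := by
      simp only [TensorProduct.tmul_smul, TensorProduct.smul_tmul', smul_smul]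
    rw [SetLike.mem_coe, this]
    exact Submodule.smul_mem _ _ hu

theorem Diag_le_Na : Diag b ≤ Na V := by
  unfold Diag Na
  apply Submodule.span_mono
  rintro _ ⟨i, rfl⟩
  exact ⟨b i, rfl⟩

theorem repr_diag_of_mem_Woff [DecidableEq ι] {t : V ⊗[ZMod 2] V} (ht : t ∈ Woff b) (k : ι) :
    (b.tensorProduct b).repr t (k, k) = 0 := by
  unfold Woff at ht
  refine Submodule.span_induction
    (p := fun t _ => (b.tensorProduct b).repr t (k, k) = 0) ?_ ?_ ?_ ?_ ht
  · rintro x ⟨i, j, hij, rfl⟩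
    rw [← Module.Basis.tensorProduct_apply, Module.Basis.repr_self, Finsupp.single_apply]
    rw [if_neg]
    intro h
    apply hij
    have h1 := congrArg Prod.fst h
    have h2 := congrArg Prod.snd h
    simp only at h1 h2
    rw [h1, h2]
  · simp
  · intro u v _ _ hu hv
    rw [map_add, Finsupp.add_apply, hu, hv, add_zero]
  · intro c u _ hu
    rw [map_smul, Finsupp.smul_apply, hu, smul_zero]

theorem repr_offdiag_of_mem_Diag [DecidableEq ι] {t : V ⊗[ZMod 2] V} (ht : t ∈ Diag b) (i j : ι)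
    (hij : i ≠ j) : (b.tensorProduct b).repr t (i, j) = 0 := by
  unfold Diag at ht
  refine Submodule.span_induction
    (p := fun t _ => (b.tensorProduct b).repr t (i, j) = 0) ?_ ?_ ?_ ?_ ht
  · rintro x ⟨k, rfl⟩
    simp only
    rw [← Module.Basis.tensorProduct_apply, Module.Basis.repr_self, Finsupp.single_apply]
    rw [if_neg]
    intro h
    apply hij
    have h1 := congrArg Prod.fst h
    have h2 := congrArg Prod.snd h
    simp only at h1 h2
    rw [← h1, ← h2]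
  · simp
  · intro u v _ _ hu hv
    rw [map_add, Finsupp.add_apply, hu, hv, add_zero]
  · intro c u _ hu
    rw [map_smul, Finsupp.smul_apply, hu, smul_zero]

theorem Woff_inf_Diag : Woff b ⊓ Diag b = ⊥ := by
  classical
  rw [eq_bot_iff]
  rintro t ⟨htW, htD⟩
  rw [Submodule.mem_bot]
  apply (b.tensorProduct b).repr.injective
  rw [map_zero]
  ext ⟨i, j⟩
  by_cases hij : i = j
  · subst hij
    simpa using repr_diag_of_mem_Woff b htW i
  · simpa using repr_offdiag_of_mem_Diag b htD i j hij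

theorem Woff_sup_Diag : Woff b ⊔ Diag b = ⊤ := by
  rw [eq_top_iff, ← (b.tensorProduct b).span_eq, Submodule.span_le]
  rintro _ ⟨⟨i, j⟩, rfl⟩
  rw [Module.Basis.tensorProduct_apply]
  by_cases hij : i = j
  · subst hij
    exact Submodule.mem_sup_right (Submodule.subset_span ⟨i, rfl⟩)
  · exact Submodule.mem_sup_left (Submodule.subset_span ⟨i, j, hij, rfl⟩)

theorem Woff_inf_Na : Woff b ⊓ Na V = Ns V := by
  apply le_antisymm
  · rintro t ⟨htW, htN⟩
    obtain ⟨d, hd, n, hn, rfl⟩ := Submodule.mem_sup.mp (Na_le_Diag_sup_Ns b htN)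
    have hdW : d ∈ Woff b := by
      have : d = (d + n) - n := by abel
      rw [this]
      exact Submodule.sub_mem _ htW (Ns_le_Woff b hn)
    have hd0 : d ∈ Woff b ⊓ Diag b := ⟨hdW, hd⟩
    rw [Woff_inf_Diag, Submodule.mem_bot] at hd0
    rw [hd0, zero_add]
    exact hn
  · exact le_inf (Ns_le_Woff b) Ns_le_Na

theorem Woff_sup_Na : Woff b ⊔ Na V = ⊤ := by
  rw [eq_top_iff, ← Woff_sup_Diag b]
  exact sup_le_sup_left (Diag_le_Na b) _

end Groth.Agent.H9.SymExt
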