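import Mathlib
import Groth.Agent.Lib.Helper9.SymExt

/-!
# Coordinates on `V ⊗ V` over `𝔽₂` (helper9)
-/

set_option autoImplicit false

open TensorProduct

namespace Groth.Agent.H9.SymCoord

open Groth.Agent.H9.SymExt

variable {V : Type*} [AddCommGroup V] [Module (ZMod 2) V]
variable {ι : Type*} [Fintype ι] [DecidableEq ι] (b : Module.Basis ι (ZMod 2) V)

theorem repr_map_map (f : V →ₗ[ZMod 2] V) (t : V ⊗[ZMod 2] V) (k l : ι) :
    (b.tensorProduct b).repr (TensorProduct.map f f t) (k, l) =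
      ∑ i, ∑ j, b.repr (f (b i)) k * b.repr (f (b j)) l * (b.tensorProduct b).repr t (i, j) := by
  induction t using TensorProduct.induction_on with
  | zero => simp
  | add x y hx hy =>
    rw [map_add, map_add, Finsupp.add_apply, hx, hy, ← Finset.sum_add_distrib]
    refine Finset.sum_congr rfl fun i _ => ?_
    rw [← Finset.sum_add_distrib]
    refine Finset.sum_congr rfl fun j _ => ?_
    rw [map_add, Finsupp.add_apply, mul_add]
  | tmul x y =>
    rw [TensorProduct.map_tmul, Module.Basis.tensorProduct_repr_tmul_apply]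
    simp only [Module.Basis.tensorProduct_repr_tmul_apply, smul_eq_mul]
    have hx : f x = ∑ i, b.repr x i • f (b i) := by
      conv_lhs => rw [← b.sum_repr x, map_sum]
      simp
    have hy : f y = ∑ j, b.repr y j • f (b j) := by
      conv_lhs => rw [← b.sum_repr y, map_sum]
      simp
    conv_lhs => rw [hx, hy]
    simp only [map_sum, map_smul, Finsupp.coe_finsetSum, Finsupp.coe_smul, Finset.sum_apply,
      Pi.smul_apply, smul_eq_mul]
    rw [Finset.sum_mul_sum, Finset.sum_comm]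
    refine Finset.sum_congr rfl fun i _ => ?_
    refine Finset.sum_congr rfl fun j _ => ?_
    ring

theorem repr_symm_of_mem_Na {t : V ⊗[ZMod 2] V} (ht : t ∈ Na V) (i j : ι) :
    (b.tensorProduct b).repr t (i, j) = (b.tensorProduct b).repr t (j, i) := by
  unfold Na at ht
  induction ht using Submodule.span_induction with
  | mem x hx =>
    obtain ⟨v, rfl⟩ := hx
    simp only [Module.Basis.tensorProduct_repr_tmul_apply, smul_eq_mul]
    ring
  | zero => simp
  | add x y _ _ hx hy => rw [map_add, Finsupp.add_apply, Finsupp.add_apply, hx, hy]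
  | smul c x _ hx => rw [map_smul, Finsupp.smul_apply, Finsupp.smul_apply, hx]

theorem repr_diag_of_mem_Ns {t : V ⊗[ZMod 2] V} (ht : t ∈ Ns V) (i : ι) :
    (b.tensorProduct b).repr t (i, i) = 0 := by
  unfold Ns at ht
  induction ht using Submodule.span_induction with
  | mem x hx =>
    obtain ⟨⟨v, w⟩, rfl⟩ := hx
    simp only [map_add, Finsupp.add_apply, Module.Basis.tensorProduct_repr_tmul_apply, smul_eq_mul]
    rw [mul_comm]
    exact CharTwo.add_self_eq_zero _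
  | zero => simp
  | add x y _ _ hx hy => rw [map_add, Finsupp.add_apply, hx, hy, add_zero]
  | smul c x _ hx => rw [map_smul, Finsupp.smul_apply, hx, smul_zero]

section Two

variable (b2 : Module.Basis (Fin 2) (ZMod 2) V)

theorem eq_sum2 (t : V ⊗[ZMod 2] V) :
    t = (b2.tensorProduct b2).repr t (0, 0) • (b2 0 ⊗ₜ[ZMod 2] b2 0) +
      (b2.tensorProduct b2).repr t (0, 1) • (b2 0 ⊗ₜ[ZMod 2] b2 1) +
      (b2.tensorProduct b2).repr t (1, 0) • (b2 1 ⊗ₜ[ZMod 2] b2 0) +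
      (b2.tensorProduct b2).repr t (1, 1) • (b2 1 ⊗ₜ[ZMod 2] b2 1) := by
  conv_lhs => rw [← (b2.tensorProduct b2).sum_repr t]
  rw [Fintype.sum_prod_type, Fin.sum_univ_two, Fin.sum_univ_two, Fin.sum_univ_two]
  simp only [Module.Basis.tensorProduct_apply]
  abel

theorem mem_Na_of_symm2 {t : V ⊗[ZMod 2] V}
    (h : (b2.tensorProduct b2).repr t (0, 1) = (b2.tensorProduct b2).repr t (1, 0)) :
    t ∈ Na V := by
  rw [eq_sum2 b2 t, h]
  have h1 : ∀ v : V, v ⊗ₜ[ZMod 2] v ∈ Na V := fun v => Submodule.subset_span ⟨v, rfl⟩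
  have h2 : b2 0 ⊗ₜ[ZMod 2] b2 1 + b2 1 ⊗ₜ[ZMod 2] b2 0 ∈ Na V :=
    Ns_le_Na (Submodule.subset_span ⟨(b2 0, b2 1), rfl⟩)
  rw [add_assoc ((b2.tensorProduct b2).repr t (0, 0) • _), ← smul_add]
  exact Submodule.add_mem _ (Submodule.add_mem _ (Submodule.smul_mem _ _ (h1 _))
    (Submodule.smul_mem _ _ h2)) (Submodule.smul_mem _ _ (h1 _))

theorem mem_Ns_of2 {t : V ⊗[ZMod 2] V}
    (h : (b2.tensorProduct b2).repr t (0, 1) = (b2.tensorProduct b2).repr t (1, 0))
    (h0 : (b2.tensorProduct b2).repr t (0, 0) = 0) (h1 : (b2.tensorProduct b2).repr t (1, 1) = 0) :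
    t ∈ Ns V := by
  rw [eq_sum2 b2 t, h, h0, h1, zero_smul, zero_smul, zero_add, add_zero, ← smul_add]
  exact Submodule.smul_mem _ _ (Submodule.subset_span ⟨(b2 0, b2 1), rfl⟩)

/-- the invariant complement in dimension two -/
noncomputable def W2 : Submodule (ZMod 2) (V ⊗[ZMod 2] V) :=
  LinearMap.ker ((b2.tensorProduct b2).coord (0, 0) + (b2.tensorProduct b2).coord (1, 1)) ⊓
    LinearMap.ker ((b2.tensorProduct b2).coord (0, 0) + (b2.tensorProduct b2).coord (0, 1) +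
      (b2.tensorProduct b2).coord (1, 0))

theorem mem_W2 (t : V ⊗[ZMod 2] V) : t ∈ W2 b2 ↔
    (b2.tensorProduct b2).repr t (0, 0) + (b2.tensorProduct b2).repr t (1, 1) = 0 ∧
    (b2.tensorProduct b2).repr t (0, 0) + (b2.tensorProduct b2).repr t (0, 1) +
      (b2.tensorProduct b2).repr t (1, 0) = 0 := by
  simp [W2, Module.Basis.coord_apply]

theorem det_eq_one_of_leftInverse (f f' : V →ₗ[ZMod 2] V) (h : ∀ v, f' (f v) = v) :
    b2.repr (f (b2 0)) 0 * b2.repr (f (b2 1)) 1 + b2.repr (f (b2 1)) 0 * b2.repr (f (b2 0)) 1 = 1 := by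
  have h1 : LinearMap.toMatrix b2 b2 f' * LinearMap.toMatrix b2 b2 f = 1 := by
    rw [← LinearMap.toMatrix_comp, ← LinearMap.toMatrix_id b2]
    congr 1
    ext v
    exact h v
  have h2 := congrArg Matrix.det h1
  rw [Matrix.det_mul, Matrix.det_one] at h2
  have h3 : (LinearMap.toMatrix b2 b2 f).det ≠ 0 := by
    intro h0
    rw [h0, mul_zero] at h2
    exact zero_ne_one h2
  have h4 : ∀ x : ZMod 2, x ≠ 0 → x = 1 := by decide
  have h5 := h4 _ h3
  rw [Matrix.det_fin_two] at h5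
  simp only [LinearMap.toMatrix_apply] at h5
  have h6 : ∀ x y : ZMod 2, x - y = x + y := by decide
  rw [h6] at h5
  rw [← h5]

theorem map_mem_W2 (f f' : V →ₗ[ZMod 2] V) (h : ∀ v, f' (f v) = v) {t : V ⊗[ZMod 2] V}
    (ht : t ∈ W2 b2) : TensorProduct.map f f t ∈ W2 b2 := by
  rw [mem_W2] at ht ⊢
  have hdet := det_eq_one_of_leftInverse b2 f f' h
  simp only [repr_map_map, Fin.sum_univ_two]
  generalize b2.repr (f (b2 0)) 0 = a at *
  generalize b2.repr (f (b2 0)) 1 = c at *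
  generalize b2.repr (f (b2 1)) 0 = b' at *
  generalize b2.repr (f (b2 1)) 1 = d at *
  generalize (b2.tensorProduct b2).repr t (0, 0) = t00 at *
  generalize (b2.tensorProduct b2).repr t (0, 1) = t01 at *
  generalize (b2.tensorProduct b2).repr t (1, 0) = t10 at *
  generalize (b2.tensorProduct b2).repr t (1, 1) = t11 at *
  revert a c b' d t00 t01 t10 t11
  decide

theorem W2_inf_Na : W2 b2 ⊓ Na V = Ns V := by
  apply le_antisymm
  · rintro t ⟨ht1, ht2⟩
    rw [SetLike.mem_coe, mem_W2] at ht1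
    have hs := repr_symm_of_mem_Na b2 ht2 0 1
    have key : ∀ t00 t01 t10 t11 : ZMod 2, t00 + t11 = 0 ∧ t00 + t01 + t10 = 0 → t01 = t10 →
        t00 = 0 ∧ t11 = 0 := by decide
    obtain ⟨h0, h1⟩ := key _ _ _ _ ht1 hs
    exact mem_Ns_of2 b2 hs h0 h1
  · intro t ht
    refine ⟨?_, Ns_le_Na ht⟩
    rw [SetLike.mem_coe, mem_W2]
    have h0 := repr_diag_of_mem_Ns b2 ht 0
    have h1 := repr_diag_of_mem_Ns b2 ht 1
    have hs := repr_symm_of_mem_Na b2 (Ns_le_Na ht) 0 1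
    rw [h0, h1, hs]
    refine ⟨by simp, ?_⟩
    rw [zero_add]
    exact CharTwo.add_self_eq_zero _

theorem W2_sup_Na : W2 b2 ⊔ Na V = ⊤ := by
  rw [eq_top_iff]
  intro t _
  by_cases hs : (b2.tensorProduct b2).repr t (0, 1) = (b2.tensorProduct b2).repr t (1, 0)
  · exact Submodule.mem_sup_right (mem_Na_of_symm2 b2 hs)
  · set q : V ⊗[ZMod 2] V := b2 0 ⊗ₜ[ZMod 2] b2 0 + b2 0 ⊗ₜ[ZMod 2] b2 1 + b2 1 ⊗ₜ[ZMod 2] b2 1
      with hq
    have hrepr : ∀ i j k l : Fin 2, (b2.tensorProduct b2).repr (b2 i ⊗ₜ[ZMod 2] b2 j) (k, l) =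
        if (i, j) = (k, l) then 1 else 0 := by
      intro i j k l
      rw [← Module.Basis.tensorProduct_apply, Module.Basis.repr_self, Finsupp.single_apply]
    have hqW : q ∈ W2 b2 := by
      rw [mem_W2, hq]
      simp only [map_add, Finsupp.add_apply, hrepr]
      decide
    have hqt : q + t ∈ Na V := by
      apply mem_Na_of_symm2 b2
      rw [hq]
      simp only [map_add, Finsupp.add_apply, hrepr]
      have key : ∀ x y : ZMod 2, x ≠ y → (if ((0 : Fin 2), (0 : Fin 2)) = (0, 1) then (1 : ZMod 2) else 0) +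
          (if ((0 : Fin 2), (1 : Fin 2)) = (0, 1) then (1 : ZMod 2) else 0) +
          (if ((1 : Fin 2), (1 : Fin 2)) = (0, 1) then (1 : ZMod 2) else 0) + x =
          (if ((0 : Fin 2), (0 : Fin 2)) = (1, 0) then (1 : ZMod 2) else 0) +
          (if ((0 : Fin 2), (1 : Fin 2)) = (1, 0) then (1 : ZMod 2) else 0) +
          (if ((1 : Fin 2), (1 : Fin 2)) = (1, 0) then (1 : ZMod 2) else 0) + y := by decide
      exact key _ _ hs
    have : t = q + (q + t) := by
      rw [← add_assoc, SymExt.add_self_eq_zero, zero_add]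
    rw [this]
    exact Submodule.add_mem_sup hqW hqt

end Two

section Three

variable (b3 : Module.Basis (Fin 3) (ZMod 2) V)

theorem map_mem_Na (f : V →ₗ[ZMod 2] V) {t : V ⊗[ZMod 2] V} (ht : t ∈ Na V) :
    TensorProduct.map f f t ∈ Na V := by
  unfold Na at ht ⊢
  induction ht using Submodule.span_induction with
  | mem x hx =>
    obtain ⟨v, rfl⟩ := hx
    rw [TensorProduct.map_tmul]
    exact Submodule.subset_span ⟨f v, rfl⟩
  | zero => simp
  | add x y _ _ hx hy => rw [map_add]; exact Submodule.add_mem _ hx hy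
  | smul c x _ hx => rw [map_smul]; exact Submodule.smul_mem _ _ hx

theorem sq_mem_Na (v : V) : v ⊗ₜ[ZMod 2] v ∈ Na V := Submodule.subset_span ⟨v, rfl⟩

theorem symm_mem_Ns (v w : V) : v ⊗ₜ[ZMod 2] w + w ⊗ₜ[ZMod 2] v ∈ Ns V :=
  Submodule.subset_span ⟨(v, w), rfl⟩

theorem eq_sum3 (t : V ⊗[ZMod 2] V) :
    t = ∑ i : Fin 3, ∑ j : Fin 3, (b3.tensorProduct b3).repr t (i, j) • (b3 i ⊗ₜ[ZMod 2] b3 j) := by
  conv_lhs => rw [← (b3.tensorProduct b3).sum_repr t]
  rw [Fintype.sum_prod_type]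
  simp only [Module.Basis.tensorProduct_apply]

theorem mem_Ns_of3 {t : V ⊗[ZMod 2] V}
    (h01 : (b3.tensorProduct b3).repr t (0, 1) = (b3.tensorProduct b3).repr t (1, 0))
    (h02 : (b3.tensorProduct b3).repr t (0, 2) = (b3.tensorProduct b3).repr t (2, 0))
    (h12 : (b3.tensorProduct b3).repr t (1, 2) = (b3.tensorProduct b3).repr t (2, 1))
    (h0 : (b3.tensorProduct b3).repr t (0, 0) = 0) (h1 : (b3.tensorProduct b3).repr t (1, 1) = 0)
    (h2 : (b3.tensorProduct b3).repr t (2, 2) = 0) :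
    t ∈ Ns V := by
  rw [eq_sum3 b3 t]
  simp only [Fin.sum_univ_three]
  rw [h01, h02, h12, h0, h1, h2]
  have e : (0 : ZMod 2) • b3 0 ⊗ₜ[ZMod 2] b3 0 +
        ((b3.tensorProduct b3).repr t (1, 0)) • b3 0 ⊗ₜ[ZMod 2] b3 1 +
        ((b3.tensorProduct b3).repr t (2, 0)) • b3 0 ⊗ₜ[ZMod 2] b3 2 +
      (((b3.tensorProduct b3).repr t (1, 0)) • b3 1 ⊗ₜ[ZMod 2] b3 0 +
        (0 : ZMod 2) • b3 1 ⊗ₜ[ZMod 2] b3 1 +
        ((b3.tensorProduct b3).repr t (2, 1)) • b3 1 ⊗ₜ[ZMod 2] b3 2) +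
      (((b3.tensorProduct b3).repr t (2, 0)) • b3 2 ⊗ₜ[ZMod 2] b3 0 +
        ((b3.tensorProduct b3).repr t (2, 1)) • b3 2 ⊗ₜ[ZMod 2] b3 1 +
        (0 : ZMod 2) • b3 2 ⊗ₜ[ZMod 2] b3 2) =
      ((b3.tensorProduct b3).repr t (1, 0)) • (b3 0 ⊗ₜ[ZMod 2] b3 1 + b3 1 ⊗ₜ[ZMod 2] b3 0) +
      ((b3.tensorProduct b3).repr t (2, 0)) • (b3 0 ⊗ₜ[ZMod 2] b3 2 + b3 2 ⊗ₜ[ZMod 2] b3 0) +
      ((b3.tensorProduct b3).repr t (2, 1)) • (b3 1 ⊗ₜ[ZMod 2] b3 2 + b3 2 ⊗ₜ[ZMod 2] b3 1) := by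
    simp only [zero_smul, smul_add]
    abel
  rw [e]
  exact Submodule.add_mem _ (Submodule.add_mem _ (Submodule.smul_mem _ _ (symm_mem_Ns _ _))
    (Submodule.smul_mem _ _ (symm_mem_Ns _ _))) (Submodule.smul_mem _ _ (symm_mem_Ns _ _))

theorem mem_Na_of_symm3 {t : V ⊗[ZMod 2] V}
    (h01 : (b3.tensorProduct b3).repr t (0, 1) = (b3.tensorProduct b3).repr t (1, 0))
    (h02 : (b3.tensorProduct b3).repr t (0, 2) = (b3.tensorProduct b3).repr t (2, 0))
    (h12 : (b3.tensorProduct b3).repr t (1, 2) = (b3.tensorProduct b3).repr t (2, 1)) :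
    t ∈ Na V := by
  set d : V ⊗[ZMod 2] V := (b3.tensorProduct b3).repr t (0, 0) • (b3 0 ⊗ₜ[ZMod 2] b3 0) +
    (b3.tensorProduct b3).repr t (1, 1) • (b3 1 ⊗ₜ[ZMod 2] b3 1) +
    (b3.tensorProduct b3).repr t (2, 2) • (b3 2 ⊗ₜ[ZMod 2] b3 2) with hd
  have hdNa : d ∈ Na V :=
    Submodule.add_mem _ (Submodule.add_mem _ (Submodule.smul_mem _ _ (sq_mem_Na _))
      (Submodule.smul_mem _ _ (sq_mem_Na _))) (Submodule.smul_mem _ _ (sq_mem_Na _))
  have hrepr : ∀ i j k l : Fin 3, (b3.tensorProduct b3).repr (b3 i ⊗ₜ[ZMod 2] b3 j) (k, l) =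
      if (i, j) = (k, l) then 1 else 0 := by
    intro i j k l
    rw [← Module.Basis.tensorProduct_apply, Module.Basis.repr_self, Finsupp.single_apply]
  have hrest : t - d ∈ Ns V := by
    apply mem_Ns_of3 b3
    all_goals
      simp only [hd, map_sub, map_add, map_smul, Finsupp.sub_apply, Finsupp.add_apply,
        Finsupp.smul_apply, hrepr, smul_eq_mul]
      simp [h01, h02, h12]
  have : t = (t - d) + d := by abel
  rw [this]
  exact Submodule.add_mem _ (Ns_le_Na hrest) hdNa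

end Three

end Groth.Agent.H9.SymCoord
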