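import Mathlib
import Groth.Agent.Lib.Helper9.SymCoord

/-!
# Dimension three over `𝔽₂`: invariant 2-vectors lift to invariant symmetric tensors (helper9)
-/

set_option autoImplicit false

open TensorProduct

namespace Groth.Agent.H9.SymCoord

open Groth.Agent.H9.SymExt

variable {V : Type*} [AddCommGroup V] [Module (ZMod 2) V]

/-- the adapted case: `t ≡ u ⊗ v` modulo `Na` with `u, v` the first two vectors of a basis -/
theorem lift_of_adapted (b' : Module.Basis (Fin 3) (ZMod 2) V) (f : V →ₗ[ZMod 2] V)
    (hf : TensorProduct.map f f (b' 0 ⊗ₜ[ZMod 2] b' 1) - b' 0 ⊗ₜ[ZMod 2] b' 1 ∈ Na V) :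
    TensorProduct.map f f (b' 0 ⊗ₜ[ZMod 2] b' 0 + b' 0 ⊗ₜ[ZMod 2] b' 1 + b' 1 ⊗ₜ[ZMod 2] b' 1) -
      (b' 0 ⊗ₜ[ZMod 2] b' 0 + b' 0 ⊗ₜ[ZMod 2] b' 1 + b' 1 ⊗ₜ[ZMod 2] b' 1) ∈ Ns V := by
  have hrepr : ∀ i j k l : Fin 3, (b'.tensorProduct b').repr (b' i ⊗ₜ[ZMod 2] b' j) (k, l) =
      if (i, j) = (k, l) then 1 else 0 := by
    intro i j k l
    rw [← Module.Basis.tensorProduct_apply, Module.Basis.repr_self, Finsupp.single_apply]
  have h01 := repr_symm_of_mem_Na b' hf 0 1
  have h02 := repr_symm_of_mem_Na b' hf 0 2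
  have h12 := repr_symm_of_mem_Na b' hf 1 2
  simp only [map_sub, TensorProduct.map_tmul, Finsupp.sub_apply,
    Module.Basis.tensorProduct_repr_tmul_apply, smul_eq_mul, hrepr] at h01 h02 h12
  apply mem_Ns_of3 b'
  all_goals
    simp only [map_sub, map_add, TensorProduct.map_tmul, Finsupp.sub_apply, Finsupp.add_apply,
      Module.Basis.tensorProduct_repr_tmul_apply, smul_eq_mul, hrepr]
    generalize b'.repr (f (b' 0)) 0 = A00 at *
    generalize b'.repr (f (b' 0)) 1 = A10 at *
    generalize b'.repr (f (b' 0)) 2 = A20 at *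
    generalize b'.repr (f (b' 1)) 0 = A01 at *
    generalize b'.repr (f (b' 1)) 1 = A11 at *
    generalize b'.repr (f (b' 1)) 2 = A21 at *
    revert h01 h02 h12
    revert A00 A10 A20 A01 A11 A21
    decide

theorem repr_map_toLinearEquiv (b3 : Module.Basis (Fin 3) (ZMod 2) V)
    (M : Matrix (Fin 3) (Fin 3) (ZMod 2)) (hM : IsUnit M.det) (i k : Fin 3) :
    b3.repr ((b3.map (Matrix.toLinearEquiv b3 M hM)) i) k = M k i := by
  rw [Module.Basis.map_apply, Matrix.toLinearEquiv_apply, Matrix.toLin_self]
  simp [Finsupp.single_apply]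

theorem exists_adapted (b3 : Module.Basis (Fin 3) (ZMod 2) V) (t : V ⊗[ZMod 2] V)
    (M : Matrix (Fin 3) (Fin 3) (ZMod 2)) (hM : IsUnit M.det)
    (h01 : (b3.tensorProduct b3).repr t (0, 1) - M 1 1 * M 0 0 =
      (b3.tensorProduct b3).repr t (1, 0) - M 0 1 * M 1 0)
    (h02 : (b3.tensorProduct b3).repr t (0, 2) - M 2 1 * M 0 0 =
      (b3.tensorProduct b3).repr t (2, 0) - M 0 1 * M 2 0)
    (h12 : (b3.tensorProduct b3).repr t (1, 2) - M 2 1 * M 1 0 =
      (b3.tensorProduct b3).repr t (2, 1) - M 1 1 * M 2 0) :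
    ∃ b' : Module.Basis (Fin 3) (ZMod 2) V, t - b' 0 ⊗ₜ[ZMod 2] b' 1 ∈ Na V := by
  refine ⟨b3.map (Matrix.toLinearEquiv b3 M hM), ?_⟩
  apply mem_Na_of_symm3 b3
  all_goals
    simp only [map_sub, Finsupp.sub_apply, Module.Basis.tensorProduct_repr_tmul_apply,
      smul_eq_mul, repr_map_toLinearEquiv]
    assumption

theorem dim3_lift (b3 : Module.Basis (Fin 3) (ZMod 2) V) (S : Set (V →ₗ[ZMod 2] V))
    (t : V ⊗[ZMod 2] V) (ht : ∀ f ∈ S, TensorProduct.map f f t - t ∈ Na V) :
    ∃ t' : V ⊗[ZMod 2] V, t' - t ∈ Na V ∧ ∀ f ∈ S, TensorProduct.map f f t' - t' ∈ Ns V := by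
  classical
  by_cases htNa : t ∈ Na V
  · refine ⟨0, ?_, fun f _ => ?_⟩
    · rw [zero_sub]
      exact (Na V).neg_mem htNa
    · simp
  · -- an adapted basis
    have hex : ∃ b' : Module.Basis (Fin 3) (ZMod 2) V, t - b' 0 ⊗ₜ[ZMod 2] b' 1 ∈ Na V := by
      have hns : ¬ ((b3.tensorProduct b3).repr t (0, 1) = (b3.tensorProduct b3).repr t (1, 0) ∧
          (b3.tensorProduct b3).repr t (0, 2) = (b3.tensorProduct b3).repr t (2, 0) ∧
          (b3.tensorProduct b3).repr t (1, 2) = (b3.tensorProduct b3).repr t (2, 1)) := by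
        rintro ⟨h1, h2, h3⟩
        exact htNa (mem_Na_of_symm3 b3 h1 h2 h3)
      generalize h01 : (b3.tensorProduct b3).repr t (0, 1) = t01 at hns
      generalize h10 : (b3.tensorProduct b3).repr t (1, 0) = t10 at hns
      generalize h02 : (b3.tensorProduct b3).repr t (0, 2) = t02 at hns
      generalize h20 : (b3.tensorProduct b3).repr t (2, 0) = t20 at hns
      generalize h12 : (b3.tensorProduct b3).repr t (1, 2) = t12 at hns
      generalize h21 : (b3.tensorProduct b3).repr t (2, 1) = t21 at hns
      by_cases ha : t01 = t10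
      · by_cases hb : t02 = t20
        · -- c = 1
          have hc : t12 ≠ t21 := fun hc => hns ⟨ha, hb, hc⟩
          refine exists_adapted b3 t !![0, 0, 1; 1, 0, 0; 0, 1, 0] ?_ ?_ ?_ ?_
          · rw [Matrix.det_fin_three]
            simp
          · rw [h01, h10]; simp [ha]
          · rw [h02, h20]; simp [hb]
          · rw [h12, h21]
            simp only [Matrix.of_apply, Matrix.cons_val', Matrix.cons_val_zero, Matrix.cons_val_one,
              Matrix.cons_val_fin_one, Matrix.cons_val_two, Matrix.tail_cons, Matrix.head_cons]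
            revert hc
            generalize t12 = x
            generalize t21 = y
            revert x y
            decide
        · -- b = 1, a = 0
          refine exists_adapted b3 t !![1, 0, 0; t12 + t21, 0, 1; 0, 1, 0] ?_ ?_ ?_ ?_
          · rw [Matrix.det_fin_three]
            simp
          · rw [h01, h10]; simp [ha]
          · rw [h02, h20]
            simp only [Matrix.of_apply, Matrix.cons_val', Matrix.cons_val_zero, Matrix.cons_val_one,
              Matrix.cons_val_fin_one, Matrix.cons_val_two, Matrix.tail_cons, Matrix.head_cons]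
            revert hb
            generalize t02 = x
            generalize t20 = y
            revert x y
            decide
          · rw [h12, h21]
            simp only [Matrix.of_apply, Matrix.cons_val', Matrix.cons_val_zero, Matrix.cons_val_one,
              Matrix.cons_val_fin_one, Matrix.cons_val_two, Matrix.tail_cons, Matrix.head_cons]
            generalize t12 = x
            generalize t21 = y
            revert x y
            decide
      · -- a = 1
        refine exists_adapted b3 t !![1, 0, 0; 0, 1, 0; t12 + t21, t02 + t20, 1] ?_ ?_ ?_ ?_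
        · rw [Matrix.det_fin_three]
          simp
        · rw [h01, h10]
          simp only [Matrix.of_apply, Matrix.cons_val', Matrix.cons_val_zero, Matrix.cons_val_one,
            Matrix.cons_val_fin_one, Matrix.cons_val_two, Matrix.tail_cons, Matrix.head_cons]
          revert ha
          generalize t01 = x
          generalize t10 = y
          revert x y
          decide
        · rw [h02, h20]
          simp only [Matrix.of_apply, Matrix.cons_val', Matrix.cons_val_zero, Matrix.cons_val_one,
            Matrix.cons_val_fin_one, Matrix.cons_val_two, Matrix.tail_cons, Matrix.head_cons]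
          generalize t02 = x
          generalize t20 = y
          generalize t12 + t21 = z
          revert x y z
          decide
        · rw [h12, h21]
          simp only [Matrix.of_apply, Matrix.cons_val', Matrix.cons_val_zero, Matrix.cons_val_one,
            Matrix.cons_val_fin_one, Matrix.cons_val_two, Matrix.tail_cons, Matrix.head_cons]
          generalize t02 + t20 = z
          generalize t12 = x
          generalize t21 = y
          revert x y z
          decide
    obtain ⟨b', hb'⟩ := hex
    set u := b' 0 with hu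
    set v := b' 1 with hv
    refine ⟨u ⊗ₜ[ZMod 2] u + u ⊗ₜ[ZMod 2] v + v ⊗ₜ[ZMod 2] v, ?_, fun f hf => ?_⟩
    · have : u ⊗ₜ[ZMod 2] u + u ⊗ₜ[ZMod 2] v + v ⊗ₜ[ZMod 2] v - t =
          u ⊗ₜ[ZMod 2] u + v ⊗ₜ[ZMod 2] v - (t - u ⊗ₜ[ZMod 2] v) := by abel
      rw [this]
      exact Submodule.sub_mem _ (Submodule.add_mem _ (sq_mem_Na u) (sq_mem_Na v)) hb'
    · apply lift_of_adapted b' f
      have h1 := ht f hf
      have h2 := map_mem_Na f hb'
      have : TensorProduct.map f f (u ⊗ₜ[ZMod 2] v) - u ⊗ₜ[ZMod 2] v =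
          (TensorProduct.map f f t - t) - (TensorProduct.map f f (t - u ⊗ₜ[ZMod 2] v) -
            (t - u ⊗ₜ[ZMod 2] v)) := by
        rw [map_sub]
        abel
      rw [this]
      exact Submodule.sub_mem _ h1 (Submodule.sub_mem _ h2 hb')

end Groth.Agent.H9.SymCoord
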