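import Mathlib
import Groth.Agent.Lib.Helper9.Tame
import Groth.Agent.Lib.Helper9.ComodCosemi
import Groth.Agent.Lib.Helper9.ComodDecomp

/-!
# Total integrals and comodule retractions of the coaction (helper9)
-/

set_option autoImplicit false
set_option linter.style.haveILetI false

universe u v w w' w''

open TensorProduct

namespace Groth.Agent.H9.Tame

open Groth.Agent.H9.Comod

section Retract

variable {k : Type u} [CommRing k] {A : Type v} [CommRing A] [HopfAlgebra k A]
  {B : Type w} [CommRing B] [Algebra k B] [HopfRep.Comod k A B] [GLin.IsCoactAlg k A B]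

omit [HopfRep.Comod k A B] [GLin.IsCoactAlg k A B] in
lemma rTensor_mul_includeRight (α : A →ₗ[k] B) (c : A) (w : A ⊗[k] A) :
    α.rTensor A (((1 : A) ⊗ₜ[k] c) * w) = ((1 : B) ⊗ₜ[k] c) * α.rTensor A w := by
  induction w using TensorProduct.induction_on with
  | zero => simp
  | tmul x y => simp
  | add x y hx hy => rw [mul_add, map_add, hx, hy, map_add, mul_add]

/-- a total integral gives a comodule retraction of the coaction -/
theorem exists_retraction_of_totalIntegral {α : A →ₗ[k] B} (hα : Hoch.IsComodHom A α)
    (hα1 : α 1 = 1) :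
    ∃ lam : Hoch.Ind k A B →ₗ[k] B, Hoch.IsComodHom A lam ∧
      lam ∘ₗ Hoch.toInd k A B = LinearMap.id := by
  set S : A →ₗ[k] A := HopfAlgebraStruct.antipode (R := k) (A := A) with hS
  set ρ : B →ₗ[k] B ⊗[k] A := HopfRep.Comod.coact (k := k) (A := A) with hρ
  have hρmul : ∀ x y : B, ρ (x * y) = ρ x * ρ y := GLin.IsCoactAlg.coact_mul (k := k)
  let γ : A ⊗[k] A →ₗ[k] B := α ∘ₗ LinearMap.mul' k A ∘ₗ S.rTensor A
  have hγ : ∀ x a : A, γ (x ⊗ₜ[k] a) = α (S x * a) := fun x a => by simp [γ]
  let Λ : (B ⊗[k] A) ⊗[k] A →ₗ[k] B :=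
    LinearMap.mul' k B ∘ₗ γ.lTensor B ∘ₗ (TensorProduct.assoc k B A A).toLinearMap
  have hΛ : ∀ (b : B) (x a : A), Λ ((b ⊗ₜ[k] x) ⊗ₜ[k] a) = b * α (S x * a) := fun b x a => by
    simp [Λ, hγ]
  let lam : B ⊗[k] A →ₗ[k] B := Λ ∘ₗ ρ.rTensor A
  have hlam : ∀ (b : B) (a : A), lam (b ⊗ₜ[k] a) = Λ (ρ b ⊗ₜ[k] a) := by
    intro b a
    simp [lam]
  have hcomod : ∀ z : B ⊗[k] A, ρ (lam z) = lam.rTensor A ((TensorProduct.assoc k B A A).symm
      ((CoalgebraStruct.comul (R := k) (A := A)).lTensor B z)) := by
    intro z
    induction z using TensorProduct.induction_on with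
    | zero => simp
    | add x y hx hy => simp only [map_add, hx, hy]
    | tmul b a =>
      rw [LinearMap.lTensor_tmul, hlam]
      -- Q_a
      let Q : (B ⊗[k] A) ⊗[k] A →ₗ[k] B ⊗[k] A :=
        TensorProduct.lift ((LinearMap.mul k (B ⊗[k] A)).compr₂ LinearMap.id |>.compl₂
          (α.rTensor A ∘ₗ CoalgebraStruct.comul (R := k) (A := A) ∘ₗ
            (LinearMap.mul k A).flip a ∘ₗ S))
      have hQ : ∀ (y : B ⊗[k] A) (x : A), Q (y ⊗ₜ[k] x) =
          y * α.rTensor A (CoalgebraStruct.comul (R := k) (S x * a)) := by
        intro y x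
        simp [Q, mul_comm]
      -- P1
      have hP1 : ∀ y : B ⊗[k] A, ρ (Λ (y ⊗ₜ[k] a)) = Q (ρ.rTensor A y) := by
        intro y
        induction y using TensorProduct.induction_on with
        | zero => simp
        | tmul b' x =>
          rw [hΛ, hρmul, LinearMap.rTensor_tmul, hQ]
          congr 1
          exact (isComodHom_iff α).mp hα _
        | add x y hx hy => simp only [TensorProduct.add_tmul, map_add, hx, hy]
      have hL : ∀ (b' : B) (w : A ⊗[k] A), Q ((TensorProduct.assoc k B A A).symm (b' ⊗ₜ[k] w)) =
          (b' ⊗ₜ[k] (1 : A)) * α.rTensor A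
            (Algebra.TensorProduct.lift (Algebra.TensorProduct.includeRight : A →ₐ[k] A ⊗[k] A)
              ((Bialgebra.comulAlgHom k A).comp (HopfAlgebra.antipodeAlgHom k A))
              (fun _ _ => .all ..) w * CoalgebraStruct.comul (R := k) a) := by
        intro b' w
        induction w using TensorProduct.induction_on with
        | zero => simp
        | tmul x₁ x₂ =>
          rw [TensorProduct.assoc_symm_tmul, hQ, Algebra.TensorProduct.lift_tmul]
          have e1 : CoalgebraStruct.comul (R := k) (S x₂ * a) =
              CoalgebraStruct.comul (R := k) (S x₂) * CoalgebraStruct.comul (R := k) a :=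
            Bialgebra.comul_mul _ _
          have e2 : (Algebra.TensorProduct.includeRight : A →ₐ[k] A ⊗[k] A) x₁ =
              (1 : A) ⊗ₜ[k] x₁ := rfl
          have e3 : ((Bialgebra.comulAlgHom k A).comp (HopfAlgebra.antipodeAlgHom k A)) x₂ =
              CoalgebraStruct.comul (R := k) (S x₂) := rfl
          rw [e1, e2, e3, mul_assoc, rTensor_mul_includeRight, ← mul_assoc,
            Algebra.TensorProduct.tmul_mul_tmul, mul_one, one_mul]
        | add x y hx hy =>
          simp only [TensorProduct.tmul_add, map_add, hx, hy, add_mul, mul_add]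
      have hR : ∀ (b' : B) (x : A) (v : A ⊗[k] A),
          Λ.rTensor A ((TensorProduct.assoc k (B ⊗[k] A) A A).symm ((b' ⊗ₜ[k] x) ⊗ₜ[k] v)) =
          (b' ⊗ₜ[k] (1 : A)) * α.rTensor A ((S x ⊗ₜ[k] (1 : A)) * v) := by
        intro b' x v
        induction v using TensorProduct.induction_on with
        | zero => simp
        | tmul a₁ a₂ =>
          rw [TensorProduct.assoc_symm_tmul, LinearMap.rTensor_tmul, hΛ,
            Algebra.TensorProduct.tmul_mul_tmul, LinearMap.rTensor_tmul,
            Algebra.TensorProduct.tmul_mul_tmul, one_mul, one_mul]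
        | add x y hx hy =>
          simp only [TensorProduct.tmul_add, map_add, hx, hy, mul_add]
      -- P2
      have hP2 : ∀ y : B ⊗[k] A,
          Q ((TensorProduct.assoc k B A A).symm
            ((CoalgebraStruct.comul (R := k) (A := A)).lTensor B y)) =
          Λ.rTensor A ((TensorProduct.assoc k (B ⊗[k] A) A A).symm
            (y ⊗ₜ[k] CoalgebraStruct.comul (R := k) a)) := by
        intro y
        induction y using TensorProduct.induction_on with
        | zero => simp
        | tmul b' x =>
          rw [LinearMap.lTensor_tmul, hL, hR,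
            Groth.Agent.H9.Hopf.lift_includeRight_comul_antipode]
        | add x y hx hy => simp only [TensorProduct.add_tmul, map_add, hx, hy]
      have hco := LinearMap.congr_fun (HopfRep.Comod.coassoc (k := k) (A := A) (V := B)) b
      simp only [LinearMap.comp_apply, LinearEquiv.coe_coe] at hco
      have hco' : ρ.rTensor A (ρ b) = (TensorProduct.assoc k B A A).symm
          ((CoalgebraStruct.comul (R := k) (A := A)).lTensor B (ρ b)) := by
        rw [← hco, LinearEquiv.symm_apply_apply]
      rw [hP1, hco', hP2]
      generalize CoalgebraStruct.comul (R := k) a = v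
      induction v using TensorProduct.induction_on with
      | zero => simp
      | tmul a₁ a₂ =>
        rw [TensorProduct.assoc_symm_tmul, TensorProduct.assoc_symm_tmul, LinearMap.rTensor_tmul,
          LinearMap.rTensor_tmul, hlam]
      | add x y hx hy => simp only [TensorProduct.tmul_add, map_add, hx, hy]
  refine ⟨lam ∘ₗ (Hoch.Ind.equiv k A B).symm.toLinearMap, ?_, ?_⟩
  · -- comodule map
    rw [isComodHom_iff]
    intro z
    exact hcomod z
  · -- retraction
    apply LinearMap.ext
    intro b
    have hco := LinearMap.congr_fun (HopfRep.Comod.coassoc (k := k) (A := A) (V := B)) b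
    simp only [LinearMap.comp_apply, LinearEquiv.coe_coe] at hco
    have hco' : ρ.rTensor A (ρ b) = (TensorProduct.assoc k B A A).symm
        ((CoalgebraStruct.comul (R := k) (A := A)).lTensor B (ρ b)) := by
      rw [← hco, LinearEquiv.symm_apply_apply]
    show Λ (ρ.rTensor A (ρ b)) = b
    rw [hco']
    have h1 : ∀ y : B ⊗[k] A, Λ ((TensorProduct.assoc k B A A).symm
        ((CoalgebraStruct.comul (R := k) (A := A)).lTensor B y)) =
        slice (Coalgebra.counit (R := k) (A := A)) y := by
      intro y
      induction y using TensorProduct.induction_on with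
      | zero => simp
      | tmul b' x =>
        rw [LinearMap.lTensor_tmul, slice_tmul]
        show LinearMap.mul' k B (γ.lTensor B ((TensorProduct.assoc k B A A)
          ((TensorProduct.assoc k B A A).symm (b' ⊗ₜ[k] CoalgebraStruct.comul (R := k) x)))) = _
        rw [LinearEquiv.apply_symm_apply, LinearMap.lTensor_tmul, LinearMap.mul'_apply]
        have : γ (CoalgebraStruct.comul (R := k) x) = Coalgebra.counit (R := k) x • (1 : B) := by
          show α (LinearMap.mul' k A ((HopfAlgebraStruct.antipode (R := k) (A := A)).rTensor A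
            (Coalgebra.comul (R := k) x))) = _
          rw [HopfAlgebra.mul_antipode_rTensor_comul_apply, Algebra.algebraMap_eq_smul_one,
            map_smul, hα1]
        rw [this, mul_smul_comm, mul_one]
      | add x y hx hy => simp only [map_add, hx, hy]
    rw [h1]
    exact slice_counit_coact' b

end Retract

end Groth.Agent.H9.Tame
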