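import Mathlib

/-!
# `F₀ ⊗ K` is a field when `K₀` is algebraically closed in `F₀`, `K₀` perfect, `K/K₀` algebraic
-/

namespace Groth.Agent.H9.TensorField

open Polynomial TensorProduct IntermediateField

variable {K₀ F₀ : Type*} [Field K₀] [Field F₀] [Algebra K₀ F₀]

theorem irreducible_map (h : algebraicClosure K₀ F₀ = ⊥) (g : K₀[X]) (hg : g.Monic)
    (hirr : Irreducible g) : Irreducible (g.map (algebraMap K₀ F₀)) := by
  have hg1 : g.map (algebraMap K₀ F₀) ≠ 1 := by
    intro h1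
    have : g = 1 := Polynomial.map_injective _ (algebraMap K₀ F₀).injective
      (by rw [h1, Polynomial.map_one])
    exact hirr.not_isUnit (this ▸ isUnit_one)
  rw [irreducible_of_monic (hg.map _) hg1]
  intro f h' hf hh hfh
  have key : ∀ p : F₀[X], p.Monic → p ∣ g.map (algebraMap K₀ F₀) →
      ∃ q : K₀[X], q.map (algebraMap K₀ F₀) = p ∧ q.Monic := by
    intro p hp hdvd
    have h1 := integralClosure.mem_lifts_of_monic_of_dvd_map F₀ hg hp hdvd
    have h2 : p ∈ lifts (algebraMap K₀ F₀) := by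
      rw [lifts_iff_coeff_lifts] at h1 ⊢
      intro n
      obtain ⟨c, hc⟩ := h1 n
      have hc' : IsIntegral K₀ (p.coeff n) := hc ▸ c.2
      have : p.coeff n ∈ algebraicClosure K₀ F₀ := mem_algebraicClosure_iff'.mpr hc'
      rw [h] at this
      exact IntermediateField.mem_bot.mp this
    obtain ⟨q, hq1, -, hq3⟩ := lifts_and_natDegree_eq_and_monic h2 hp
    exact ⟨q, hq1, hq3⟩
  obtain ⟨f₀, hf₀, hf₀m⟩ := key f hf (Dvd.intro _ hfh)
  obtain ⟨h₀, hh₀, hh₀m⟩ := key h' hh (Dvd.intro_left _ hfh)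
  have : f₀ * h₀ = g := Polynomial.map_injective _ (algebraMap K₀ F₀).injective
    (by rw [Polynomial.map_mul, hf₀, hh₀, hfh])
  rcases hirr.isUnit_or_isUnit this.symm with hu | hu
  · left; rw [← hf₀, hf₀m.eq_one_of_isUnit hu, Polynomial.map_one]
  · right; rw [← hh₀, hh₀m.eq_one_of_isUnit hu, Polynomial.map_one]

variable {K : Type*} [Field K] [Algebra K₀ K]

theorem isField_tensor_simple (h : algebraicClosure K₀ F₀ = ⊥) (θ : K) (hθ : IsIntegral K₀ θ) :
    IsField (F₀ ⊗[K₀] K₀⟮θ⟯) := by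
  let g := minpoly K₀ θ
  have hirr : Irreducible (g.map (algebraMap K₀ F₀)) :=
    irreducible_map h g (minpoly.monic hθ) (minpoly.irreducible hθ)
  have : Fact (Irreducible (g.map (algebraMap K₀ F₀))) := ⟨hirr⟩
  let L := AdjoinRoot (g.map (algebraMap K₀ F₀))
  let t : F₀ ⊗[K₀] K₀⟮θ⟯ := Algebra.TensorProduct.includeRight (AdjoinSimple.gen K₀ θ)
  have haev : ∀ p : K₀[X], aeval t (p.map (algebraMap K₀ F₀)) =
      Algebra.TensorProduct.includeRight (aeval (AdjoinSimple.gen K₀ θ) p) := by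
    intro p
    rw [aeval_map_algebraMap, aeval_algHom_apply]
  have ht : aeval t (g.map (algebraMap K₀ F₀)) = 0 := by
    rw [haev, IntermediateField.aeval_gen_minpoly, map_zero]
  let ψ : L →ₐ[F₀] (F₀ ⊗[K₀] K₀⟮θ⟯) :=
    AdjoinRoot.liftAlgHom (g.map (algebraMap K₀ F₀)) (Algebra.ofId F₀ _) t
      (by rw [← ht, aeval_def]; rfl)
  have hψroot : ψ (AdjoinRoot.root _) = t := AdjoinRoot.liftAlgHom_root _ _ _ _
  have hnontriv : Nontrivial (F₀ ⊗[K₀] K₀⟮θ⟯) :=
    (Algebra.TensorProduct.includeLeft_injective (R := K₀) (S := K₀) (A := F₀) (B := K₀⟮θ⟯)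
      (algebraMap K₀ K₀⟮θ⟯).injective).nontrivial
  have hinj : Function.Injective ψ := ψ.toRingHom.injective
  have hsurj : Function.Surjective ψ := by
    intro z
    induction z using TensorProduct.induction_on with
    | zero => exact ⟨0, map_zero _⟩
    | add a b ha hb =>
      obtain ⟨a', rfl⟩ := ha
      obtain ⟨b', rfl⟩ := hb
      exact ⟨a' + b', map_add _ _ _⟩
    | tmul f k =>
      have hk : (k : K) ∈ K₀⟮θ⟯.toSubalgebra := k.2
      rw [adjoin_simple_toSubalgebra_of_isAlgebraic hθ.isAlgebraic,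
        Algebra.adjoin_singleton_eq_range_aeval] at hk
      obtain ⟨p, hp⟩ := hk
      have hk' : k = aeval (AdjoinSimple.gen K₀ θ) p := by
        apply Subtype.ext
        rw [AdjoinSimple.coe_aeval_gen_apply]
        exact hp.symm
      refine ⟨f • aeval (AdjoinRoot.root _) (p.map (algebraMap K₀ F₀)), ?_⟩
      rw [map_smul, ← aeval_algHom_apply, hψroot, haev, ← hk']
      simp [TensorProduct.smul_tmul']
  exact (RingEquiv.ofBijective ψ ⟨hinj, hsurj⟩).symm.toMulEquiv.isField (Field.toIsField L)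

/-- every element of `F₀ ⊗ K` comes from `F₀ ⊗ E` for a finite-dimensional subextension `E` -/
theorem exists_finiteDimensional_range [Algebra.IsAlgebraic K₀ K] (z : F₀ ⊗[K₀] K) :
    ∃ E : IntermediateField K₀ K, FiniteDimensional K₀ E ∧
      z ∈ (Algebra.TensorProduct.map (AlgHom.id F₀ F₀) E.val).range := by
  induction z using TensorProduct.induction_on with
  | zero => exact ⟨⊥, inferInstance, zero_mem _⟩
  | tmul f k =>
    refine ⟨K₀⟮k⟯, adjoin.finiteDimensional (Algebra.IsIntegral.isIntegral k), ?_⟩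
    exact ⟨f ⊗ₜ AdjoinSimple.gen K₀ k, by simp⟩
  | add a b ha hb =>
    obtain ⟨E₁, hE₁, ha⟩ := ha
    obtain ⟨E₂, hE₂, hb⟩ := hb
    refine ⟨E₁ ⊔ E₂, IntermediateField.finiteDimensional_sup E₁ E₂, ?_⟩
    have mono : ∀ {E E' : IntermediateField K₀ K}, E ≤ E' →
        (Algebra.TensorProduct.map (AlgHom.id F₀ F₀) E.val).range ≤
        (Algebra.TensorProduct.map (AlgHom.id F₀ F₀) E'.val).range := by
      intro E E' hle
      rintro _ ⟨w, rfl⟩
      refine ⟨Algebra.TensorProduct.map (AlgHom.id F₀ F₀) (IntermediateField.inclusion hle) w, ?_⟩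
      change (Algebra.TensorProduct.map (AlgHom.id F₀ F₀) E'.val)
        (Algebra.TensorProduct.map (AlgHom.id F₀ F₀) (IntermediateField.inclusion hle) w) =
        (Algebra.TensorProduct.map (AlgHom.id F₀ F₀) E.val) w
      rw [← AlgHom.comp_apply, ← Algebra.TensorProduct.map_comp]
      rfl
    exact Subalgebra.add_mem _ (mono le_sup_left ha) (mono le_sup_right hb)

theorem isField_tensor [PerfectField K₀] [Algebra.IsAlgebraic K₀ K]
    (h : algebraicClosure K₀ F₀ = ⊥) : IsField (F₀ ⊗[K₀] K) := by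
  have hnontriv : Nontrivial (F₀ ⊗[K₀] K) :=
    (Algebra.TensorProduct.includeLeft_injective (R := K₀) (S := K₀) (A := F₀) (B := K)
      (algebraMap K₀ K).injective).nontrivial
  refine ⟨exists_pair_ne _, mul_comm, ?_⟩
  intro z hz
  obtain ⟨E, hE, z', rfl⟩ := exists_finiteDimensional_range z
  have hsep : Algebra.IsSeparable K₀ E := Algebra.IsAlgebraic.isSeparable_of_perfectField
  obtain ⟨α, hα⟩ := Field.exists_primitive_element K₀ E
  have hEθ : K₀⟮(α : K)⟯ = E := by
    have h1 : (K₀⟮α⟯).map E.val = K₀⟮(α : K)⟯ := by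
      rw [IntermediateField.adjoin_map]
      simp
    rw [← h1, hα, ← AlgHom.fieldRange_eq_map, IntermediateField.fieldRange_val]
  have hfield : IsField (F₀ ⊗[K₀] E) := by
    have hint : IsIntegral K₀ (α : K) := Algebra.IsIntegral.isIntegral _
    have := isField_tensor_simple (F₀ := F₀) h (α : K) hint
    rw [hEθ] at this
    exact this
  have hz' : z' ≠ 0 := by
    rintro rfl
    exact hz (map_zero _)
  obtain ⟨w', hw'⟩ := hfield.mul_inv_cancel hz'
  refine ⟨Algebra.TensorProduct.map (AlgHom.id F₀ F₀) E.val w', ?_⟩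
  change (Algebra.TensorProduct.map (AlgHom.id F₀ F₀) E.val) z' *
    (Algebra.TensorProduct.map (AlgHom.id F₀ F₀) E.val) w' = 1
  rw [← map_mul, hw', map_one]

end Groth.Agent.H9.TensorField
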