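import Mathlib
import Groth.Agent.Lib.Helper9.FiltSplit

/-!
# Tensor powers of split filtrations determine the filtration
-/

namespace Groth.Agent.H9.TensorFilt

open scoped DirectSum TensorProduct
open Groth.Agent.H9.FiltSplit

section Local

variable {Γ : Type*} [DecidableEq Γ] {R : Type*} [CommRing R] {M : Type*} [AddCommGroup M]
  [Module R M] [Module.Finite R M] [Module.Projective R M]

omit [Module.Finite R M] [Module.Projective R M] in
theorem isCompl_of_isInternal (G : Γ → Submodule R M) (hG : DirectSum.IsInternal G) (γ : Γ) :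
    IsCompl (G γ) (⨆ η, ⨆ (_ : η ≠ γ), G η) := by
  classical
  refine ⟨hG.submodule_iSupIndep γ, ?_⟩
  rw [codisjoint_iff, eq_top_iff, ← hG.submodule_iSup_eq_top]
  refine iSup_le fun η => ?_
  by_cases h : η = γ
  · subst h; exact le_sup_left
  · exact le_sup_of_le_right (le_iSup₂ (f := fun η (_ : η ≠ γ) => G η) η h)

/-- a graded piece is either "active" at `𝔪` or killed by an element outside `𝔪` -/
theorem active_or_killed (G : Γ → Submodule R M) (hG : DirectSum.IsInternal G) (𝔪 : Ideal R)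
    (h𝔪 : 𝔪 ≠ ⊤) (η : Γ) :
    (∃ m ∈ G η, ∃ φ : M →ₗ[R] R, (∀ η' ≠ η, ∀ y ∈ G η', φ y = 0) ∧ φ m ∉ 𝔪) ∨
    (∃ r ∉ 𝔪, ∀ y ∈ G η, r • y = 0) := by
  classical
  by_cases hact : ∃ m ∈ G η, ∃ φ : M →ₗ[R] R, (∀ η' ≠ η, ∀ y ∈ G η', φ y = 0) ∧ φ m ∉ 𝔪
  · exact Or.inl hact
  · right
    push Not at hact
    have hc := isCompl_of_isInternal G hG η
    obtain ⟨n, f, g, -, -, hfg⟩ := Module.Finite.exists_comp_eq_id_of_projective R M
    let π : M →ₗ[R] M := (G η).projection _ hc
    have hπ1 : ∀ x ∈ G η, π x = x := fun x hx => Submodule.projection_apply_of_mem_left hc hx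
    have hπ2 : ∀ η' ≠ η, ∀ y ∈ G η', π y = 0 := by
      intro η' hη' y hy
      apply Submodule.projection_apply_of_mem_right hc
      exact Submodule.mem_iSup_of_mem η' (Submodule.mem_iSup_of_mem hη' hy)
    have hπ3 : ∀ x, π x ∈ G η := fun x => Submodule.projection_apply_mem hc x
    have hle : G η ≤ 𝔪 • G η := by
      intro m hm
      have h1 : m = ∑ i, (g m) i • π (f (Pi.single i 1)) := by
        have h2 : m = π (f (g m)) := by
          have : f (g m) = m := LinearMap.congr_fun hfg m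
          rw [this, hπ1 m hm]
        have h3 : g m = ∑ i, (g m) i • Pi.single i (1 : R) := by
          ext j
          simp [Finset.sum_apply, Pi.single_apply]
        calc m = π (f (g m)) := h2
          _ = π (f (∑ i, (g m) i • Pi.single i (1 : R))) := by rw [← h3]
          _ = _ := by simp only [map_sum, map_smul]
      rw [h1]
      apply Submodule.sum_mem
      intro i _
      apply Submodule.smul_mem_smul _ (hπ3 _)
      have := hact m hm ((LinearMap.proj i) ∘ₗ g ∘ₗ π) (by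
        intro η' hη' y hy
        simp [hπ2 η' hη' y hy])
      simpa [hπ1 m hm] using this
    have hfg' : (G η).FG := by
      have : G η = Submodule.map π ⊤ := by
        rw [Submodule.map_top]
        exact (Submodule.range_projection hc).symm
      rw [this]
      exact Submodule.FG.map _ Module.Finite.fg_top
    obtain ⟨r, hr1, hr2⟩ :=
      Submodule.exists_sub_one_mem_and_smul_eq_zero_of_fg_of_le_smul 𝔪 (G η) hfg' hle
    refine ⟨r, fun hr => h𝔪 ?_, hr2⟩
    rw [Ideal.eq_top_iff_one]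
    have : (1 : R) = r - (r - 1) := by ring
    rw [this]
    exact 𝔪.sub_mem hr hr1

end Local

section Local2

variable {Γ : Type*} [LinearOrder Γ] {R : Type*} [CommRing R] {M : Type*} [AddCommGroup M]
  [Module R M] [Module.Finite R M] [Module.Projective R M]

theorem exists_local_min (G : Γ → Submodule R M) (hG : DirectSum.IsInternal G) (𝔪 : Ideal R)
    [h𝔪 : 𝔪.IsPrime] :
    (∃ u ∉ 𝔪, ∀ y : M, u • y = 0) ∨
    (∃ μ, ∃ u ∉ 𝔪, (∀ η < μ, ∀ y ∈ G η, u • y = 0) ∧
      ∃ m ∈ G μ, ∃ φ : M →ₗ[R] R, (∀ η' ≠ μ, ∀ y ∈ G η', φ y = 0) ∧ φ m ∉ 𝔪) := by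
  classical
  obtain ⟨s, hs1, hs2⟩ := finite_support_of_isInternal G hG
  let act : Γ → Prop := fun η =>
    ∃ m ∈ G η, ∃ φ : M →ₗ[R] R, (∀ η' ≠ η, ∀ y ∈ G η', φ y = 0) ∧ φ m ∉ 𝔪
  have hk : ∀ η, ¬ act η → ∃ r ∉ 𝔪, ∀ y ∈ G η, r • y = 0 := fun η h =>
    (active_or_killed G hG 𝔪 h𝔪.ne_top η).resolve_left h
  let r : Γ → R := fun η => if h : act η then 1 else (hk η h).choose
  have hr1 : ∀ η, r η ∉ 𝔪 := by
    intro η
    by_cases h : act η
    · simp only [r, dif_pos h]
      exact fun h1 => h𝔪.ne_top ((Ideal.eq_top_iff_one _).mpr h1)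
    · simp only [r, dif_neg h]
      exact (hk η h).choose_spec.1
  have hr2 : ∀ η, ¬ act η → ∀ y ∈ G η, r η • y = 0 := by
    intro η h
    simp only [r, dif_neg h]
    exact (hk η h).choose_spec.2
  let u : R := ∏ η ∈ s, r η
  have hu1 : u ∉ 𝔪 := by
    intro h
    rw [Ideal.IsPrime.prod_mem_iff] at h
    obtain ⟨i, _, hi⟩ := h
    exact hr1 i hi
  have hu2 : ∀ η, ¬ act η → ∀ y ∈ G η, u • y = 0 := by
    intro η h y hy
    by_cases hηs : η ∈ s
    · obtain ⟨c, hc⟩ := Finset.dvd_prod_of_mem r hηs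
      show u • y = 0
      have : u = c * r η := by rw [mul_comm]; exact hc
      rw [this, mul_smul, hr2 η h y hy, smul_zero]
    · rw [hs2 η hηs] at hy
      rw [(Submodule.mem_bot R).mp hy, smul_zero]
  by_cases hA : ∃ η ∈ s, act η
  · right
    have hne : (s.filter act).Nonempty := by
      obtain ⟨η, hη, h⟩ := hA
      exact ⟨η, Finset.mem_filter.mpr ⟨hη, h⟩⟩
    let μ := (s.filter act).min' hne
    have hμ : μ ∈ s.filter act := Finset.min'_mem _ hne
    refine ⟨μ, u, hu1, ?_, (Finset.mem_filter.mp hμ).2⟩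
    intro η hη y hy
    by_cases hηs : η ∈ s
    · apply hu2 η _ y hy
      intro hact
      have : μ ≤ η := Finset.min'_le _ η (Finset.mem_filter.mpr ⟨hηs, hact⟩)
      exact not_lt_of_ge this hη
    · rw [hs2 η hηs] at hy
      rw [(Submodule.mem_bot R).mp hy, smul_zero]
  · left
    push Not at hA
    refine ⟨u, hu1, ?_⟩
    have : (⊤ : Submodule R M) ≤ LinearMap.ker (LinearMap.lsmul R M u) := by
      refine hs1.trans ?_
      refine iSup₂_le fun t ht y hy => ?_
      rw [LinearMap.mem_ker, LinearMap.lsmul_apply]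
      exact hu2 t (hA t ht) y hy
    intro y
    have := this (Submodule.mem_top (x := y))
    rwa [LinearMap.mem_ker, LinearMap.lsmul_apply] at this

end Local2

section Contr

variable {R : Type*} [CommRing R] {M N : Type*} [AddCommGroup M] [Module R M] [AddCommGroup N]
  [Module R N]

/-- the multilinear map `v ↦ (∏ i, φ (v (i+1))) • ψ (v 0)` -/
noncomputable def contrML (n : ℕ) (φ : M →ₗ[R] R) (ψ : M →ₗ[R] N) :
    MultilinearMap R (fun _ : Fin (n + 1) => M) N :=
  LinearMap.uncurryLeft (M := fun _ : Fin (n + 1) => M)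
    (({ toFun := fun z =>
          ((MultilinearMap.mkPiAlgebra R (Fin n) R).compLinearMap (fun _ => φ)).smulRight z
        map_add' := fun a b => by ext v; simp
        map_smul' := fun c a => by
          ext v
          simp only [MultilinearMap.smulRight_apply, MultilinearMap.smul_apply, RingHom.id_apply]
          rw [smul_comm] } :
      N →ₗ[R] MultilinearMap R (fun _ : Fin n => M) N) ∘ₗ ψ)

theorem contrML_apply (n : ℕ) (φ : M →ₗ[R] R) (ψ : M →ₗ[R] N) (v : Fin (n + 1) → M) :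
    contrML n φ ψ v = (∏ i : Fin n, φ (v i.succ)) • ψ (v 0) := by
  simp [contrML, Fin.tail]

/-- contraction of a tensor power against `φ` in all slots but the first, where `ψ` is applied -/
noncomputable def contr (n : ℕ) (φ : M →ₗ[R] R) (ψ : M →ₗ[R] N) :
    (⨂[R] _ : Fin (n + 1), M) →ₗ[R] N :=
  PiTensorProduct.lift (contrML n φ ψ)

theorem contr_tprod (n : ℕ) (φ : M →ₗ[R] R) (ψ : M →ₗ[R] N) (v : Fin (n + 1) → M) :
    contr n φ ψ (PiTensorProduct.tprod R v) = (∏ i : Fin n, φ (v i.succ)) • ψ (v 0) := by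
  rw [contr, PiTensorProduct.lift.tprod, contrML_apply]

end Contr

section TFilt

variable {R : Type*} [CommRing R] {M N : Type*} [AddCommGroup M] [Module R M] [AddCommGroup N]
  [Module R N] {Γ : Type*} [AddCommMonoid Γ]

/-- the induced filtration on the `k`-th tensor power -/
def T (k : ℕ) (F : Γ → Submodule R M) (δ : Γ) : Submodule R (⨂[R] _ : Fin k, M) :=
  ⨆ c : {c : Fin k → Γ // ∑ i, c i = δ},
    LinearMap.range (PiTensorProduct.map (R := R) (fun i => (F (c.1 i)).subtype))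

theorem tprod_mem_T {k : ℕ} {F : Γ → Submodule R M} {δ : Γ} (c : Fin k → Γ) (hc : ∑ i, c i = δ)
    (v : Fin k → M) (hv : ∀ i, v i ∈ F (c i)) : PiTensorProduct.tprod R v ∈ T k F δ := by
  refine Submodule.mem_iSup_of_mem ⟨c, hc⟩
    ⟨PiTensorProduct.tprod R (fun i => (⟨v i, hv i⟩ : F (c i))), ?_⟩
  rw [PiTensorProduct.map_tprod]
  rfl

theorem map_T_mem {k : ℕ} {F : Γ → Submodule R M} {δ : Γ} (L : (⨂[R] _ : Fin k, M) →ₗ[R] N)
    (P : Submodule R N)
    (hL : ∀ c : Fin k → Γ, ∑ i, c i = δ → ∀ v : Fin k → M, (∀ i, v i ∈ F (c i)) →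
      L (PiTensorProduct.tprod R v) ∈ P) : ∀ z ∈ T k F δ, L z ∈ P := by
  have : T k F δ ≤ P.comap L := by
    refine iSup_le fun c => ?_
    rintro _ ⟨w, rfl⟩
    induction w using PiTensorProduct.induction_on with
    | smul_tprod r f =>
      rw [Submodule.mem_comap, map_smul, map_smul, PiTensorProduct.map_tprod]
      apply P.smul_mem
      exact hL c.1 c.2 _ (fun i => (f i).2)
    | add x y hx hy =>
      rw [map_add]
      exact (P.comap L).add_mem hx hy
  exact fun z hz => this hz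

end TFilt

section Main

variable {Γ : Type*} [AddCommGroup Γ] [LinearOrder Γ] [IsOrderedAddMonoid Γ]
  {R : Type*} [CommRing R] {M : Type*} [AddCommGroup M] [Module R M]

theorem antitone_of_split (F G : Γ → Submodule R M) (hF : ∀ γ, F γ = ⨆ η ∈ Set.Ici γ, G η) :
    Antitone F := by
  intro a b hab
  rw [hF a, hF b]
  exact biSup_mono (fun η hη => le_trans hab hη)

theorem smul_mem_of_kill (F G : Γ → Submodule R M) (hG : DirectSum.IsInternal G)
    (hF : ∀ γ, F γ = ⨆ η ∈ Set.Ici γ, G η) (μ : Γ) (u : R)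
    (hkill : ∀ η < μ, ∀ y ∈ G η, u • y = 0) (y : M) : u • y ∈ F μ := by
  have : (⊤ : Submodule R M) ≤ (F μ).comap (LinearMap.lsmul R M u) := by
    rw [← hG.submodule_iSup_eq_top]
    refine iSup_le fun η z hz => ?_
    rw [Submodule.mem_comap, LinearMap.lsmul_apply]
    rcases lt_or_ge η μ with h | h
    · rw [hkill η h z hz]; exact zero_mem _
    · apply Submodule.smul_mem
      rw [hF μ]
      exact Submodule.mem_iSup_of_mem η (Submodule.mem_iSup_of_mem h hz)
  have := this (Submodule.mem_top (x := y))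
  rwa [Submodule.mem_comap, LinearMap.lsmul_apply] at this

theorem vanish_of_gt (F G : Γ → Submodule R M) (hF : ∀ γ, F γ = ⨆ η ∈ Set.Ici γ, G η) (μ : Γ)
    (φ : M →ₗ[R] R) (hφ : ∀ η' ≠ μ, ∀ y ∈ G η', φ y = 0) (η : Γ) (hη : μ < η) (y : M)
    (hy : y ∈ F η) : φ y = 0 := by
  have : F η ≤ LinearMap.ker φ := by
    rw [hF η]
    refine iSup₂_le fun η' hη' z hz => ?_
    rw [LinearMap.mem_ker]
    exact hφ η' (ne_of_gt (lt_of_lt_of_le hη hη')) z hz
  exact LinearMap.mem_ker.mp (this hy)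

variable [Module.Finite R M] [Module.Projective R M]

theorem le_of_T_eq (F₁ F₂ G₁ G₂ : Γ → Submodule R M)
    (hG₁ : DirectSum.IsInternal G₁) (hF₁ : ∀ γ, F₁ γ = ⨆ η ∈ Set.Ici γ, G₁ η)
    (hG₂ : DirectSum.IsInternal G₂) (hF₂ : ∀ γ, F₂ γ = ⨆ η ∈ Set.Ici γ, G₂ η)
    (n : ℕ) (h : ∀ δ, T (n + 1) F₁ δ = T (n + 1) F₂ δ) (γ : Γ) : F₁ γ ≤ F₂ γ := by
  intro x hx
  let I : Ideal R := Submodule.comap (LinearMap.toSpanSingleton R M x) (F₂ γ)
  have hI : ∀ u, u ∈ I ↔ u • x ∈ F₂ γ := fun u => by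
    simp only [I, Submodule.mem_comap, LinearMap.toSpanSingleton_apply]
  suffices hItop : I = ⊤ by
    have h1 : (1 : R) ∈ I := hItop ▸ Submodule.mem_top
    simpa using (hI 1).mp h1
  by_contra hne
  obtain ⟨𝔪, hmax, hle⟩ := Ideal.exists_le_maximal I hne
  have := hmax.isPrime
  suffices hex : ∃ u ∉ 𝔪, u • x ∈ F₂ γ by
    obtain ⟨u, hu, hux⟩ := hex
    exact hu (hle ((hI u).mpr hux))
  rcases exists_local_min G₂ hG₂ 𝔪 with ⟨u, hu, hkill⟩ |
    ⟨μ₂, u₂, hu₂, hkill₂, m₂, hm₂, φ₂, hφ₂, hφm₂⟩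
  · exact ⟨u, hu, by rw [hkill x]; exact zero_mem _⟩
  rcases exists_local_min G₁ hG₁ 𝔪 with ⟨u, hu, hkill⟩ |
    ⟨μ₁, u₁, hu₁, hkill₁, m₁, hm₁, φ₁, hφ₁, hφm₁⟩
  · exact ⟨u, hu, by rw [hkill x]; exact zero_mem _⟩
  have hsm₁ := smul_mem_of_kill F₁ G₁ hG₁ hF₁ μ₁ u₁ hkill₁
  have hsm₂ := smul_mem_of_kill F₂ G₂ hG₂ hF₂ μ₂ u₂ hkill₂
  have hv₁ := vanish_of_gt F₁ G₁ hF₁ μ₁ φ₁ hφ₁
  have hv₂ := vanish_of_gt F₂ G₂ hF₂ μ₂ φ₂ hφ₂
  have hμ : μ₂ ≤ μ₁ := by
    by_contra hlt
    push Not at hlt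
    have h1 : PiTensorProduct.tprod R (fun _ : Fin (n + 1) => u₂ • m₁) ∈
        T (n + 1) F₂ ((n + 1) • μ₂) :=
      tprod_mem_T (fun _ => μ₂) (by simp) _ (fun _ => hsm₂ m₁)
    rw [← h] at h1
    have h2 := map_T_mem (contr n φ₁ φ₁) ⊥ (by
      intro c hc v hv
      rw [Submodule.mem_bot, contr_tprod]
      have hex : ∃ i, μ₁ < c i := by
        by_contra hall
        push Not at hall
        have h3 : ∑ i, c i ≤ ∑ _i : Fin (n + 1), μ₁ := Finset.sum_le_sum (fun i _ => hall i)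
        rw [hc] at h3
        simp only [Finset.sum_const, Finset.card_univ, Fintype.card_fin] at h3
        have h4 : (n + 1) • μ₁ < (n + 1) • μ₂ := nsmul_lt_nsmul_right (Nat.succ_ne_zero n) hlt
        exact lt_irrefl _ (lt_of_lt_of_le h4 h3)
      obtain ⟨i, hi⟩ := hex
      have hz : φ₁ (v i) = 0 := hv₁ (c i) hi (v i) (hv i)
      cases i using Fin.cases with
      | zero => rw [hz, smul_zero]
      | succ j => rw [Finset.prod_eq_zero (Finset.mem_univ j) hz, zero_smul]) _ h1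
    rw [Submodule.mem_bot, contr_tprod] at h2
    simp only [map_smul, smul_eq_mul, Finset.prod_const, Finset.card_univ, Fintype.card_fin]
      at h2
    have h3 : (u₂ * φ₁ m₁) ^ (n + 1) ∈ 𝔪 := by
      rw [pow_succ, h2]
      exact zero_mem _
    have h4 := Ideal.IsPrime.mem_of_pow_mem inferInstance _ h3
    rcases Ideal.IsPrime.mem_or_mem inferInstance h4 with h5 | h5
    · exact hu₂ h5
    · exact hφm₁ h5
  let v : Fin (n + 1) → M := Fin.cons x (fun _ => u₁ • m₂)
  have h1 : PiTensorProduct.tprod R v ∈ T (n + 1) F₁ (γ + n • μ₁) := by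
    refine tprod_mem_T (Fin.cons γ (fun _ => μ₁)) (by simp [Fin.sum_univ_succ]) v ?_
    intro i
    cases i using Fin.cases with
    | zero => simpa [v] using hx
    | succ j => simpa [v] using hsm₁ m₂
  rw [h] at h1
  have hanti := antitone_of_split F₂ G₂ hF₂
  have h2 := map_T_mem (contr n φ₂ LinearMap.id) (F₂ γ) (by
    intro c hc w hw
    rw [contr_tprod, LinearMap.id_apply]
    by_cases hex : ∃ j : Fin n, μ₂ < c j.succ
    · obtain ⟨j, hj⟩ := hex
      have hz : φ₂ (w j.succ) = 0 := hv₂ _ hj _ (hw j.succ)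
      rw [Finset.prod_eq_zero (Finset.mem_univ j) hz, zero_smul]
      exact zero_mem _
    · push Not at hex
      apply Submodule.smul_mem
      have hγ : γ ≤ c 0 := by
        rw [Fin.sum_univ_succ] at hc
        have h3 : ∑ j : Fin n, c j.succ ≤ n • μ₂ := by
          calc ∑ j : Fin n, c j.succ ≤ ∑ _j : Fin n, μ₂ := Finset.sum_le_sum (fun j _ => hex j)
            _ = n • μ₂ := by simp
        have h4 : n • μ₂ ≤ n • μ₁ := nsmul_le_nsmul_right hμ n
        by_contra hlt
        push Not at hlt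
        have h5 : c 0 + ∑ j : Fin n, c j.succ < γ + n • μ₁ :=
          add_lt_add_of_lt_of_le hlt (h3.trans h4)
        rw [hc] at h5
        exact lt_irrefl _ h5
      exact hanti hγ (hw 0)) _ h1
  rw [contr_tprod] at h2
  simp only [v, Fin.cons_succ, Fin.cons_zero, map_smul, smul_eq_mul, Finset.prod_const,
    Finset.card_univ, Fintype.card_fin, LinearMap.id_apply] at h2
  refine ⟨(u₁ * φ₂ m₂) ^ n, ?_, h2⟩
  intro h3
  have h4 := Ideal.IsPrime.mem_of_pow_mem inferInstance _ h3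
  rcases Ideal.IsPrime.mem_or_mem inferInstance h4 with h5 | h5
  · exact hu₁ h5
  · exact hφm₂ h5

end Main

end Groth.Agent.H9.TensorFilt
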