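import Mathlib
import Groth.Prelude.Def_W4c5m1nsnscurvesU

set_option autoImplicit false
open W4c5m1nsnscurves MvPolynomial

namespace Groth.Agent.H9.U2

noncomputable def g : UGen 2 → MvPolynomial (Fin 6) ℤ
  | .a => X 0
  | .ci i => if i = 0 then X 1 else X 3
  | .cbi i => if i = 0 then X 2 else X 4
  | .cij i _ _ => if i = 0 then X 5 else X 0 + X 1 + X 2 + X 3 + X 4 - X 5
  | .c => (X 0 + X 1 + X 2 + X 3 + X 4 - X 5) * X 3 + X 5 * X 1 - X 1 * X 3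
  | .cb => (X 0 + X 1 + X 2 + X 3 + X 4 - X 5) * X 2 + X 5 * X 4 - X 2 * X 4

lemma g_rel : ∀ r ∈ URel ℤ 2, aeval g r = 0 := by
  rintro r (((⟨q, rfl⟩ | ⟨q, rfl⟩) | ⟨q, rfl⟩) | ⟨q, rfl⟩)
  · obtain ⟨⟨i, j⟩, h⟩ := q
    fin_cases i <;> fin_cases j <;> simp at h <;> simp [g] <;> ring
  · obtain ⟨⟨i, j⟩, h⟩ := q
    fin_cases i <;> fin_cases j <;> simp at h <;> simp [g] <;> ring
  · obtain ⟨⟨i, j⟩, h⟩ := q
    fin_cases i <;> fin_cases j <;> simp at h <;> simp [g] <;> ring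
  · exfalso
    obtain ⟨⟨i, j, k⟩, h1, h2, h3⟩ := q
    fin_cases i <;> fin_cases j <;> fin_cases k <;> simp at h1 h2 h3

noncomputable def ψ : URing ℤ 2 →ₐ[ℤ] MvPolynomial (Fin 6) ℤ :=
  Ideal.Quotient.liftₐ (Ideal.span (URel ℤ 2)) (aeval g) (by
    intro r hr
    have : Ideal.span (URel ℤ 2) ≤ RingHom.ker (aeval g : MvPolynomial (UGen 2) ℤ →ₐ[ℤ] _) :=
      Ideal.span_le.mpr (fun r hr => g_rel r hr)
    exact (RingHom.mem_ker).mp (this hr))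

lemma ψ_ugen (x : UGen 2) : ψ (ugen ℤ 2 x) = g x := by
  unfold ψ ugen
  erw [Ideal.Quotient.liftₐ_apply, Ideal.Quotient.lift_mk]
  simp

noncomputable def φ : MvPolynomial (Fin 6) ℤ →ₐ[ℤ] URing ℤ 2 :=
  MvPolynomial.aeval (R := ℤ) (S₁ := URing ℤ 2)
      ![ugen ℤ 2 .a, ugen ℤ 2 (.ci 0), ugen ℤ 2 (.cbi 0), ugen ℤ 2 (.ci 1), ugen ℤ 2 (.cbi 1),
        ugen ℤ 2 (.cij 0 1 Fin.zero_ne_one)]

lemma ψφ : ψ.comp φ = AlgHom.id ℤ _ := by
  apply MvPolynomial.algHom_ext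
  intro i
  fin_cases i <;> simp [φ, ψ_ugen, g]

lemma relL : ugen ℤ 2 (.cij 1 0 (Ne.symm Fin.zero_ne_one)) =
    ugen ℤ 2 .a + ugen ℤ 2 (.ci 0) + ugen ℤ 2 (.cbi 0) + ugen ℤ 2 (.ci 1) + ugen ℤ 2 (.cbi 1)
      - ugen ℤ 2 (.cij 0 1 Fin.zero_ne_one) := by
  have h : Ideal.Quotient.mk (Ideal.span (URel ℤ 2))
      (X (.cij 0 1 Fin.zero_ne_one) + X (.cij 1 0 (Ne.symm Fin.zero_ne_one)) -
      (X .a + X (.ci 0) + X (.cbi 0) + X (.ci 1) + X (.cbi 1))) = 0 :=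
    Ideal.Quotient.eq_zero_iff_mem.mpr
      (Ideal.subset_span (Or.inl (Or.inl (Or.inl ⟨⟨(0, 1), Fin.zero_ne_one⟩, rfl⟩))))
  simp only [map_sub, map_add] at h
  unfold ugen
  linear_combination h

lemma relC : ugen ℤ 2 .c =
    ugen ℤ 2 (.cij 1 0 (Ne.symm Fin.zero_ne_one)) * ugen ℤ 2 (.ci 1)
      + ugen ℤ 2 (.cij 0 1 Fin.zero_ne_one) * ugen ℤ 2 (.ci 0)
      - ugen ℤ 2 (.ci 0) * ugen ℤ 2 (.ci 1) := by
  have h : Ideal.Quotient.mk (Ideal.span (URel ℤ 2))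
      (X (.cij 1 0 (Ne.symm Fin.zero_ne_one)) * X (.ci 1)
        + X (.cij 0 1 Fin.zero_ne_one) * X (.ci 0) - X (.ci 0) * X (.ci 1) - X .c) = 0 :=
    Ideal.Quotient.eq_zero_iff_mem.mpr
      (Ideal.subset_span (Or.inl (Or.inl (Or.inr ⟨⟨(0, 1), Fin.zero_ne_one⟩, rfl⟩))))
  simp only [map_sub, map_add, map_mul] at h
  unfold ugen
  linear_combination -h

lemma relCb : ugen ℤ 2 .cb =
    ugen ℤ 2 (.cij 1 0 (Ne.symm Fin.zero_ne_one)) * ugen ℤ 2 (.cbi 0)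
      + ugen ℤ 2 (.cij 0 1 Fin.zero_ne_one) * ugen ℤ 2 (.cbi 1)
      - ugen ℤ 2 (.cbi 0) * ugen ℤ 2 (.cbi 1) := by
  have h : Ideal.Quotient.mk (Ideal.span (URel ℤ 2))
      (X (.cij 1 0 (Ne.symm Fin.zero_ne_one)) * X (.cbi 0)
        + X (.cij 0 1 Fin.zero_ne_one) * X (.cbi 1) - X (.cbi 0) * X (.cbi 1) - X .cb) = 0 :=
    Ideal.Quotient.eq_zero_iff_mem.mpr
      (Ideal.subset_span (Or.inl (Or.inr ⟨⟨(0, 1), Fin.zero_ne_one⟩, rfl⟩)))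
  simp only [map_sub, map_add, map_mul] at h
  unfold ugen
  linear_combination -h

lemma φg (x : UGen 2) : φ (g x) = ugen ℤ 2 x := by
  cases x with
  | a => simp [g, φ]
  | c => simp [g, φ]; rw [relC, relL]
  | cb => simp [g, φ]; rw [relCb, relL]
  | ci i => fin_cases i <;> simp [g, φ]
  | cbi i => fin_cases i <;> simp [g, φ]
  | cij i j h =>
    fin_cases i <;> fin_cases j <;> simp at h
    · simp [g, φ]
    · simp [g, φ]; rw [relL]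

lemma φψ : φ.comp ψ = AlgHom.id ℤ _ := by
  apply Ideal.Quotient.algHom_ext
  apply MvPolynomial.algHom_ext
  intro x
  have : (Ideal.Quotient.mkₐ ℤ (Ideal.span (URel ℤ 2))) (X x) = ugen ℤ 2 x := rfl
  simp only [AlgHom.comp_apply, AlgHom.id_apply]
  rw [this, ψ_ugen, φg]

theorem bij : Function.Bijective φ := by
  refine ⟨Function.LeftInverse.injective (g := ψ) (fun x => ?_),
    Function.RightInverse.surjective (g := ψ) (fun x => ?_)⟩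
  · exact congrArg (fun f => f x) ψφ
  · exact congrArg (fun f => f x) φψ

end Groth.Agent.H9.U2
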