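import Mathlib

/-!
# van Dantzig: open subgroups form a neighbourhood basis of `0` in a locally compact
totally disconnected Hausdorff topological (additive) group
-/

set_option autoImplicit false

namespace Groth.Agent.H9.VD

open Set Filter Topology Pointwise

variable {G : Type*} [AddGroup G] [TopologicalSpace G] [IsTopologicalAddGroup G]

lemma exist_add_closure_nhds {W : Set G} (hWc : IsCompact W) (hWo : IsOpen W) :
    ∃ T ∈ 𝓝 (0 : G), W + T ⊆ W := by
  apply hWc.induction_on (p := fun S ↦ ∃ T ∈ 𝓝 (0 : G), S + T ⊆ W)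
  · exact ⟨Set.univ, univ_mem, by simp⟩
  · rintro s t hst ⟨T, hT, h⟩
    exact ⟨T, hT, (add_subset_add_right hst).trans h⟩
  · rintro U V ⟨T₁, hT₁, h1⟩ ⟨T₂, hT₂, h2⟩
    refine ⟨T₁ ∩ T₂, inter_mem hT₁ hT₂, ?_⟩
    rw [union_add]
    exact union_subset ((add_subset_add_left inter_subset_left).trans h1)
      ((add_subset_add_left inter_subset_right).trans h2)
  · intro x hx
    have hmem : (x, (0 : G)) ∈ (fun p : G × G ↦ p.1 + p.2) ⁻¹' W := by simp [hx]
    rcases isOpen_prod_iff.mp (continuous_add.isOpen_preimage W hWo) x 0 hmem with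
      ⟨U, V, hU, hV, hxU, h0V, hsub⟩
    have h6 : U + V ⊆ W := add_subset_iff.mpr (fun _ hx _ hy ↦ hsub (mk_mem_prod hx hy))
    exact ⟨U ∩ W, ⟨U, hU.mem_nhds hxU, W, fun _ a ↦ a, rfl⟩, V, hV.mem_nhds h0V,
      fun _ a ↦ h6 ((add_subset_add_right inter_subset_left) a)⟩

/-- an open subgroup inside a compact open neighbourhood of `0` -/
theorem exists_open_subgroup_subset_compact_open {W : Set G} (hWc : IsCompact W) (hWo : IsOpen W)
    (h0 : (0 : G) ∈ W) : ∃ U : AddSubgroup G, IsOpen (U : Set G) ∧ (U : Set G) ⊆ W := by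
  obtain ⟨T, hT, hWT⟩ := exist_add_closure_nhds hWc hWo
  obtain ⟨T', hT'T, hT'o, h0T'⟩ := mem_nhds_iff.mp hT
  set V : Set G := T' ∩ -T' with hV
  have hVo : IsOpen V := hT'o.inter hT'o.neg
  have h0V : (0 : G) ∈ V := ⟨h0T', by simpa using h0T'⟩
  have hVneg : ∀ x ∈ V, -x ∈ V := by
    rintro x ⟨hx1, hx2⟩
    exact ⟨by simpa using hx2, by simpa using hx1⟩
  have hWV : ∀ w ∈ W, ∀ v ∈ V, w + v ∈ W := by
    intro w hw v hv
    exact hWT (Set.add_mem_add hw (hT'T hv.1))
  refine ⟨AddSubgroup.closure V, ?_, ?_⟩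
  · apply AddSubgroup.isOpen_of_mem_nhds (g := 0)
    exact Filter.mem_of_superset (hVo.mem_nhds h0V) AddSubgroup.subset_closure
  · have key : ∀ x ∈ AddSubgroup.closure V, ∀ w ∈ W, w + x ∈ W := by
      intro x hx
      induction hx using AddSubgroup.closure_induction'' with
      | mem y hy => intro w hw; exact hWV w hw y hy
      | neg_mem y hy => intro w hw; exact hWV w hw (-y) (hVneg y hy)
      | zero => intro w hw; simpa using hw
      | add y z _ _ hy hz =>
        intro w hw
        rw [← add_assoc]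
        exact hz _ (hy w hw)
    intro x hx
    have := key x hx 0 h0
    simpa using this

variable [T2Space G] [LocallyCompactSpace G] [TotallyDisconnectedSpace G]

/-- van Dantzig's theorem -/
theorem exists_open_subgroup_subset {V : Set G} (hV : IsOpen V) (h0 : (0 : G) ∈ V) :
    ∃ U : AddSubgroup G, IsOpen (U : Set G) ∧ (U : Set G) ⊆ V := by
  obtain ⟨K, hKc, h0K, hKV⟩ := exists_compact_subset hV h0
  obtain ⟨W, hW, h0W, hWK⟩ :=
    (loc_compact_Haus_tot_disc_of_zero_dim (H := G)).mem_nhds_iff.1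
      (isOpen_interior.mem_nhds h0K)
  have hWc : IsCompact W := hKc.of_isClosed_subset hW.isClosed (hWK.trans interior_subset)
  obtain ⟨U, hUo, hUW⟩ := exists_open_subgroup_subset_compact_open hWc hW.isOpen h0W
  exact ⟨U, hUo, hUW.trans (hWK.trans (interior_subset.trans hKV))⟩

end Groth.Agent.H9.VD
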