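import Mathlib

/-!
# Multiplication by a Teichmüller representative on Witt vectors

`(teichmuller p v * a).coeff n = v ^ p ^ n * a.coeff n` over any commutative ring.
-/

namespace Groth.Agent.H9.WittTeich

open WittVector MvPolynomial

variable (p : ℕ) [hp : Fact p.Prime]

/-- the coefficientwise twist of a Witt vector by powers of `v` -/
def twist {R : Type*} [CommRing R] (v : R) (a : WittVector p R) : WittVector p R :=
  WittVector.mk p (fun n => v ^ p ^ n * a.coeff n)

theorem twist_coeff {R : Type*} [CommRing R] (v : R) (a : WittVector p R) (n : ℕ) :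
    (twist p v a).coeff n = v ^ p ^ n * a.coeff n := rfl

theorem map_twist {R S : Type*} [CommRing R] [CommRing S] (f : R →+* S) (v : R) (a : WittVector p R) :
    WittVector.map f (twist p v a) = twist p (f v) (WittVector.map f a) := by
  ext n
  simp [twist_coeff, WittVector.map_coeff]

theorem ghostComponent_twist {R : Type*} [CommRing R] (v : R) (a : WittVector p R) (n : ℕ) :
    ghostComponent n (twist p v a) = v ^ p ^ n * ghostComponent n a := by
  rw [ghostComponent_apply, ghostComponent_apply, aeval_wittPolynomial, aeval_wittPolynomial,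
    Finset.mul_sum]
  refine Finset.sum_congr rfl fun i hi => ?_
  rw [twist_coeff, mul_pow, ← pow_mul]
  have hi' : i ≤ n := Nat.lt_succ_iff.mp (Finset.mem_range.mp hi)
  have : p ^ i * p ^ (n - i) = p ^ n := by rw [← pow_add, Nat.add_sub_cancel' hi']
  rw [this]
  ring

theorem teich_mul_aux₁ {σ : Type*} (v : MvPolynomial σ ℚ) (a : WittVector p (MvPolynomial σ ℚ)) :
    teichmuller p v * a = twist p v a := by
  apply (ghostMap.bijective_of_invertible p (MvPolynomial σ ℚ)).1
  rw [map_mul]
  ext1 n
  simp only [Pi.mul_apply, ghostMap_apply, ghostComponent_teichmuller, ghostComponent_twist]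

theorem teich_mul_aux₂ {σ : Type*} (v : MvPolynomial σ ℤ) (a : WittVector p (MvPolynomial σ ℤ)) :
    teichmuller p v * a = twist p v a := by
  refine map_injective (MvPolynomial.map (Int.castRingHom ℚ))
    (MvPolynomial.map_injective _ Int.cast_injective) ?_
  rw [map_mul, map_teichmuller, map_twist, teich_mul_aux₁]

theorem teich_mul {R : Type*} [CommRing R] (v : R) (a : WittVector p R) :
    teichmuller p v * a = twist p v a := by
  rcases counit_surjective R v with ⟨v, rfl⟩
  rcases WittVector.map_surjective _ (counit_surjective R) a with ⟨a, rfl⟩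
  rw [← map_teichmuller, ← map_mul, teich_mul_aux₂, map_twist]

/-- multiplication by a Teichmüller representative acts coefficientwise -/
theorem teich_mul_coeff {R : Type*} [CommRing R] (v : R) (a : WittVector p R) (n : ℕ) :
    (teichmuller p v * a).coeff n = v ^ p ^ n * a.coeff n := by
  rw [teich_mul, twist_coeff]

theorem mul_teich_coeff {R : Type*} [CommRing R] (v : R) (a : WittVector p R) (n : ℕ) :
    (a * teichmuller p v).coeff n = a.coeff n * v ^ p ^ n := by
  rw [mul_comm, teich_mul_coeff, mul_comm]

end Groth.Agent.H9.WittTeich
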