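import Mathlib
import Groth.Agent.Lib.Helper9.WittTeich

/-!
# Localisations of a unique factorisation domain away from a product of primes

Helper lemmas for the filtered pieces of truncated Witt vectors.
-/

namespace Groth.Agent.H9.WFil

open Groth.Agent.H9.WittTeich

section UFD

variable {A B : Type*} [CommRing A] [IsDomain A] [UniqueFactorizationMonoid A] [CommRing B] [Algebra A B]

theorem algebraMap_injective (π : A) (hπ : π ≠ 0) [IsLocalization.Away π B] :
    Function.Injective (algebraMap A B) :=
  IsLocalization.injective B (powers_le_nonZeroDivisors_of_noZeroDivisors hπ)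

/-- `A` is "root closed" in `B = A[1/π]` -/
theorem mem_range_of_pow_mem (π : A) (hπ : π ≠ 0) [IsLocalization.Away π B] (y : B) (k : ℕ) (hk : k ≠ 0)
    (h : y ^ k ∈ (algebraMap A B).range) : y ∈ (algebraMap A B).range := by
  obtain ⟨N, a, ha⟩ := IsLocalization.Away.surj π y
  obtain ⟨α, hα⟩ := h
  have hinj := algebraMap_injective (B := B) π hπ
  have h1 : a ^ k = α * (π ^ N) ^ k := by
    apply hinj
    rw [map_pow, ← ha, map_mul, hα, map_pow, map_pow, mul_pow]
  have h2 : π ^ N ∣ a := by
    rw [← UniqueFactorizationMonoid.pow_dvd_pow_iff_dvd hk]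
    exact ⟨α, by rw [h1, mul_comm]⟩
  obtain ⟨a', rfl⟩ := h2
  refine ⟨a', ?_⟩
  have hu : IsUnit (algebraMap A B π ^ N) := (IsLocalization.Away.algebraMap_isUnit π).pow N
  apply hu.mul_right_cancel
  rw [ha, map_mul, map_pow, mul_comm]

theorem prod_ne_zero {r : ℕ} (x : Fin r → A) (hx : ∀ i, Prime (x i)) : ∏ i, x i ≠ 0 :=
  Finset.prod_ne_zero_iff.mpr fun i _ => (hx i).ne_zero

/-- a product of pairwise non-associate primes each dividing `β` divides `β` -/
theorem prod_dvd_of_primes {r : ℕ} (x : Fin r → A) (hx : ∀ i, Prime (x i))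
    (hxa : ∀ i j, Associated (x i) (x j) → i = j) (β : A) (h : ∀ i, x i ∣ β) : ∏ i, x i ∣ β := by
  classical
  have key : ∀ s : Finset (Fin r), ∏ i ∈ s, x i ∣ β := by
    intro s
    induction s using Finset.induction_on with
    | empty => simp
    | insert i s hi ih =>
      rw [Finset.prod_insert hi]
      obtain ⟨γ, hγ⟩ := ih
      have h1 : x i ∣ (∏ j ∈ s, x j) * γ := hγ ▸ h i
      rcases (hx i).dvd_or_dvd h1 with h2 | h2
      · exfalso
        obtain ⟨j, hj, hij⟩ := (Prime.dvd_finsetProd_iff (hx i) _).mp h2
        have := hxa i j ((hx i).associated_of_dvd (hx j) hij)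
        exact hi (this ▸ hj)
      · obtain ⟨δ, rfl⟩ := h2
        exact ⟨δ, by rw [hγ]; ring⟩
  exact key Finset.univ

end UFD

section Coeff

variable (p : ℕ) [Fact p.Prime]

/-- coefficients of the product of a truncated Teichmüller representative with a truncated Witt vector -/
theorem trunc_teich_mul_coeff {B : Type*} [CommRing B] (m : ℕ) (v : B) (a : TruncatedWittVector p m B)
    (j : Fin m) :
    TruncatedWittVector.coeff j (WittVector.truncate m (WittVector.teichmuller p v) * a) =
      v ^ p ^ (j : ℕ) * TruncatedWittVector.coeff j a := by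
  obtain ⟨a', rfl⟩ := WittVector.truncate_surjective p m B a
  rw [← map_mul, WittVector.coeff_truncate, WittVector.coeff_truncate, teich_mul_coeff]

theorem trunc_mul_teich_coeff {B : Type*} [CommRing B] (m : ℕ) (v : B) (a : TruncatedWittVector p m B)
    (j : Fin m) :
    TruncatedWittVector.coeff j (a * WittVector.truncate m (WittVector.teichmuller p v)) =
      TruncatedWittVector.coeff j a * v ^ p ^ (j : ℕ) := by
  rw [mul_comm, trunc_teich_mul_coeff, mul_comm]

end Coeff

end Groth.Agent.H9.WFil
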