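import Mathlib
import Groth.Prelude.Def_W4c6katofiltaWFil
import Groth.Agent.Lib.Helper9.WittFilUFD

/-!
# The Frobenius–Teichmüller twist and filtered pieces of truncated Witt vectors

For a ring `B` of characteristic `p` and a subring (image of `A`) which is closed under taking
roots in `B`, membership of the filtered piece `WittFil.fil p m c` is equivalent to the twisted
vector `[c] · W(Frob^(m-1))(a)` having coefficients in `A`.  Since the twist is additive and
multiplicative, the filtered pieces are closed under subtraction and multiplication.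
-/

namespace Groth.Agent.H9.WFil

open Groth.Agent.H9.WittTeich

section Twist

variable (p : ℕ) [Fact p.Prime] (A : Type*) {B : Type*} [CommRing A] [CommRing B] [Algebra A B]

/-- `A` is closed under taking roots in `B` -/
def RootClosed (B : Type*) [CommRing B] [Algebra A B] : Prop :=
  ∀ (y : B) (k : ℕ), k ≠ 0 → y ^ k ∈ (algebraMap A B).range → y ∈ (algebraMap A B).range

/-- subring of truncated Witt vectors all of whose coefficients lie in the image of `A` -/
noncomputable def Rm (B : Type*) [CommRing B] [Algebra A B] (m : ℕ) : Subring (TruncatedWittVector p m B) :=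
  ((WittVector.map (algebraMap A B)).range).map (WittVector.truncate m)

theorem mem_Rm_iff (m : ℕ) (w : TruncatedWittVector p m B) :
    w ∈ Rm p A B m ↔ ∀ j : Fin m, TruncatedWittVector.coeff j w ∈ (algebraMap A B).range := by
  constructor
  · rintro ⟨w', ⟨w'', rfl⟩, rfl⟩ j
    rw [WittVector.coeff_truncate, WittVector.map_coeff]
    exact ⟨_, rfl⟩
  · intro h
    choose f hf using h
    refine ⟨WittVector.map (algebraMap A B)
      (WittVector.mk p (fun n => if h : n < m then f ⟨n, h⟩ else 0)), ⟨_, rfl⟩, ?_⟩
    ext j
    rw [WittVector.coeff_truncate, WittVector.map_coeff]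
    simp only [WittVector.coeff_mk, j.2, dif_pos, Fin.eta]
    exact hf j

variable {A}
variable [CharP B p]

/-- the twist `[c] · W(Frob^k)(a)`, truncated to length `m` -/
noncomputable def tw (m k : ℕ) (c : B) (a : WittVector p B) : TruncatedWittVector p m B :=
  WittVector.truncate m (WittVector.teichmuller p c * WittVector.map (iterateFrobenius B p k) a)

theorem tw_coeff (m k : ℕ) (c : B) (a : WittVector p B) (j : Fin m) :
    TruncatedWittVector.coeff j (tw p m k c a) = c ^ p ^ (j : ℕ) * (a.coeff j) ^ p ^ k := by
  rw [tw, WittVector.coeff_truncate, teich_mul_coeff, WittVector.map_coeff, iterateFrobenius_def]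

theorem tw_sub (m k : ℕ) (c : B) (a b : WittVector p B) :
    tw p m k c (a - b) = tw p m k c a - tw p m k c b := by
  simp only [tw, map_sub, mul_sub]

theorem tw_add (m k : ℕ) (c : B) (a b : WittVector p B) :
    tw p m k c (a + b) = tw p m k c a + tw p m k c b := by
  simp only [tw, map_add, mul_add]

theorem tw_mul (m k : ℕ) (c c' : B) (a b : WittVector p B) :
    tw p m k (c * c') (a * b) = tw p m k c a * tw p m k c' b := by
  simp only [tw, map_mul]
  ring

theorem mem_fil_iff (hroot : RootClosed A B) (m : ℕ) (c : B) (a : WittVector p B) :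
    WittVector.truncate m a ∈ WittFil.fil p m (A := A) c ↔ tw p m (m - 1) c a ∈ Rm p A B m := by
  rw [mem_Rm_iff]
  have hj : ∀ j : Fin m, TruncatedWittVector.coeff j (tw p m (m - 1) c a) =
      ((TruncatedWittVector.coeff j (WittVector.truncate m a)) ^ (p ^ (m - 1 - (j : ℕ))) * c) ^
        p ^ (j : ℕ) := by
    intro j
    have hN : p ^ (m - 1 - (j : ℕ)) * p ^ (j : ℕ) = p ^ (m - 1) := by
      rw [← pow_add]
      congr 1
      have := j.2
      omega
    rw [tw_coeff, WittVector.coeff_truncate, mul_pow, ← pow_mul, hN, mul_comm]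
  constructor
  · intro h j
    rw [hj j]
    exact Subring.pow_mem _ (h j) _
  · intro h j
    have h1 := h j
    rw [hj j] at h1
    exact hroot _ _ (pow_pos (Fact.out : p.Prime).pos _).ne' h1

theorem sub_mem_fil (hroot : RootClosed A B) (m : ℕ) (c : B) (a b : TruncatedWittVector p m B)
    (ha : a ∈ WittFil.fil p m (A := A) c) (hb : b ∈ WittFil.fil p m (A := A) c) :
    a - b ∈ WittFil.fil p m (A := A) c := by
  obtain ⟨a, rfl⟩ := WittVector.truncate_surjective p m B a
  obtain ⟨b, rfl⟩ := WittVector.truncate_surjective p m B b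
  rw [← map_sub, mem_fil_iff p hroot, tw_sub]
  exact Subring.sub_mem _ ((mem_fil_iff p hroot m c a).mp ha) ((mem_fil_iff p hroot m c b).mp hb)

theorem add_mem_fil (hroot : RootClosed A B) (m : ℕ) (c : B) (a b : TruncatedWittVector p m B)
    (ha : a ∈ WittFil.fil p m (A := A) c) (hb : b ∈ WittFil.fil p m (A := A) c) :
    a + b ∈ WittFil.fil p m (A := A) c := by
  obtain ⟨a, rfl⟩ := WittVector.truncate_surjective p m B a
  obtain ⟨b, rfl⟩ := WittVector.truncate_surjective p m B b
  rw [← map_add, mem_fil_iff p hroot, tw_add]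
  exact Subring.add_mem _ ((mem_fil_iff p hroot m c a).mp ha) ((mem_fil_iff p hroot m c b).mp hb)

theorem mul_mem_fil (hroot : RootClosed A B) (m : ℕ) (c c' : B) (a b : TruncatedWittVector p m B)
    (ha : a ∈ WittFil.fil p m (A := A) c) (hb : b ∈ WittFil.fil p m (A := A) c') :
    a * b ∈ WittFil.fil p m (A := A) (c * c') := by
  obtain ⟨a, rfl⟩ := WittVector.truncate_surjective p m B a
  obtain ⟨b, rfl⟩ := WittVector.truncate_surjective p m B b
  rw [← map_mul, mem_fil_iff p hroot, tw_mul]
  exact Subring.mul_mem _ ((mem_fil_iff p hroot m c a).mp ha) ((mem_fil_iff p hroot m c' b).mp hb)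

end Twist

section UFD

variable {A B : Type*} [CommRing A] [IsDomain A] [UniqueFactorizationMonoid A] [CommRing B] [Algebra A B]

theorem rootClosed_of_ufd (π : A) (hπ : π ≠ 0) [IsLocalization.Away π B] : RootClosed A B :=
  fun y k hk h => mem_range_of_pow_mem π hπ y k hk h

theorem charP_of_away (p : ℕ) [CharP A p] (π : A) (hπ : π ≠ 0) [IsLocalization.Away π B] : CharP B p :=
  charP_of_injective_algebraMap (algebraMap_injective (B := B) π hπ) p

end UFD

end Groth.Agent.H9.WFil
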