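import Mathlib
import Groth.Prelude.Def_W4c6katofiltaWFil
import Groth.Agent.Lib.Helper9.WittFilTwist

/-!
# Floor description of the filtered pieces

`y ^ q * zmon u n ∈ A ↔ y * zmon u (n / q) ∈ A` for `B = A[1/(x_1 ⋯ x_r)]`, `A` a UFD.
-/

namespace Groth.Agent.H9.WFil

open WittFil

section Zmon

variable {B : Type*} [CommRing B] {r : ℕ} (u : Fin r → Bˣ)

theorem zmon_add (n n' : Fin r → ℤ) : zmon u (n + n') = zmon u n * zmon u n' := by
  unfold WittFil.zmon
  rw [← Units.val_mul, ← Finset.prod_mul_distrib]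
  congr 2
  funext i
  rw [Pi.add_apply, zpow_add]

theorem zmon_mul_nat (q : ℕ) (n : Fin r → ℤ) : zmon u (fun i => (q : ℤ) * n i) = zmon u n ^ q := by
  unfold WittFil.zmon
  rw [← Units.val_pow_eq_pow_val, ← Finset.prod_pow]
  congr 2
  funext i
  show u i ^ ((q : ℤ) * n i) = (u i ^ n i) ^ q
  rw [mul_comm, zpow_mul, zpow_natCast]

theorem zmon_natCast {A : Type*} [CommRing A] [Algebra A B] (x : Fin r → A)
    (hu : ∀ i, (u i : B) = algebraMap A B (x i)) (e : Fin r → ℕ) :
    zmon u (fun i => (e i : ℤ)) = algebraMap A B (∏ i, x i ^ e i) := by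
  unfold WittFil.zmon
  rw [Units.coe_prod, map_prod]
  refine Finset.prod_congr rfl fun i _ => ?_
  rw [zpow_natCast, Units.val_pow_eq_pow_val, hu, map_pow]

end Zmon

section UFD

variable {A B : Type*} [CommRing A] [IsDomain A] [UniqueFactorizationMonoid A] [CommRing B]
  [Algebra A B] {r : ℕ} (x : Fin r → A) (hx : ∀ i, Prime (x i))
  (hxa : ∀ i j, Associated (x i) (x j) → i = j) [IsLocalization.Away (∏ i, x i) B]
  (u : Fin r → Bˣ) (hu : ∀ i, (u i : B) = algebraMap A B (x i))

include hx hxa hu in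
theorem pow_mul_zmon_mem_iff (q : ℕ) (hq : 0 < q) (n : Fin r → ℤ) (y : B) :
    y ^ q * zmon u n ∈ (algebraMap A B).range ↔
      y * zmon u (fun i => n i / (q : ℤ)) ∈ (algebraMap A B).range := by
  have hπ : ∏ i, x i ≠ 0 := prod_ne_zero x hx
  have hq' : (0 : ℤ) < q := by exact_mod_cast hq
  set e : Fin r → ℕ := fun i => (n i % (q : ℤ)).toNat with he
  have hecast : ∀ i, (e i : ℤ) = n i % (q : ℤ) := fun i =>
    Int.toNat_of_nonneg (Int.emod_nonneg _ hq'.ne')
  have helt : ∀ i, e i < q := by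
    intro i
    have h1 := Int.emod_lt_of_pos (n i) hq'
    have h2 := hecast i
    omega
  have hn : n = (fun i => (q : ℤ) * (n i / (q : ℤ))) + (fun i => (e i : ℤ)) := by
    funext i
    rw [Pi.add_apply, hecast]
    exact (Int.mul_ediv_add_emod (n i) q).symm
  set z : B := y * zmon u (fun i => n i / (q : ℤ)) with hz
  have hkey : y ^ q * zmon u n = z ^ q * algebraMap A B (∏ i, x i ^ e i) := by
    conv_lhs => rw [hn]
    rw [zmon_add, zmon_mul_nat, zmon_natCast u x hu, hz, mul_pow, mul_assoc]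
  rw [hkey]
  constructor
  · rintro ⟨w, hw⟩
    -- `(z π)^q ∈ A`
    have h1 : (z * algebraMap A B (∏ i, x i)) ^ q =
        algebraMap A B (w * ∏ i, x i ^ (q - e i)) := by
      rw [map_mul, hw, mul_pow, mul_assoc, ← map_pow, ← map_mul]
      congr 2
      rw [← Finset.prod_pow, ← Finset.prod_mul_distrib]
      refine Finset.prod_congr rfl fun i _ => ?_
      rw [← pow_add]
      congr 1
      have := helt i
      omega
    obtain ⟨a, ha⟩ := mem_range_of_pow_mem (∏ i, x i) hπ _ q hq.ne' ⟨_, h1.symm⟩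
    have hinj := algebraMap_injective (B := B) (∏ i, x i) hπ
    have h2 : a ^ q = w * ∏ i, x i ^ (q - e i) := by
      apply hinj
      rw [map_pow, ha, h1]
    have h3 : ∀ i, x i ∣ a := by
      intro i
      apply (hx i).dvd_of_dvd_pow (n := q)
      rw [h2]
      apply Dvd.dvd.mul_left
      apply dvd_trans _ (Finset.dvd_prod_of_mem _ (Finset.mem_univ i))
      apply dvd_pow_self
      have := helt i
      omega
    obtain ⟨a', rfl⟩ := prod_dvd_of_primes x hx hxa a h3
    refine ⟨a', ?_⟩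
    have hunit : IsUnit (algebraMap A B (∏ i, x i)) := IsLocalization.Away.algebraMap_isUnit _
    apply hunit.mul_right_cancel
    rw [← ha, map_mul, mul_comm]
  · rintro ⟨a, ha⟩
    rw [← ha, ← map_pow, ← map_mul]
    exact ⟨_, rfl⟩

end UFD

section OnePrime

variable {A B : Type*} [CommRing A] [IsDomain A] [UniqueFactorizationMonoid A] [CommRing B]
  [Algebra A B] (x : A) (hx : Prime x) [IsLocalization.Away x B]
  (u : Bˣ) (hu : (u : B) = algebraMap A B x)

include hx hu in
theorem pow_mul_zpow_mem_iff (q : ℕ) (hq : 0 < q) (n : ℤ) (y : B) :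
    y ^ q * ((u ^ n : Bˣ) : B) ∈ (algebraMap A B).range ↔
      y * ((u ^ (n / (q : ℤ)) : Bˣ) : B) ∈ (algebraMap A B).range := by
  have h1 : (∏ _i : Fin 1, x) = x := by simp
  haveI : IsLocalization.Away (∏ i : Fin 1, (fun _ => x) i) B := by
    show IsLocalization.Away (∏ _i : Fin 1, x) B
    rw [h1]; infer_instance
  have h := pow_mul_zmon_mem_iff (A := A) (B := B) (fun _ : Fin 1 => x) (fun _ => hx)
    (fun i j _ => Subsingleton.elim i j) (fun _ => u) (fun _ => hu) q hq (fun _ => n) y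
  have hz : ∀ k : ℤ, zmon (fun _ : Fin 1 => u) (fun _ => k) = ((u ^ k : Bˣ) : B) := by
    intro k
    unfold WittFil.zmon
    simp
  rw [hz, hz] at h
  exact h

end OnePrime

end Groth.Agent.H9.WFil
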