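import Mathlib
import Groth.Prelude.Def_W4c6katofiltaWFil
import Groth.Agent.Lib.Helper9.WittFilFloor

/-!
# Domain versions of the root-closedness and floor lemmas, and coordinates of Witt vector sums

* `mem_range_of_pow_mem_primes`: for a domain `A` and pairwise non-associate primes `x i`,
  `A` is root closed in `A[1/∏ x i]` (no unique factorisation needed).
* `pow_mul_zmon_mem_iff_dom`, `pow_mul_zpow_mem_iff_dom`: the floor lemma in this generality.
* `coeff_add_of_lt`, `coeff_add_at`, `coeff_sub_of_lt`, `coeff_sub_at`: coordinates of `d ± w`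
  when the first `t` coordinates of `w` vanish.
-/

namespace Groth.Agent.H9.WFil

open WittFil

section Domain

variable {A B : Type*} [CommRing A] [IsDomain A] [CommRing B]
  [Algebra A B] {r : ℕ} (x : Fin r → A) (hx : ∀ i, Prime (x i))
  (hxa : ∀ i j, Associated (x i) (x j) → i = j) [IsLocalization.Away (∏ i, x i) B]

theorem prod_ne_zero' {r : ℕ} (x : Fin r → A) (hx : ∀ i, Prime (x i)) : ∏ i, x i ≠ 0 :=
  Finset.prod_ne_zero_iff.mpr fun i _ => (hx i).ne_zero

theorem algebraMap_injective' (π : A) (hπ : π ≠ 0) [IsLocalization.Away π B] :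
    Function.Injective (algebraMap A B) :=
  IsLocalization.injective B (powers_le_nonZeroDivisors_of_noZeroDivisors hπ)

/-- a product of pairwise non-associate primes each dividing `β` divides `β` -/
theorem prod_dvd_of_primes' {r : ℕ} (x : Fin r → A) (hx : ∀ i, Prime (x i))
    (hxa : ∀ i j, Associated (x i) (x j) → i = j) (β : A) (h : ∀ i, x i ∣ β) : ∏ i, x i ∣ β := by
  classical
  have key : ∀ s : Finset (Fin r), ∏ i ∈ s, x i ∣ β := by
    intro s
    induction s using Finset.induction_on with
    | empty => simp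
    | insert i s hi ih =>
      rw [Finset.prod_insert hi]
      obtain ⟨γ, hγ⟩ := ih
      have h1 : x i ∣ (∏ j ∈ s, x j) * γ := hγ ▸ h i
      rcases (hx i).dvd_or_dvd h1 with h2 | h2
      · exfalso
        obtain ⟨j, hj, hij⟩ := (Prime.dvd_finsetProd_iff (hx i) _).mp h2
        have := hxa i j ((hx i).associated_of_dvd (hx j) hij)
        exact hi (this ▸ hj)
      · obtain ⟨δ, rfl⟩ := h2
        exact ⟨δ, by rw [hγ]; ring⟩
  exact key Finset.univ

include hx hxa in
theorem pow_dvd_of_pow_eq (k : ℕ) (hk : k ≠ 0) :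
    ∀ (N : ℕ) (a α : A), a ^ k = α * ((∏ i, x i) ^ N) ^ k → (∏ i, x i) ^ N ∣ a := by
  have hπ : ∏ i, x i ≠ 0 := prod_ne_zero' x hx
  intro N
  induction N with
  | zero => intro a α _; simp
  | succ N ih =>
    intro a α h
    have h1 : ∀ i, x i ∣ a := by
      intro i
      apply (hx i).dvd_of_dvd_pow (n := k)
      rw [h]
      apply Dvd.dvd.mul_left
      apply dvd_trans (Finset.dvd_prod_of_mem _ (Finset.mem_univ i))
      apply dvd_trans (dvd_pow_self _ (Nat.succ_ne_zero N))
      exact dvd_pow_self _ hk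
    obtain ⟨a', rfl⟩ := prod_dvd_of_primes' x hx hxa a h1
    have h2 : a' ^ k = α * ((∏ i, x i) ^ N) ^ k := by
      have h3 : (∏ i, x i) ^ k * a' ^ k = (∏ i, x i) ^ k * (α * ((∏ i, x i) ^ N) ^ k) := by
        rw [← mul_pow, h]
        ring
      exact mul_left_cancel₀ (pow_ne_zero k hπ) h3
    obtain ⟨b, rfl⟩ := ih a' α h2
    exact ⟨b, by ring⟩

include hx hxa in
/-- `A` is root closed in `B = A[1/∏ x i]` for a domain `A` and primes `x i` -/
theorem mem_range_of_pow_mem_primes (y : B) (k : ℕ) (hk : k ≠ 0)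
    (h : y ^ k ∈ (algebraMap A B).range) : y ∈ (algebraMap A B).range := by
  have hπ : ∏ i, x i ≠ 0 := prod_ne_zero' x hx
  obtain ⟨N, a, ha⟩ := IsLocalization.Away.surj (∏ i, x i) y
  obtain ⟨α, hα⟩ := h
  have hinj := algebraMap_injective' (B := B) (∏ i, x i) hπ
  have h1 : a ^ k = α * ((∏ i, x i) ^ N) ^ k := by
    apply hinj
    rw [map_pow, ← ha, map_mul, hα, map_pow, map_pow, mul_pow]
  obtain ⟨a', rfl⟩ := pow_dvd_of_pow_eq x hx hxa k hk N a α h1
  refine ⟨a', ?_⟩
  have hu : IsUnit (algebraMap A B (∏ i, x i) ^ N) :=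
    (IsLocalization.Away.algebraMap_isUnit (∏ i, x i)).pow N
  apply hu.mul_right_cancel
  rw [ha, map_mul, map_pow, mul_comm]

include hx hxa in
theorem rootClosed_of_primes : RootClosed A B :=
  fun y k hk h => mem_range_of_pow_mem_primes x hx hxa y k hk h

variable (u : Fin r → Bˣ) (hu : ∀ i, (u i : B) = algebraMap A B (x i))

include hx hxa hu in
theorem pow_mul_zmon_mem_iff_dom (q : ℕ) (hq : 0 < q) (n : Fin r → ℤ) (y : B) :
    y ^ q * zmon u n ∈ (algebraMap A B).range ↔
      y * zmon u (fun i => n i / (q : ℤ)) ∈ (algebraMap A B).range := by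
  have hπ : ∏ i, x i ≠ 0 := prod_ne_zero' x hx
  have hq' : (0 : ℤ) < q := by exact_mod_cast hq
  set e : Fin r → ℕ := fun i => (n i % (q : ℤ)).toNat with he
  have hecast : ∀ i, (e i : ℤ) = n i % (q : ℤ) := fun i =>
    Int.toNat_of_nonneg (Int.emod_nonneg _ hq'.ne')
  have helt : ∀ i, e i < q := by
    intro i
    have h1 := Int.emod_lt_of_pos (n i) hq'
    have h2 := hecast i
    omega
  have hn : n = (fun i => (q : ℤ) * (n i / (q : ℤ))) + (fun i => (e i : ℤ)) := by
    funext i
    rw [Pi.add_apply, hecast]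
    exact (Int.mul_ediv_add_emod (n i) q).symm
  set z : B := y * zmon u (fun i => n i / (q : ℤ)) with hz
  have hkey : y ^ q * zmon u n = z ^ q * algebraMap A B (∏ i, x i ^ e i) := by
    conv_lhs => rw [hn]
    rw [zmon_add, zmon_mul_nat, zmon_natCast u x hu, hz, mul_pow, mul_assoc]
  rw [hkey]
  constructor
  · rintro ⟨w, hw⟩
    have h1 : (z * algebraMap A B (∏ i, x i)) ^ q =
        algebraMap A B (w * ∏ i, x i ^ (q - e i)) := by
      rw [map_mul, hw, mul_pow, mul_assoc, ← map_pow, ← map_mul]
      congr 2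
      rw [← Finset.prod_pow, ← Finset.prod_mul_distrib]
      refine Finset.prod_congr rfl fun i _ => ?_
      rw [← pow_add]
      congr 1
      have := helt i
      omega
    obtain ⟨a, ha⟩ := mem_range_of_pow_mem_primes x hx hxa _ q hq.ne' ⟨_, h1.symm⟩
    have hinj := algebraMap_injective' (B := B) (∏ i, x i) hπ
    have h2 : a ^ q = w * ∏ i, x i ^ (q - e i) := by
      apply hinj
      rw [map_pow, ha, h1]
    have h3 : ∀ i, x i ∣ a := by
      intro i
      apply (hx i).dvd_of_dvd_pow (n := q)
      rw [h2]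
      apply Dvd.dvd.mul_left
      apply dvd_trans _ (Finset.dvd_prod_of_mem _ (Finset.mem_univ i))
      apply dvd_pow_self
      have := helt i
      omega
    obtain ⟨a', rfl⟩ := prod_dvd_of_primes' x hx hxa a h3
    refine ⟨a', ?_⟩
    have hunit : IsUnit (algebraMap A B (∏ i, x i)) := IsLocalization.Away.algebraMap_isUnit _
    apply hunit.mul_right_cancel
    rw [← ha, map_mul, mul_comm]
  · rintro ⟨a, ha⟩
    rw [← ha, ← map_pow, ← map_mul]
    exact ⟨_, rfl⟩

end Domain

section OnePrimeDomain

variable {A B : Type*} [CommRing A] [IsDomain A] [CommRing B]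
  [Algebra A B] (x : A) (hx : Prime x) [IsLocalization.Away x B]
  (u : Bˣ) (hu : (u : B) = algebraMap A B x)

include hx in
theorem rootClosed_of_prime : RootClosed A B := by
  have h1 : (∏ _i : Fin 1, x) = x := by simp
  have : IsLocalization.Away (∏ i : Fin 1, (fun _ => x) i) B := by
    show IsLocalization.Away (∏ _i : Fin 1, x) B
    rw [h1]; infer_instance
  exact rootClosed_of_primes (A := A) (B := B) (fun _ : Fin 1 => x) (fun _ => hx)
    (fun i j _ => Subsingleton.elim i j)

include hx hu in
theorem pow_mul_zpow_mem_iff_dom (q : ℕ) (hq : 0 < q) (n : ℤ) (y : B) :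
    y ^ q * ((u ^ n : Bˣ) : B) ∈ (algebraMap A B).range ↔
      y * ((u ^ (n / (q : ℤ)) : Bˣ) : B) ∈ (algebraMap A B).range := by
  have h1 : (∏ _i : Fin 1, x) = x := by simp
  have : IsLocalization.Away (∏ i : Fin 1, (fun _ => x) i) B := by
    show IsLocalization.Away (∏ _i : Fin 1, x) B
    rw [h1]; infer_instance
  have h := pow_mul_zmon_mem_iff_dom (A := A) (B := B) (fun _ : Fin 1 => x) (fun _ => hx)
    (fun i j _ => Subsingleton.elim i j) (fun _ => u) (fun _ => hu) q hq (fun _ => n) y
  have hz : ∀ k : ℤ, zmon (fun _ : Fin 1 => u) (fun _ => k) = ((u ^ k : Bˣ) : B) := by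
    intro k
    unfold WittFil.zmon
    simp
  rw [hz, hz] at h
  exact h

end OnePrimeDomain

/-- `(n - 1) / q = n / q` when `q ∤ n` -/
theorem sub_one_ediv_of_not_dvd (n q : ℤ) (hq : 0 < q) (hnd : ¬ q ∣ n) : (n - 1) / q = n / q := by
  have hmod : 0 < n % q := by
    rcases (Int.emod_nonneg n hq.ne').lt_or_eq with h | h
    · exact h
    · exact absurd (Int.dvd_of_emod_eq_zero h.symm) hnd
  have h1 : n - 1 = (n % q - 1) + q * (n / q) := by
    have := Int.emod_add_mul_ediv n q
    omega
  rw [h1, Int.add_mul_ediv_left _ _ hq.ne', Int.ediv_eq_zero_of_lt (by omega)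
    (by have := Int.emod_lt_of_pos n hq; omega), zero_add]

section Coeff

open WittVector

variable {p : ℕ} [Fact p.Prime] {R : Type*} [CommRing R]

theorem sub_coeff_zero' (x y : WittVector p R) : (x - y).coeff 0 = x.coeff 0 - y.coeff 0 := by
  have h1 : x = (x - y) + y := by ring
  have h2 : x.coeff 0 = (x - y).coeff 0 + y.coeff 0 := by
    conv_lhs => rw [h1]
    exact WittVector.add_coeff_zero _ _
  rw [h2]; ring

/-- sum of two Witt vectors whose first `t` coordinates vanish -/
theorem coeff_add_of_vanish (t : ℕ) (x y : WittVector p R) (hx : ∀ j < t, x.coeff j = 0)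
    (hy : ∀ j < t, y.coeff j = 0) :
    (∀ j < t, (x + y).coeff j = 0) ∧ (x + y).coeff t = x.coeff t + y.coeff t := by
  have hx' := WittVector.eq_iterate_verschiebung hx
  have hy' := WittVector.eq_iterate_verschiebung hy
  have hxy : x + y = (verschiebung^[t]) (x.shift t + y.shift t) := by
    rw [iterate_map_add, ← hx', ← hy']
  constructor
  · intro j hj
    rw [hxy]
    exact WittVector.iterate_verschiebung_coeff_eq_zero _ hj
  · rw [hxy]
    have := WittVector.iterate_verschiebung_coeff (x.shift t + y.shift t) t 0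
    rw [zero_add] at this
    rw [this, WittVector.add_coeff_zero, WittVector.shift_coeff, WittVector.shift_coeff, add_zero]

theorem init_coeff (t : ℕ) (d : WittVector p R) (j : ℕ) :
    (WittVector.init t d).coeff j = if j < t then d.coeff j else 0 := by
  classical
  simp only [WittVector.init, WittVector.select, WittVector.coeff_mk]
  by_cases h : j < t <;> simp [h]

theorem tail_coeff (t : ℕ) (d : WittVector p R) (j : ℕ) :
    (WittVector.tail t d).coeff j = if t ≤ j then d.coeff j else 0 := by
  classical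
  simp only [WittVector.tail, WittVector.select, WittVector.coeff_mk]
  by_cases h : t ≤ j <;> simp [h]

/-- coordinates of `d + w` when the first `t` coordinates of `w` vanish -/
theorem coeff_add_of_vanish_right (t : ℕ) (d w : WittVector p R) (hw : ∀ j < t, w.coeff j = 0) :
    (∀ j < t, (d + w).coeff j = d.coeff j) ∧ (d + w).coeff t = d.coeff t + w.coeff t := by
  have h1 : d + w = WittVector.init t d + (WittVector.tail t d + w) := by
    rw [← add_assoc, WittVector.init_add_tail]
  have htail : ∀ j < t, (WittVector.tail t d).coeff j = 0 := by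
    intro j hj
    rw [tail_coeff, if_neg (by omega)]
  obtain ⟨he1, he2⟩ := coeff_add_of_vanish t (WittVector.tail t d) w htail hw
  have hdisj : ∀ n, (WittVector.init t d).coeff n = 0 ∨ (WittVector.tail t d + w).coeff n = 0 := by
    intro n
    by_cases hn : n < t
    · exact Or.inr (he1 n hn)
    · left
      rw [init_coeff, if_neg hn]
  constructor
  · intro j hj
    rw [h1, WittVector.coeff_add_of_disjoint _ _ _ hdisj, he1 j hj, init_coeff, if_pos hj, add_zero]
  · rw [h1, WittVector.coeff_add_of_disjoint _ _ _ hdisj, he2, init_coeff, if_neg (lt_irrefl t),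
      tail_coeff, if_pos le_rfl, zero_add]

/-- coordinates of `x - w` when the first `t` coordinates of `w` vanish -/
theorem coeff_sub_of_vanish_right (t : ℕ) (x w : WittVector p R) (hw : ∀ j < t, w.coeff j = 0) :
    (∀ j < t, (x - w).coeff j = x.coeff j) ∧ (x - w).coeff t = x.coeff t - w.coeff t := by
  obtain ⟨h1, h2⟩ := coeff_add_of_vanish_right t (x - w) w hw
  rw [sub_add_cancel] at h1 h2
  constructor
  · intro j hj
    exact (h1 j hj).symm
  · rw [h2]; ring

end Coeff

end Groth.Agent.H9.WFil
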