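import Mathlib
import Groth.Prelude.Def_W4c6katofiltaWFil
import Groth.Agent.Lib.Helper9.WittFilDomain

/-!
# Graded pieces of the filtered truncated Witt vectors of a Laurent series ring
-/

namespace Groth.Agent.H9.WFilGr

open WittVector Groth.Agent.H9.WFil Groth.Agent.H9.WittTeich

section Units

variable {B : Type*} [CommRing B] (u : Bˣ)

theorem U_pow (a : ℤ) (n : ℕ) : (((u ^ a : Bˣ) : B)) ^ n = ((u ^ (a * n) : Bˣ) : B) := by
  rw [← Units.val_pow_eq_pow_val, ← zpow_natCast, ← zpow_mul]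

theorem U_mul (a b : ℤ) : ((u ^ a : Bˣ) : B) * ((u ^ b : Bˣ) : B) = ((u ^ (a + b) : Bˣ) : B) := by
  rw [← Units.val_mul, ← zpow_add]

theorem U_zero : ((u ^ (0 : ℤ) : Bˣ) : B) = 1 := by simp

end Units

section Main

variable (p : ℕ) [Fact p.Prime] {S B : Type*} [CommRing S] [IsDomain S] [CommRing B]
  [Algebra (PowerSeries S) B] [Algebra S B] [IsScalarTower S (PowerSeries S) B]
  [IsLocalization.Away (PowerSeries.X : PowerSeries S) B]
  (u : Bˣ) (hu : (u : B) = algebraMap (PowerSeries S) B PowerSeries.X)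

theorem algS (σ : S) : algebraMap S B σ = algebraMap (PowerSeries S) B (PowerSeries.C σ) := by
  rw [IsScalarTower.algebraMap_apply S (PowerSeries S) B, PowerSeries.algebraMap_apply,
    Algebra.algebraMap_self, RingHom.id_apply]

theorem injA : Function.Injective (algebraMap (PowerSeries S) B) :=
  algebraMap_injective' (B := B) (PowerSeries.X : PowerSeries S) PowerSeries.X_ne_zero

theorem injS : Function.Injective (algebraMap S B) := by
  intro a b h
  rw [algS (S := S) (B := B) a, algS (S := S) (B := B) b] at h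
  exact PowerSeries.C_injective (injA h)

theorem charPB [CharP S p] : CharP B p := charP_of_injective_algebraMap (injS (S := S) (B := B)) p

theorem rootClosed : RootClosed (PowerSeries S) B :=
  rootClosed_of_prime (PowerSeries.X : PowerSeries S) PowerSeries.X_prime

include hu in
theorem U_natCast (n : ℕ) : ((u ^ (n : ℤ) : Bˣ) : B) = algebraMap (PowerSeries S) B (PowerSeries.X ^ n) := by
  rw [zpow_natCast, Units.val_pow_eq_pow_val, hu, map_pow]

include hu in
/-- an element of `S` times `u⁻¹` lies in `S[[X]]` only if it vanishes -/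
theorem eq_zero_of_mul_inv_mem (σ : S)
    (h : algebraMap S B σ * ((u ^ (-1 : ℤ) : Bˣ) : B) ∈ (algebraMap (PowerSeries S) B).range) :
    σ = 0 := by
  obtain ⟨f, hf⟩ := h
  have h1 : algebraMap (PowerSeries S) B (f * PowerSeries.X) =
      algebraMap (PowerSeries S) B (PowerSeries.C σ) := by
    rw [map_mul, hf, ← hu, ← algS, mul_assoc]
    have : ((u ^ (-1 : ℤ) : Bˣ) : B) * (u : B) = 1 := by
      rw [zpow_neg_one]
      exact Units.inv_mul u
    rw [this, mul_one]
  have h2 := injA h1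
  have h3 := congrArg PowerSeries.constantCoeff h2
  simpa using h3.symm

/-- the Witt vector `V^s (c · [v])` over `B` -/
noncomputable def Phi (s : ℕ) (v : B) (c : WittVector p S) : WittVector p B :=
  (verschiebung)^[s] (WittVector.map (algebraMap S B) c * teichmuller p v)

theorem vShiftTeich_eq (m s : ℕ) (v : B) (c : WittVector p S) :
    WittFil.vShiftTeich p m s v c = WittVector.truncate m (Phi p s v c) := rfl

theorem Phi_add (s : ℕ) (v : B) (c c' : WittVector p S) :
    Phi p s v (c + c') = Phi p s v c + Phi p s v c' := by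
  unfold Phi
  rw [map_add, add_mul, iterate_map_add]

theorem Phi_zero (s : ℕ) (v : B) : Phi p s v (0 : WittVector p S) = 0 := by
  unfold Phi
  rw [map_zero, zero_mul, iterate_map_zero]

theorem Phi_coeff_lt (s : ℕ) (v : B) (c : WittVector p S) (j : ℕ) (hj : j < s) :
    (Phi p s v c).coeff j = 0 :=
  iterate_verschiebung_coeff_eq_zero _ hj

theorem Phi_coeff_add (s : ℕ) (v : B) (c : WittVector p S) (k : ℕ) :
    (Phi p s v c).coeff (k + s) = algebraMap S B (c.coeff k) * v ^ p ^ k := by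
  unfold Phi
  rw [iterate_verschiebung_coeff, mul_teich_coeff, WittVector.map_coeff]

end Main

section Parts

variable (p : ℕ) [hp : Fact p.Prime] {S B : Type*} [CommRing S] [IsDomain S] [CharP S p] [CommRing B]
  [Algebra (PowerSeries S) B] [Algebra S B] [IsScalarTower S (PowerSeries S) B]
  [IsLocalization.Away (PowerSeries.X : PowerSeries S) B]
  (u : Bˣ) (hu : (u : B) = algebraMap (PowerSeries S) B PowerSeries.X) (m s : ℕ) (i : ℤ)

/-- key computation for the coordinate `k + s` of `Φ(c)` -/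
theorem Phi_coeff_pow (c : WittVector p S) (k : ℕ) (hk : k + s < m) (e : ℤ) :
    ((Phi p s ((u ^ i : Bˣ) : B) c).coeff (k + s)) ^ (p ^ (m - 1 - (k + s))) *
      ((u ^ (-((p : ℤ) ^ (m - 1 - s) * i) + e) : Bˣ) : B) =
    algebraMap S B (c.coeff k ^ (p ^ (m - 1 - (k + s)))) * ((u ^ e : Bˣ) : B) := by
  rw [Phi_coeff_add, mul_pow, U_pow, U_pow, map_pow, mul_assoc, U_mul]
  congr 3
  have : (p : ℤ) ^ (m - 1 - s) = (p : ℤ) ^ k * (p : ℤ) ^ (m - 1 - (k + s)) := by
    rw [← pow_add]; congr 1; omega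
  rw [this]; push_cast; ring

theorem part1 (c : WittVector p S) :
    WittFil.vShiftTeich p m s ((u ^ i : Bˣ) : B) c ∈
      WittFil.fil p m (A := PowerSeries S) ((u ^ (-((p : ℤ) ^ (m - 1 - s) * i)) : Bˣ) : B) := by
  intro j
  rw [vShiftTeich_eq, WittVector.coeff_truncate]
  by_cases hj : (j : ℕ) < s
  · rw [Phi_coeff_lt p s _ c j hj, zero_pow (pow_pos hp.out.pos _).ne', zero_mul]
    exact Subring.zero_mem _
  · obtain ⟨k, hk⟩ : ∃ k, (j : ℕ) = k + s := ⟨j - s, by omega⟩
    have h := Phi_coeff_pow p u m s i c k (by have := j.2; omega) 0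
    rw [add_zero, U_zero, mul_one] at h
    rw [hk, h, algS]
    exact ⟨_, rfl⟩

include hu in
theorem part2 (c : WittVector p S) :
    WittFil.vShiftTeich p m s ((u ^ i : Bˣ) : B) c ∈
        WittFil.fil p m (A := PowerSeries S)
          ((u ^ (-((p : ℤ) ^ (m - 1 - s) * i) - 1) : Bˣ) : B) ↔
      WittVector.truncate (m - s) c = 0 := by
  constructor
  · intro h
    ext k
    rw [WittVector.coeff_truncate, TruncatedWittVector.coeff_zero]
    have hk : (k : ℕ) + s < m := by have := k.2; omega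
    have h1 := h ⟨k + s, hk⟩
    rw [vShiftTeich_eq, WittVector.coeff_truncate] at h1
    have h2 := Phi_coeff_pow p u m s i c k hk (-1)
    rw [← sub_eq_add_neg] at h2
    simp only at h1
    rw [h2] at h1
    have h3 := eq_zero_of_mul_inv_mem u hu _ h1
    exact (pow_eq_zero_iff (pow_pos hp.out.pos _).ne').mp h3
  · intro h j
    rw [vShiftTeich_eq, WittVector.coeff_truncate]
    by_cases hj : (j : ℕ) < s
    · rw [Phi_coeff_lt p s _ c j hj, zero_pow (pow_pos hp.out.pos _).ne', zero_mul]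
      exact Subring.zero_mem _
    · obtain ⟨k, hk⟩ : ∃ k, (j : ℕ) = k + s := ⟨j - s, by omega⟩
      have hkm : k < m - s := by have := j.2; omega
      have hck : c.coeff k = 0 := by
        have := congrArg (TruncatedWittVector.coeff ⟨k, hkm⟩) h
        rwa [WittVector.coeff_truncate, TruncatedWittVector.coeff_zero] at this
      rw [hk, Phi_coeff_add, hck, map_zero, zero_mul, zero_pow (pow_pos hp.out.pos _).ne', zero_mul]
      exact Subring.zero_mem _

include hu in
theorem step_mem (f : PowerSeries S) (e : ℤ) (q : ℕ) (hq : 0 < q) (N : ℤ) (hN : N = q * e) (y : B)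
    (hy : y = algebraMap (PowerSeries S) B f * ((u ^ e : Bˣ) : B) -
      algebraMap S B (PowerSeries.constantCoeff f) * ((u ^ e : Bˣ) : B)) :
    y ^ q * ((u ^ (-N - 1) : Bˣ) : B) ∈ (algebraMap (PowerSeries S) B).range := by
  set g : PowerSeries S := PowerSeries.mk fun n => PowerSeries.coeff (n + 1) f with hg
  have hfg : f = g * PowerSeries.X + PowerSeries.C (PowerSeries.constantCoeff f) :=
    PowerSeries.eq_shift_mul_X_add_const f
  have h1 : y = algebraMap (PowerSeries S) B g * ((u ^ (e + 1) : Bˣ) : B) := by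
    rw [hy, algS (S := S) (B := B) (PowerSeries.constantCoeff f), ← sub_mul, ← map_sub]
    have : f - PowerSeries.C (PowerSeries.constantCoeff f) = g * PowerSeries.X :=
      sub_eq_iff_eq_add.mpr hfg
    rw [this, map_mul, ← hu, mul_assoc]
    congr 1
    have h2 : (u : B) = ((u ^ (1 : ℤ) : Bˣ) : B) := by simp
    rw [h2, U_mul, add_comm]
  rw [h1, mul_pow, U_pow, mul_assoc, U_mul]
  have h3 : (e + 1) * (q : ℤ) + (-N - 1) = ((q - 1 : ℕ) : ℤ) := by
    rw [hN]
    have : ((q - 1 : ℕ) : ℤ) = (q : ℤ) - 1 := by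
      rw [Nat.cast_sub hq]; simp
    rw [this]; ring
  rw [h3, U_natCast u hu, ← map_pow, ← map_mul]
  exact ⟨_, rfl⟩

include hu in
theorem part3_aux (hs : s < m) : ∀ (d t : ℕ), t + d = m → s ≤ t → ∀ w : WittVector p B,
    WittVector.truncate m w ∈ WittFil.fil p m (A := PowerSeries S)
      ((u ^ (-((p : ℤ) ^ (m - 1 - s) * i)) : Bˣ) : B) →
    (∀ j, j < m → j < t → (w.coeff j) ^ (p ^ (m - 1 - j)) *
      ((u ^ (-((p : ℤ) ^ (m - 1 - s) * i) - 1) : Bˣ) : B) ∈ (algebraMap (PowerSeries S) B).range) →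
    ∃ c : WittVector p S, WittVector.truncate m (w - Phi p s ((u ^ i : Bˣ) : B) c) ∈
      WittFil.fil p m (A := PowerSeries S) ((u ^ (-((p : ℤ) ^ (m - 1 - s) * i) - 1) : Bˣ) : B) := by
  intro d
  induction d with
  | zero =>
    intro t ht hst w hw0 hw1
    refine ⟨0, ?_⟩
    rw [Phi_zero, sub_zero]
    intro j
    rw [WittVector.coeff_truncate]
    exact hw1 j j.2 (by have := j.2; omega)
  | succ d ih =>
    intro t ht hst w hw0 hw1
    have htm : t < m := by omega
    have hchar : CharP B p := charPB (S := S) (B := B) p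
    have hroot := rootClosed (S := S) (B := B)
    have hX : Prime (PowerSeries.X : PowerSeries S) := PowerSeries.X_prime
    have hqpos : 0 < p ^ (m - 1 - t) := pow_pos hp.out.pos _
    have hpst : (p : ℤ) ^ (m - 1 - s) = (p : ℤ) ^ (m - 1 - t) * (p : ℤ) ^ (t - s) := by
      rw [← pow_add]; congr 1; omega
    have hNq : -((p : ℤ) ^ (m - 1 - s) * i) =
        ((p ^ (m - 1 - t) : ℕ) : ℤ) * (-((p : ℤ) ^ (t - s) * i)) := by
      rw [hpst]; push_cast; ring
    have h0 := hw0 ⟨t, htm⟩
    rw [WittVector.coeff_truncate] at h0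
    simp only at h0
    rw [pow_mul_zpow_mem_iff_dom PowerSeries.X hX u hu _ hqpos, hNq,
      Int.mul_ediv_cancel_left _ (by exact_mod_cast hqpos.ne')] at h0
    obtain ⟨f, hf⟩ := h0
    set γ : S := PowerSeries.constantCoeff f with hγ
    set ct : WittVector p S := (verschiebung)^[t - s] (teichmuller p γ) with hct
    have hct_lt : ∀ k < t - s, ct.coeff k = 0 := fun k hk =>
      iterate_verschiebung_coeff_eq_zero _ hk
    have hct_eq : ct.coeff (t - s) = γ := by
      have := iterate_verschiebung_coeff (teichmuller p γ) (t - s) 0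
      rw [zero_add] at this
      rw [hct, this, teichmuller_coeff_zero]
    have hvan : ∀ j < t, (Phi p s ((u ^ i : Bˣ) : B) ct).coeff j = 0 := by
      intro j hj
      by_cases hjs : j < s
      · exact Phi_coeff_lt p s _ ct j hjs
      · obtain ⟨k, rfl⟩ : ∃ k, j = k + s := ⟨j - s, by omega⟩
        rw [Phi_coeff_add, hct_lt k (by omega), map_zero, zero_mul]
    have hPt : (Phi p s ((u ^ i : Bˣ) : B) ct).coeff t =
        algebraMap S B γ * (((u ^ i : Bˣ) : B)) ^ (p ^ (t - s)) := by
      have : t = (t - s) + s := by omega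
      conv_lhs => rw [this]
      rw [Phi_coeff_add, hct_eq]
    obtain ⟨hc1, hc2⟩ := coeff_sub_of_vanish_right t w (Phi p s ((u ^ i : Bˣ) : B) ct) hvan
    have hw'0 : WittVector.truncate m (w - Phi p s ((u ^ i : Bˣ) : B) ct) ∈
        WittFil.fil p m (A := PowerSeries S) ((u ^ (-((p : ℤ) ^ (m - 1 - s) * i)) : Bˣ) : B) := by
      rw [map_sub]
      refine sub_mem_fil p hroot _ _ _ _ hw0 ?_
      rw [← vShiftTeich_eq]
      exact part1 p u m s i ct
    have hw'1 : ∀ j, j < m → j < t + 1 →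
        ((w - Phi p s ((u ^ i : Bˣ) : B) ct).coeff j) ^ (p ^ (m - 1 - j)) *
          ((u ^ (-((p : ℤ) ^ (m - 1 - s) * i) - 1) : Bˣ) : B) ∈
          (algebraMap (PowerSeries S) B).range := by
      intro j hjm hjt
      rcases Nat.lt_succ_iff_lt_or_eq.mp hjt with hlt | rfl
      · rw [hc1 j hlt]; exact hw1 j hjm hlt
      · rw [hc2, hPt]
        refine step_mem u hu f ((p : ℤ) ^ (j - s) * i) (p ^ (m - 1 - j)) hqpos _ ?_ _ ?_
        · rw [hpst]; push_cast; ring
        · have hwt : w.coeff j = algebraMap (PowerSeries S) B f *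
              ((u ^ ((p : ℤ) ^ (j - s) * i) : Bˣ) : B) := by
            rw [hf, mul_assoc, U_mul, neg_add_cancel, U_zero, mul_one]
          rw [hwt, U_pow]
          have he : i * ((p ^ (j - s) : ℕ) : ℤ) = (p : ℤ) ^ (j - s) * i := by push_cast; ring
          rw [he]
    obtain ⟨c', hc'⟩ := ih (t + 1) (by omega) (by omega) _ hw'0 hw'1
    refine ⟨ct + c', ?_⟩
    rw [Phi_add, ← sub_sub]
    exact hc'

include hu in
theorem part3 (hs : s < m) (hsi : s = 0 ∨ ¬ ((p : ℤ) ∣ i))
    (y : TruncatedWittVector p m B)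
    (hy : y ∈ WittFil.fil p m (A := PowerSeries S) ((u ^ (-((p : ℤ) ^ (m - 1 - s) * i)) : Bˣ) : B)) :
    ∃ c : WittVector p S,
      y - WittFil.vShiftTeich p m s ((u ^ i : Bˣ) : B) c ∈
        WittFil.fil p m (A := PowerSeries S)
          ((u ^ (-((p : ℤ) ^ (m - 1 - s) * i) - 1) : Bˣ) : B) := by
  obtain ⟨w, rfl⟩ := WittVector.truncate_surjective p m B y
  have hX : Prime (PowerSeries.X : PowerSeries S) := PowerSeries.X_prime
  have h1 : ∀ j, j < m → j < s → (w.coeff j) ^ (p ^ (m - 1 - j)) *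
      ((u ^ (-((p : ℤ) ^ (m - 1 - s) * i) - 1) : Bˣ) : B) ∈
        (algebraMap (PowerSeries S) B).range := by
    intro j hjm hjs
    have hs0 : s ≠ 0 := by omega
    have hpi : ¬ (p : ℤ) ∣ i := hsi.resolve_left hs0
    have h0 := hy ⟨j, hjm⟩
    rw [WittVector.coeff_truncate] at h0
    simp only at h0
    have hqpos : 0 < p ^ (m - 1 - j) := pow_pos hp.out.pos _
    have hnd : ¬ (((p ^ (m - 1 - j) : ℕ) : ℤ) ∣ -((p : ℤ) ^ (m - 1 - s) * i)) := by
      intro hd
      apply hpi
      have hpj : ((p ^ (m - 1 - j) : ℕ) : ℤ) = (p : ℤ) ^ (m - 1 - s) * (p : ℤ) ^ (s - j) := by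
        push_cast; rw [← pow_add]; congr 1; omega
      rw [hpj, dvd_neg] at hd
      have hd' := (mul_dvd_mul_iff_left (pow_ne_zero _ (by exact_mod_cast hp.out.ne_zero))).mp hd
      exact dvd_trans (dvd_pow_self _ (by omega)) hd'
    rw [pow_mul_zpow_mem_iff_dom PowerSeries.X hX u hu _ hqpos] at h0 ⊢
    rwa [sub_one_ediv_of_not_dvd _ _ (by exact_mod_cast hqpos) hnd]
  obtain ⟨c, hc⟩ := part3_aux p u hu m s i hs (m - s) s (by omega) le_rfl w hy h1
  exact ⟨c, by rw [vShiftTeich_eq, ← map_sub]; exact hc⟩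

end Parts

end Groth.Agent.H9.WFilGr
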