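import Mathlib

/-!
Weighted homogeneity of Witt structure polynomials and an evaluation lemma for
multiplicative filtrations (helper9).
-/

namespace Groth.Agent.H9.WittHomog

open MvPolynomial

section structure_poly
variable (p : ℕ) [hp : Fact p.Prime]

omit hp in
theorem rename_wittPolynomial_isWeightedHomogeneous {idx : Type*} (b : idx) (w : idx × ℕ → ℕ) (c : ℕ)
    (hw : ∀ i, w (b, i) = c * p ^ i) (n : ℕ) :
    IsWeightedHomogeneous w (rename (Prod.mk b) (wittPolynomial p ℤ n)) (c * p ^ n) := by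
  rw [wittPolynomial_eq_sum_C_mul_X_pow, map_sum]
  refine IsWeightedHomogeneous.sum _ _ _ fun i hi => ?_
  rw [map_mul, rename_C, map_pow (rename (Prod.mk b)), rename_X]
  refine IsWeightedHomogeneous.C_mul ?_ _
  have := (isWeightedHomogeneous_X (R := ℤ) w (b, i)).pow (p ^ (n - i))
  have hpow : p ^ (n - i) * p ^ i = p ^ n := by
    rw [← pow_add, Nat.sub_add_cancel (Nat.lt_succ_iff.mp (Finset.mem_range.mp hi))]
  have he : p ^ (n - i) • w (b, i) = c * p ^ n := by
    rw [smul_eq_mul, hw, ← hpow]; ring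
  rw [he] at this
  exact this

theorem wittStructureInt_isWeightedHomogeneous {idx : Type*} (Φ : MvPolynomial idx ℤ)
    (w : idx × ℕ → ℕ) (D : ℕ)
    (hR : ∀ n : ℕ, IsWeightedHomogeneous w
      (bind₁ (fun b => rename (Prod.mk b) (wittPolynomial p ℤ n)) Φ) (D * p ^ n)) :
    ∀ n, IsWeightedHomogeneous w (wittStructureInt p Φ n) (D * p ^ n) := by
  intro n
  induction n using Nat.strong_induction_on with
  | _ n ih =>
  have hp0 : (p : ℤ) ≠ 0 := by exact_mod_cast hp.out.ne_zero
  have hprop := wittStructureInt_prop p Φ n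
  have hpow : ∀ i ∈ Finset.range (n + 1), p ^ (n - i) * p ^ i = p ^ n := by
    intro i hi
    rw [← pow_add, Nat.sub_add_cancel (Nat.lt_succ_iff.mp (Finset.mem_range.mp hi))]
  have hRHS := hR n
  have hL : bind₁ (wittStructureInt p Φ) (wittPolynomial p ℤ n) =
      ∑ x ∈ Finset.range (n + 1), C ((p : ℤ) ^ x) * wittStructureInt p Φ x ^ p ^ (n - x) := by
    rw [wittPolynomial_eq_sum_C_mul_X_pow, map_sum]
    refine Finset.sum_congr rfl fun i _ => ?_
    rw [map_mul, bind₁_C_right, map_pow (bind₁ _), bind₁_X_right]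
  rw [← hprop, hL, Finset.sum_range_succ, Nat.sub_self, pow_zero, pow_one] at hRHS
  have hlow : IsWeightedHomogeneous w
      (∑ x ∈ Finset.range n, C ((p : ℤ) ^ x) * wittStructureInt p Φ x ^ p ^ (n - x))
      (D * p ^ n) := by
    refine IsWeightedHomogeneous.sum _ _ _ fun i hi => ?_
    refine IsWeightedHomogeneous.C_mul ?_ _
    have := (ih i (Finset.mem_range.mp hi)).pow (p ^ (n - i))
    have he : p ^ (n - i) • (D * p ^ i) = D * p ^ n := by
      rw [smul_eq_mul,
        ← hpow i (Finset.mem_range.mpr (Nat.lt_succ_of_lt (Finset.mem_range.mp hi)))]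
      ring
    rw [he] at this
    exact this
  have htop := hRHS.sub hlow
  rw [add_sub_cancel_left] at htop
  intro m hm
  apply htop
  rw [coeff_C_mul]
  exact mul_ne_zero (pow_ne_zero _ hp0) hm

/-- `wittAdd p n` is weighted homogeneous of degree `p ^ n` for the weights `(b, i) ↦ p ^ i`. -/
theorem wittAdd_isWeightedHomogeneous (n : ℕ) :
    IsWeightedHomogeneous (fun i : Fin 2 × ℕ => p ^ i.2) (WittVector.wittAdd p n) (p ^ n) := by
  have := wittStructureInt_isWeightedHomogeneous p (X 0 + X 1 : MvPolynomial (Fin 2) ℤ)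
    (fun i : Fin 2 × ℕ => p ^ i.2) 1 (fun n => by
      rw [map_add, bind₁_X_right, bind₁_X_right]
      exact (rename_wittPolynomial_isWeightedHomogeneous p 0 _ 1 (fun i => by simp) n).add
        (rename_wittPolynomial_isWeightedHomogeneous p 1 _ 1 (fun i => by simp) n)) n
  rw [one_mul] at this
  exact this

/-- `wittMul p n` is weighted homogeneous of degree `p ^ n` for the weights `(0, i) ↦ 0`,
`(1, i) ↦ p ^ i`. -/
theorem wittMul_isWeightedHomogeneous (n : ℕ) :
    IsWeightedHomogeneous (fun i : Fin 2 × ℕ => if i.1 = 1 then p ^ i.2 else 0)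
      (WittVector.wittMul p n) (p ^ n) := by
  have := wittStructureInt_isWeightedHomogeneous p (X 0 * X 1 : MvPolynomial (Fin 2) ℤ)
    (fun i : Fin 2 × ℕ => if i.1 = 1 then p ^ i.2 else 0) 1 (fun n => by
      rw [map_mul, bind₁_X_right, bind₁_X_right]
      have h0 := rename_wittPolynomial_isWeightedHomogeneous p (0 : Fin 2)
        (fun i : Fin 2 × ℕ => if i.1 = 1 then p ^ i.2 else 0) 0 (fun i => by simp) n
      have h1 := rename_wittPolynomial_isWeightedHomogeneous p (1 : Fin 2)
        (fun i : Fin 2 × ℕ => if i.1 = 1 then p ^ i.2 else 0) 1 (fun i => by simp) n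
      have := h0.mul h1
      have he : 0 * p ^ n + 1 * p ^ n = 1 * p ^ n := by ring
      rw [he] at this
      exact this) n
  rw [one_mul] at this
  exact this

end structure_poly

section evaluation

variable {A K : Type*} [CommRing A] [CommRing K] [Algebra A K] (M : ℕ → Submodule A K)

/-- `M e` for `e ≠ 0`, the image of `A` for `e = 0`. -/
def Mx (e : ℕ) : Set K := if e = 0 then Set.range (algebraMap A K) else (M e : Set K)

theorem Mx_zero : Mx M 0 = Set.range (algebraMap A K) := by simp [Mx]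

theorem Mx_of_ne {e : ℕ} (he : e ≠ 0) : Mx M e = (M e : Set K) := by simp [Mx, he]

variable (hmul : ∀ (i j : ℕ) (a b : K), a ∈ M i → b ∈ M j → a * b ∈ M (i + j))
include hmul

theorem Mx_mul {e₁ e₂ : ℕ} {x y : K} (hx : x ∈ Mx M e₁) (hy : y ∈ Mx M e₂) :
    x * y ∈ Mx M (e₁ + e₂) := by
  by_cases h1 : e₁ = 0
  · subst h1
    rw [Mx_zero] at hx
    obtain ⟨a, rfl⟩ := hx
    rw [zero_add]
    by_cases h2 : e₂ = 0
    · subst h2
      rw [Mx_zero] at hy ⊢
      obtain ⟨b, rfl⟩ := hy
      exact ⟨a * b, by rw [map_mul]⟩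
    · rw [Mx_of_ne M h2] at hy ⊢
      rw [← Algebra.smul_def]
      exact Submodule.smul_mem _ _ hy
  · rw [Mx_of_ne M h1] at hx
    by_cases h2 : e₂ = 0
    · subst h2
      rw [Mx_zero] at hy
      obtain ⟨b, rfl⟩ := hy
      rw [add_zero, Mx_of_ne M h1, mul_comm, ← Algebra.smul_def]
      exact Submodule.smul_mem _ _ hx
    · rw [Mx_of_ne M h2] at hy
      rw [Mx_of_ne M (by omega)]
      exact hmul _ _ _ _ hx hy

omit hmul in
theorem Mx_one : (1 : K) ∈ Mx M 0 := by
  rw [Mx_zero]; exact ⟨1, map_one _⟩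

theorem Mx_pow {e : ℕ} {x : K} (hx : x ∈ Mx M e) (k : ℕ) : x ^ k ∈ Mx M (k * e) := by
  induction k with
  | zero => rw [pow_zero, zero_mul]; exact Mx_one M
  | succ k ih =>
    rw [pow_succ, Nat.succ_mul]
    exact Mx_mul M hmul ih hx

theorem monomial_eval_mem {σ : Type*} (w : σ → ℕ) (x : σ → K) (hx : ∀ a, x a ∈ Mx M (w a))
    (m : σ →₀ ℕ) : (m.prod fun a k => x a ^ k) ∈ Mx M (Finsupp.weight w m) := by
  induction m using Finsupp.induction_linear with
  | zero => simpa using Mx_one M
  | add f g hf hg =>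
    rw [Finsupp.prod_add_index' (fun a => pow_zero _) (fun a b₁ b₂ => pow_add _ _ _), map_add]
    exact Mx_mul M hmul hf hg
  | single a k =>
    have h1 : ((Finsupp.single a k).prod fun a k => x a ^ k) = x a ^ k :=
      Finsupp.prod_single_index (pow_zero _)
    rw [h1]
    have h2 : Finsupp.weight w (Finsupp.single a k) = k * w a := by
      simp [Finsupp.weight_apply, Finsupp.sum_single_index]
    rw [h2]
    exact Mx_pow M hmul (hx a) k

theorem aeval_mem {σ : Type*} (w : σ → ℕ) (x : σ → K) (hx : ∀ a, x a ∈ Mx M (w a))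
    (P : MvPolynomial σ ℤ) (d : ℕ) (hd : d ≠ 0) (hP : IsWeightedHomogeneous w P d) :
    aeval x P ∈ M d := by
  rw [aeval_def, eval₂_eq]
  refine Submodule.sum_mem _ fun m hm => ?_
  have hm' : coeff m P ≠ 0 := by simpa using hm
  have hwt := hP hm'
  have hmem := monomial_eval_mem M hmul w x hx m
  rw [hwt, Mx_of_ne M hd] at hmem
  have : (algebraMap ℤ K) (coeff m P) * ∏ i ∈ m.support, x i ^ m i =
      (coeff m P) • (m.prod fun a k => x a ^ k) := by
    rw [Algebra.smul_def]; rfl
  rw [this]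
  exact zsmul_mem hmem _

end evaluation

end Groth.Agent.H9.WittHomog
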