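import Mathlib
import Groth.Prelude.Def_ConstGrp

/-!
# Self-duality of the constant group `ℤ/n` over a field with a primitive `n`-th root of unity
-/

set_option autoImplicit false
set_option linter.unusedSectionVars false

namespace Groth.Agent.H9.ZnDual

open TensorProduct

universe u

variable (k : Type u) [Field k] (n : ℕ) [NeZero n]

/-- necessity: an algebra isomorphism forces `n` distinct `n`-th roots of unity. -/
theorem exists_primitive_of_algEquiv
    (e : ConstGrp.F k (Multiplicative (ZMod n)) ≃ₐ[k] MonoidAlgebra k (Multiplicative (ZMod n))) :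
    ∃ ζ : k, IsPrimitiveRoot ζ n := by
  classical
  rw [← card_rootsOfUnity_eq_iff_exists_isPrimitiveRoot]
  apply le_antisymm (card_rootsOfUnity k n)
  set T : MonoidAlgebra k (Multiplicative (ZMod n)) :=
    MonoidAlgebra.single (Multiplicative.ofAdd (1 : ZMod n)) 1 with hT
  have hTn : T ^ n = 1 := by
    rw [hT, MonoidAlgebra.single_pow, one_pow, ← ofAdd_nsmul, nsmul_eq_mul, mul_one,
      ZMod.natCast_self, ofAdd_zero]
    rfl
  have hTm : ∀ m : Multiplicative (ZMod n), MonoidAlgebra.single m (1 : k) =
      T ^ (Multiplicative.toAdd m).val := by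
    intro m
    rw [hT, MonoidAlgebra.single_pow, one_pow, ← ofAdd_nsmul, nsmul_eq_mul, mul_one,
      ZMod.natCast_zmod_val, ofAdd_toAdd]
  let α : Multiplicative (ZMod n) → (MonoidAlgebra k (Multiplicative (ZMod n)) →ₐ[k] k) :=
    fun g => (ConstGrp.ev k g).comp (e.symm : _ →ₐ[k] _)
  have hα : ∀ g, (α g T) ^ n = 1 := by
    intro g
    rw [← map_pow, hTn, map_one]
  let ι : Multiplicative (ZMod n) → rootsOfUnity n k := fun g => rootsOfUnity.mkOfPowEq _ (hα g)
  have hι : Function.Injective ι := by
    intro g h hgh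
    have h1 : α g T = α h T := by
      have := congrArg (fun u : rootsOfUnity n k => ((u : kˣ) : k)) hgh
      simpa only [ι, rootsOfUnity.coe_mkOfPowEq] using this
    have h2 : α g = α h := by
      apply MonoidAlgebra.algHom_ext
      · intro m
        rw [hTm, map_pow, map_pow, h1]
      · ext
    have h3 : ConstGrp.ev k g = ConstGrp.ev k h := by
      ext f
      have := DFunLike.congr_fun h2 (e f)
      simpa [α] using this
    have h4 := DFunLike.congr_fun h3 (ConstGrp.e k h)
    rw [ConstGrp.ev_apply, ConstGrp.ev_apply, ConstGrp.e_apply_self, ConstGrp.e_apply] at h4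
    by_contra hne
    rw [if_neg hne] at h4
    exact zero_ne_one h4
  have := Nat.card_le_card_of_injective ι hι
  simpa using this

section Suff

variable {k n}

/-- The character `h ↦ ψ (g h)` as a function on the group. -/
noncomputable def chi (ψ : AddChar (ZMod n) k) :
    Multiplicative (ZMod n) →* ConstGrp.F k (Multiplicative (ZMod n)) where
  toFun g := fun h => ψ (Multiplicative.toAdd g * Multiplicative.toAdd h)
  map_one' := by
    ext h
    simp
  map_mul' g g' := by
    ext h
    simp [add_mul, AddChar.map_add_eq_mul]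

theorem chi_apply (ψ : AddChar (ZMod n) k) (g h : Multiplicative (ZMod n)) :
    chi ψ g h = ψ (Multiplicative.toAdd g * Multiplicative.toAdd h) := rfl

theorem chi_mul (ψ : AddChar (ZMod n) k) (g a b : Multiplicative (ZMod n)) :
    chi ψ g (a * b) = chi ψ g a * chi ψ g b := by
  simp [chi_apply, mul_add, AddChar.map_add_eq_mul]

theorem chi_one (ψ : AddChar (ZMod n) k) (g : Multiplicative (ZMod n)) :
    chi ψ g 1 = 1 := by
  simp [chi_apply]

/-- The same character as a monoid homomorphism to `k`. -/
noncomputable def chiHom (ψ : AddChar (ZMod n) k) (g : Multiplicative (ZMod n)) :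
    Multiplicative (ZMod n) →* k where
  toFun h := chi ψ g h
  map_one' := chi_one ψ g
  map_mul' a b := chi_mul ψ g a b

theorem chiHom_injective (ψ : AddChar (ZMod n) k) (hψ : ψ.IsPrimitive) :
    Function.Injective (chiHom ψ) := by
  intro g g' h
  have h1 := DFunLike.congr_fun h (Multiplicative.ofAdd (1 : ZMod n))
  simp only [chiHom, MonoidHom.coe_mk, OneHom.coe_mk, chi_apply, toAdd_ofAdd, mul_one] at h1
  have h2 : ψ (Multiplicative.toAdd g - Multiplicative.toAdd g') = 1 := by
    rw [AddChar.map_sub_eq_div, h1, div_self]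
    rw [← h1]
    exact (ψ.val_isUnit _).ne_zero
  have h3 := (hψ.zmod_char_eq_one_iff n _).1 h2
  exact Multiplicative.toAdd.injective (sub_eq_zero.1 h3)

/-- `χ_g` is group-like. -/
theorem comul_chi (ψ : AddChar (ZMod n) k) (g : Multiplicative (ZMod n)) :
    Coalgebra.comul (R := k) (chi ψ g) = chi ψ g ⊗ₜ[k] chi ψ g := by
  classical
  rw [ConstGrp.comul_eq_sum]
  conv_rhs => rw [ConstGrp.eq_sum_smul_e (chi ψ g)]
  rw [TensorProduct.sum_tmul]
  refine Finset.sum_congr rfl fun a _ => ?_
  rw [TensorProduct.tmul_sum]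
  refine Finset.sum_congr rfl fun b _ => ?_
  rw [TensorProduct.smul_tmul_smul, chi_mul]

/-- The Fourier transform. -/
noncomputable def phi (ψ : AddChar (ZMod n) k) :
    MonoidAlgebra k (Multiplicative (ZMod n)) →ₐ[k] ConstGrp.F k (Multiplicative (ZMod n)) :=
  MonoidAlgebra.lift k _ _ (chi ψ)

theorem phi_single (ψ : AddChar (ZMod n) k) (g : Multiplicative (ZMod n)) :
    phi ψ (MonoidAlgebra.single g 1) = chi ψ g := by
  rw [phi, MonoidAlgebra.lift_single, one_smul]

theorem phi_injective (ψ : AddChar (ZMod n) k) (hψ : ψ.IsPrimitive) :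
    Function.Injective (phi ψ) := by
  classical
  rw [injective_iff_map_eq_zero]
  intro x hx
  have hli : LinearIndependent k (fun g : Multiplicative (ZMod n) =>
      ((chiHom ψ g : Multiplicative (ZMod n) →* k) : Multiplicative (ZMod n) → k)) :=
    (linearIndependent_monoidHom (Multiplicative (ZMod n)) k).comp (chiHom ψ)
      (chiHom_injective ψ hψ)
  rw [Fintype.linearIndependent_iff] at hli
  have h1 : phi ψ x = ∑ g : Multiplicative (ZMod n), x.coeff g • chi ψ g := by
    rw [phi, MonoidAlgebra.lift_apply, Finsupp.sum_fintype]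
    intro i
    rw [zero_smul]
  have h2 : ∑ g : Multiplicative (ZMod n), x.coeff g •
      ((chiHom ψ g : Multiplicative (ZMod n) →* k) : Multiplicative (ZMod n) → k) = 0 := by
    funext h
    have := congrFun (h1.symm.trans hx) h
    rw [ConstGrp.sum_apply] at this
    rw [Finset.sum_apply]
    simpa [chiHom] using this
  have h3 := hli (fun g => x.coeff g) h2
  apply MonoidAlgebra.coeff_injective
  ext g
  exact h3 g

theorem phi_bijective (ψ : AddChar (ZMod n) k) (hψ : ψ.IsPrimitive) :
    Function.Bijective (phi ψ) := by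
  classical
  have hfr : Module.finrank k (MonoidAlgebra k (Multiplicative (ZMod n))) =
      Module.finrank k (ConstGrp.F k (Multiplicative (ZMod n))) := by
    rw [Module.finrank_eq_card_basis (MonoidAlgebra.basis (Multiplicative (ZMod n)) k),
      Module.finrank_eq_card_basis (ConstGrp.basis k (Multiplicative (ZMod n)))]
  have hinj : Function.Injective (phi ψ).toLinearMap := phi_injective ψ hψ
  exact ⟨hinj, (LinearMap.injective_iff_surjective_of_finrank_eq_finrank hfr).1 hinj⟩

/-- Sufficiency. -/
theorem nonempty_bialgEquiv_of_primitive {ζ : k} (hζ : IsPrimitiveRoot ζ n) :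
    Nonempty (ConstGrp.F k (Multiplicative (ZMod n)) ≃ₐc[k]
      MonoidAlgebra k (Multiplicative (ZMod n))) := by
  classical
  set ψ : AddChar (ZMod n) k := AddChar.zmodChar n ((IsPrimitiveRoot.iff_def ζ n).mp hζ).left
    with hψdef
  have hψ : ψ.IsPrimitive := AddChar.zmodChar_primitive_of_primitive_root n hζ
  refine ⟨(BialgEquiv.ofAlgEquiv (AlgEquiv.ofBijective (phi ψ) (phi_bijective ψ hψ)) ?_ ?_).symm⟩
  · apply MonoidAlgebra.algHom_ext
    · intro g
      rw [AlgHom.comp_apply]
      change Coalgebra.counit (R := k) (phi ψ (MonoidAlgebra.single g 1)) = _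
      rw [phi_single, ConstGrp.counit_apply, chi_one]
      simp
    · ext
  · apply MonoidAlgebra.algHom_ext
    · intro g
      rw [AlgHom.comp_apply, AlgHom.comp_apply]
      change Algebra.TensorProduct.map (phi ψ) (phi ψ)
        (Coalgebra.comul (R := k) (MonoidAlgebra.single g (1 : k))) =
        Coalgebra.comul (R := k) (phi ψ (MonoidAlgebra.single g 1))
      rw [phi_single, comul_chi, MonoidAlgebra.comul_single]
      simp [phi_single]
    · ext

end Suff

end Groth.Agent.H9.ZnDual
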